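import Mathlib

/-!
# K-S4130-L4 : the covering lemma `G = P * C_G(P')`

Deliverable for keystone 44: `sylow_sup_centralizer_commutator_eq_top`.

The primary decomposition lemma `primary_dec` is a copy of `Helper73.dec'` and the Jordan lemma
`exists_not_mem_conj_smul` is a copy of `Helper77.exists_not_mem_conj` (both re-proved here so that
this file depends on Mathlib only).
-/

set_option autoImplicit false

namespace Cfsg.Agent.Lib.Helper09.SqF

open Subgroup
open scoped Pointwise

universe u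

/-- Membership in a conjugate subgroup. -/
theorem mem_conj_smul_iff' {G : Type*} [Group G] (g x : G) (M : Subgroup G) :
    x ∈ MulAut.conj g • M ↔ g⁻¹ * x * g ∈ M := by
  rw [Subgroup.mem_pointwise_smul_iff_inv_smul_mem]
  simp [MulAut.smul_def]

/-- A finite group is not the union of the conjugates of a proper subgroup (Jordan). -/
theorem exists_not_mem_conj_smul {G : Type*} [Group G] [Finite G] (M : Subgroup G) (hM : M ≠ ⊤) :
    ∃ x : G, ∀ g : G, x ∉ MulAut.conj g • M := by
  classical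
  by_contra hcon
  push Not at hcon
  let : Fintype G := Fintype.ofFinite G
  let : Fintype (G ⧸ M) := Fintype.ofFinite _
  let : ∀ g : G, Fintype (MulAction.fixedBy (G ⧸ M) g) := fun g => Fintype.ofFinite _
  let : Fintype (MulAction.orbitRel.Quotient G (G ⧸ M)) := Fintype.ofFinite _
  have key := MulAction.sum_card_fixedBy_eq_card_orbits_mul_card_group G (G ⧸ M)
  have hΩ : Fintype.card (MulAction.orbitRel.Quotient G (G ⧸ M)) = 1 := by
    rw [Fintype.card_eq_one_iff]
    refine ⟨Quotient.mk'' (QuotientGroup.mk 1), fun y => ?_⟩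
    induction y using Quotient.inductionOn' with
    | h y =>
      apply Quotient.sound'
      obtain ⟨g, hg⟩ := MulAction.exists_smul_eq G (QuotientGroup.mk 1 : G ⧸ M) y
      exact ⟨g, hg⟩
  rw [hΩ, one_mul] at key
  have h1 : ∀ g : G, 1 ≤ Fintype.card (MulAction.fixedBy (G ⧸ M) g) := by
    intro g
    obtain ⟨a, ha⟩ := hcon g
    rw [mem_conj_smul_iff'] at ha
    apply Fintype.card_pos_iff.mpr
    refine ⟨⟨QuotientGroup.mk a, ?_⟩⟩
    rw [MulAction.mem_fixedBy]
    change (QuotientGroup.mk (g * a) : G ⧸ M) = QuotientGroup.mk a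
    rw [QuotientGroup.eq]
    have : (g * a)⁻¹ * a = (a⁻¹ * g * a)⁻¹ := by group
    rw [this]
    exact M.inv_mem ha
  have h2 : 2 ≤ Fintype.card (MulAction.fixedBy (G ⧸ M) (1 : G)) := by
    have hall : ∀ y : G ⧸ M, y ∈ MulAction.fixedBy (G ⧸ M) (1 : G) := fun y => by
      rw [MulAction.mem_fixedBy, one_smul]
    rw [Fintype.card_congr (Equiv.subtypeUnivEquiv hall), ← Nat.card_eq_fintype_card]
    change 2 ≤ M.index
    have h0 : M.index ≠ 0 := Subgroup.index_ne_zero_of_finite
    have h1' : M.index ≠ 1 := fun h => hM (Subgroup.index_eq_one.mp h)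
    omega
  have hlt : ∑ _g : G, 1 < ∑ g : G, Fintype.card (MulAction.fixedBy (G ⧸ M) g) := by
    apply Finset.sum_lt_sum
    · intro g _; exact h1 g
    · exact ⟨1, Finset.mem_univ _, h2⟩
  rw [key] at hlt
  simp at hlt

/-- primary decomposition of an element, inside its cyclic group -/
lemma primary_dec {G : Type*} [Group G] [Finite G] (x : G) (p : ℕ) (hp : p.Prime) :
    ∃ u v : G, u * v = x ∧ u ∈ Subgroup.zpowers x ∧ v ∈ Subgroup.zpowers x ∧
      (∃ a : ℕ, orderOf u = p ^ a) ∧ (orderOf v).Coprime p := by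
  have hn0 : orderOf x ≠ 0 := (orderOf_pos x).ne'
  set a := (orderOf x).factorization p with ha
  set m := orderOf x / p ^ a with hm
  have hnm : p ^ a * m = orderOf x := Nat.ordProj_mul_ordCompl_eq_self (orderOf x) p
  have hcop : Nat.Coprime (p ^ a) m := (Nat.coprime_ordCompl hp hn0).pow_left a
  have hbez := Nat.gcd_eq_gcd_ab (p ^ a) m
  rw [hcop.gcd_eq_one] at hbez
  have hpm : ¬ p ∣ m := Nat.not_dvd_ordCompl hp hn0
  refine ⟨x ^ ((m : ℤ) * Nat.gcdB (p ^ a) m), x ^ (((p ^ a : ℕ) : ℤ) * Nat.gcdA (p ^ a) m),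
    ?_, Subgroup.zpow_mem_zpowers x _, Subgroup.zpow_mem_zpowers x _, ?_, ?_⟩
  · rw [← zpow_add]
    conv_rhs => rw [← zpow_one x]
    congr 1
    rw [Nat.cast_one] at hbez
    linarith
  · have h1 : (x ^ ((m : ℤ) * Nat.gcdB (p ^ a) m)) ^ (p ^ a) = 1 := by
      rw [← zpow_natCast, ← zpow_mul]
      have : (m : ℤ) * Nat.gcdB (p ^ a) m * ((p ^ a : ℕ) : ℤ) =
          ((orderOf x : ℕ) : ℤ) * Nat.gcdB (p ^ a) m := by
        rw [← hnm]; push_cast; ring
      rw [this, zpow_mul, zpow_natCast, pow_orderOf_eq_one, one_zpow]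
    obtain ⟨b, _, hb⟩ := (Nat.dvd_prime_pow hp).mp (orderOf_dvd_of_pow_eq_one h1)
    exact ⟨b, hb⟩
  · have h1 : (x ^ (((p ^ a : ℕ) : ℤ) * Nat.gcdA (p ^ a) m)) ^ m = 1 := by
      rw [← zpow_natCast, ← zpow_mul]
      have : ((p ^ a : ℕ) : ℤ) * Nat.gcdA (p ^ a) m * (m : ℤ) =
          ((orderOf x : ℕ) : ℤ) * Nat.gcdA (p ^ a) m := by
        rw [← hnm]; push_cast; ring
      rw [this, zpow_mul, zpow_natCast, pow_orderOf_eq_one, one_zpow]
    have hd := orderOf_dvd_of_pow_eq_one h1
    have hmp : m.Coprime p := by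
      rw [Nat.coprime_comm]
      exact (Nat.Prime.coprime_iff_not_dvd hp).2 hpm
    exact Nat.Coprime.coprime_dvd_left hd hmp

/-- In a finite `p`-group `Q` (a subgroup of `G`), a subgroup `T ≤ Q` with `|Q| ∣ p * |T|`
contains the derived subgroup of `Q`. -/
lemma commutator_le_of_card_dvd {G : Type u} [Group G] [Finite G] (p : ℕ) [Fact p.Prime]
    (Q T : Subgroup G) (hQ : IsPGroup p Q) (hTQ : T ≤ Q) (hcard : Nat.card Q ∣ p * Nat.card T) :
    ⁅Q, Q⁆ ≤ T := by
  have hp : p.Prime := Fact.out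
  set N : Subgroup Q := T.subgroupOf Q with hN
  have hNcard : Nat.card N = Nat.card T := Nat.card_congr (Subgroup.subgroupOfEquivOfLe hTQ).toEquiv
  have hidx : Nat.card T * N.index = Nat.card Q := by
    rw [← hNcard]; exact N.card_mul_index
  have hTpos : 0 < Nat.card T := Nat.card_pos
  have hdvd : N.index ∣ p := by
    rw [← hidx, mul_comm p] at hcard
    exact Nat.dvd_of_mul_dvd_mul_left hTpos hcard
  rcases (Nat.dvd_prime hp).1 hdvd with h1 | h1
  · -- index one
    have hQT : Q ≤ T := Subgroup.relIndex_eq_one.1 h1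
    exact (Subgroup.commutator_le_self Q).trans hQT
  · -- index p
    have hQcard : Nat.card Q = Nat.card T * p := by rw [← hidx, h1]
    obtain ⟨k, hk⟩ := IsPGroup.iff_card.1 hQ
    have hk0 : k ≠ 0 := by
      rintro rfl
      rw [pow_zero] at hk
      rw [hk] at hQcard
      have : p ∣ 1 := Dvd.intro_left _ hQcard.symm
      exact hp.one_lt.ne' (Nat.dvd_one.1 this)
    have hNn : N.Normal := by
      apply Subgroup.normal_of_index_eq_minFac_card
      rw [h1, hk, Nat.pow_minFac hk0, hp.minFac_eq]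
    have hcq : Nat.card (Q ⧸ N) = p := by rw [← Subgroup.index_eq_card, h1]
    have : IsCyclic (Q ⧸ N) := isCyclic_of_prime_card hcq
    let : CommGroup (Q ⧸ N) := IsCyclic.commGroup
    have hle : _root_.commutator Q ≤ N := by
      have := Abelianization.commutator_subset_ker (QuotientGroup.mk' N)
      rwa [QuotientGroup.ker_mk'] at this
    rw [← Subgroup.map_subtype_commutator]
    intro z hz
    obtain ⟨w, hw, rfl⟩ := hz
    exact Subgroup.mem_subgroupOf.1 (hle hw)

/-- Every element lies in `P₁ * C_G(P₁')` for a suitable Sylow `p`-subgroup `P₁`. -/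
lemma exists_sylow_mul_centralizer {G : Type u} [Group G] [Finite G] (p : ℕ) [Fact p.Prime]
    (h : ∀ x : G, (orderOf x).Coprime p → ¬ p ^ 2 ∣ (centralizer ({x} : Set G)).index) (y : G) :
    ∃ P₁ : Sylow p G, ∃ a b : G, a * b = y ∧ a ∈ (P₁ : Subgroup G) ∧
      b ∈ centralizer ((⁅(P₁ : Subgroup G), (P₁ : Subgroup G)⁆ : Subgroup G) : Set G) := by
  have hp : p.Prime := Fact.out
  obtain ⟨a, b, hab, ha, hb, ⟨k, hak⟩, hbcop⟩ := primary_dec y p hp
  have hcomm : a * b = b * a := by
    obtain ⟨i, hi⟩ := ha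
    obtain ⟨j, hj⟩ := hb
    rw [← hi, ← hj]
    exact (Commute.zpow_zpow_self y i j).eq
  set H : Subgroup G := centralizer ({b} : Set G) with hH
  have haH : a ∈ H := mem_centralizer_singleton_iff.2 hcomm
  have hpg : IsPGroup p (zpowers (⟨a, haH⟩ : H)) := by
    intro z
    obtain ⟨z, i, rfl⟩ := z
    refine ⟨k, ?_⟩
    apply Subtype.ext
    apply Subtype.ext
    simp only [Subgroup.coe_pow, Subgroup.coe_zpow, Subgroup.coe_one]
    rw [← zpow_natCast, ← zpow_mul, mul_comm, zpow_mul, zpow_natCast, ← hak, pow_orderOf_eq_one,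
      one_zpow]
  obtain ⟨S, hS⟩ := hpg.exists_le_sylow
  have hS'p : IsPGroup p ((S : Subgroup H).map H.subtype) := S.isPGroup'.map _
  obtain ⟨P₁, hP₁⟩ := hS'p.exists_le_sylow
  have haS : a ∈ (S : Subgroup H).map H.subtype :=
    ⟨⟨a, haH⟩, hS (mem_zpowers _), rfl⟩
  refine ⟨P₁, a, b, hab, hP₁ haS, ?_⟩
  -- cardinalities
  have hcS : Nat.card ((S : Subgroup H).map H.subtype) = p ^ (Nat.card H).factorization p := by
    rw [Subgroup.card_map_of_injective H.subtype_injective]
    exact S.card_eq_multiplicity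
  have hcP : Nat.card (P₁ : Subgroup G) = p ^ (Nat.card G).factorization p :=
    P₁.card_eq_multiplicity
  have hHi : Nat.card H * H.index = Nat.card G := H.card_mul_index
  have hH0 : Nat.card H ≠ 0 := Nat.card_pos.ne'
  have hi0 : H.index ≠ 0 := Subgroup.index_ne_zero_of_finite
  have hfac : (Nat.card G).factorization p
      = (Nat.card H).factorization p + (H.index).factorization p := by
    rw [← hHi, Nat.factorization_mul hH0 hi0]; rfl
  have hle1 : (H.index).factorization p ≤ 1 := by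
    by_contra hcon
    push Not at hcon
    exact h b hbcop ((hp.pow_dvd_iff_le_factorization hi0).2 hcon)
  have hcard : Nat.card (P₁ : Subgroup G) ∣ p * Nat.card ((S : Subgroup H).map H.subtype) := by
    rw [hcS, hcP, ← pow_succ', hfac]
    exact pow_dvd_pow p (by omega)
  have hle : ⁅(P₁ : Subgroup G), (P₁ : Subgroup G)⁆ ≤ (S : Subgroup H).map H.subtype :=
    commutator_le_of_card_dvd p _ _ P₁.isPGroup' hP₁ hcard
  rw [mem_centralizer_iff]
  intro z hz
  obtain ⟨⟨w, hwH⟩, _, rfl⟩ := hle hz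
  exact mem_centralizer_singleton_iff.1 hwH

/-- L4 (covering). -/
theorem sylow_sup_centralizer_commutator_eq_top {G : Type u} [Group G] [Finite G] (p : ℕ)
    [Fact p.Prime] (P : Sylow p G)
    (h : ∀ x : G, (orderOf x).Coprime p → ¬ p ^ 2 ∣ (centralizer ({x} : Set G)).index) :
    (P : Subgroup G) ⊔ centralizer ((⁅(P : Subgroup G), (P : Subgroup G)⁆ : Subgroup G) : Set G)
      = ⊤ := by
  by_contra hne
  obtain ⟨y, hy⟩ := exists_not_mem_conj_smul _ hne
  obtain ⟨P₁, a, b, hab, ha, hb⟩ := exists_sylow_mul_centralizer p h y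
  obtain ⟨g, hg⟩ := MulAction.exists_smul_eq G P P₁
  apply hy g
  rw [mem_conj_smul_iff']
  have hP₁ : (P₁ : Subgroup G) = MulAut.conj g • (P : Subgroup G) := by
    rw [← hg, Sylow.coe_subgroup_smul]
  have hmem : ∀ x : G, x ∈ (P₁ : Subgroup G) ↔ g⁻¹ * x * g ∈ (P : Subgroup G) := by
    intro x; rw [hP₁, mem_conj_smul_iff']
  have hdec : g⁻¹ * y * g = (g⁻¹ * a * g) * (g⁻¹ * b * g) := by rw [← hab]; group
  rw [hdec]
  refine Subgroup.mul_mem _ (Subgroup.mem_sup_left ((hmem a).1 ha)) (Subgroup.mem_sup_right ?_)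
  rw [mem_centralizer_iff]
  intro z hz
  -- `g z g⁻¹ ∈ ⁅P₁, P₁⁆`
  have hz' : g * z * g⁻¹ ∈ ⁅(P₁ : Subgroup G), (P₁ : Subgroup G)⁆ := by
    have hmap : (⁅(P : Subgroup G), (P : Subgroup G)⁆).map (MulAut.conj g).toMonoidHom
        = ⁅(P₁ : Subgroup G), (P₁ : Subgroup G)⁆ := by
      rw [Subgroup.map_commutator]
      have : (P : Subgroup G).map (MulAut.conj g).toMonoidHom = (P₁ : Subgroup G) := by
        ext x
        rw [hmem x]
        constructor
        · rintro ⟨w, hw, rfl⟩
          have : g⁻¹ * (MulAut.conj g).toMonoidHom w * g = w := by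
            simp only [MulEquiv.coe_toMonoidHom, MulAut.conj_apply]; group
          rw [this]; exact hw
        · intro hx
          refine ⟨g⁻¹ * x * g, hx, ?_⟩
          simp only [MulEquiv.coe_toMonoidHom, MulAut.conj_apply]; group
      rw [this]
    rw [← hmap]
    exact ⟨z, hz, by simp only [MulEquiv.coe_toMonoidHom, MulAut.conj_apply]⟩
  have hc := (mem_centralizer_iff.1 hb) _ hz'
  -- hc : g * z * g⁻¹ * b = b * (g * z * g⁻¹)
  calc z * (g⁻¹ * b * g) = g⁻¹ * (g * z * g⁻¹ * b) * g := by group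
    _ = g⁻¹ * (b * (g * z * g⁻¹)) * g := by rw [hc]
    _ = g⁻¹ * b * g * z := by group

end Cfsg.Agent.Lib.Helper09.SqF
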