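import Mathlib
import Cfsg.Agent.Lib.Helper73.RUDefs

set_option autoImplicit false

/-!
# Leaf H of the pack K-RU (S2280): the upper Jordan block `aMat` is regular unipotent:
`(a - 1)^k` has entries `[i + k = j]`.
-/

namespace Cfsg.Agent.Lib.Helper09.RU

open Matrix Cfsg.Agent.Lib.Helper73.RU

theorem aMat_sub_one_apply (m : ℕ) (F : Type*) [Field F] (i j : Fin (m + 3)) :
    (aMat m F - 1) i j = if i.val + 1 = j.val then 1 else 0 := by
  unfold aMat
  rw [Matrix.sub_apply, Matrix.of_apply, Matrix.one_apply]
  by_cases h : i = j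
  · subst h; simp
  · simp [h]

theorem aMat_sub_one_pow_apply (m : ℕ) (F : Type*) [Field F] (k : ℕ) (i j : Fin (m + 3)) :
    ((aMat m F - 1) ^ k) i j = if i.val + k = j.val then 1 else 0 := by
  induction k generalizing i j with
  | zero =>
    rw [pow_zero, Matrix.one_apply]
    simp [Fin.ext_iff]
  | succ k ih =>
    rw [pow_succ, Matrix.mul_apply]
    simp_rw [ih, aMat_sub_one_apply]
    by_cases h : i.val + (k + 1) = j.val
    · rw [if_pos h]
      have hl : i.val + k < m + 3 := by have := j.isLt; omega
      rw [Finset.sum_eq_single (⟨i.val + k, hl⟩ : Fin (m + 3))]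
      · have h2 : i.val + k + 1 = j.val := by omega
        simp [h2]
      · intro b _ hb
        have h1 : ¬ (i.val + k = b.val) := by
          intro h1
          apply hb
          ext
          simp [h1]
        simp [h1]
      · intro hh
        exact absurd (Finset.mem_univ _) hh
    · rw [if_neg h]
      apply Finset.sum_eq_zero
      intro l _
      by_cases h1 : i.val + k = l.val
      · have h2 : ¬ (l.val + 1 = j.val) := by omega
        simp [h2]
      · simp [h1]

theorem isNilpotent_aMat_sub_one (m : ℕ) (F : Type*) [Field F] : IsNilpotent (aMat m F - 1) := by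
  refine ⟨m + 3, ?_⟩
  ext i j
  rw [aMat_sub_one_pow_apply]
  have h : ¬ (i.val + (m + 3) = j.val) := by have := j.isLt; omega
  simp [h]

theorem aMat_sub_one_pow_ne_zero (m : ℕ) (F : Type*) [Field F] : (aMat m F - 1) ^ (m + 2) ≠ 0 := by
  intro h
  have h1 := congrFun (congrFun h 0) (Fin.last (m + 2))
  rw [aMat_sub_one_pow_apply] at h1
  simp at h1

end Cfsg.Agent.Lib.Helper09.RU
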