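import Mathlib

open Polynomial

namespace Cfsg.Agent.Lib.Helper09.AnisoExt

section alg

variable {F₀ F : Type*} [Field F₀] [Field F] [Algebra F₀ F] [Finite F]

/-- the quadratic polynomial `X² + aX + b` -/
noncomputable def qpoly (a b : F₀) : F₀[X] := X ^ 2 + C a * X + C b

theorem qpoly_natDegree (a b : F₀) : (qpoly a b).natDegree = 2 := by
  unfold qpoly
  compute_degree!

theorem qpoly_ne_zero (a b : F₀) : qpoly a b ≠ 0 := by
  intro h
  have := qpoly_natDegree a b
  rw [h] at this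
  simp at this

theorem qpoly_eval (a b t : F₀) : (qpoly a b).eval t = t ^ 2 + a * t + b := by
  unfold qpoly
  simp

omit [Finite F] in
theorem qpoly_aeval (a b : F₀) (t : F) :
    aeval t (qpoly a b) = t ^ 2 + algebraMap F₀ F a * t + algebraMap F₀ F b := by
  unfold qpoly
  simp

theorem qpoly_irreducible (a b : F₀) (h : ∀ t : F₀, t ^ 2 + a * t + b ≠ 0) :
    Irreducible (qpoly a b) := by
  apply irreducible_of_degree_le_three_of_not_isRoot
  · rw [qpoly_natDegree]; simp
  · intro x hx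
    rw [IsRoot, qpoly_eval] at hx
    exact h x hx

theorem finrank_adjoinRoot (a b : F₀) :
    Module.finrank F₀ (AdjoinRoot (qpoly a b)) = 2 := by
  rw [(AdjoinRoot.powerBasis (qpoly_ne_zero a b)).finrank, AdjoinRoot.powerBasis_dim,
    qpoly_natDegree]

/-- over an extension of ODD degree of finite fields, a quadratic polynomial without roots keeps
having no roots -/
theorem no_root_of_odd_finrank (hodd : Odd (Module.finrank F₀ F)) (a b : F₀)
    (h : ∀ t : F₀, t ^ 2 + a * t + b ≠ 0) :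
    ∀ t : F, t ^ 2 + algebraMap F₀ F a * t + algebraMap F₀ F b ≠ 0 := by
  intro t ht
  have hirr := qpoly_irreducible a b h
  have : Fact (Irreducible (qpoly a b)) := ⟨hirr⟩
  have hev : eval₂ (↑(Algebra.ofId F₀ F)) t (qpoly a b) = 0 := by
    have := qpoly_aeval (F := F) a b t
    rw [ht] at this
    rw [← this]
    rfl
  have f : AdjoinRoot (qpoly a b) →ₐ[F₀] F :=
    AdjoinRoot.liftAlgHom (qpoly a b) (Algebra.ofId F₀ F) t hev
  have hdvd := (FiniteField.nonempty_algHom_iff_finrank_dvd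
    (F := F₀) (K := AdjoinRoot (qpoly a b)) (L := F)).mp ⟨f⟩
  rw [finrank_adjoinRoot] at hdvd
  rcases hodd with ⟨k, hk⟩
  omega

/-- over an extension of EVEN degree of finite fields, every quadratic polynomial has a root -/
theorem exists_root_of_even_finrank (heven : Even (Module.finrank F₀ F)) (a b : F₀) :
    ∃ t : F, t ^ 2 + algebraMap F₀ F a * t + algebraMap F₀ F b = 0 := by
  by_cases h : ∃ t : F₀, t ^ 2 + a * t + b = 0
  · obtain ⟨t, ht⟩ := h
    refine ⟨algebraMap F₀ F t, ?_⟩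
    rw [← map_pow, ← map_mul, ← map_add, ← map_add, ht, map_zero]
  · push Not at h
    have hirr := qpoly_irreducible a b h
    have : Fact (Irreducible (qpoly a b)) := ⟨hirr⟩
    have hdvd : Module.finrank F₀ (AdjoinRoot (qpoly a b)) ∣ Module.finrank F₀ F := by
      rw [finrank_adjoinRoot]
      exact even_iff_two_dvd.mp heven
    obtain ⟨f⟩ := FiniteField.nonempty_algHom_of_finrank_dvd
      (F := F₀) (K := AdjoinRoot (qpoly a b)) (L := F) hdvd
    refine ⟨f (AdjoinRoot.root (qpoly a b)), ?_⟩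
    have h1 : aeval (AdjoinRoot.root (qpoly a b)) (qpoly a b) = 0 := by
      rw [AdjoinRoot.aeval_eq, AdjoinRoot.mk_self]
    have h2 : aeval (f (AdjoinRoot.root (qpoly a b))) (qpoly a b) = 0 := by
      rw [Polynomial.aeval_algHom_apply, h1, map_zero]
    rwa [qpoly_aeval] at h2

end alg

section sigma

variable {F : Type*} [Field F] [Finite F]

/-- the fixed subfield of `σ` has index `orderOf σ` -/
theorem finrank_fixed (σ : F ≃+* F) :
    Module.finrank (FixedPoints.subfield (Subgroup.zpowers (σ : RingAut F)) F) F = orderOf σ := by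
  classical
  have : Finite (RingAut F) :=
    Finite.of_injective (fun e : F ≃+* F => (e : F → F)) DFunLike.coe_injective
  have : Fintype (Subgroup.zpowers (σ : RingAut F)) := Fintype.ofFinite _
  rw [FixedPoints.finrank_eq_card (Subgroup.zpowers (σ : RingAut F)) F, Fintype.card_eq_nat_card,
    Nat.card_zpowers]

omit [Finite F] in
theorem mem_fixed_iff (σ : F ≃+* F) (x : F) :
    x ∈ FixedPoints.subfield (Subgroup.zpowers (σ : RingAut F)) F ↔ σ x = x := by
  constructor
  · intro h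
    exact h ⟨σ, Subgroup.mem_zpowers _⟩
  · intro h g
    obtain ⟨g, ⟨k, rfl⟩⟩ := g
    show ((σ : RingAut F) ^ k) x = x
    induction k using Int.induction_on with
    | zero => simp
    | succ n ih =>
      rw [zpow_add_one, RingAut.mul_apply, h]
      exact ih
    | pred n ih =>
      rw [zpow_sub_one, RingAut.mul_apply]
      have h' : (σ : RingAut F)⁻¹ x = x := by
        have : (σ : RingAut F)⁻¹ (σ x) = x := by
          show σ.symm (σ x) = x
          simp
        rwa [h] at this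
      rw [h']
      exact ih

/-- a field automorphism of EVEN order fixing `a, b`: `X² + aX + b` has a root -/
theorem exists_root_of_even_order (σ : F ≃+* F) (hσ : Even (orderOf σ)) (a b : F)
    (ha : σ a = a) (hb : σ b = b) : ∃ t : F, t ^ 2 + a * t + b = 0 := by
  have h := exists_root_of_even_finrank
    (F₀ := FixedPoints.subfield (Subgroup.zpowers (σ : RingAut F)) F) (F := F)
    (by rw [finrank_fixed]; exact hσ)
    ⟨a, (mem_fixed_iff σ a).mpr ha⟩ ⟨b, (mem_fixed_iff σ b).mpr hb⟩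
  exact h

/-- a field automorphism of ODD order fixing `a, b`: if `X² + aX + b` has no `σ`-fixed root it has
no root at all -/
theorem no_root_of_odd_order (σ : F ≃+* F) (hσ : Odd (orderOf σ)) (a b : F)
    (ha : σ a = a) (hb : σ b = b) (h : ∀ t : F, σ t = t → t ^ 2 + a * t + b ≠ 0) :
    ∀ t : F, t ^ 2 + a * t + b ≠ 0 := by
  have h' := no_root_of_odd_finrank
    (F₀ := FixedPoints.subfield (Subgroup.zpowers (σ : RingAut F)) F) (F := F)
    (by rw [finrank_fixed]; exact hσ)
    ⟨a, (mem_fixed_iff σ a).mpr ha⟩ ⟨b, (mem_fixed_iff σ b).mpr hb⟩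
    (by
      rintro ⟨t, ht⟩ h0
      apply h t ((mem_fixed_iff σ t).mp ht)
      have := congrArg Subtype.val h0
      simpa using this)
  exact h'

/-- version through an embedding `j : F₀ → F` onto the fixed field of `σ` -/
theorem no_root_of_odd_order' {F₀ : Type*} [Field F₀] (j : F₀ →+* F) (σ : F ≃+* F)
    (hσ : Odd (orderOf σ)) (hj : ∀ x, σ (j x) = j x) (hj' : ∀ y : F, σ y = y → ∃ x, j x = y)
    (a b : F₀) (h : ∀ t : F₀, t ^ 2 + a * t + b ≠ 0) :
    ∀ t : F, t ^ 2 + j a * t + j b ≠ 0 := by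
  apply no_root_of_odd_order σ hσ (j a) (j b) (hj a) (hj b)
  intro t ht h0
  obtain ⟨x, rfl⟩ := hj' t ht
  apply h x
  apply j.injective
  rw [map_add, map_add, map_pow, map_mul, h0, map_zero]

end sigma

section binary

variable {F : Type*} [Field F]

/-- the binary form `z₁² + a z₁ z₂ + b z₂²` is anisotropic iff `X² + aX + b` has no root -/
theorem anis_iff_no_root (a b : F) :
    (∀ z₁ z₂ : F, z₁ ^ 2 + a * z₁ * z₂ + b * z₂ ^ 2 = 0 → z₁ = 0 ∧ z₂ = 0) ↔
      ∀ t : F, t ^ 2 + a * t + b ≠ 0 := by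
  constructor
  · intro h t ht
    have := h t 1 (by rw [← ht]; ring)
    exact one_ne_zero this.2
  · intro h z₁ z₂ hz
    by_cases h2 : z₂ = 0
    · subst h2
      have : z₁ ^ 2 = 0 := by simpa using hz
      exact ⟨pow_eq_zero_iff (two_ne_zero) |>.mp this, rfl⟩
    · exfalso
      apply h (z₁ / z₂)
      have : (z₁ / z₂) ^ 2 + a * (z₁ / z₂) + b =
          (z₁ ^ 2 + a * z₁ * z₂ + b * z₂ ^ 2) / z₂ ^ 2 := by
        field_simp
      rw [this, hz, zero_div]

variable [Finite F]

/-- a non-identity (indeed any) field automorphism fixing the coefficients of an anisotropic binary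
form has ODD order -/
theorem odd_order_of_anis (σ : F ≃+* F) (a b : F)
    (hab : ∀ z₁ z₂ : F, z₁ ^ 2 + a * z₁ * z₂ + b * z₂ ^ 2 = 0 → z₁ = 0 ∧ z₂ = 0)
    (ha : σ a = a) (hb : σ b = b) : Odd (orderOf σ) := by
  rw [← Nat.not_even_iff_odd]
  intro hev
  obtain ⟨t, ht⟩ := exists_root_of_even_order σ hev a b ha hb
  exact (anis_iff_no_root a b).mp hab t ht

/-- anisotropy of a binary form passes from the fixed field of an ODD-order automorphism to the
whole field -/
theorem anis_of_odd_order' {F₀ : Type*} [Field F₀] (j : F₀ →+* F) (σ : F ≃+* F)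
    (hσ : Odd (orderOf σ)) (hj : ∀ x, σ (j x) = j x) (hj' : ∀ y : F, σ y = y → ∃ x, j x = y)
    (a b : F₀)
    (hab : ∀ z₁ z₂ : F₀, z₁ ^ 2 + a * z₁ * z₂ + b * z₂ ^ 2 = 0 → z₁ = 0 ∧ z₂ = 0) :
    ∀ z₁ z₂ : F, z₁ ^ 2 + j a * z₁ * z₂ + j b * z₂ ^ 2 = 0 → z₁ = 0 ∧ z₂ = 0 :=
  (anis_iff_no_root (j a) (j b)).mpr
    (no_root_of_odd_order' j σ hσ hj hj' a b ((anis_iff_no_root a b).mp hab))

/-- anisotropy descends along any field embedding -/
theorem anis_descent {F₀ : Type*} [Field F₀] {F : Type*} [Field F] (j : F₀ →+* F) (a b : F₀)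
    (hab : ∀ z₁ z₂ : F, z₁ ^ 2 + j a * z₁ * z₂ + j b * z₂ ^ 2 = 0 → z₁ = 0 ∧ z₂ = 0) :
    ∀ z₁ z₂ : F₀, z₁ ^ 2 + a * z₁ * z₂ + b * z₂ ^ 2 = 0 → z₁ = 0 ∧ z₂ = 0 := by
  intro z₁ z₂ h
  have := hab (j z₁) (j z₂) (by
    rw [← map_pow, ← map_pow, ← map_mul, ← map_mul, ← map_mul, ← map_add, ← map_add, h, map_zero])
  exact ⟨(map_eq_zero j).mp this.1, (map_eq_zero j).mp this.2⟩

/-- the `t² + t + ζ` form of the statement (Witt classification parameter) -/
theorem irred_param_of_odd_order' {F₀ : Type*} [Field F₀] (j : F₀ →+* F) (σ : F ≃+* F)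
    (hσ : Odd (orderOf σ)) (hj : ∀ x, σ (j x) = j x) (hj' : ∀ y : F, σ y = y → ∃ x, j x = y)
    (ζ : F₀) (h : ∀ t : F₀, t ^ 2 + t + ζ ≠ 0) : ∀ t : F, t ^ 2 + t + j ζ ≠ 0 := by
  intro t
  have := no_root_of_odd_order' j σ hσ hj hj' 1 ζ (by simpa using h) t
  simpa using this

end binary

end Cfsg.Agent.Lib.Helper09.AnisoExt
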