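import Mathlib
import Cfsg.Prelude.Def_Involutions
import Cfsg.Prelude.Def_LieExceptional
import Cfsg.Agent.Lib.Helper28.StronglyEmbedded
import Cfsg.Agent.Lib.Helper28.ZassConv
import Cfsg.Agent.Lib.Helper17.FeitZass
import Cfsg.Agent.Lib.Helper41.Conj

/-!
# K-S2202-B3, core: from the facts of Part A, K-B1, K-B2 to `c ^ 2 = 1` on `C_G(S)`

`B3Input S` packages exactly the facts about `H = N_G(S)`, `C = C_G(S)` that the argument uses.
`sq_eq_one_of_input` then shows that `G` is a Zassenhaus group on `G ⧸ H` with regular abelian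
kernel `C`, and Feit's bound (`Helper17.FeitZass.feit_abelian`) forces `C` to have exponent 2.
-/

set_option autoImplicit false

namespace Cfsg.Agent.Lib.Helper09.AIC

open Subgroup Cfsg Cfsg.Agent.Lib.Helper41 Cfsg.Agent.Lib.Helper28

universe u

/-- the facts used in K-B3 -/
structure B3Input {G : Type u} [Group G] (S : Sylow 2 G) : Prop where
  cent_comm : ∀ x ∈ centralizer ((S : Subgroup G) : Set G),
    ∀ y ∈ centralizer ((S : Subgroup G) : Set G), x * y = y * x
  sylow_le : (S : Subgroup G) ≤ centralizer ((S : Subgroup G) : Set G)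
  cent_invol : ∀ t : G, orderOf t = 2 → t ∈ (S : Subgroup G) →
    centralizer ({t} : Set G) = centralizer ((S : Subgroup G) : Set G)
  invol_mem : ∀ t : G, orderOf t = 2 → t ∈ normalizer ((S : Subgroup G) : Set G) →
    t ∈ (S : Subgroup G)
  odd_inf : ∀ g : G, g ∉ normalizer ((S : Subgroup G) : Set G) →
    Odd (Nat.card ↥(normalizer ((S : Subgroup G) : Set G) ⊓
      lc g (normalizer ((S : Subgroup G) : Set G))))
  three_le : 3 ≤ Nat.card (InvIn (normalizer ((S : Subgroup G) : Set G)))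
  card_H : Nat.card (normalizer ((S : Subgroup G) : Set G)) =
    Nat.card (InvIn (normalizer ((S : Subgroup G) : Set G))) *
      Nat.card (centralizer ((S : Subgroup G) : Set G))
  exists_invol : ∀ g : G, g ∉ normalizer ((S : Subgroup G) : Set G) →
    ∃ u : G, orderOf u = 2 ∧ u ∉ normalizer ((S : Subgroup G) : Set G) ∧
      g⁻¹ * u ∈ normalizer ((S : Subgroup G) : Set G)
  cent_inf : ∀ g : G, g ∉ normalizer ((S : Subgroup G) : Set G) →
    ∀ c ∈ centralizer ((S : Subgroup G) : Set G),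
      c ∈ lc g (normalizer ((S : Subgroup G) : Set G)) → c = 1
  card_D : ∀ u : G, orderOf u = 2 → u ∉ normalizer ((S : Subgroup G) : Set G) →
    Nat.card ↥(normalizer ((S : Subgroup G) : Set G) ⊓
        lc u (normalizer ((S : Subgroup G) : Set G))) =
      Nat.card (InvIn (normalizer ((S : Subgroup G) : Set G)))
  fix_two : ∀ u : G, orderOf u = 2 → u ∉ normalizer ((S : Subgroup G) : Set G) →
    ∀ d ∈ normalizer ((S : Subgroup G) : Set G) ⊓ lc u (normalizer ((S : Subgroup G) : Set G)),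
      d ≠ 1 → ∀ g : G, g⁻¹ * d * g ∈ normalizer ((S : Subgroup G) : Set G) →
        g ∈ normalizer ((S : Subgroup G) : Set G) ∨
          u⁻¹ * g ∈ normalizer ((S : Subgroup G) : Set G)

section core

variable {G : Type u} [Group G] (S : Sylow 2 G)

/-- `N_G(S)` -/
local notation "HH" => normalizer ((S : Subgroup G) : Set G)
/-- `C_G(S)` -/
local notation "CC" => centralizer ((S : Subgroup G) : Set G)

theorem cc_le_hh : CC ≤ HH := centralizer_le_normalizer _

theorem mk_eq_one_iff {g : G} : (QuotientGroup.mk g : G ⧸ HH) = QuotientGroup.mk 1 ↔ g ∈ HH := by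
  rw [QuotientGroup.eq, mul_one, inv_mem_iff]

theorem stab_mk (g : G) :
    MulAction.stabilizer G (QuotientGroup.mk g : G ⧸ HH) = lc g HH := by
  ext x
  rw [MulAction.mem_stabilizer_iff, smul_mk_self_iff, mem_lc]

theorem lc_one (K : Subgroup G) : lc 1 K = K := by
  ext x
  rw [mem_lc]
  simp

theorem stab_base : MulAction.stabilizer G (QuotientGroup.mk 1 : G ⧸ HH) = HH := by
  rw [stab_mk, lc_one]

theorem lc_eq_of_mk_eq {g u : G}
    (h : (QuotientGroup.mk g : G ⧸ HH) = QuotientGroup.mk u) : lc g HH = lc u HH := by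
  rw [← stab_mk, ← stab_mk, h]

theorem mem_hh_smul_base {h : G} (hh : h ∈ HH) :
    h • (QuotientGroup.mk 1 : G ⧸ HH) = QuotientGroup.mk 1 := by
  have : h ∈ MulAction.stabilizer G (QuotientGroup.mk 1 : G ⧸ HH) := by
    rw [stab_base]; exact hh
  exact this

theorem smul_ne_base {h : G} (hh : h ∈ HH) {y : G ⧸ HH} (hy : y ≠ QuotientGroup.mk 1) :
    h • y ≠ QuotientGroup.mk 1 := by
  intro hcon
  apply hy
  have h1 : y = h⁻¹ • (h • y) := by rw [inv_smul_smul]
  rw [h1, hcon]
  exact mem_hh_smul_base S (Subgroup.inv_mem _ hh)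

variable {S} (I : B3Input S)

include I

/-- for a point other than the base point, pick an involution in the coset -/
theorem exists_invol_mk {y : G ⧸ HH} (hy : y ≠ QuotientGroup.mk 1) :
    ∃ u : G, orderOf u = 2 ∧ u ∉ HH ∧ (QuotientGroup.mk u : G ⧸ HH) = y := by
  induction y using QuotientGroup.induction_on with
  | H g =>
  have hg : g ∉ HH := fun h => hy ((mk_eq_one_iff S).2 h)
  obtain ⟨u, hu, huH, hgu⟩ := I.exists_invol g hg
  refine ⟨u, hu, huH, ?_⟩
  rw [eq_comm, QuotientGroup.eq]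
  exact hgu

/-- `C` acts semiregularly off the base point -/
theorem cc_semiregular {c : G} (hc : c ∈ CC) {y : G ⧸ HH} (hy : y ≠ QuotientGroup.mk 1)
    (hcy : c • y = y) : c = 1 := by
  induction y using QuotientGroup.induction_on with
  | H g =>
  have hg : g ∉ HH := fun h => hy ((mk_eq_one_iff S).2 h)
  apply I.cent_inf g hg c hc
  rw [← stab_mk]
  exact hcy

/-- an element of `H` fixing two further distinct cosets is trivial -/
theorem fix_three_aux {h a b : G} (hh : h ∈ HH) (ha : a ∉ HH) (hb : b ∉ HH)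
    (hab : (QuotientGroup.mk a : G ⧸ HH) ≠ QuotientGroup.mk b)
    (hfa : h • (QuotientGroup.mk a : G ⧸ HH) = QuotientGroup.mk a)
    (hfb : h • (QuotientGroup.mk b : G ⧸ HH) = QuotientGroup.mk b) : h = 1 := by
  by_contra h1
  have hya : (QuotientGroup.mk a : G ⧸ HH) ≠ QuotientGroup.mk 1 :=
    fun h => ha ((mk_eq_one_iff S).1 h)
  obtain ⟨u, hu, huH, hua⟩ := exists_invol_mk I hya
  have hd : h ∈ HH ⊓ lc u HH := by
    refine Subgroup.mem_inf.2 ⟨hh, ?_⟩
    rw [← stab_mk, hua]
    exact hfa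
  have hb' : b⁻¹ * h * b ∈ HH := (smul_mk_self_iff h b).1 hfb
  rcases I.fix_two u hu huH h hd h1 b hb' with h2 | h2
  · exact hb h2
  · apply hab
    rw [← hua, QuotientGroup.eq]
    exact h2

/-- **three-point stabilizers are trivial** -/
theorem fix_three {g : G} {x₁ x₂ x₃ : G ⧸ HH} (h12 : x₁ ≠ x₂) (h13 : x₁ ≠ x₃)
    (h23 : x₂ ≠ x₃) (h1 : g • x₁ = x₁) (h2 : g • x₂ = x₂) (h3 : g • x₃ = x₃) : g = 1 := by
  induction x₁ using QuotientGroup.induction_on with
  | H a =>
  induction x₂ using QuotientGroup.induction_on with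
  | H b =>
  induction x₃ using QuotientGroup.induction_on with
  | H c =>
  have hh : a⁻¹ * g * a ∈ HH := (smul_mk_self_iff g a).1 h1
  have hb : a⁻¹ * b ∉ HH := fun h => h12 (QuotientGroup.eq.2 h)
  have hc : a⁻¹ * c ∉ HH := fun h => h13 (QuotientGroup.eq.2 h)
  have hbc : (QuotientGroup.mk (a⁻¹ * b) : G ⧸ HH) ≠ QuotientGroup.mk (a⁻¹ * c) := by
    intro h
    apply h23
    rw [QuotientGroup.eq] at h ⊢
    have e : (a⁻¹ * b)⁻¹ * (a⁻¹ * c) = b⁻¹ * c := by group
    rwa [e] at h
  have hfb : (a⁻¹ * g * a) • (QuotientGroup.mk (a⁻¹ * b) : G ⧸ HH) =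
      QuotientGroup.mk (a⁻¹ * b) := by
    rw [smul_mk_self_iff]
    have e : (a⁻¹ * b)⁻¹ * (a⁻¹ * g * a) * (a⁻¹ * b) = b⁻¹ * g * b := by group
    rw [e]
    exact (smul_mk_self_iff g b).1 h2
  have hfc : (a⁻¹ * g * a) • (QuotientGroup.mk (a⁻¹ * c) : G ⧸ HH) =
      QuotientGroup.mk (a⁻¹ * c) := by
    rw [smul_mk_self_iff]
    have e : (a⁻¹ * c)⁻¹ * (a⁻¹ * g * a) * (a⁻¹ * c) = c⁻¹ * g * c := by group
    rw [e]
    exact (smul_mk_self_iff g c).1 h3
  have := fix_three_aux I hh hb hc hbc hfb hfc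
  have e : g = a * (a⁻¹ * g * a) * a⁻¹ := by group
  rw [e, this]; group


/-! ### counting -/

omit I in
theorem card_mem_and_ne_one [Finite G] (K : Subgroup G) :
    Nat.card {d : G // d ∈ K ∧ d ≠ 1} = Nat.card K - 1 := by
  classical
  have e : {d : G // d ∈ K ∧ d ≠ 1} ≃ {x : K // ¬ (x = 1)} :=
    ⟨fun d => ⟨⟨d.1, d.2.1⟩, fun h => d.2.2 (congrArg Subtype.val h)⟩,
     fun x => ⟨x.1.1, x.1.2, fun h => x.2 (Subtype.ext h)⟩,
     fun d => rfl, fun x => rfl⟩
  rw [Nat.card_congr e]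
  have := Fintype.ofFinite K
  rw [Nat.card_eq_fintype_card, Fintype.card_subtype_compl, Fintype.card_subtype_eq,
    Nat.card_eq_fintype_card]

omit I in
theorem card_mem_and_not_mem [Finite G] (H K : Subgroup G) (hKH : K ≤ H) :
    Nat.card {h : G // h ∈ H ∧ h ∉ K} = Nat.card H - Nat.card K := by
  classical
  have e : {h : G // h ∈ H ∧ h ∉ K} ≃ {x : H // ¬ (x.1 ∈ K)} :=
    ⟨fun d => ⟨⟨d.1, d.2.1⟩, d.2.2⟩, fun x => ⟨x.1.1, x.1.2, x.2⟩, fun d => rfl, fun x => rfl⟩
  have e' : {x : H // x.1 ∈ K} ≃ K :=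
    ⟨fun x => ⟨x.1.1, x.2⟩, fun k => ⟨⟨k.1, hKH k.2⟩, k.2⟩, fun x => rfl, fun k => rfl⟩
  rw [Nat.card_congr e]
  have := Fintype.ofFinite H
  have := Fintype.ofFinite K
  rw [Nat.card_eq_fintype_card, Fintype.card_subtype_compl, ← Nat.card_eq_fintype_card,
    ← Nat.card_eq_fintype_card, Nat.card_congr e']

/-- the number of cosets other than `H` is at most `|C|` -/
theorem card_points_le [Finite G] :
    Nat.card {y : G ⧸ HH // y ≠ QuotientGroup.mk 1} ≤ Nat.card CC := by
  classical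
  have := Fintype.ofFinite {y : G ⧸ HH // y ≠ QuotientGroup.mk 1}
  have hm := I.three_le
  let Φ : (Σ y : {y : G ⧸ HH // y ≠ QuotientGroup.mk 1},
      {d : G // d ∈ HH ⊓ MulAction.stabilizer G y.1 ∧ d ≠ 1}) →
      {h : G // h ∈ HH ∧ h ∉ CC} := fun p =>
    ⟨p.2.1, (Subgroup.mem_inf.1 p.2.2.1).1, by
      intro hT
      apply p.2.2.2
      exact cc_semiregular I hT p.1.2
        (MulAction.mem_stabilizer_iff.1 (Subgroup.mem_inf.1 p.2.2.1).2)⟩
  have hΦ : Function.Injective Φ := by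
    rintro ⟨⟨y, hy⟩, d, hd, hd1⟩ ⟨⟨y', hy'⟩, d', hd', hd1'⟩ h
    have hdd : d = d' := congrArg Subtype.val h
    subst hdd
    have hyy : y = y' := by
      by_contra hne
      induction y using QuotientGroup.induction_on with
      | H a =>
      induction y' using QuotientGroup.induction_on with
      | H b =>
      apply hd1
      exact fix_three_aux I (Subgroup.mem_inf.1 hd).1
        (fun h => hy ((mk_eq_one_iff S).2 h)) (fun h => hy' ((mk_eq_one_iff S).2 h)) hne
        (MulAction.mem_stabilizer_iff.1 (Subgroup.mem_inf.1 hd).2)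
        (MulAction.mem_stabilizer_iff.1 (Subgroup.mem_inf.1 hd').2)
    subst hyy
    rfl
  have h1 := Nat.card_le_card_of_injective Φ hΦ
  rw [Nat.card_sigma, card_mem_and_not_mem _ _ (cc_le_hh S), I.card_H] at h1
  have h2 : ∀ y : {y : G ⧸ HH // y ≠ QuotientGroup.mk 1},
      Nat.card {d : G // d ∈ HH ⊓ MulAction.stabilizer G y.1 ∧ d ≠ 1} =
        Nat.card (InvIn HH) - 1 := by
    intro y
    rw [card_mem_and_ne_one]
    obtain ⟨y, hy⟩ := y
    obtain ⟨u, hu, huH, huy⟩ := exists_invol_mk I hy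
    subst huy
    rw [stab_mk, I.card_D u hu huH]
  simp only [h2, Finset.sum_const, Finset.card_univ, smul_eq_mul] at h1
  rw [← Nat.card_eq_fintype_card] at h1
  set m := Nat.card (InvIn HH) with hmdef
  set c := Nat.card CC with hcdef
  have h3 : m * c - c = c * (m - 1) := by
    rw [Nat.mul_sub_one, mul_comm]
  rw [h3] at h1
  exact Nat.le_of_mul_le_mul_right h1 (by omega)

/-- the orbit map of `C` at a point other than the base point -/
def orbitMapC (S : Sylow 2 G) (x : G ⧸ normalizer ((S : Subgroup G) : Set G))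
    (hx : x ≠ QuotientGroup.mk 1) (c : centralizer ((S : Subgroup G) : Set G)) :
    {y : G ⧸ normalizer ((S : Subgroup G) : Set G) // y ≠ QuotientGroup.mk 1} :=
  ⟨c.1 • x, smul_ne_base S (cc_le_hh S c.2) hx⟩

theorem orbitMapC_bijective [Finite G] (x : G ⧸ HH) (hx : x ≠ QuotientGroup.mk 1) :
    Function.Bijective (orbitMapC S x hx) := by
  apply Function.Injective.bijective_of_nat_card_le
  · intro t t' h
    have h' : t.1 • x = t'.1 • x := congrArg Subtype.val h
    have h2 : (t'.1⁻¹ * t.1) • x = x := by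
      rw [mul_smul, h', inv_smul_smul]
    have h3 := cc_semiregular I (Subgroup.mul_mem _ (Subgroup.inv_mem _ t'.2) t.2) hx h2
    apply Subtype.ext
    rw [inv_mul_eq_one] at h3
    exact h3.symm
  · exact card_points_le I

/-- `C` is regular on the cosets other than `H` -/
theorem cc_regular [Finite G] (x y : G ⧸ HH) (hx : x ≠ QuotientGroup.mk 1)
    (hy : y ≠ QuotientGroup.mk 1) : ∃! c : CC, (c : G) • x = y := by
  obtain ⟨hinj, hsurj⟩ := orbitMapC_bijective I x hx
  obtain ⟨t, ht⟩ := hsurj ⟨y, hy⟩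
  refine ⟨t, congrArg Subtype.val ht, ?_⟩
  intro t' ht'
  apply hinj
  apply Subtype.ext
  show t'.1 • x = t.1 • x
  have h0 : t.1 • x = y := congrArg Subtype.val ht
  rw [ht', h0]

theorem card_quotient [Finite G] {g : G} (hg : g ∉ HH) :
    Nat.card (G ⧸ HH) = Nat.card CC + 1 := by
  classical
  have hx : (QuotientGroup.mk g : G ⧸ HH) ≠ QuotientGroup.mk 1 :=
    fun h => hg ((mk_eq_one_iff S).1 h)
  have h1 := Nat.card_congr (Equiv.ofBijective _ (orbitMapC_bijective I _ hx))
  have := Fintype.ofFinite (G ⧸ HH)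
  have h2 : Nat.card {y : G ⧸ HH // ¬ (y = QuotientGroup.mk 1)} = Nat.card (G ⧸ HH) - 1 := by
    rw [Nat.card_eq_fintype_card, Fintype.card_subtype_compl, Fintype.card_subtype_eq,
      Nat.card_eq_fintype_card]
  have h3 : 0 < Nat.card (G ⧸ HH) := Nat.card_pos
  have h4 : Nat.card CC = Nat.card (G ⧸ HH) - 1 := h1.trans h2
  omega


/-! ### the Zassenhaus axioms -/

omit I in
/-- a fixed-point-free element of order two inverts a finite normal subgroup -/
theorem inverts_of_fpf [Finite G] {M : Subgroup G} (hM : M.Normal) {t : G} (ht : orderOf t = 2)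
    (hfpf : ∀ x ∈ M, t * x = x * t → x = 1) : ∀ x ∈ M, t * x * t⁻¹ = x⁻¹ := by
  have htt : t * t = 1 := mul_self_of_orderOf_two ht
  have hti : t⁻¹ = t := inv_eq_self_of_orderOf_two ht
  let φ : M → M := fun x => ⟨x.1⁻¹ * (t * x.1 * t⁻¹),
    M.mul_mem (M.inv_mem x.2) (hM.conj_mem x.1 x.2 t)⟩
  have hinj : Function.Injective φ := by
    intro x y hxy
    have h1 : x.1⁻¹ * (t * x.1 * t⁻¹) = y.1⁻¹ * (t * y.1 * t⁻¹) := congrArg Subtype.val hxy
    have h2 : t * (y.1 * x.1⁻¹) = (y.1 * x.1⁻¹) * t := by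
      calc t * (y.1 * x.1⁻¹) = y.1 * (y.1⁻¹ * (t * y.1 * t⁻¹)) * t * x.1⁻¹ := by group
        _ = y.1 * (x.1⁻¹ * (t * x.1 * t⁻¹)) * t * x.1⁻¹ := by rw [h1]
        _ = (y.1 * x.1⁻¹) * t := by group
    have h3 := hfpf _ (M.mul_mem y.2 (M.inv_mem x.2)) h2
    apply Subtype.ext
    rw [mul_inv_eq_one] at h3
    exact h3.symm
  have hsurj : Function.Surjective φ := Finite.injective_iff_surjective.1 hinj
  intro r hr
  obtain ⟨x, hx⟩ := hsurj ⟨r, hr⟩
  have hr' : r = x.1⁻¹ * (t * x.1 * t⁻¹) := (congrArg Subtype.val hx).symm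
  rw [hr', hti]
  calc t * (x.1⁻¹ * (t * x.1 * t)) * t = t * x.1⁻¹ * t * x.1 * (t * t) := by group
    _ = t * x.1⁻¹ * t * x.1 := by rw [htt, mul_one]
    _ = (x.1⁻¹ * (t * x.1 * t))⁻¹ := by
      rw [mul_inv_rev, mul_inv_rev, mul_inv_rev, inv_inv, hti]
      group

omit I in
theorem conj_mem_cc {h c : G} (hh : h ∈ HH) (hc : c ∈ CC) : h * c * h⁻¹ ∈ CC := by
  rw [mem_centralizer_iff] at hc ⊢
  intro s hs
  have hs' : h⁻¹ * s * h ∈ (S : Subgroup G) := by
    have := (mem_normalizer_iff''.1 hh s).1 hs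
    exact this
  have h1 := hc _ hs'
  calc s * (h * c * h⁻¹) = h * ((h⁻¹ * s * h) * c) * h⁻¹ := by group
    _ = h * (c * (h⁻¹ * s * h)) * h⁻¹ := by rw [h1]
    _ = h * c * h⁻¹ * s := by group

/-- an involution outside `H` exists when `S` is not normal -/
theorem exists_invol_not_mem (hnn : ¬ (S : Subgroup G).Normal) :
    ∃ u : G, orderOf u = 2 ∧ u ∉ HH := by
  have : ∃ g : G, g ∉ HH := by
    by_contra h
    simp only [not_exists, not_not] at h
    apply hnn
    rw [← Subgroup.normalizer_eq_top_iff]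
    exact (Subgroup.eq_top_iff' _).2 h
  obtain ⟨g, hg⟩ := this
  obtain ⟨u, hu, huH, -⟩ := I.exists_invol g hg
  exact ⟨u, hu, huH⟩

/-- an involution of `H` (it lies in `S ≤ C`) -/
theorem exists_invol_mem [Finite G] : ∃ t : G, orderOf t = 2 ∧ t ∈ (S : Subgroup G) := by
  have h3 := I.three_le
  have hne : Nonempty (InvIn HH) := by
    by_contra hcon
    rw [not_nonempty_iff] at hcon
    rw [Nat.card_of_isEmpty] at h3
    omega
  obtain ⟨⟨t, ht, htH⟩⟩ := hne
  exact ⟨t, ht, I.invol_mem t ht htH⟩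

/-- two distinct involutions of `S` -/
theorem exists_two_invol [Finite G] :
    ∃ s t : G, orderOf s = 2 ∧ s ∈ (S : Subgroup G) ∧ orderOf t = 2 ∧ t ∈ (S : Subgroup G) ∧
      s ≠ t := by
  have h3 := I.three_le
  have : Finite (InvIn HH) := Subtype.finite
  have h1 : 1 < Nat.card (InvIn HH) := by omega
  obtain ⟨a, b, hab⟩ := (Finite.one_lt_card_iff_nontrivial.1 h1).exists_pair_ne
  refine ⟨a.1, b.1, a.2.1, I.invol_mem _ a.2.1 a.2.2, b.2.1, I.invol_mem _ b.2.1 b.2.2, ?_⟩
  intro h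
  exact hab (Subtype.ext h)

theorem zpre [Finite G] (hnn : ¬ (S : Subgroup G).Normal) : ZPre G (G ⧸ HH) := by
  obtain ⟨u, hu, huH⟩ := exists_invol_not_mem I hnn
  obtain ⟨t, ht, htS⟩ := exists_invol_mem I
  have htC : t ∈ CC := I.sylow_le htS
  have ht1 : t ≠ 1 := ne_one_of_orderOf_two ht
  have hy₁ : (QuotientGroup.mk u : G ⧸ HH) ≠ QuotientGroup.mk 1 :=
    fun h => huH ((mk_eq_one_iff S).1 h)
  have hy₂ : t • (QuotientGroup.mk u : G ⧸ HH) ≠ QuotientGroup.mk 1 :=
    smul_ne_base S (cc_le_hh S htC) hy₁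
  have hy₁₂ : t • (QuotientGroup.mk u : G ⧸ HH) ≠ QuotientGroup.mk u :=
    fun h => ht1 (cc_semiregular I htC hy₁ h)
  refine ⟨?_, ?_, ?_, ?_⟩
  · intro g hg
    exact fix_three I hy₁.symm hy₂.symm hy₁₂.symm (hg _) (hg _) (hg _)
  · intro a b c d hab hcd
    obtain ⟨g₁, hg₁⟩ := MulAction.exists_smul_eq G a (QuotientGroup.mk 1 : G ⧸ HH)
    obtain ⟨g₂, hg₂⟩ := MulAction.exists_smul_eq G c (QuotientGroup.mk 1 : G ⧸ HH)
    have hb : g₁ • b ≠ QuotientGroup.mk 1 := by
      intro h
      apply hab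
      rw [← hg₁] at h
      exact (smul_left_cancel g₁ h).symm
    have hd : g₂ • d ≠ QuotientGroup.mk 1 := by
      intro h
      apply hcd
      rw [← hg₂] at h
      exact (smul_left_cancel g₂ h).symm
    obtain ⟨k, hk, -⟩ := cc_regular I _ _ hb hd
    refine ⟨g₂⁻¹ * k.1 * g₁, ?_, ?_⟩
    · rw [mul_smul, mul_smul, hg₁, mem_hh_smul_base S (cc_le_hh S k.2), ← hg₂, inv_smul_smul]
    · rw [mul_smul, mul_smul, hk, inv_smul_smul]
  · intro g a b c hab hbc hac ha hb hc
    exact fix_three I hab hac hbc ha hb hc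
  · have hcard := I.card_D u hu huH
    have h3 := I.three_le
    have hne : (HH ⊓ lc u HH : Subgroup G) ≠ ⊥ := by
      rw [← Subgroup.one_lt_card_iff_ne_bot]
      omega
    obtain ⟨d, hd, hd1⟩ := (Subgroup.ne_bot_iff_exists_ne_one).1 hne |>.imp
      (fun d hd => hd) |> fun ⟨d, hd1⟩ => (⟨d.1, d.2, fun h => hd1 (Subtype.ext h)⟩ :
        ∃ d : G, d ∈ (HH ⊓ lc u HH : Subgroup G) ∧ d ≠ 1)
    refine ⟨d, hd1, QuotientGroup.mk 1, QuotientGroup.mk u, hy₁.symm, ?_, ?_⟩
    · exact mem_hh_smul_base S (Subgroup.mem_inf.1 hd).1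
    · have : d ∈ MulAction.stabilizer G (QuotientGroup.mk u : G ⧸ HH) := by
        rw [stab_mk]; exact (Subgroup.mem_inf.1 hd).2
      exact this

theorem zreg [Finite G] (hnn : ¬ (S : Subgroup G).Normal) : ZReg G (G ⧸ HH) := by
  intro M hM htr
  by_contra hcon
  push Not at hcon
  -- `M` is semiregular
  have hsr : ∀ a : G ⧸ HH, ∀ m ∈ M, m • a = a → m = 1 := by
    intro a m hm hma
    by_contra hm1
    exact hcon a m hm hm1 hma
  obtain ⟨s, t, hs, hsS, ht, htS, hst⟩ := exists_two_invol I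
  -- involutions of `S` act without fixed points on `M`
  have hfpf : ∀ r : G, orderOf r = 2 → r ∈ (S : Subgroup G) →
      ∀ x ∈ M, r * x = x * r → x = 1 := by
    intro r hr hrS x hx hrx
    apply hsr (QuotientGroup.mk 1) x hx
    apply mem_hh_smul_base S
    apply cc_le_hh S
    rw [← I.cent_invol r hr hrS, mem_centralizer_singleton_iff]
    exact hrx.symm
  have hinv_s := inverts_of_fpf hM hs (hfpf s hs hsS)
  have hinv_t := inverts_of_fpf hM ht (hfpf t ht htS)
  -- `s * t` is an involution of `S`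
  have hcomm : s * t = t * s := I.cent_comm s (I.sylow_le hsS) t (I.sylow_le htS)
  have hss : s * s = 1 := mul_self_of_orderOf_two hs
  have htt : t * t = 1 := mul_self_of_orderOf_two ht
  have hsi : s⁻¹ = s := inv_eq_self_of_orderOf_two hs
  have hti : t⁻¹ = t := inv_eq_self_of_orderOf_two ht
  have hst1 : s * t ≠ 1 := by
    intro h
    apply hst
    calc s = s * (t * t) := by rw [htt, mul_one]
      _ = (s * t) * t := by group
      _ = t := by rw [h, one_mul]
  have hst2 : (s * t) ^ 2 = 1 := by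
    rw [pow_two]
    calc s * t * (s * t) = s * (t * s) * t := by group
      _ = s * (s * t) * t := by rw [hcomm]
      _ = (s * s) * (t * t) := by group
      _ = 1 := by rw [hss, htt, one_mul]
  have hord : orderOf (s * t) = 2 := orderOf_eq_prime hst2 hst1
  have hstS : s * t ∈ (S : Subgroup G) := Subgroup.mul_mem _ hsS htS
  -- `M ≤ C_G(s t) = C ≤ H`
  have hMle : ∀ x ∈ M, x = 1 := by
    intro x hx
    apply hsr (QuotientGroup.mk 1) x hx
    apply mem_hh_smul_base S
    apply cc_le_hh S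
    rw [← I.cent_invol (s * t) hord hstS, mem_centralizer_singleton_iff]
    have h1 := hinv_t x hx
    have h2 := hinv_s x⁻¹ (M.inv_mem hx)
    rw [inv_inv] at h2
    rw [hti] at h1
    rw [hsi] at h2
    -- `s t x t s = x`
    have h3 : s * t * x = x * (s * t) := by
      calc s * t * x = s * (t * x * t) * t := by
            rw [show s * (t * x * t) * t = s * t * x * (t * t) by group, htt, mul_one]
        _ = s * x⁻¹ * t := by rw [h1]
        _ = (s * x⁻¹ * s) * s * t := by
            rw [show (s * x⁻¹ * s) * s * t = s * x⁻¹ * (s * s) * t by group, hss, mul_one]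
        _ = x * (s * t) := by rw [h2]; group
    exact h3.symm
  -- but `M` is transitive
  obtain ⟨u, -, huH⟩ := exists_invol_not_mem I hnn
  obtain ⟨m, hm, hmx⟩ := htr (QuotientGroup.mk 1) (QuotientGroup.mk u)
  rw [hMle m hm, one_smul] at hmx
  exact huH ((mk_eq_one_iff S).1 hmx.symm)


/-! ### Feit's bound and the conclusion -/

/-- Feit's bound in our situation: `|C| - 1 ≤ 2 m` -/
theorem card_cc_le [Finite G] (hnn : ¬ (S : Subgroup G).Normal) :
    Nat.card CC ≤ 2 * Nat.card (InvIn HH) + 1 := by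
  classical
  obtain ⟨u, hu, huH⟩ := exists_invol_not_mem I hnn
  have hZ : Cfsg.IsZassenhausGroup G (G ⧸ HH) :=
    isZassenhausGroup_of_zpre (zpre I hnn) (zreg I hnn)
  let _ : Fintype (G ⧸ HH) := Fintype.ofFinite _
  have hxb : (QuotientGroup.mk 1 : G ⧸ HH) ≠ QuotientGroup.mk u :=
    fun h => huH ((mk_eq_one_iff S).1 h.symm)
  have hFle : CC ≤ MulAction.stabilizer G (QuotientGroup.mk 1 : G ⧸ HH) := by
    rw [stab_base]; exact cc_le_hh S
  have hFn : (Subgroup.subgroupOf CC
      (MulAction.stabilizer G (QuotientGroup.mk 1 : G ⧸ HH))).Normal := by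
    refine ⟨fun n hn g => ?_⟩
    rw [mem_subgroupOf] at hn ⊢
    have hg : (g : G) ∈ HH := by
      have h0 : ∀ z : G, z ∈ MulAction.stabilizer G (QuotientGroup.mk 1 : G ⧸ HH) → z ∈ HH := by
        intro z hz
        rw [stab_base] at hz
        exact hz
      exact h0 _ g.2
    simp only [Subgroup.coe_mul, Subgroup.coe_inv]
    exact conj_mem_cc hg hn
  have hreg : ∀ y z : G ⧸ HH, y ≠ QuotientGroup.mk 1 → z ≠ QuotientGroup.mk 1 →
      ∃! c : CC, (c : G) • y = z := fun y z hy hz => cc_regular I y z hy hz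
  have hodd : Odd (Nat.card ↥(MulAction.stabilizer G (QuotientGroup.mk 1 : G ⧸ HH) ⊓
      MulAction.stabilizer G (QuotientGroup.mk u : G ⧸ HH) : Subgroup G)) := by
    rw [stab_base, stab_mk]
    exact I.odd_inf u huH
  have hF := Cfsg.Agent.Lib.Helper17.FeitZass.feit_abelian hZ hxb CC hFle hFn I.cent_comm hreg hodd
  rw [stab_base, stab_mk, I.card_D u hu huH, ← Nat.card_eq_fintype_card,
    card_quotient I huH] at hF
  omega

/-- the elements of `C` of square one -/
def sqOne (S : Sylow 2 G) (I : B3Input S) : Subgroup G where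
  carrier := {c | c ∈ centralizer ((S : Subgroup G) : Set G) ∧ c ^ 2 = 1}
  one_mem' := ⟨Subgroup.one_mem _, one_pow 2⟩
  mul_mem' := by
    rintro x y ⟨hx, hx2⟩ ⟨hy, hy2⟩
    refine ⟨Subgroup.mul_mem _ hx hy, ?_⟩
    have hc := I.cent_comm x hx y hy
    rw [pow_two] at hx2 hy2 ⊢
    calc x * y * (x * y) = x * (y * x) * y := by group
      _ = x * (x * y) * y := by rw [hc]
      _ = (x * x) * (y * y) := by group
      _ = 1 := by rw [hx2, hy2, one_mul]
  inv_mem' := by
    rintro x ⟨hx, hx2⟩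
    refine ⟨Subgroup.inv_mem _ hx, ?_⟩
    rw [inv_pow, hx2, inv_one]

theorem sqOne_le : sqOne S I ≤ CC := fun _ hx => hx.1

theorem card_sqOne_ge [Finite G] : Nat.card (InvIn HH) + 1 ≤ Nat.card (sqOne S I) := by
  have : Finite (InvIn HH) := Subtype.finite
  rw [← Finite.card_option]
  let f : Option (InvIn HH) → sqOne S I := fun o =>
    match o with
    | none => ⟨1, Subgroup.one_mem _⟩
    | some t => ⟨t.1, I.sylow_le (I.invol_mem t.1 t.2.1 t.2.2), by
        rw [pow_two]; exact mul_self_of_orderOf_two t.2.1⟩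
  apply Nat.card_le_card_of_injective f
  intro a b hab
  match a, b with
  | none, none => rfl
  | none, some t =>
    have h1 : (1 : G) = t.1 := congrArg (fun z : sqOne S I => (z : G)) hab
    exact absurd h1.symm (ne_one_of_orderOf_two t.2.1)
  | some t, none =>
    have h1 : t.1 = (1 : G) := congrArg (fun z : sqOne S I => (z : G)) hab
    exact absurd h1 (ne_one_of_orderOf_two t.2.1)
  | some t, some t' =>
    have h1 : t.1 = t'.1 := congrArg (fun z : sqOne S I => (z : G)) hab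
    rw [Subtype.ext h1]

/-- **K-B3, core form**: every element of `C_G(S)` has square one -/
theorem sq_eq_one_of_input [Finite G] (hnn : ¬ (S : Subgroup G).Normal) :
    ∀ c ∈ CC, c ^ 2 = 1 := by
  have h1 := card_cc_le I hnn
  have h2 := card_sqOne_ge I
  have hdvd : Nat.card (sqOne S I) ∣ Nat.card CC := Subgroup.card_dvd_of_le (sqOne_le I)
  have hpos : 0 < Nat.card CC := Nat.card_pos
  obtain ⟨k, hk⟩ := hdvd
  have hk1 : k = 1 := by
    rcases Nat.lt_or_ge k 2 with h | h
    · rcases Nat.eq_zero_or_pos k with h0 | h0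
      · rw [h0, mul_zero] at hk; omega
      · omega
    · exfalso
      have : Nat.card (sqOne S I) * 2 ≤ Nat.card (sqOne S I) * k := Nat.mul_le_mul_left _ h
      omega
  rw [hk1, mul_one] at hk
  have heq : sqOne S I = CC := Subgroup.eq_of_le_of_card_ge (sqOne_le I) (le_of_eq hk)
  intro c hc
  rw [← heq] at hc
  exact hc.2

end core

end Cfsg.Agent.Lib.Helper09.AIC
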