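import Mathlib
import Cfsg.Prelude.Def_Involutions
import Cfsg.Prelude.Def_LieExceptional
import Cfsg.Agent.Lib.Helper60.AICDefs
import Cfsg.Agent.Lib.Helper60.AICBasic
import Cfsg.Agent.Lib.Helper45.AICB1
import Cfsg.Agent.Lib.Helper12.AICB2
import Cfsg.Agent.Lib.Helper09.AICB3Core

/-!
# S2202, keystone K-B3: in the local case `C_G(S)` has exponent two

`sq_eq_one_of_loc` has the exact signature of `notes/S2202_Spec.lean.txt`.  The argument is in
`AICB3Core.lean` (`sq_eq_one_of_input`); here the input is assembled from Part A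
(`Helper60.AICBasic`), K-B1 (`Helper45.AICB1`) and K-B2 (`Helper12.AICB2`).
-/

set_option autoImplicit false

namespace Cfsg.Agent.Lib.Helper09.AIC

open Subgroup Cfsg Cfsg.Agent.Lib.Helper60.AIC Cfsg.Agent.Lib.Helper41 Cfsg.Agent.Lib.Helper28

universe u

variable {G : Type u} [Group G] [Finite G]

/-- the input of K-B3 from Part A, K-B1 and K-B2 -/
theorem b3Input_of_loc (hG : Hyp G) (hloc : Loc G) (S : Sylow 2 G)
    (hnc : ¬ IsCyclic (S : Subgroup G)) (hnn : ¬ (S : Subgroup G).Normal) : B3Input S := by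
  have hS : (S : Subgroup G) ≠ ⊥ := Cfsg.Agent.Lib.Helper45.AIC.sylow_ne_bot_of_not_cyclic S hnc
  have hse := isStronglyEmbedded hG S hS hnn
  refine ⟨centralizer_comm hG S hS, sylow_le_centralizer hG S hS,
    fun t ht htS => centralizer_eq hG S ht htS,
    fun t ht htH => invol_mem S ht htH,
    fun g hg => hse.2.2 g hg,
    three_le_card_invIn hG S hnc,
    card_normalizer hG S hS hnn,
    fun g hg => exists_invol_coset hG S hS hnn hg,
    fun g hg c hc hcg =>
      Cfsg.Agent.Lib.Helper45.AIC.centralizer_inf_conj hG hloc S hnc hnn hg hc hcg,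
    fun u hu huH => (Cfsg.Agent.Lib.Helper45.AIC.twoPoint_facts hG hloc S hnc hnn hu huH).1,
    fun u hu huH d hd hd1 =>
      (Cfsg.Agent.Lib.Helper12.AIC.centralizer_twoPoint hG hloc S hnc hnn hu huH hd hd1).2⟩

/-- K-B3: in the local case every involution centralizer is an elementary abelian 2-group
(`G` is a Zassenhaus group on `G ⧸ H` with regular abelian kernel `C`; Feit's bound). -/
theorem sq_eq_one_of_loc (hG : Hyp G) (hloc : Loc G) (S : Sylow 2 G)
    (hnc : ¬ IsCyclic (S : Subgroup G)) (hnn : ¬ (S : Subgroup G).Normal) :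
    ∀ c ∈ centralizer ((S : Subgroup G) : Set G), c ^ 2 = 1 :=
  sq_eq_one_of_input (b3Input_of_loc hG hloc S hnc hnn) hnn

end Cfsg.Agent.Lib.Helper09.AIC
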