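import Mathlib
import Cfsg.Prelude.Def_GeometricClasses
import Cfsg.Agent.Lib.Helper61.AschDefs
import Cfsg.Agent.Lib.Helper61.AschUDefs
import Cfsg.Agent.Lib.Helper18.AschE4
import Cfsg.Agent.Lib.Helper22.AschC4
import Cfsg.Agent.Lib.Helper63.AschB6
import Cfsg.Agent.Lib.Helper11.UnitaryMaxA
import Cfsg.Agent.Lib.Helper46.SU2
import Cfsg.Agent.Lib.Helper19.Unitary
import Cfsg.Agent.Lib.Helper61.SubfieldSUB

/-!
# K-S5663-E4: a tensor power of two-dimensional unitary spaces lies in the subfield class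

`K ≤ Δ` inside `GL_2 wr S_t` (tensor-wreath subgroup with `m = 2`), the unitary form being a
multiple of the tensor power of a unitary form `g₁` on `F²`.  In a hyperbolic basis of `(F², g₁)`
the Gram matrix is `τ J` with `J` the alternating matrix; `K` multiplies both the sesquilinear
form `α J^{⊗t}` and the bilinear form `J^{⊗t}` (Helper18), hence every element of `K` is, in the
new tensor basis, a scalar times a matrix over the fixed field of `x ↦ x ^ q`.
-/

set_option autoImplicit false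
set_option linter.unusedSectionVars false
set_option linter.unusedVariables false

namespace Cfsg.Agent.Lib.Helper09.AschU

open Cfsg Cfsg.Geo Cfsg.Agent.Lib.Helper61.Asch Cfsg.Agent.Lib.Helper61.AschU
open Cfsg.Agent.Lib.Helper46 Cfsg.Agent.Lib.Helper22.Asch Cfsg.Agent.Lib.Helper18.Asch
open Cfsg.Agent.Lib.Helper11.UnitaryMax
open scoped Matrix Kronecker MatrixGroups

/-! ## the field automorphism -/

section field

variable {F : Type*} [Field F] [Fintype F] {q : ℕ}

/-- the automorphism `x ↦ x ^ q` of a field with `q ^ 2` elements. -/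
noncomputable def sig (hF : Fintype.card F = q ^ 2) : F ≃+* F :=
  RingEquiv.ofRingHom (frobRing hF) (frobRing hF)
    (RingHom.ext fun x => frobRing_frobRing hF x) (RingHom.ext fun x => frobRing_frobRing hF x)

theorem sig_apply (hF : Fintype.card F = q ^ 2) (x : F) : sig hF x = x ^ q :=
  frobRing_apply hF x

theorem sig_sig (hF : Fintype.card F = q ^ 2) (x : F) : sig hF (sig hF x) = x :=
  frobRing_frobRing hF x

theorem mem_fixedField_iff (hF : Fintype.card F = q ^ 2) (x : F) :
    x ∈ fixedField hF ↔ sig hF x = x := Iff.rfl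

theorem sig_ne_refl (hF : Fintype.card F = q ^ 2) : sig hF ≠ RingEquiv.refl F := by
  intro h
  have hq := one_lt_of_card hF
  have htop : fixedField hF = ⊤ := by
    rw [eq_top_iff]
    intro x _
    rw [mem_fixedField_iff, h]
    rfl
  have h1 := card_fixedField hF
  rw [htop] at h1
  have h2 : Nat.card (⊤ : Subfield F) = Nat.card F :=
    Nat.card_congr (Subfield.topEquiv (K := F)).toEquiv
  rw [h2, Nat.card_eq_fintype_card, hF] at h1
  nlinarith

end field

/-! ## the unitary plane -/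

section two

variable {F : Type*} [Field F] [Fintype F]

local notation "V2" => (Fin 2 → F)

/-- entries of `Bᵀ G σ(B)` are the values of the form on the columns of `B`. -/
theorem gram_conj_apply (σ : F ≃+* F) (g : V2 → V2 → F) (hS : IsSesq σ g)
    (B : Matrix (Fin 2) (Fin 2) F) (i j : Fin 2) :
    (Bᵀ * gram g * B.map σ) i j = g (fun k => B k i) (fun k => B k j) := by
  have h := sesq_mulVec σ g hS B (Pi.single i 1) (Pi.single j 1)
  rw [comp_single, Matrix.mulVec_single_one, Matrix.mulVec_single_one, Matrix.mulVec_single_one,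
    single_one_dotProduct] at h
  exact h.symm

theorem exists_isotropic (σ : F ≃+* F) (hne : σ ≠ RingEquiv.refl F) (hinv : ∀ a, σ (σ a) = a)
    (g : V2 → V2 → F) (hU : IsUnitaryForm σ g) : ∃ v : V2, v ≠ 0 ∧ g v v = 0 := by
  have hS := isSesq_of_unitary σ g hU
  have hG : ∀ i j, gram g j i = σ (gram g i j) := fun i j => hU.herm _ _
  set a := gram g 0 0 with ha
  set b := gram g 0 1 with hb
  set c := gram g 1 0 with hc
  set d := gram g 1 1 with hd
  have hσa : σ a = a := (hG 0 0).symm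
  have hσd : σ d = d := (hG 1 1).symm
  have hσb : σ b = c := (hG 0 1).symm
  have hσc : σ c = b := (hG 1 0).symm
  have hval : ∀ x y : F, g ![x, y] ![x, y] =
      x * (a * σ x + b * σ y) + y * (c * σ x + d * σ y) := by
    intro x y
    rw [sesq_eq σ g hS]
    simp [dotProduct, Matrix.mulVec, Fin.sum_univ_two, ha, hb, hc, hd]
  by_cases ha0 : a = 0
  · refine ⟨![1, 0], ?_, ?_⟩
    · intro h
      have := congrFun h 0
      simp at this
    · rw [hval, ha0]
      simp
  · have hfix : σ (-(a * d - b * c)) = -(a * d - b * c) := by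
      rw [map_neg, map_sub, map_mul, map_mul, hσa, hσd, hσb, hσc]
      ring
    obtain ⟨z, hz⟩ := norm_surj σ hne hinv _ hfix
    refine ⟨![(z - c) / a, 1], ?_, ?_⟩
    · intro h
      have := congrFun h 1
      simp at this
    · rw [hval, map_div₀, map_sub, hσc, hσa, map_one]
      field_simp
      linear_combination hz

/-- a hyperbolic pair, with a skew value. -/
theorem exists_hyp_pair (σ : F ≃+* F) (hne : σ ≠ RingEquiv.refl F) (hinv : ∀ a, σ (σ a) = a)
    (g : V2 → V2 → F) (hU : IsUnitaryForm σ g) :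
    ∃ (b₁ b₂ : V2) (τ : F), τ ≠ 0 ∧ g b₁ b₁ = 0 ∧ g b₂ b₂ = 0 ∧ g b₁ b₂ = τ ∧ g b₂ b₁ = -τ := by
  have hS := isSesq_of_unitary σ g hU
  obtain ⟨b₁, hb₁0, hb₁⟩ := exists_isotropic σ hne hinv g hU
  obtain ⟨x, hx⟩ := (hU.nondegenerate b₁ hb₁0).2
  set γ := g b₁ x with hγ
  set β := g x x with hβ
  have hσβ : σ β = β := (hU.herm x x).symm
  have hxb : g x b₁ = σ γ := hU.herm x b₁
  obtain ⟨t, ht⟩ := tr_surj σ hne hinv (-β) (by rw [map_neg, hσβ])
  obtain ⟨s₀, hs₀0, hs₀⟩ := exists_skew σ hne hinv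
  set l := t / γ with hl
  set y := x + l • b₁ with hy
  have hyy : g y y = 0 := by
    rw [hy, hS.add_left, hS.add_right, hS.add_right, hS.smul_left, hS.smul_left, hS.smul_right,
      hS.smul_right, hb₁, hxb, ← hγ, ← hβ, hl, map_div₀]
    have hγ0 : σ γ ≠ 0 := by
      intro h
      apply hx
      have := congrArg σ h
      rwa [hinv, map_zero] at this
    rw [div_mul_cancel₀ _ hγ0, div_mul_cancel₀ _ hx, mul_zero, mul_zero, add_zero]
    linear_combination ht
  have hby : g b₁ y = γ := by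
    rw [hy, hS.add_right, hS.smul_right, hb₁, mul_zero, add_zero]
  set s := σ (s₀ / γ) with hs
  refine ⟨b₁, s • y, s₀, hs₀0, hb₁, ?_, ?_, ?_⟩
  · rw [hS.smul_left, hS.smul_right, hyy, mul_zero, mul_zero]
  · rw [hS.smul_right, hby, hs, hinv]
    field_simp
  · rw [hU.herm, hS.smul_right, hby, hs, hinv, div_mul_cancel₀ _ hx, hs₀]

/-- a basis of the unitary plane in which the Gram matrix is a multiple of `J2`. -/
theorem exists_hyp_basis (σ : F ≃+* F) (hne : σ ≠ RingEquiv.refl F) (hinv : ∀ a, σ (σ a) = a)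
    (g : V2 → V2 → F) (hU : IsUnitaryForm σ g) :
    ∃ (B : GL (Fin 2) F) (τ : F), τ ≠ 0 ∧
      (B : Matrix (Fin 2) (Fin 2) F)ᵀ * gram g * (B : Matrix (Fin 2) (Fin 2) F).map σ =
        τ • (J2 : Matrix (Fin 2) (Fin 2) F) := by
  have hS := isSesq_of_unitary σ g hU
  obtain ⟨b₁, b₂, τ, hτ, h11, h22, h12, h21⟩ := exists_hyp_pair σ hne hinv g hU
  set B : Matrix (Fin 2) (Fin 2) F := Matrix.of fun k j => (![b₁, b₂] j) k with hB
  have hcol0 : (fun k => B k 0) = b₁ := by funext k; simp [hB]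
  have hcol1 : (fun k => B k 1) = b₂ := by funext k; simp [hB]
  have hmat : Bᵀ * gram g * B.map σ = τ • (J2 : Matrix (Fin 2) (Fin 2) F) := by
    ext i j
    rw [gram_conj_apply σ g hS]
    fin_cases i <;> fin_cases j <;>
      simp [hcol0, hcol1, h11, h22, h12, h21, J2]
  have hdet : B.det ≠ 0 := by
    intro h0
    have h1 := congrArg Matrix.det hmat
    rw [Matrix.det_mul, Matrix.det_mul, Matrix.det_transpose, h0, zero_mul, zero_mul,
      Matrix.det_smul, Fintype.card_fin] at h1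
    have h2 : (J2 : Matrix (Fin 2) (Fin 2) F).det = 1 := by
      simp [J2, Matrix.det_fin_two]
    rw [h2, mul_one] at h1
    exact pow_ne_zero 2 hτ h1.symm
  exact ⟨Matrix.GeneralLinearGroup.mkOfDetNeZero B hdet, τ, hτ, hmat⟩

end two

/-! ## tensor powers of matrices -/

section tp

variable {F : Type*} [Field F]

/-- the `t`-fold tensor power of a square matrix. -/
def tp {m : ℕ} (t : ℕ) (A : Matrix (Fin m) (Fin m) F) :
    Matrix (Fin t → Fin m) (Fin t → Fin m) F :=
  fun a b => ∏ i, A (a i) (b i)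

theorem tp_mul {m : ℕ} (t : ℕ) (A B : Matrix (Fin m) (Fin m) F) :
    tp t (A * B) = tp t A * tp t B := by
  ext a b
  simp only [tp, Matrix.mul_apply]
  rw [Fintype.prod_sum (fun i (c : Fin m) => A (a i) c * B c (b i))]
  refine Finset.sum_congr rfl (fun c _ => ?_)
  rw [Finset.prod_mul_distrib]

theorem tp_transpose {m : ℕ} (t : ℕ) (A : Matrix (Fin m) (Fin m) F) :
    tp t Aᵀ = (tp t A)ᵀ := rfl

theorem tp_map {m : ℕ} (t : ℕ) (σ : F ≃+* F) (A : Matrix (Fin m) (Fin m) F) :
    tp t (A.map σ) = (tp t A).map σ := by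
  ext a b
  simp only [tp, Matrix.map_apply, map_prod]

theorem tp_smul {m : ℕ} (t : ℕ) (c : F) (A : Matrix (Fin m) (Fin m) F) :
    tp t (c • A) = c ^ t • tp t A := by
  ext a b
  simp only [tp, Matrix.smul_apply, smul_eq_mul, Finset.prod_mul_distrib, Finset.prod_const,
    Finset.card_univ, Fintype.card_fin]

theorem tp_one {m : ℕ} (t : ℕ) : tp t (1 : Matrix (Fin m) (Fin m) F) = 1 := by
  ext a b
  simp only [tp]
  by_cases hab : a = b
  · subst hab
    simp
  · rw [Matrix.one_apply_ne hab]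
    obtain ⟨i, hi⟩ : ∃ i, a i ≠ b i := by
      by_contra hcon
      push Not at hcon
      exact hab (funext hcon)
    exact Finset.prod_eq_zero (Finset.mem_univ i) (Matrix.one_apply_ne hi)

theorem Gt_eq_tp (t : ℕ) : Gt F t = tp t (J2 : Matrix (Fin 2) (Fin 2) F) := rfl

theorem isUnit_Gt (t : ℕ) : IsUnit (Gt F t) := by
  have h1 : (J2 : Matrix (Fin 2) (Fin 2) F) * (-J2) = 1 := by
    ext a b
    fin_cases a <;> fin_cases b <;> simp [J2, Matrix.mul_apply, Fin.sum_univ_two]
  have h2 : Gt F t * tp t (-(J2 : Matrix (Fin 2) (Fin 2) F)) = 1 := by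
    rw [Gt_eq_tp, ← tp_mul, h1, tp_one]
  exact (Matrix.isUnit_iff_isUnit_det _).2 (Matrix.isUnit_det_of_right_inverse h2)

/-- the pure tensor `B ⊗ … ⊗ B` as an invertible matrix. -/
def tpGL {m : ℕ} (t : ℕ) (B : GL (Fin m) F) : GL (Fin t → Fin m) F where
  val := tp t (B : Matrix (Fin m) (Fin m) F)
  inv := tp t ((B⁻¹ : GL (Fin m) F) : Matrix (Fin m) (Fin m) F)
  val_inv := by rw [← tp_mul, ← Units.val_mul, mul_inv_cancel, Units.val_one, tp_one]
  inv_val := by rw [← tp_mul, ← Units.val_mul, inv_mul_cancel, Units.val_one, tp_one]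

theorem tpGL_isPureTensor {m : ℕ} (t : ℕ) (B : GL (Fin m) F) : IsPureTensor m t (tpGL t B) :=
  ⟨fun _ => B, fun _ _ => rfl⟩

end tp

/-! ## sesquilinear pairings given by a matrix -/

section sform

variable {F : Type*} [Field F] {I : Type} [Fintype I] [DecidableEq I]

/-- the pairing `(x, y) ↦ xᵀ M σ(y)`. -/
def sform (σ : F ≃+* F) (M : Matrix I I F) (x y : I → F) : F := x ⬝ᵥ (M *ᵥ (σ ∘ y))

theorem sform_eq_sum (σ : F ≃+* F) (M : Matrix I I F) (x y : I → F) :
    sform σ M x y = ∑ a, ∑ b, x a * M a b * σ (y b) := by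
  simp only [sform, dotProduct, Matrix.mulVec, Function.comp_apply, Finset.mul_sum, mul_assoc]

theorem comp_mulVec' (σ : F ≃+* F) (w : Matrix I I F) (y : I → F) :
    (σ ∘ (w *ᵥ y)) = w.map σ *ᵥ (σ ∘ y) := by
  funext i
  exact RingHom.map_mulVec (σ : F →+* F) w y i

theorem sform_mulVec (σ : F ≃+* F) (M w : Matrix I I F) (x y : I → F) :
    sform σ M (w *ᵥ x) (w *ᵥ y) = sform σ (wᵀ * M * w.map σ) x y := by
  unfold sform
  rw [comp_mulVec', ← Matrix.vecMul_transpose, ← Matrix.dotProduct_mulVec, Matrix.mulVec_mulVec,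
    Matrix.mulVec_mulVec, Matrix.mul_assoc]

theorem sform_smul_matrix (σ : F ≃+* F) (c : F) (M : Matrix I I F) (x y : I → F) :
    sform σ (c • M) x y = c * sform σ M x y := by
  unfold sform
  rw [Matrix.smul_mulVec, dotProduct_smul, smul_eq_mul]

theorem comp_single' (σ : F ≃+* F) (b : I) :
    (σ ∘ (Pi.single b (1 : F) : I → F)) = Pi.single b 1 := by
  funext i
  simp only [Function.comp_apply, Pi.single_apply]
  split_ifs <;> simp

theorem sform_single (σ : F ≃+* F) (M : Matrix I I F) (a b : I) :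
    sform σ M (Pi.single a 1) (Pi.single b 1) = M a b := by
  unfold sform
  rw [comp_single', Matrix.mulVec_single_one, single_one_dotProduct]
  rfl

theorem bform_single (M : Matrix I I F) (a b : I) :
    bform M (Pi.single a 1) (Pi.single b 1) = M a b := by
  unfold bform
  rw [Matrix.mulVec_single_one, single_one_dotProduct]
  rfl

/-- on `σ`-fixed vectors the sesquilinear pairing is the bilinear one. -/
theorem sform_eq_bform (σ : F ≃+* F) (M : Matrix I I F) (x y : I → F) (hy : ∀ b, σ (y b) = y b) :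
    sform σ M x y = bform M x y := by
  unfold sform bform
  have : (σ ∘ y) = y := funext hy
  rw [this]

/-- a matrix multiplying both `xᵀ G y` and `xᵀ G σ(y)` is `σ`-semilinear up to a scalar. -/
theorem map_eq_smul_of_two_forms (σ : F ≃+* F) (G w : Matrix I I F) (hG : IsUnit G)
    (hw : IsUnit w) (c d : F) (hd : d ≠ 0) (h1 : wᵀ * G * w = d • G)
    (h2 : wᵀ * G * w.map σ = c • G) : w.map σ = (c / d) • w := by
  have hwT : IsUnit wᵀ := by
    rw [Matrix.isUnit_iff_isUnit_det, Matrix.det_transpose, ← Matrix.isUnit_iff_isUnit_det]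
    exact hw
  have hU : IsUnit (wᵀ * G) := hwT.mul hG
  have h3 : wᵀ * G * (d • w.map σ) = wᵀ * G * (c • w) := by
    rw [Matrix.mul_smul, Matrix.mul_smul, h1, h2, smul_smul, smul_smul, mul_comm]
  have h4 : d • w.map σ = c • w := hU.mul_right_injective h3
  have h5 : w.map σ = d⁻¹ • (d • w.map σ) := by
    rw [smul_smul, inv_mul_cancel₀ hd, one_smul]
  rw [h5, h4, smul_smul, div_eq_inv_mul]

/-- normalising a `σ`-semilinear-up-to-scalar matrix to a `σ`-fixed one. -/
theorem exists_smul_fixed (σ : F ≃+* F) (w : Matrix I I F) (hw : w ≠ 0) (l : F)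
    (h : w.map σ = l • w) : ∃ μ : F, μ ≠ 0 ∧ (μ • w).map σ = μ • w := by
  obtain ⟨a, b, hab⟩ : ∃ a b, w a b ≠ 0 := by
    by_contra hcon
    push Not at hcon
    apply hw
    ext a b
    exact hcon a b
  have hl : σ (w a b) = l * w a b := by
    have := congrFun (congrFun h a) b
    simpa using this
  have hσ0 : σ (w a b) ≠ 0 := by
    intro h0
    apply hab
    have := congrArg σ.symm h0
    simpa using this
  have hl0 : l ≠ 0 := by
    intro h0
    rw [h0, zero_mul] at hl
    exact hσ0 hl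
  refine ⟨(w a b)⁻¹, inv_ne_zero hab, ?_⟩
  ext i j
  have hij : σ (w i j) = l * w i j := by
    have := congrFun (congrFun h i) j
    simpa using this
  simp only [Matrix.map_apply, Matrix.smul_apply, smul_eq_mul, map_mul, map_inv₀, hl, hij]
  field_simp

end sform

/-! ## the change of basis -/

section basis

variable {F : Type*} [Field F] {n : ℕ}

theorem reindex_mulVec {m : ℕ} (t : ℕ) (e : Fin n ≃ (Fin t → Fin m)) (P : GL (Fin n) F)
    (w : GL (Fin t → Fin m) F) (x : (Fin t → Fin m) → F) :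
    ((P * glReindex e.symm w : GL (Fin n) F) : Matrix (Fin n) (Fin n) F) *ᵥ (x ∘ e) =
      (P : Matrix (Fin n) (Fin n) F) *ᵥ
        (((w : Matrix (Fin t → Fin m) (Fin t → Fin m) F) *ᵥ x) ∘ e) := by
  have hR : ((glReindex e.symm w : GL (Fin n) F) : Matrix (Fin n) (Fin n) F) =
      (w : Matrix (Fin t → Fin m) (Fin t → Fin m) F).submatrix e e := rfl
  rw [Units.val_mul, ← Matrix.mulVec_mulVec, hR, Matrix.submatrix_mulVec_equiv]
  have : ((x ∘ e) ∘ e.symm) = x := by
    funext a
    simp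
  rw [this]

theorem tensorWreathSubgroup_le_mul {m : ℕ} (t : ℕ) (e : Fin n ≃ (Fin t → Fin m))
    (P : GL (Fin n) F) (u : GL (Fin t → Fin m) F) (hu : u ∈ tensorWreathStandard m t F) :
    tensorWreathSubgroup m t e P ≤ tensorWreathSubgroup m t e (P * glReindex e.symm u) := by
  intro k hk
  rw [Cfsg.Agent.Lib.Helper63.Asch.mem_tensorWreathSubgroup] at hk ⊢
  obtain ⟨w, hw, rfl⟩ := hk
  refine ⟨u⁻¹ * w * u, Subgroup.mul_mem _ (Subgroup.mul_mem _ (Subgroup.inv_mem _ hu) hw) hu, ?_⟩
  rw [map_mul, map_mul, map_inv]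
  group

end basis

/-! ## the main argument -/

section main

variable {F : Type*} [Field F] [Fintype F] {n q : ℕ}

local notation "𝔥" => hermForm n F q
local notation "Δ" => similarityGroup (hermForm n F q)

theorem isUnitaryForm_of_pow (hF : Fintype.card F = q ^ 2) {k : ℕ}
    (g : (Fin k → F) → (Fin k → F) → F) (hg : IsUnitaryFormPow q g) :
    IsUnitaryForm (sig hF) g where
  ne_refl := sig_ne_refl hF
  involutive := sig_sig hF
  add_left := hg.add_left
  smul_left := hg.smul_left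
  herm := fun v w => by rw [sig_apply]; exact hg.herm v w
  nondegenerate := hg.nondegenerate

/-- after a change of basis by a pure tensor the Gram matrix is a multiple of `J2^{⊗t}`. -/
theorem exists_J_basis (hF : Fintype.card F = q ^ 2) (t : ℕ) (e : Fin n ≃ (Fin t → Fin 2))
    (P : GL (Fin n) F) (g₁ : (Fin 2 → F) → (Fin 2 → F) → F) (hg₁ : IsUnitaryFormPow q g₁)
    (hT : IsTensorPowerFormStructure (fun x : F => x ^ q) 𝔥 g₁ e P) :
    ∃ (u : GL (Fin t → Fin 2) F) (α : F), u ∈ tensorWreathStandard 2 t F ∧ α ≠ 0 ∧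
      ∀ x y : (Fin t → Fin 2) → F,
        𝔥 (((P * glReindex e.symm u : GL (Fin n) F) : Matrix (Fin n) (Fin n) F) *ᵥ (x ∘ e))
          (((P * glReindex e.symm u : GL (Fin n) F) : Matrix (Fin n) (Fin n) F) *ᵥ (y ∘ e)) =
          α * sform (sig hF) (Gt F t) x y := by
  obtain ⟨c, hc0, hc⟩ := hT
  have hU := isUnitaryForm_of_pow hF g₁ hg₁
  obtain ⟨B, τ, hτ, hB⟩ := exists_hyp_basis (sig hF) (sig_ne_refl hF) (sig_sig hF) g₁ hU
  refine ⟨tpGL t B, c * τ ^ t, Subgroup.subset_closure (Or.inl (tpGL_isPureTensor t B)),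
    mul_ne_zero hc0 (pow_ne_zero _ hτ), fun x y => ?_⟩
  rw [reindex_mulVec, reindex_mulVec, hc]
  have h1 : (∑ a, ∑ b, ((tpGL t B : GL (Fin t → Fin 2) F) :
        Matrix (Fin t → Fin 2) (Fin t → Fin 2) F).mulVec x a *
        (∏ i, gramMatrix g₁ (a i) (b i)) *
        (fun x : F => x ^ q) (((tpGL t B : GL (Fin t → Fin 2) F) :
        Matrix (Fin t → Fin 2) (Fin t → Fin 2) F).mulVec y b)) =
      sform (sig hF) (tp t (gram g₁)) (tp t (B : Matrix (Fin 2) (Fin 2) F) *ᵥ x)
        (tp t (B : Matrix (Fin 2) (Fin 2) F) *ᵥ y) := by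
    rw [sform_eq_sum]
    refine Finset.sum_congr rfl (fun a _ => Finset.sum_congr rfl (fun b _ => ?_))
    rw [sig_apply]
    rfl
  rw [h1, sform_mulVec, ← tp_transpose, ← tp_map, ← tp_mul, ← tp_mul, hB, tp_smul,
    sform_smul_matrix, ← Gt_eq_tp, mul_assoc]

/-- the core: a subgroup of the similarity group inside the tensor-wreath subgroup of a basis in
which the Gram matrix is `α J2^{⊗t}` lies in the subfield subgroup of the fixed field. -/
theorem le_subfieldSubgroup_of_J (hF : Fintype.card F = q ^ 2) (K : Subgroup (GL (Fin n) F))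
    (hKΔ : K ≤ Δ) (t : ℕ) (e : Fin n ≃ (Fin t → Fin 2)) (P' : GL (Fin n) F)
    (hK : K ≤ tensorWreathSubgroup 2 t e P') (α : F) (hα : α ≠ 0)
    (hH : ∀ x y : (Fin t → Fin 2) → F,
      𝔥 ((P' : Matrix (Fin n) (Fin n) F) *ᵥ (x ∘ e)) ((P' : Matrix (Fin n) (Fin n) F) *ᵥ (y ∘ e)) =
        α * sform (sig hF) (Gt F t) x y) :
    K ≤ subfieldSubgroup (fixedField hF) P' := by
  intro k hk
  obtain ⟨w, hw, rfl⟩ := (Cfsg.Agent.Lib.Helper63.Asch.mem_tensorWreathSubgroup e P' k).1 (hK hk)
  obtain ⟨cu, hcu⟩ := hKΔ hk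
  obtain ⟨du, hdu⟩ := standard_le t hw
  set W : Matrix (Fin t → Fin 2) (Fin t → Fin 2) F := w.1 with hW
  -- the action in the tensor basis
  have hact : ∀ x : (Fin t → Fin 2) → F,
      ((P' * glReindex e.symm w * P'⁻¹ : GL (Fin n) F) : Matrix (Fin n) (Fin n) F) *ᵥ
        ((P' : Matrix (Fin n) (Fin n) F) *ᵥ (x ∘ e)) =
        (P' : Matrix (Fin n) (Fin n) F) *ᵥ ((W *ᵥ x) ∘ e) := by
    intro x
    rw [Matrix.mulVec_mulVec, ← Units.val_mul, inv_mul_cancel_right, reindex_mulVec]
  have h1 : Wᵀ * Gt F t * W = (du : F) • Gt F t := by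
    ext a b
    have := hdu (Pi.single a 1) (Pi.single b 1)
    rw [bform_mulVec, bform_single, bform_single] at this
    rw [this, Matrix.smul_apply, smul_eq_mul]
  have h2 : Wᵀ * Gt F t * W.map (sig hF) = (cu : F) • Gt F t := by
    ext a b
    have := hcu ((P' : Matrix (Fin n) (Fin n) F) *ᵥ ((Pi.single a 1 : (Fin t → Fin 2) → F) ∘ e))
      ((P' : Matrix (Fin n) (Fin n) F) *ᵥ ((Pi.single b 1 : (Fin t → Fin 2) → F) ∘ e))
    rw [hact, hact, hH, hH, sform_mulVec, sform_single, sform_single] at this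
    have h3 : (Wᵀ * Gt F t * W.map (sig hF)) a b = (cu : F) * Gt F t a b := by
      apply mul_left_cancel₀ hα
      rw [this]
      ring
    rw [h3, Matrix.smul_apply, smul_eq_mul]
  have h3 := map_eq_smul_of_two_forms (sig hF) (Gt F t) W (isUnit_Gt t) w.isUnit (cu : F) (du : F)
    du.ne_zero h1 h2
  have hW0 : W ≠ 0 := w.isUnit.ne_zero
  obtain ⟨μ, hμ, hμW⟩ := exists_smul_fixed (sig hF) W hW0 _ h3
  apply Cfsg.Agent.Lib.Helper61.SubfieldSU.mem_subfield_of_rat _ μ hμ
  rintro _ ⟨u, hu, rfl⟩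
  refine ⟨((μ • W) *ᵥ (u ∘ e.symm)) ∘ e, fun i => ?_, ?_⟩
  · rw [mem_fixedField_iff]
    have h4 : (sig hF ∘ ((μ • W) *ᵥ (u ∘ e.symm))) = (μ • W) *ᵥ (u ∘ e.symm) := by
      rw [comp_mulVec', hμW]
      congr 1
      funext a
      exact (mem_fixedField_iff hF _).1 (hu (e.symm a))
    exact congrFun h4 (e i)
  · have hu' : u = (u ∘ e.symm) ∘ e := by
      funext i
      simp
    have h5 : ((μ • W) *ᵥ (u ∘ e.symm)) ∘ e = μ • ((W *ᵥ (u ∘ e.symm)) ∘ e) := by
      rw [Matrix.smul_mulVec]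
      rfl
    rw [h5, Matrix.mulVec_smul, ← hact, ← hu']

/-- entries of `J2^{⊗t}` lie in every subfield. -/
theorem Gt_mem (F₀ : Subfield F) (t : ℕ) (a b : Fin t → Fin 2) : Gt F t a b ∈ F₀ := by
  unfold Gt
  refine prod_mem (fun i _ => ?_)
  generalize a i = x
  generalize b i = y
  fin_cases x <;> fin_cases y <;> simp [J2]

theorem bform_mem (F₀ : Subfield F) {I : Type} [Fintype I] (M : Matrix I I F)
    (hM : ∀ a b, M a b ∈ F₀) (x y : I → F) (hx : ∀ a, x a ∈ F₀) (hy : ∀ a, y a ∈ F₀) :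
    bform M x y ∈ F₀ := by
  unfold bform
  simp only [dotProduct, Matrix.mulVec]
  exact sum_mem (fun a _ => mul_mem (hx a) (sum_mem fun b _ => mul_mem (hM a b) (hy b)))

/-- **K-S5663-E4** (`k = 2`: the subfield class). -/
theorem ugeom_of_tensorWreath_two (hF : Fintype.card F = q ^ 2) (K : Subgroup (GL (Fin n) F))
    (hKΔ : K ≤ Δ) (t : ℕ) (ht : 2 ≤ t) (e : Fin n ≃ (Fin t → Fin 2)) (P : GL (Fin n) F)
    (hK : K ≤ tensorWreathSubgroup 2 t e P) (g₁ : (Fin 2 → F) → (Fin 2 → F) → F)
    (hg₁ : IsUnitaryFormPow q g₁)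
    (hT : IsTensorPowerFormStructure (fun x : F => x ^ q) 𝔥 g₁ e P) : UGeom n q K := by
  obtain ⟨u, α, hu, hα, hH⟩ := exists_J_basis hF t e P g₁ hg₁ hT
  set P' : GL (Fin n) F := P * glReindex e.symm u with hP'
  have hK' : K ≤ tensorWreathSubgroup 2 t e P' :=
    hK.trans (tensorWreathSubgroup_le_mul t e P u hu)
  have hsub := le_subfieldSubgroup_of_J hF K hKΔ t e P' hK' α hα hH
  set F₀ : Subfield F := fixedField hF with hF₀
  have hcard : Fintype.card F = Nat.card F₀ ^ 2 := by rw [hF₀, card_fixedField, hF]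
  have hn : n = 2 ^ t := by
    have h1 := Fintype.card_congr e
    rw [Fintype.card_fin, Fintype.card_pi_const, Fintype.card_fin] at h1
    exact h1
  have heven : Even n := by
    rw [hn]
    exact (Nat.even_pow' (by omega)).2 even_two
  have hGtT : ∀ a b, Gt F t b a = (-1) ^ t * Gt F t a b := fun a b => by
    have := congrFun (congrFun (Gt_transpose (F := F) t) a) b
    rwa [Matrix.transpose_apply, Matrix.smul_apply, smul_eq_mul] at this
  -- Hermitian symmetry of the constant
  have hσα : sig hF α = (-1) ^ t * α := by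
    have h01 : Gt F t (fun _ => 0) (fun _ => 1) = 1 := by simp [Gt, J2]
    have h1 := hH (Pi.single (fun _ => 0) 1) (Pi.single (fun _ => 1) 1)
    have h2 := hH (Pi.single (fun _ => 1) 1) (Pi.single (fun _ => 0) 1)
    rw [sform_single] at h1 h2
    rw [hGtT, h01] at h2
    rw [h01] at h1
    have h3 := Cfsg.Agent.Lib.Helper19.hermForm_conj hF
      ((P' : Matrix (Fin n) (Fin n) F) *ᵥ ((Pi.single (fun _ => 0) 1 : (Fin t → Fin 2) → F) ∘ e))
      ((P' : Matrix (Fin n) (Fin n) F) *ᵥ ((Pi.single (fun _ => 1) 1 : (Fin t → Fin 2) → F) ∘ e))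
    rw [h1, h2, ← sig_apply hF] at h3
    rw [mul_one] at h3
    rw [h3]
    ring
  -- the form on rational vectors
  have hrat : ∀ x y : Fin n → F, (∀ i, x i ∈ F₀) → (∀ i, y i ∈ F₀) →
      𝔥 ((P' : Matrix (Fin n) (Fin n) F) *ᵥ x) ((P' : Matrix (Fin n) (Fin n) F) *ᵥ y) =
        α * bform (Gt F t) (x ∘ e.symm) (y ∘ e.symm) ∧
      bform (Gt F t) (x ∘ e.symm) (y ∘ e.symm) ∈ F₀ := by
    intro x y hx hy
    have hx' : x = (x ∘ e.symm) ∘ e := by
      funext i
      simp
    have hy' : y = (y ∘ e.symm) ∘ e := by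
      funext i
      simp
    constructor
    · conv_lhs => rw [hx', hy']
      rw [hH, sform_eq_bform (sig hF) (Gt F t) (x ∘ e.symm) (y ∘ e.symm)
        (fun b => (mem_fixedField_iff hF _).1 (hy (e.symm b)))]
    · exact bform_mem F₀ _ (Gt_mem F₀ t) _ _ (fun a => hx _) (fun a => hy _)
  refine ⟨subfieldSubgroup F₀ P' ⊓ GU n F q, ?_, inf_le_inf_right _ hsub⟩
  left
  by_cases hcase : Even t ∧ Odd q
  · right; right; right; right; right; left
    refine ⟨F₀, P', hcase.2, hcard, ?_, rfl⟩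
    intro x y hx hy
    obtain ⟨h1, h2⟩ := hrat x y hx hy
    rw [one_mul, h1]
    have hαF : α ∈ F₀ := by
      rw [hF₀, mem_fixedField_iff, hσα, hcase.1.neg_one_pow, one_mul]
    exact mul_mem hαF h2
  · have hneg : (-1 : F) ^ t = -1 := by
      rcases Nat.even_or_odd t with hte | hto
      · have hq : Even q := by
          rw [← Nat.not_odd_iff_even]
          exact fun h => hcase ⟨hte, h⟩
        have hc : ringChar F = 2 := by
          rw [FiniteField.even_card_iff_char_two, hF, ← Nat.even_iff]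
          exact (Nat.even_pow' (by norm_num)).2 hq
        have h2 : (2 : F) = 0 := by
          have := ringChar.Nat.cast_ringChar (R := F)
          rw [hc] at this
          exact_mod_cast this
        have h1 : (-1 : F) = 1 := by linear_combination -h2
        rw [h1, one_pow]
      · exact hto.neg_one_pow
    right; right; right; right; right; right; left
    refine ⟨F₀, P', α⁻¹, heven, hcard, inv_ne_zero hα, ?_, ?_, ?_, rfl⟩
    · rw [← sig_apply hF, map_inv₀, hσα, hneg]
      field_simp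
      ring
    · intro x y hx hy
      obtain ⟨h1, h2⟩ := hrat x y hx hy
      rw [h1, ← mul_assoc, inv_mul_cancel₀ hα, one_mul]
      exact h2
    · intro x hx
      obtain ⟨h1, -⟩ := hrat x x hx hx
      rw [h1, bform_self (Gt F t) (fun a b => by rw [hGtT a b, hneg]; ring) (Gt_diag t (by omega)),
        mul_zero]

end main

end Cfsg.Agent.Lib.Helper09.AschU
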