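import Mathlib

/-!
Central extensions from normalized 2-cocycles, and the transfer (corestriction) of a 2-cocycle
from a point stabilizer of a finite transitive action to the whole group.
-/

set_option autoImplicit false

namespace Cfsg.Agent.Lib.Helper09

open scoped commutatorElement

/-- normalized 2-cocycles with values in a commutative group with trivial action -/
structure IsNormCocycle {G A : Type*} [Group G] [CommGroup A] (c : G → G → A) : Prop where
  assoc : ∀ g h k, c g h * c (g * h) k = c h k * c g (h * k)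
  one_left : ∀ g, c 1 g = 1
  one_right : ∀ g, c g 1 = 1

theorem IsNormCocycle.inv_comm {G A : Type*} [Group G] [CommGroup A] {c : G → G → A}
    (hc : IsNormCocycle c) (g : G) : c g g⁻¹ = c g⁻¹ g := by
  have h := hc.assoc g g⁻¹ g
  rw [mul_inv_cancel, inv_mul_cancel, hc.one_left, hc.one_right, mul_one, mul_one] at h
  exact h

/-- the central extension attached to a normalized 2-cocycle -/
structure CExt {G A : Type*} [Group G] [CommGroup A] (c : G → G → A) (hc : IsNormCocycle c) where
  /-- the component in the quotient -/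
  fst : G
  /-- the component in the kernel -/
  snd : A

namespace CExt
variable {G A : Type*} [Group G] [CommGroup A] {c : G → G → A} {hc : IsNormCocycle c}

@[ext] theorem ext' {x y : CExt c hc} (h1 : x.fst = y.fst) (h2 : x.snd = y.snd) : x = y := by
  cases x; cases y; simp_all

instance : Mul (CExt c hc) := ⟨fun x y => ⟨x.fst * y.fst, x.snd * y.snd * c x.fst y.fst⟩⟩
instance : One (CExt c hc) := ⟨⟨1, 1⟩⟩
instance : Inv (CExt c hc) := ⟨fun x => ⟨x.fst⁻¹, x.snd⁻¹ * (c x.fst x.fst⁻¹)⁻¹⟩⟩

@[simp] theorem mul_fst (x y : CExt c hc) : (x * y).fst = x.fst * y.fst := rfl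
@[simp] theorem mul_snd (x y : CExt c hc) : (x * y).snd = x.snd * y.snd * c x.fst y.fst := rfl
@[simp] theorem one_fst : (1 : CExt c hc).fst = 1 := rfl
@[simp] theorem one_snd : (1 : CExt c hc).snd = 1 := rfl
@[simp] theorem inv_fst (x : CExt c hc) : x⁻¹.fst = x.fst⁻¹ := rfl
@[simp] theorem inv_snd (x : CExt c hc) : x⁻¹.snd = x.snd⁻¹ * (c x.fst x.fst⁻¹)⁻¹ := rfl

instance : Group (CExt c hc) :=
  Group.ofLeftAxioms
    (by
      intro x y z
      apply ext'
      · simp [mul_assoc]
      · simp only [mul_fst, mul_snd]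
        have h := hc.assoc x.fst y.fst z.fst
        calc x.snd * y.snd * c x.fst y.fst * z.snd * c (x.fst * y.fst) z.fst
            = x.snd * y.snd * z.snd * (c x.fst y.fst * c (x.fst * y.fst) z.fst) := by
              simp only [mul_assoc, mul_left_comm, mul_comm]
          _ = x.snd * y.snd * z.snd * (c y.fst z.fst * c x.fst (y.fst * z.fst)) := by rw [h]
          _ = _ := by simp only [mul_assoc, mul_left_comm, mul_comm])
    (by
      intro x
      apply ext'
      · simp
      · simp [hc.one_left])
    (by
      intro x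
      apply ext'
      · simp
      · simp only [mul_fst, mul_snd, inv_fst, inv_snd, one_snd]
        rw [hc.inv_comm]
        calc x.snd⁻¹ * (c x.fst⁻¹ x.fst)⁻¹ * x.snd * c x.fst⁻¹ x.fst
            = (x.snd⁻¹ * x.snd) * ((c x.fst⁻¹ x.fst)⁻¹ * c x.fst⁻¹ x.fst) := by
              simp only [mul_assoc, mul_left_comm, mul_comm]
          _ = 1 := by simp)

/-- the projection onto the quotient -/
def proj (c : G → G → A) (hc : IsNormCocycle c) : CExt c hc →* G where
  toFun := CExt.fst
  map_one' := rfl
  map_mul' _ _ := rfl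

theorem proj_surjective : Function.Surjective (proj c hc) := fun g => ⟨⟨g, 1⟩, rfl⟩

theorem mem_ker_proj (x : CExt c hc) : x ∈ (proj c hc).ker ↔ x.fst = 1 := MonoidHom.mem_ker

theorem ker_proj_le_center : (proj c hc).ker ≤ Subgroup.center (CExt c hc) := by
  intro x hx
  rw [mem_ker_proj] at hx
  rw [Subgroup.mem_center_iff]
  intro y
  apply ext'
  · simp [hx]
  · simp only [mul_snd, hx, hc.one_left, hc.one_right]
    simp only [mul_comm]

/-- the kernel of the projection is the coefficient group -/
def kerEquiv (c : G → G → A) (hc : IsNormCocycle c) : (proj c hc).ker ≃* A where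
  toFun x := x.1.snd
  invFun a := ⟨(⟨1, a⟩ : CExt c hc), (mem_ker_proj _).2 rfl⟩
  left_inv x := by
    apply Subtype.ext
    apply ext'
    · exact ((mem_ker_proj x.1).1 x.2).symm
    · rfl
  right_inv a := rfl
  map_mul' x y := by
    have hx := (mem_ker_proj x.1).1 x.2
    show (x.1 * y.1).snd = _
    rw [mul_snd, hx, hc.one_left, mul_one]

/-- the standard lift of an element of the quotient -/
def lift (c : G → G → A) (hc : IsNormCocycle c) (g : G) : CExt c hc := ⟨g, 1⟩

/-- the elements of the kernel -/
def kerElt (c : G → G → A) (hc : IsNormCocycle c) (a : A) : CExt c hc := ⟨1, a⟩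

theorem proj_lift (g : G) : proj c hc (lift c hc g) = g := rfl

theorem kerElt_mem_ker (a : A) : kerElt c hc a ∈ (proj c hc).ker := (mem_ker_proj _).2 rfl

theorem eq_kerElt_of_mem_ker {x : CExt c hc} (hx : x ∈ (proj c hc).ker) :
    x = kerElt c hc x.snd := by
  apply ext'
  · exact (mem_ker_proj x).1 hx
  · rfl

/-- the commutator of the standard lifts of two commuting elements -/
theorem commutator_lift {g h : G} (hgh : g * h = h * g) :
    ⁅lift c hc g, lift c hc h⁆ = kerElt c hc (c g h * (c h g)⁻¹) := by
  rw [commutatorElement_def]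
  have e : lift c hc g * lift c hc h =
      kerElt c hc (c g h * (c h g)⁻¹) * (lift c hc h * lift c hc g) := by
    apply ext'
    · simp [lift, kerElt, hgh]
    · simp [lift, kerElt, hc.one_left]
  rw [e]
  group

instance [Finite G] [Finite A] : Finite (CExt c hc) :=
  Finite.of_injective (fun x : CExt c hc => (x.fst, x.snd)) (by
    intro x y h
    simp only [Prod.mk.injEq] at h
    exact ext' h.1 h.2)

end CExt

section cor
variable {G A Ω : Type*} [Group G] [CommGroup A] [Fintype Ω] [MulAction G Ω]

/-- the stabilizer part of `g` at the point `p`, for a system `t` of coset representatives -/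
def bfun (t : Ω → G) (g : G) (p : Ω) : G := (t (g • p))⁻¹ * g * t p

omit [Fintype Ω] in
theorem bfun_mem {ω₀ : Ω} {t : Ω → G} (ht : ∀ p, t p • ω₀ = p) (g : G) (p : Ω) :
    bfun t g p ∈ MulAction.stabilizer G ω₀ := by
  rw [MulAction.mem_stabilizer_iff, bfun, mul_smul, mul_smul, ht, inv_smul_eq_iff, ht]

omit [Fintype Ω] in
theorem bfun_mul (t : Ω → G) (g h : G) (p : Ω) :
    bfun t (g * h) p = bfun t g (h • p) * bfun t h p := by
  simp only [bfun, mul_smul]
  group

omit [Fintype Ω] in
theorem bfun_one (t : Ω → G) (p : Ω) : bfun t 1 p = 1 := by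
  simp [bfun]

/-- the transfer of a 2-cocycle from a point stabilizer to the group -/
def cor (t : Ω → G) (α : G → G → A) (g h : G) : A :=
  ∏ p, α (bfun t g (h • p)) (bfun t h p)

theorem cor_isNormCocycle {ω₀ : Ω} {t : Ω → G} (ht : ∀ p, t p • ω₀ = p) (α : G → G → A)
    (hα : ∀ x y z, x ∈ MulAction.stabilizer G ω₀ → y ∈ MulAction.stabilizer G ω₀ →
      z ∈ MulAction.stabilizer G ω₀ → α x y * α (x * y) z = α y z * α x (y * z))
    (h1 : ∀ x, α 1 x = 1) (h1' : ∀ x, α x 1 = 1) : IsNormCocycle (cor t α) := by
  refine ⟨?_, ?_, ?_⟩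
  · intro g h k
    have e1 : cor t α g h = ∏ p, α (bfun t g (h • k • p)) (bfun t h (k • p)) := by
      rw [cor]
      exact (Equiv.prod_comp (MulAction.toPerm k)
        (fun p => α (bfun t g (h • p)) (bfun t h p))).symm
    rw [e1]
    simp only [cor]
    rw [← Finset.prod_mul_distrib, ← Finset.prod_mul_distrib]
    apply Finset.prod_congr rfl
    intro p _
    rw [bfun_mul t g h (k • p), bfun_mul t h k p, mul_smul]
    exact hα _ _ _ (bfun_mem ht _ _) (bfun_mem ht _ _) (bfun_mem ht _ _)
  · intro g
    simp only [cor, bfun_one, h1]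
    exact Finset.prod_const_one
  · intro g
    simp only [cor, bfun_one, h1']
    exact Finset.prod_const_one

end cor

end Cfsg.Agent.Lib.Helper09
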