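import Cfsg.Agent.Lib.Helper60.FHAdj

/-!
# Feit–Higman keystone K-S1142-D: `A_s * A_m = A_{s m}` when `len m < len (s m)`
-/

set_option autoImplicit false

open Cfsg Cfsg.Agent.Lib.Helper08 Cfsg.Agent.Lib.Helper60.FH Matrix

namespace Cfsg.Agent.Lib.Helper09.FH

section adj
variable {G : Type*} [Group G] (P : Cfsg.BNPair G)

/-- `BsB · BmB ⊆ B(sm)B` when `len m < len (s m)`. -/
theorem dc_mul_of_len_lt {s m : G} (hs : s ∈ P.S) (hm : m ∈ P.N) (hlen : len P m < len P (s * m))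
    {u v : G} (hu : DC P s u) (hv : DC P m v) : DC P (s * m) (u * v) := by
  obtain ⟨b1, hb1, b2, hb2, rfl⟩ := hu
  obtain ⟨b3, hb3, b4, hb4, rfl⟩ := hv
  have h := claimA P hs hm hlen (P.B.mul_mem hb2 hb3)
  have e : b1 * s * b2 * (b3 * m * b4) = b1 * (s * (b2 * b3) * m) * b4 := by group
  rw [e]
  exact DC_mul_right P hb4 (DC_mul_left P hb1 h)

/-- `(BsB)⁻¹ · BsB ⊆ B ∪ BsB`. -/
theorem dc_inv_mul_S {s : G} (hs : s ∈ P.S) {u v : G} (hu : DC P s u) (hv : DC P s v) :
    u⁻¹ * v ∈ P.B ∨ DC P s (u⁻¹ * v) := by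
  obtain ⟨b1, hb1, b2, hb2, rfl⟩ := hu
  obtain ⟨b3, hb3, b4, hb4, rfl⟩ := hv
  have h := axL_inv P hs (S_mem_N P hs) (P.B.mul_mem (P.B.inv_mem hb1) hb3)
  have e : (b1 * s * b2)⁻¹ * (b3 * s * b4) = b2⁻¹ * (s⁻¹ * (b1⁻¹ * b3) * s) * b4 := by group
  rw [e]
  rcases h with h | h
  · left
    have h' : s⁻¹ * (b1⁻¹ * b3) * s ∈ P.B := (DC_of_mem P (sq_mem_B P hs)).1 h
    exact P.B.mul_mem (P.B.mul_mem (P.B.inv_mem hb2) h') hb4
  · right
    exact DC_mul_right P hb4 (DC_mul_left P (P.B.inv_mem hb2) h)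

variable [Fintype (G ⧸ P.B)] [DecidableEq (G ⧸ P.B)]

/-- K-S1142-D. -/
theorem adj_mul {s m : G} (hs : s ∈ P.S) (hm : m ∈ P.N) (hlen : len P m < len P (s * m)) :
    adj P s * adj P m = adj P (s * m) := by
  classical
  ext X Z
  induction X using QuotientGroup.induction_on with
  | H x =>
  induction Z using QuotientGroup.induction_on with
  | H z =>
  rw [Matrix.mul_apply]
  by_cases h : DC P (s * m) (x⁻¹ * z)
  · rw [adj_apply_mk_of_dc P h]
    obtain ⟨b1, hb1, b2, hb2, hz⟩ := h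
    have hy1 : DC P s (x⁻¹ * (x * b1 * s)) := by
      have e : x⁻¹ * (x * b1 * s) = b1 * s * 1 := by group
      rw [e]
      exact ⟨b1, hb1, 1, P.B.one_mem, rfl⟩
    have hy2 : DC P m ((x * b1 * s)⁻¹ * z) := by
      have e : (x * b1 * s)⁻¹ * z = s⁻¹ * b1⁻¹ * (x⁻¹ * z) := by group
      rw [e, hz]
      have e2 : s⁻¹ * b1⁻¹ * (b1 * (s * m) * b2) = 1 * m * b2 := by group
      rw [e2]
      exact ⟨1, P.B.one_mem, b2, hb2, rfl⟩
    rw [Finset.sum_eq_single (QuotientGroup.mk (x * b1 * s) : G ⧸ P.B)]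
    · rw [adj_apply_mk_of_dc P hy1, adj_apply_mk_of_dc P hy2, mul_one]
    · intro Y _ hY
      induction Y using QuotientGroup.induction_on with
      | H y =>
      by_cases h1 : DC P s (x⁻¹ * y)
      · by_cases h2 : DC P m (y⁻¹ * z)
        · exfalso
          rcases dc_inv_mul_S P hs h1 hy1 with h3 | h3
          · apply hY
            apply QuotientGroup.eq.2
            have e : (x⁻¹ * y)⁻¹ * (x⁻¹ * (x * b1 * s)) = y⁻¹ * (x * b1 * s) := by group
            rw [e] at h3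
            exact h3
          · have h4 := dc_mul_of_len_lt P hs hm hlen h3 hy2
            have e : (x⁻¹ * y)⁻¹ * (x⁻¹ * (x * b1 * s)) * ((x * b1 * s)⁻¹ * z) = y⁻¹ * z := by
              group
            rw [e] at h4
            have h5 : DC P m (s * m) := DC_trans P h2 (DC_symm P h4)
            have h6 := len_congr P (bruhat_unique P hm (P.N.mul_mem (S_mem_N P hs) hm) h5)
            omega
        · rw [adj_apply_mk_of_not_dc P h2, mul_zero]
      · rw [adj_apply_mk_of_not_dc P h1, zero_mul]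
    · intro h
      exact absurd (Finset.mem_univ _) h
  · rw [adj_apply_mk_of_not_dc P h]
    apply Finset.sum_eq_zero
    intro Y _
    induction Y using QuotientGroup.induction_on with
    | H y =>
    by_cases h1 : DC P s (x⁻¹ * y)
    · by_cases h2 : DC P m (y⁻¹ * z)
      · exfalso
        apply h
        have h3 := dc_mul_of_len_lt P hs hm hlen h1 h2
        have e : x⁻¹ * y * (y⁻¹ * z) = x⁻¹ * z := by group
        rw [e] at h3
        exact h3
      · rw [adj_apply_mk_of_not_dc P h2, mul_zero]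
    · rw [adj_apply_mk_of_not_dc P h1, zero_mul]

end adj

end Cfsg.Agent.Lib.Helper09.FH
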