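import Mathlib

set_option autoImplicit false

namespace Cfsg.Agent.Lib.Helper09

open MulAction

section Generic

variable {G : Type*} [Group G] {Ω : Type*} [MulAction G Ω]

/-- the elements conjugating `g` into a point stabiliser are counted by the fixed points -/
theorem card_conj_mem_stab_le [Finite G] [Finite Ω] [IsPretransitive G Ω] (α : Ω) (g : G) :
    Nat.card {x : G // x⁻¹ * g * x ∈ stabilizer G α} ≤
      Nat.card (fixedBy Ω g) * Nat.card (stabilizer G α) := by
  classical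
  choose r hr using fun β : Ω => exists_smul_eq G α β
  rw [← Nat.card_prod]
  have h1 : ∀ x : {x : G // x⁻¹ * g * x ∈ stabilizer G α}, x.1 • α ∈ fixedBy Ω g := by
    intro x
    have := x.2
    rw [mem_stabilizer_iff, mul_smul, mul_smul, inv_smul_eq_iff] at this
    exact this
  have h2 : ∀ x : {x : G // x⁻¹ * g * x ∈ stabilizer G α},
      (r (x.1 • α))⁻¹ * x.1 ∈ stabilizer G α := by
    intro x
    rw [mem_stabilizer_iff, mul_smul, inv_smul_eq_iff, hr]
  refine Nat.card_le_card_of_injective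
    (fun x => ((⟨x.1 • α, h1 x⟩ : fixedBy Ω g), (⟨(r (x.1 • α))⁻¹ * x.1, h2 x⟩ : stabilizer G α))) ?_
  intro x y h
  simp only [Prod.mk.injEq, Subtype.mk.injEq] at h
  obtain ⟨e1, e2⟩ := h
  rw [e1] at e2
  exact Subtype.ext (mul_left_cancel e2)

/-- the centraliser of an element of a point stabiliser is not much bigger than its part in the
stabiliser -/
theorem card_centralizer_le_fix [Finite G] [Finite Ω] (α : Ω) (g : G)
    (hg : g ∈ stabilizer G α) :
    Nat.card (Subgroup.centralizer ({g} : Set G)) ≤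
      Nat.card (fixedBy Ω g) *
        Nat.card ↥(Subgroup.centralizer ({g} : Set G) ⊓ stabilizer G α) := by
  classical
  have hex : ∀ β : Ω, ∃ c : G, (∃ c' ∈ Subgroup.centralizer ({g} : Set G), c' • α = β) →
      (c ∈ Subgroup.centralizer ({g} : Set G) ∧ c • α = β) := by
    intro β
    by_cases h : ∃ c' ∈ Subgroup.centralizer ({g} : Set G), c' • α = β
    · obtain ⟨c', hc', hc'β⟩ := h
      exact ⟨c', fun _ => ⟨hc', hc'β⟩⟩
    · exact ⟨1, fun h' => absurd h' h⟩
  choose r hr using hex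
  rw [← Nat.card_prod]
  have h1 : ∀ c : Subgroup.centralizer ({g} : Set G), c.1 • α ∈ fixedBy Ω g := by
    intro c
    have hc := Subgroup.mem_centralizer_iff.1 c.2 g rfl
    rw [mem_fixedBy, ← mul_smul, hc, mul_smul, mem_stabilizer_iff.1 hg]
  have h2 : ∀ c : Subgroup.centralizer ({g} : Set G),
      (r (c.1 • α))⁻¹ * c.1 ∈ Subgroup.centralizer ({g} : Set G) ⊓ stabilizer G α := by
    intro c
    obtain ⟨hr1, hr2⟩ := hr (c.1 • α) ⟨c.1, c.2, rfl⟩
    rw [Subgroup.mem_inf]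
    refine ⟨mul_mem (inv_mem hr1) c.2, ?_⟩
    rw [mem_stabilizer_iff, mul_smul, inv_smul_eq_iff, hr2]
  refine Nat.card_le_card_of_injective
    (fun c => ((⟨c.1 • α, h1 c⟩ : fixedBy Ω g),
      (⟨(r (c.1 • α))⁻¹ * c.1, h2 c⟩ :
        ↥(Subgroup.centralizer ({g} : Set G) ⊓ stabilizer G α)))) ?_
  intro x y h
  simp only [Prod.mk.injEq, Subtype.mk.injEq] at h
  obtain ⟨e1, e2⟩ := h
  rw [e1] at e2
  exact Subtype.ext (mul_left_cancel e2)

end Generic

section Counting

variable {G : Type*} [Group G]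

/-- cosets of a subgroup of the centraliser through elements conjugating `g` to distinct elements of
`M` are disjoint -/
theorem card_mul_card_le_of_conj [Finite G] (M : Subgroup G) (g : G) (C : Subgroup G)
    (hC : ∀ c ∈ C, c * g = g * c) (X : Finset G) (hX : ∀ x ∈ X, x⁻¹ * g * x ∈ M)
    (hinj : ∀ x ∈ X, ∀ y ∈ X, x⁻¹ * g * x = y⁻¹ * g * y → x = y) :
    Nat.card C * X.card ≤ Nat.card {x : G // x⁻¹ * g * x ∈ M} := by
  have hconj : ∀ c ∈ C, ∀ x : G, (c * x)⁻¹ * g * (c * x) = x⁻¹ * g * x := by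
    intro c hc x
    have h1 : c⁻¹ * g * c = g := by
      rw [mul_assoc, ← hC c hc, ← mul_assoc, inv_mul_cancel, one_mul]
    calc (c * x)⁻¹ * g * (c * x) = x⁻¹ * (c⁻¹ * g * c) * x := by group
      _ = x⁻¹ * g * x := by rw [h1]
  rw [← Nat.card_eq_finsetCard X, ← Nat.card_prod]
  have h1 : ∀ p : C × X, (p.1.1 * p.2.1)⁻¹ * g * (p.1.1 * p.2.1) ∈ M := by
    intro p
    rw [hconj _ p.1.2]
    exact hX _ p.2.2
  refine Nat.card_le_card_of_injective
    (fun p : C × X => (⟨p.1.1 * p.2.1, h1 p⟩ : {x : G // x⁻¹ * g * x ∈ M})) ?_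
  intro p q h
  have e1 : p.1.1 * p.2.1 = q.1.1 * q.2.1 := congrArg Subtype.val h
  have e2 : p.2.1⁻¹ * g * p.2.1 = q.2.1⁻¹ * g * q.2.1 := by
    rw [← hconj _ p.1.2 p.2.1, ← hconj _ q.1.2 q.2.1, e1]
  have e3 : p.2.1 = q.2.1 := hinj _ p.2.2 _ q.2.2 e2
  rw [e3] at e1
  have e4 : p.1.1 = q.1.1 := mul_right_cancel e1
  exact Prod.ext (Subtype.ext e4) (Subtype.ext e3)

theorem card_normalizer_le_of_conj [Finite G] (M : Subgroup G) {g : G} (hg : g ∈ M) :
    Nat.card (Subgroup.normalizer (M : Set G)) ≤ Nat.card {x : G // x⁻¹ * g * x ∈ M} := by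
  have h1 : ∀ n : Subgroup.normalizer (M : Set G), n.1⁻¹ * g * n.1 ∈ M := by
    intro n
    have := (Subgroup.mem_normalizer_iff.1 (inv_mem n.2) g).1 hg
    simpa using this
  refine Nat.card_le_card_of_injective
    (fun n => (⟨n.1, h1 n⟩ : {x : G // x⁻¹ * g * x ∈ M})) ?_
  intro a b h
  have e1 : a.1 = b.1 := congrArg (fun t : {x : G // x⁻¹ * g * x ∈ M} => t.1) h
  exact Subtype.ext e1

end Counting

end Cfsg.Agent.Lib.Helper09
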