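import Mathlib
import Cfsg.Prelude.Def_Sporadic_a

set_option autoImplicit false

namespace Cfsg.Agent.Lib.Helper09

open Cfsg

/-- index of a point in `0..23` -/
def gidx : GolayPt → ℕ
  | none => 23
  | some x => x.val

/-- the point with a given index -/
def gpt (i : ℕ) : GolayPt := if i = 23 then none else some (i : ZMod 23)

theorem gidx_gpt : ∀ i < 24, gidx (gpt i) = i := by decide

theorem gidx_lt (p : GolayPt) : gidx p < 24 := by
  revert p; decide

/-- the word whose support is given by the bits of `n` -/
def wordOfMask (n : ℕ) : GolayPt → ZMod 2 := fun p => if n.testBit (gidx p) then 1 else 0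

theorem wordOfMask_zero : wordOfMask 0 = 0 := by
  funext p
  simp [wordOfMask]

theorem wordOfMask_xor (a b : ℕ) : wordOfMask (a ^^^ b) = wordOfMask a + wordOfMask b := by
  funext p
  simp only [wordOfMask, Nat.testBit_xor, Pi.add_apply]
  cases a.testBit (gidx p) <;> cases b.testBit (gidx p) <;> decide

theorem wordOfMask_injOn {a b : ℕ} (ha : a < 2 ^ 24) (hb : b < 2 ^ 24)
    (h : wordOfMask a = wordOfMask b) : a = b := by
  apply Nat.eq_of_testBit_eq
  intro i
  by_cases hi : i < 24
  · have := congrFun h (gpt i)
    simp only [wordOfMask, gidx_gpt i hi] at this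
    cases h1 : a.testBit i <;> cases h2 : b.testBit i <;> simp [h1, h2] at this ⊢
  · have hi' : 24 ≤ i := not_lt.1 hi
    have h24 : 2 ^ 24 ≤ 2 ^ i := Nat.pow_le_pow_right (by norm_num) hi'
    rw [Nat.testBit_lt_two_pow (lt_of_lt_of_le ha h24),
      Nat.testBit_lt_two_pow (lt_of_lt_of_le hb h24)]

/-- xor-combination of a list of masks, with coefficient bits from `c` -/
def combL : List ℕ → ℕ → ℕ
  | [], _ => 0
  | e :: es, c => (if c % 2 = 1 then e else 0) ^^^ combL es (c / 2)

theorem wordOfMask_combL_mem (M : Submodule (ZMod 2) (GolayPt → ZMod 2)) :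
    ∀ (L : List ℕ), (∀ g ∈ L, wordOfMask g ∈ M) → ∀ c, wordOfMask (combL L c) ∈ M
  | [], _, c => by
      simp only [combL, wordOfMask_zero]
      exact M.zero_mem
  | e :: es, h, c => by
      simp only [combL, wordOfMask_xor]
      refine M.add_mem ?_ (wordOfMask_combL_mem M es (fun g hg => h g (List.mem_cons_of_mem _ hg)) _)
      split_ifs
      · exact h e List.mem_cons_self
      · rw [wordOfMask_zero]; exact M.zero_mem

theorem mem_span_list :
    ∀ (L : List ℕ) (w : GolayPt → ZMod 2),
      w ∈ Submodule.span (ZMod 2) (wordOfMask '' {x | x ∈ L}) →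
      ∃ c < 2 ^ L.length, w = wordOfMask (combL L c)
  | [], w, hw => by
      simp only [List.not_mem_nil, Set.ofPred_false, Set.image_empty, Submodule.span_empty,
        Submodule.mem_bot] at hw
      exact ⟨0, by simp, by rw [hw]; simp [combL, wordOfMask_zero]⟩
  | e :: es, w, hw => by
      have hset : wordOfMask '' {x | x ∈ e :: es}
          = insert (wordOfMask e) (wordOfMask '' {x | x ∈ es}) := by
        ext v
        simp only [List.mem_cons, Set.mem_image, Set.mem_ofPred_eq, Set.mem_insert_iff]
        constructor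
        · rintro ⟨x, rfl | hx, rfl⟩
          · exact Or.inl rfl
          · exact Or.inr ⟨x, hx, rfl⟩
        · rintro (rfl | ⟨x, hx, rfl⟩)
          · exact ⟨e, Or.inl rfl, rfl⟩
          · exact ⟨x, Or.inr hx, rfl⟩
      rw [hset, Submodule.mem_span_insert] at hw
      obtain ⟨a, y, hy, rfl⟩ := hw
      obtain ⟨c', hc', rfl⟩ := mem_span_list es y hy
      have ha : a = 0 ∨ a = 1 := by
        revert a; decide
      rcases ha with rfl | rfl
      · refine ⟨2 * c', ?_, ?_⟩
        · rw [List.length_cons, pow_succ]; omega
        · simp only [combL, zero_smul, zero_add]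
          rw [Nat.mul_mod_right, if_neg (by norm_num), Nat.zero_xor,
            Nat.mul_div_cancel_left _ (by norm_num : 0 < 2)]
      · refine ⟨2 * c' + 1, ?_, ?_⟩
        · rw [List.length_cons, pow_succ]; omega
        · simp only [combL, one_smul]
          have h1 : (2 * c' + 1) % 2 = 1 := by omega
          have h2 : (2 * c' + 1) / 2 = c' := by omega
          rw [h1, if_pos rfl, h2, wordOfMask_xor]

/-- masks of the 23 quadratic-residue words and the all-ones word -/
def gensL : List ℕ := [340831, 681662, 1363324, 2726648, 5453296, 2517985, 5035970, 1683333,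
  3366666, 6733332, 5078057, 1767507, 3535014, 7070028, 5751449, 3114291, 6228582, 4068557,
  8137114, 7885621, 7382635, 6376663, 4364719, 16777215]

/-- echelon basis masks -/
def basisL : List ℕ := [5279, 10558, 18147, 36294, 69395, 133817, 262637, 525274, 1050548,
  2101096, 4196943, 8391797]

/-- coefficients expressing the echelon basis in the generators -/
def coefL : List ℕ := [345, 690, 1085, 665, 1131, 876, 1921, 1505, 289, 578, 1501, 8390294]

theorem qrWord_eq : ∀ t : ZMod 23, ∀ p : GolayPt,
    qrWord t p = wordOfMask (gensL.getD t.val 0) p := by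
  decide +kernel

theorem one_eq : ∀ p : GolayPt, (1 : GolayPt → ZMod 2) p = wordOfMask 16777215 p := by
  decide +kernel

theorem gens_mem : ∀ g ∈ gensL, wordOfMask g ∈ golayCode := by
  have hq : ∀ t : ZMod 23, wordOfMask (gensL.getD t.val 0) ∈ golayCode := by
    intro t
    have : wordOfMask (gensL.getD t.val 0) = qrWord t := by
      funext p; exact (qrWord_eq t p).symm
    rw [this]
    exact Submodule.subset_span (Or.inl ⟨t, rfl⟩)
  have h1 : wordOfMask 16777215 ∈ golayCode := by
    have : wordOfMask 16777215 = 1 := by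
      funext p; exact (one_eq p).symm
    rw [this]
    exact Submodule.subset_span (Or.inr rfl)
  have key : ∀ g ∈ gensL, g = 16777215 ∨ ∃ t : ZMod 23, g = gensL.getD t.val 0 := by
    decide +kernel
  intro g hg
  rcases key g hg with rfl | ⟨t, rfl⟩
  · exact h1
  · exact hq t

theorem basis_eq_comb : ∀ i < 12, basisL.getD i 0 = combL gensL (coefL.getD i 0) := by
  decide +kernel

theorem basis_mem : ∀ e ∈ basisL, wordOfMask e ∈ golayCode := by
  have key : ∀ e ∈ basisL, ∃ i < 12, e = basisL.getD i 0 := by decide +kernel
  intro e he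
  obtain ⟨i, hi, rfl⟩ := key e he
  rw [basis_eq_comb i hi]
  exact wordOfMask_combL_mem golayCode gensL gens_mem _

theorem gens_eq_comb : ∀ g ∈ gensL, combL basisL (g >>> 12) = g := by
  decide +kernel

theorem golayCode_eq_span : golayCode = Submodule.span (ZMod 2) (wordOfMask '' {x | x ∈ basisL}) := by
  apply le_antisymm
  · unfold golayCode
    rw [Submodule.span_le]
    have hg : ∀ g ∈ gensL, wordOfMask g ∈
        Submodule.span (ZMod 2) (wordOfMask '' {x | x ∈ basisL}) := by
      intro g hg
      rw [← gens_eq_comb g hg]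
      exact wordOfMask_combL_mem _ basisL
        (fun e he => Submodule.subset_span (Set.mem_image_of_mem wordOfMask he)) _
    rintro w (⟨t, rfl⟩ | rfl)
    · have : qrWord t = wordOfMask (gensL.getD t.val 0) := by
        funext p; exact qrWord_eq t p
      rw [this]
      refine hg _ ?_
      revert t; decide +kernel
    · have : (1 : GolayPt → ZMod 2) = wordOfMask 16777215 := by
        funext p; exact one_eq p
      rw [this]
      exact hg _ (by decide)
  · rw [Submodule.span_le]
    rintro w ⟨e, he, rfl⟩
    exact basis_mem e he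

/-- the codeword attached to `c < 4096` -/
def cw (c : ℕ) : ℕ := combL basisL c

theorem mem_golayCode_iff (w : GolayPt → ZMod 2) :
    w ∈ golayCode ↔ ∃ c < 4096, w = wordOfMask (cw c) := by
  constructor
  · intro hw
    rw [golayCode_eq_span] at hw
    obtain ⟨c, hc, rfl⟩ := mem_span_list basisL w hw
    exact ⟨c, hc, rfl⟩
  · rintro ⟨c, _, rfl⟩
    exact wordOfMask_combL_mem golayCode basisL basis_mem c

/-- population count of the lowest `k` bits -/
def popc : ℕ → ℕ → ℕ
  | 0, _ => 0
  | k + 1, n => n % 2 + popc k (n / 2)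

theorem sum_testBit_eq_popc : ∀ (k n : ℕ),
    (∑ i ∈ Finset.range k, if n.testBit i then 1 else 0) = popc k n
  | 0, n => by simp [popc]
  | k + 1, n => by
      rw [Finset.sum_range_succ', popc, add_comm]
      congr 1
      · rw [Nat.testBit_zero]
        rcases Nat.mod_two_eq_zero_or_one n with h | h <;> simp [h]
      · rw [← sum_testBit_eq_popc k (n / 2)]
        apply Finset.sum_congr rfl
        intro i _
        rw [Nat.testBit_succ]

theorem hammingNorm_wordOfMask (n : ℕ) : hammingNorm (wordOfMask n) = popc 24 n := by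
  rw [← sum_testBit_eq_popc]
  unfold hammingNorm
  rw [Finset.card_filter]
  have h1 : ∀ p : GolayPt, (if wordOfMask n p ≠ 0 then 1 else 0)
      = (fun i : ℕ => if n.testBit i then 1 else 0) (gidx p) := by
    intro p
    simp only [wordOfMask]
    by_cases h : n.testBit (gidx p) = true <;> simp [h]
  rw [Finset.sum_congr rfl (fun p _ => h1 p)]
  rw [Fintype.sum_option]
  have : (∑ x : ZMod 23, (fun i : ℕ => if n.testBit i then 1 else 0) (gidx (some x)))
      = ∑ i ∈ Finset.range 23, (fun i : ℕ => if n.testBit i then 1 else 0) i := by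
    exact Fin.sum_univ_eq_sum_range (fun i : ℕ => if n.testBit i then 1 else 0) 23
  rw [this, Finset.sum_range_succ _ 23, add_comm]
  rfl

/-- population count of the lowest 24 bits, unrolled -/
def wt (n : ℕ) : ℕ :=
  n % 2 + n / 2 % 2 + n / 4 % 2 + n / 8 % 2 + n / 16 % 2 + n / 32 % 2 + n / 64 % 2 + n / 128 % 2
  + n / 256 % 2 + n / 512 % 2 + n / 1024 % 2 + n / 2048 % 2 + n / 4096 % 2 + n / 8192 % 2
  + n / 16384 % 2 + n / 32768 % 2 + n / 65536 % 2 + n / 131072 % 2 + n / 262144 % 2
  + n / 524288 % 2 + n / 1048576 % 2 + n / 2097152 % 2 + n / 4194304 % 2 + n / 8388608 % 2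

theorem popc_eq_wt (n : ℕ) : popc 24 n = wt n := by
  simp only [popc, wt, Nat.div_div_eq_div_mul]
  norm_num
  ring

/-- scan over all xor-combinations: conjunction -/
def allScan (f : ℕ → ℕ → Bool) : List ℕ → ℕ → ℕ → ℕ → Bool
  | [], _, c, acc => f c acc
  | e :: es, bit, c, acc => allScan f es (2 * bit) c acc && allScan f es (2 * bit) (c + bit) (acc ^^^ e)

theorem allScan_spec (f : ℕ → ℕ → Bool) : ∀ (L : List ℕ) (bit c acc : ℕ),
    allScan f L bit c acc = true →
      ∀ c' < 2 ^ L.length, f (c + bit * c') (acc ^^^ combL L c') = true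
  | [], bit, c, acc, h, c', hc' => by
      have : c' = 0 := by simpa using hc'
      subst this
      simpa [combL, allScan] using h
  | e :: es, bit, c, acc, h, c', hc' => by
      simp only [allScan, Bool.and_eq_true] at h
      rw [List.length_cons, pow_succ] at hc'
      have hlt : c' / 2 < 2 ^ es.length := by omega
      rcases Nat.mod_two_eq_zero_or_one c' with hr | hr
      · have := allScan_spec f es (2 * bit) c acc h.1 (c' / 2) hlt
        have e1 : c + 2 * bit * (c' / 2) = c + bit * c' := by
          have : c' = 2 * (c' / 2) := by omega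
          conv_rhs => rw [this]
          ring
        rw [e1] at this
        simpa [combL, hr] using this
      · have := allScan_spec f es (2 * bit) (c + bit) (acc ^^^ e) h.2 (c' / 2) hlt
        have e1 : c + bit + 2 * bit * (c' / 2) = c + bit * c' := by
          have : c' = 2 * (c' / 2) + 1 := by omega
          conv_rhs => rw [this]
          ring
        rw [e1, Nat.xor_assoc] at this
        simpa [combL, hr] using this

/-- scan over all xor-combinations: count -/
def countScan (f : ℕ → Bool) : List ℕ → ℕ → ℕ
  | [], acc => if f acc then 1 else 0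
  | e :: es, acc => countScan f es acc + countScan f es (acc ^^^ e)

theorem sum_range_two_mul (h : ℕ → ℕ) : ∀ n : ℕ,
    ∑ c ∈ Finset.range (2 * n), h c
      = ∑ c ∈ Finset.range n, h (2 * c) + ∑ c ∈ Finset.range n, h (2 * c + 1)
  | 0 => by simp
  | n + 1 => by
      rw [show 2 * (n + 1) = 2 * n + 1 + 1 by ring, Finset.sum_range_succ, Finset.sum_range_succ,
        sum_range_two_mul h n, Finset.sum_range_succ, Finset.sum_range_succ]
      ring

theorem countScan_spec (f : ℕ → Bool) : ∀ (L : List ℕ) (acc : ℕ),
    countScan f L acc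
      = ∑ c ∈ Finset.range (2 ^ L.length), if f (acc ^^^ combL L c) = true then 1 else 0
  | [], acc => by
      simp [countScan, combL]
  | e :: es, acc => by
      rw [countScan, List.length_cons, pow_succ, mul_comm, sum_range_two_mul,
        countScan_spec f es acc, countScan_spec f es (acc ^^^ e)]
      congr 1
      · apply Finset.sum_congr rfl
        intro c _
        simp [combL]
      · apply Finset.sum_congr rfl
        intro c _
        have h1 : (2 * c + 1) % 2 = 1 := by omega
        have h2 : (2 * c + 1) / 2 = c := by omega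
        simp only [combL, h1, h2, if_true, Nat.xor_assoc]

/-- boolean check used for all 4096 codewords -/
def chk (c v : ℕ) : Bool :=
  (v >>> 12 == c) && (v < 2 ^ 24) &&
    (wt v == 0 || wt v == 8 || wt v == 12 || wt v == 16 || wt v == 24)

theorem chk_all' : allScan chk basisL 1 0 0 = true := by
  decide +kernel

theorem chk_all : ∀ c < 4096, chk c (cw c) = true := by
  intro c hc
  have := allScan_spec chk basisL 1 0 0 chk_all' c hc
  simpa [cw] using this

theorem cw_shift {c : ℕ} (hc : c < 4096) : cw c >>> 12 = c := by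
  have := chk_all c hc
  simp only [chk, Bool.and_eq_true, beq_iff_eq] at this
  exact this.1.1

theorem cw_lt {c : ℕ} (hc : c < 4096) : cw c < 2 ^ 24 := by
  have := chk_all c hc
  simp only [chk, Bool.and_eq_true, decide_eq_true_eq] at this
  exact this.1.2

theorem cw_weight {c : ℕ} (hc : c < 4096) :
    popc 24 (cw c) = 0 ∨ popc 24 (cw c) = 8 ∨ popc 24 (cw c) = 12 ∨ popc 24 (cw c) = 16 ∨
      popc 24 (cw c) = 24 := by
  have := chk_all c hc
  simp only [chk, Bool.and_eq_true, Bool.or_eq_true, beq_iff_eq] at this
  rw [popc_eq_wt]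
  tauto

theorem cw_injOn {c c' : ℕ} (hc : c < 4096) (hc' : c' < 4096)
    (h : wordOfMask (cw c) = wordOfMask (cw c')) : c = c' := by
  have := wordOfMask_injOn (cw_lt hc) (cw_lt hc') h
  rw [← cw_shift hc, ← cw_shift hc', this]

theorem count_weight (k : ℕ) :
    ((Finset.range 4096).filter (fun c => popc 24 (cw c) = k)).card
      = countScan (fun v => wt v == k) basisL 0 := by
  rw [countScan_spec, Finset.card_filter]
  apply Finset.sum_congr rfl
  intro c _
  simp [cw, popc_eq_wt]

theorem count8' : countScan (fun v => wt v == 8) basisL 0 = 759 := by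
  decide +kernel

theorem count12' : countScan (fun v => wt v == 12) basisL 0 = 2576 := by
  decide +kernel

theorem count8 : ((Finset.range 4096).filter (fun c => popc 24 (cw c) = 8)).card = 759 := by
  rw [count_weight, count8']

theorem count12 : ((Finset.range 4096).filter (fun c => popc 24 (cw c) = 12)).card = 2576 := by
  rw [count_weight, count12']

theorem support₂_injective {w w' : GolayPt → ZMod 2} (h : support₂ w = support₂ w') : w = w' := by
  funext p
  have hp : p ∈ support₂ w ↔ p ∈ support₂ w' := by rw [h]
  simp only [support₂, Finset.mem_filter, Finset.mem_univ, true_and] at hp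
  have key : ∀ a b : ZMod 2, (a ≠ 0 ↔ b ≠ 0) → a = b := by decide
  exact key _ _ hp

theorem card_support₂ (w : GolayPt → ZMod 2) : (support₂ w).card = hammingNorm w := rfl

theorem wordsOfWeight_ncard (k : ℕ) :
    (wordsOfWeight (golayCode : Set (GolayPt → ZMod 2)) k).ncard
      = ((Finset.range 4096).filter (fun c => popc 24 (cw c) = k)).card := by
  have himg : wordsOfWeight (golayCode : Set (GolayPt → ZMod 2)) k
      = (fun c => support₂ (wordOfMask (cw c))) ''
        (((Finset.range 4096).filter (fun c => popc 24 (cw c) = k) : Finset ℕ) : Set ℕ) := by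
    ext b
    simp only [wordsOfWeight, supports, Set.mem_ofPred_eq, Set.mem_image, SetLike.mem_coe,
      Finset.coe_filter, Finset.mem_range]
    constructor
    · rintro ⟨⟨w, hw, rfl⟩, hcard⟩
      obtain ⟨c, hc, rfl⟩ := (mem_golayCode_iff w).1 hw
      refine ⟨c, ⟨hc, ?_⟩, rfl⟩
      rw [← hammingNorm_wordOfMask, ← card_support₂, hcard]
    · rintro ⟨c, ⟨hc, hk⟩, rfl⟩
      refine ⟨⟨_, (mem_golayCode_iff _).2 ⟨c, hc, rfl⟩, rfl⟩, ?_⟩
      rw [card_support₂, hammingNorm_wordOfMask, hk]
  rw [himg, Set.ncard_image_of_injOn, Set.ncard_coe_finset]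
  intro c hc c' hc' h
  simp only [Finset.coe_filter, Finset.mem_range, Set.mem_ofPred_eq] at hc hc'
  exact cw_injOn hc.1 hc'.1 (support₂_injective h)

end Cfsg.Agent.Lib.Helper09
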