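import Cfsg.Agent.Lib.Helper09.TICount

set_option autoImplicit false

namespace Cfsg.Agent.Lib.Helper09

section SelfNormalizing

variable {G : Type*} [Group G] [Finite G]

/-- counting the conjugates of a self-normalising TI subgroup -/
theorem card_conjSet_sn (H : Subgroup G) (hne : ∃ h ∈ H, h ≠ 1)
    (key : ∀ y : G, ∀ h ∈ H, h ≠ 1 → y * h * y⁻¹ ∈ H → y ∈ H) :
    (conjSet H).ncard + H.index = Nat.card G := by
  have hN : Subgroup.normalizer (H : Set G) = H := by
    apply le_antisymm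
    · intro y hy
      obtain ⟨h, hh, h1⟩ := hne
      rw [Subgroup.mem_normalizer_iff] at hy
      exact key y h hh h1 ((hy h).1 hh)
    · exact Subgroup.le_normalizer
  have h1 := card_conjSet H (fun y h hh h1 hy => Subgroup.le_normalizer (key y h hh h1 hy))
  rw [hN] at h1
  have h2 := H.index_mul_card
  have hpos : 1 ≤ Nat.card H := Nat.card_pos
  have h3 : (conjSet H).ncard = H.index * (Nat.card H - 1) := h1
  rw [h3, ← h2]
  obtain ⟨c, hc⟩ : ∃ c, Nat.card H = c + 1 := ⟨Nat.card H - 1, by omega⟩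
  rw [hc]
  have : c + 1 - 1 = c := by omega
  rw [this]; ring

theorem two_le_card_of_ne_one (H : Subgroup G) (hne : ∃ h ∈ H, h ≠ 1) : 2 ≤ Nat.card H := by
  obtain ⟨h, hh, h1⟩ := hne
  have : Nontrivial H := ⟨⟨⟨h, hh⟩, 1, fun e => h1 (congrArg Subtype.val e)⟩⟩
  exact Finite.one_lt_card

/-- there cannot be two classes of self-normalising TI subgroups -/
theorem two_ti_false (D₀ D₁ : Subgroup G) (hne₀ : ∃ h ∈ D₀, h ≠ 1) (hne₁ : ∃ h ∈ D₁, h ≠ 1)
    (key₀ : ∀ y : G, ∀ h ∈ D₀, h ≠ 1 → y * h * y⁻¹ ∈ D₀ → y ∈ D₀)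
    (key₁ : ∀ y : G, ∀ h ∈ D₁, h ≠ 1 → y * h * y⁻¹ ∈ D₁ → y ∈ D₁)
    (hdisj : Disjoint (conjSet D₀) (conjSet D₁)) : False := by
  have e₀ := card_conjSet_sn D₀ hne₀ key₀
  have e₁ := card_conjSet_sn D₁ hne₁ key₁
  have c₀ := two_le_card_of_ne_one D₀ hne₀
  have c₁ := two_le_card_of_ne_one D₁ hne₁
  have i₀ := D₀.index_mul_card
  have i₁ := D₁.index_mul_card
  have hunion : ((conjSet D₀ ∪ conjSet D₁) ∪ {1}).ncard
      = (conjSet D₀).ncard + (conjSet D₁).ncard + 1 := by
    rw [Set.ncard_union_eq _ (Set.toFinite _) (Set.toFinite _),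
      Set.ncard_union_eq hdisj (Set.toFinite _) (Set.toFinite _), Set.ncard_singleton]
    rw [Set.disjoint_left]
    rintro g (hg | hg) h1
    · exact hg.1 h1
    · exact hg.1 h1
  have hle : ((conjSet D₀ ∪ conjSet D₁) ∪ {1}).ncard ≤ Nat.card G := by
    rw [← Set.ncard_univ]
    exact Set.ncard_le_ncard (Set.subset_univ _) (Set.toFinite _)
  have h₀ : 2 * D₀.index ≤ Nat.card G := by
    rw [← i₀]; nlinarith
  have h₁ : 2 * D₁.index ≤ Nat.card G := by
    rw [← i₁]; nlinarith
  omega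

/-- a proper self-normalising TI subgroup misses some non-identity element -/
theorem exists_not_mem_conjSet (D : Subgroup G) (hne : ∃ h ∈ D, h ≠ 1)
    (key : ∀ y : G, ∀ h ∈ D, h ≠ 1 → y * h * y⁻¹ ∈ D → y ∈ D) (htop : D ≠ ⊤) :
    ∃ x : G, x ≠ 1 ∧ x ∉ conjSet D := by
  by_contra hcon
  push Not at hcon
  have e := card_conjSet_sn D hne key
  have hall : conjSet D ∪ {1} = Set.univ := by
    rw [Set.eq_univ_iff_forall]
    intro x
    by_cases hx : x = 1
    · exact Or.inr hx
    · exact Or.inl (hcon x hx)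
  have hcard : (conjSet D ∪ {1}).ncard = (conjSet D).ncard + 1 := by
    rw [Set.ncard_union_eq _ (Set.toFinite _) (Set.toFinite _), Set.ncard_singleton]
    rw [Set.disjoint_left]
    rintro g hg h1
    exact hg.1 h1
  rw [hall, Set.ncard_univ] at hcard
  have : D.index = 1 := by omega
  exact htop (Subgroup.index_eq_one.1 this)

end SelfNormalizing

section Involutions

variable {L Ω : Type*} [Group L] [Finite L] [MulAction L Ω]

omit [Finite L] in
theorem inv_of_sq_eq_one {u : L} (hu : u ^ 2 = 1) : u⁻¹ = u := by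
  rw [inv_eq_iff_mul_eq_one, ← sq, hu]

/-- the product of two involutions with distinct unique fixed points has odd order -/
theorem odd_order_of_inv_pair
    (hfix : ∀ u : L, u ≠ 1 → u ^ 2 = 1 → ∀ p q : Ω, u • p = p → u • q = q → p = q)
    {u u' : L} (hu1 : u ≠ 1) (hu : u ^ 2 = 1) (hu'1 : u' ≠ 1) (hu' : u' ^ 2 = 1) {p p' : Ω}
    (hp : u • p = p) (hp' : u' • p' = p') (hne : p ≠ p') : ¬ 2 ∣ orderOf (u' * u) := by
  intro h2
  have : Fact (Nat.Prime 2) := ⟨Nat.prime_two⟩
  set y := u' * u with hy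
  set z := y ^ (orderOf y / 2) with hz
  have hzo : orderOf z = 2 := orderOf_pow_orderOf_div (orderOf_pos y).ne' h2
  have hz1 : z ≠ 1 := by
    intro h
    rw [h, orderOf_one] at hzo
    omega
  have hz2 : z ^ 2 = 1 := by rw [← hzo]; exact pow_orderOf_eq_one z
  have hui := inv_of_sq_eq_one hu
  have hu'i := inv_of_sq_eq_one hu'
  have hzi := inv_of_sq_eq_one hz2
  have e1 : u * y * u⁻¹ = y⁻¹ := by
    rw [hy, mul_inv_rev, hui, hu'i]
    have : u * (u' * u) * u = u * u' * (u * u) := by group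
    rw [this, ← sq, hu, mul_one]
  have e2 : u' * y * u'⁻¹ = y⁻¹ := by
    rw [hy, mul_inv_rev, hui, hu'i]
    have : u' * (u' * u) * u' = (u' * u') * u * u' := by group
    rw [this, ← sq, hu', one_mul]
  have c1 : u * z * u⁻¹ = z := by
    rw [hz, ← conj_pow, e1, inv_pow, ← hz, hzi]
  have c2 : u' * z * u'⁻¹ = z := by
    rw [hz, ← conj_pow, e2, inv_pow, ← hz, hzi]
  have f1 : z • p = p := by
    apply hfix u hu1 hu _ _ _ hp
    have : u * z = z * u := by
      have := congrArg (· * u) c1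
      simpa [mul_assoc] using this
    rw [← mul_smul, this, mul_smul, hp]
  have f2 : z • p' = p' := by
    apply hfix u' hu'1 hu' _ _ _ hp'
    have : u' * z = z * u' := by
      have := congrArg (· * u') c2
      simpa [mul_assoc] using this
    rw [← mul_smul, this, mul_smul, hp']
  exact hne (hfix z hz1 hz2 _ _ f1 f2)

/-- two involutions whose product has odd order are conjugate -/
theorem exists_conj_of_odd {u u' : L} (hu : u ^ 2 = 1) (hu' : u' ^ 2 = 1)
    (hodd : ¬ 2 ∣ orderOf (u' * u)) : ∃ g : L, g * u * g⁻¹ = u' := by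
  set y := u' * u with hy
  have hui := inv_of_sq_eq_one hu
  have hu'i := inv_of_sq_eq_one hu'
  obtain ⟨j, hj⟩ : ∃ j, orderOf y = 2 * j + 1 := ⟨orderOf y / 2, by omega⟩
  have e1 : u * y * u⁻¹ = y⁻¹ := by
    rw [hy, mul_inv_rev, hui, hu'i]
    have : u * (u' * u) * u = u * u' * (u * u) := by group
    rw [this, ← sq, hu, mul_one]
  refine ⟨y ^ (j + 1), ?_⟩
  have e2 : u * (y ^ (j + 1))⁻¹ = y ^ (j + 1) * u := by
    have h := congrArg (fun t => t ^ (j + 1)) e1
    simp only [conj_pow, inv_pow] at h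
    have h' : u * (y ^ (j + 1))⁻¹ * u⁻¹ = y ^ (j + 1) := by
      have := congrArg (fun t => t⁻¹) h
      simpa [mul_inv_rev, mul_assoc] using this
    have := congrArg (· * u) h'
    simpa [mul_assoc] using this
  have e3 : y ^ (j + 1) * y ^ (j + 1) = y := by
    rw [← pow_add]
    have : j + 1 + (j + 1) = orderOf y + 1 := by omega
    rw [this, pow_add, pow_orderOf_eq_one, one_mul, pow_one]
  calc y ^ (j + 1) * u * (y ^ (j + 1))⁻¹ = y ^ (j + 1) * (u * (y ^ (j + 1))⁻¹) := by group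
    _ = y ^ (j + 1) * (y ^ (j + 1) * u) := by rw [e2]
    _ = (y ^ (j + 1) * y ^ (j + 1)) * u := by group
    _ = y * u := by rw [e3]
    _ = u' := by rw [hy, mul_assoc, ← sq, hu, mul_one]

end Involutions

section InvCount

variable {L Ω : Type*} [Group L] [Finite L] [MulAction L Ω] [Finite Ω]

/-- is an involution -/
def IsInv (u : L) : Prop := u ≠ 1 ∧ u ^ 2 = 1

omit [Finite L] in
theorem IsInv.conj {u : L} (h : IsInv u) (g : L) : IsInv (g * u * g⁻¹) := by
  refine ⟨?_, ?_⟩
  · intro h0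
    apply h.1
    have : u = g⁻¹ * (g * u * g⁻¹) * g := by group
    rw [this, h0]; group
  · rw [conj_pow, h.2]; group

/-- Counting involutions in a group where each involution fixes exactly one point. -/
theorem inv_count
    (hfix : ∀ u : L, u ≠ 1 → u ^ 2 = 1 → ∀ p q : Ω, u • p = p → u • q = q → p = q)
    (hex : ∀ u : L, u ≠ 1 → u ^ 2 = 1 → ∃ p : Ω, u • p = p)
    (p₀ : Ω) (i : ℕ) (hi : Nat.card {u : L // IsInv u ∧ u • p₀ = p₀} = i) (hi0 : 0 < i)
    (hst : ∀ p : Ω, p ≠ p₀ → (∃ u : L, IsInv u ∧ u • p = p) →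
      Nat.card {g : L // g • p₀ = p₀ ∧ g • p = p} ≤ i) :
    ∀ p : Ω, p ≠ p₀ → (∃ u : L, IsInv u ∧ u • p = p) →
      (∃ u : L, IsInv u ∧ u • p₀ = p) ∧ Nat.card {g : L // g • p₀ = p₀ ∧ g • p = p} = i := by
  classical
  have := Fintype.ofFinite L
  have := Fintype.ofFinite Ω
  -- an involution fixing the base point
  have hne0 : Nonempty {u : L // IsInv u ∧ u • p₀ = p₀} := by
    rw [← Finite.card_pos_iff, hi]; exact hi0
  obtain ⟨⟨u₀, hu₀, hu₀p⟩⟩ := hne0
  set J : Finset L := Finset.univ.filter (fun u => IsInv u) with hJ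
  set X' : Finset Ω := Finset.univ.filter (fun p => p ≠ p₀ ∧ ∃ u : L, IsInv u ∧ u • p = p) with hX'
  set J' : Finset L := J.filter (fun u => u • p₀ ≠ p₀) with hJ'
  set Fa : Ω → Finset L := fun p => J.filter (fun u => u • p = p) with hFa
  set Fb : Ω → Finset L := fun p => J.filter (fun u => u • p₀ = p) with hFb
  have memJ : ∀ u, u ∈ J ↔ IsInv u := fun u => by simp [hJ]
  -- first partition
  have hpa : J' = X'.biUnion Fa := by
    ext u
    simp only [hJ', hFa, hX', Finset.mem_filter, Finset.mem_biUnion, Finset.mem_univ, true_and,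
      memJ]
    constructor
    · rintro ⟨hu, hup⟩
      obtain ⟨p, hp⟩ := hex u hu.1 hu.2
      refine ⟨p, ⟨?_, u, hu, hp⟩, hu, hp⟩
      rintro rfl
      exact hup hp
    · rintro ⟨p, ⟨hpne, -⟩, hu, hp⟩
      refine ⟨hu, fun h0 => hpne ?_⟩
      exact hfix u hu.1 hu.2 _ _ hp h0
  have hda : ∀ p ∈ X', ∀ p' ∈ X', p ≠ p' → Disjoint (Fa p) (Fa p') := by
    intro p _ p' _ hne
    rw [Finset.disjoint_left]
    intro u hu hu'
    simp only [hFa, Finset.mem_filter, memJ] at hu hu'
    exact hne (hfix u hu.1.1 hu.1.2 _ _ hu.2 hu'.2)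
  -- second partition
  have hpb : J' = X'.biUnion Fb := by
    ext u
    simp only [hJ', hFb, hX', Finset.mem_filter, Finset.mem_biUnion, Finset.mem_univ, true_and,
      memJ]
    constructor
    · rintro ⟨hu, hup⟩
      refine ⟨u • p₀, ⟨hup, u * u₀ * u⁻¹, hu₀.conj u, ?_⟩, hu, rfl⟩
      rw [mul_smul, mul_smul, inv_smul_smul, hu₀p]
    · rintro ⟨p, ⟨hpne, -⟩, hu, hp⟩
      exact ⟨hu, fun h0 => hpne (hp.symm.trans h0)⟩
  have hdb : ∀ p ∈ X', ∀ p' ∈ X', p ≠ p' → Disjoint (Fb p) (Fb p') := by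
    intro p _ p' _ hne
    rw [Finset.disjoint_left]
    intro u hu hu'
    simp only [hFb, Finset.mem_filter, memJ] at hu hu'
    exact hne (hu.2.symm.trans hu'.2)
  -- the fibres of the first partition all have `i` elements
  have hcard0 : (Fa p₀).card = i := by
    rw [← hi, Nat.card_eq_fintype_card, Fintype.card_subtype]
    congr 1
    ext u
    simp [hFa, memJ]
  have hca : ∀ p ∈ X', (Fa p).card = i := by
    intro p hp
    simp only [hX', Finset.mem_filter, Finset.mem_univ, true_and] at hp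
    obtain ⟨hpne, u', hu', hu'p⟩ := hp
    have hodd := odd_order_of_inv_pair hfix hu₀.1 hu₀.2 hu'.1 hu'.2 hu₀p hu'p (Ne.symm hpne)
    obtain ⟨g, hg⟩ := exists_conj_of_odd hu₀.2 hu'.2 hodd
    have hgp : g • p₀ = p := by
      apply hfix u' hu'.1 hu'.2 _ _ _ hu'p
      rw [← hg, mul_smul, mul_smul, inv_smul_smul, hu₀p]
    rw [← hcard0]
    symm
    apply Finset.card_bij (fun u _ => g * u * g⁻¹)
    · intro u hu
      simp only [hFa, Finset.mem_filter, memJ] at hu ⊢
      refine ⟨hu.1.conj g, ?_⟩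
      rw [mul_smul, mul_smul, ← hgp, inv_smul_smul, hu.2]
    · intro u _ u' _ h
      exact mul_left_cancel (mul_right_cancel h)
    · intro v hv
      simp only [hFa, Finset.mem_filter, memJ] at hv
      refine ⟨g⁻¹ * v * g, ?_, by group⟩
      simp only [hFa, Finset.mem_filter, memJ]
      refine ⟨?_, ?_⟩
      · have := hv.1.conj g⁻¹
        rwa [inv_inv] at this
      · rw [mul_smul, mul_smul, hgp, hv.2, ← hgp, inv_smul_smul]
  -- the fibres of the second partition have at most `|stab|` elements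
  have hcb : ∀ p ∈ X', (Fb p).card ≤ Nat.card {g : L // g • p₀ = p₀ ∧ g • p = p} := by
    intro p hp
    rcases (Fb p).eq_empty_or_nonempty with he | ⟨u₁, hu₁⟩
    · rw [he]; simp
    · simp only [hFb, Finset.mem_filter, memJ] at hu₁
      rw [Nat.card_eq_fintype_card, Fintype.card_subtype]
      apply Finset.card_le_card_of_injOn (fun u => u₁ * u)
      · intro u hu
        have hu' : IsInv u ∧ u • p₀ = p := by
          have := Finset.mem_coe.1 hu
          simpa [hFb, memJ] using this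
        simp only [Finset.coe_filter, Finset.mem_univ, true_and, Set.mem_setOf_eq]
        constructor
        · rw [mul_smul, hu'.2, ← hu₁.2, ← mul_smul, ← sq, hu₁.1.2, one_smul]
        · rw [mul_smul]
          have : u • p = p₀ := by
            rw [← hu'.2, ← mul_smul, ← sq, hu'.1.2, one_smul]
          rw [this, hu₁.2]
      · intro u _ u' _ h
        exact mul_left_cancel h
  -- compare the two counts
  have hsum : ∑ p ∈ X', (Fb p).card = ∑ p ∈ X', i := by
    rw [← Finset.card_biUnion hdb, ← hpb, hpa, Finset.card_biUnion hda]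
    exact Finset.sum_congr rfl hca
  have hle : ∀ p ∈ X', (Fb p).card ≤ i := by
    intro p hp
    have hp' := hp
    simp only [hX', Finset.mem_filter, Finset.mem_univ, true_and] at hp'
    exact le_trans (hcb p hp) (hst p hp'.1 hp'.2)
  have heq := (Finset.sum_eq_sum_iff_of_le hle).1 hsum
  intro p hpne hpx
  have hp : p ∈ X' := by
    simp only [hX', Finset.mem_filter, Finset.mem_univ, true_and]
    exact ⟨hpne, hpx⟩
  have h1 := heq p hp
  constructor
  · have hpos : 0 < (Fb p).card := by rw [h1]; exact hi0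
    obtain ⟨u, hu⟩ := Finset.card_pos.1 hpos
    simp only [hFb, Finset.mem_filter, memJ] at hu
    exact ⟨u, hu.1, hu.2⟩
  · apply le_antisymm (hst p hpne hpx)
    rw [← h1]
    exact hcb p hp

end InvCount

section Kernel

variable {L : Type*} [Group L] [Finite L]

omit [Finite L] in
theorem conjSet_conj (S : Subgroup L) {g : L} (x : L) (h : x * g * x⁻¹ ∈ conjSet S) :
    g ∈ conjSet S := by
  obtain ⟨h1, y, hy⟩ := h
  refine ⟨?_, y * x, ?_⟩
  · rintro rfl
    apply h1; group
  · have : y * x * g * (y * x)⁻¹ = y * (x * g * x⁻¹) * y⁻¹ := by group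
    rw [this]; exact hy

/-- the kernel of a Frobenius-like group whose complement has a unique involution -/
theorem frobenius_kernel (S : Subgroup L) (t : L) (htS : t ∈ S) (ht : IsInv t)
    (huniq : ∀ u ∈ S, IsInv u → u = t)
    (key : ∀ y : L, ∀ h ∈ S, h ≠ 1 → y * h * y⁻¹ ∈ S → y ∈ S) :
    ∃ K : Subgroup L, K.Normal ∧ (∀ g ∈ K, g ∉ conjSet S) ∧ Nat.card K = S.index := by
  classical
  have hti := inv_of_sq_eq_one ht.2
  set T : Set L := Set.range (fun g : L => g * t * g⁻¹) with hT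
  set K₀ : Set L := (conjSet S)ᶜ with hK₀
  have hTinv : ∀ x ∈ T, IsInv x := by
    rintro _ ⟨g, rfl⟩
    exact ht.conj g
  have hTconj : ∀ x ∈ T, ∀ y : L, y * x * y⁻¹ ∈ T := by
    rintro _ ⟨g, rfl⟩ y
    exact ⟨y * g, by simp only []; group⟩
  -- cardinalities
  have hcs := card_conjSet_sn S ⟨t, htS, ht.1⟩ key
  have hK₀card : K₀.ncard = S.index := by
    have := Set.ncard_add_ncard_compl (conjSet S)
    rw [hK₀]; omega
  have hTcard : T.ncard = S.index := by
    have hrange : T = Set.range (fun c : L ⧸ S => c.out * t * c.out⁻¹) := by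
      apply Set.Subset.antisymm
      · rintro _ ⟨g, rfl⟩
        obtain ⟨s, hs⟩ := QuotientGroup.mk_out_eq_mul S g
        refine ⟨(g : L ⧸ S), ?_⟩
        simp only []
        rw [hs]
        have h1 : (s : L) * t * (s : L)⁻¹ = t := by
          apply huniq _ (S.mul_mem (S.mul_mem s.2 htS) (S.inv_mem s.2))
          exact ht.conj _
        have : g * (s : L) * t * (g * (s : L))⁻¹ = g * ((s : L) * t * (s : L)⁻¹) * g⁻¹ := by group
        rw [this, h1]
      · rintro _ ⟨c, rfl⟩
        exact ⟨c.out, rfl⟩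
    rw [hrange, Subgroup.index, ← Set.image_univ, Set.ncard_image_of_injective, Set.ncard_univ]
    intro c c' h
    simp only [] at h
    have h2 : (c'.out⁻¹ * c.out) * t * (c'.out⁻¹ * c.out)⁻¹ = t := by
      calc (c'.out⁻¹ * c.out) * t * (c'.out⁻¹ * c.out)⁻¹
          = c'.out⁻¹ * (c.out * t * c.out⁻¹) * c'.out := by group
        _ = c'.out⁻¹ * (c'.out * t * c'.out⁻¹) * c'.out := by rw [h]
        _ = t := by group
    have h3 := key _ t htS ht.1 (h2 ▸ htS)
    rw [← c.out_eq', ← c'.out_eq']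
    exact (QuotientGroup.eq.mpr h3).symm
  -- products of two conjugates of `t` avoid the conjugates of `S`
  have hprod : ∀ t₁ ∈ T, ∀ t₂ ∈ T, t₁ * t₂ ∈ K₀ := by
    intro t₁ ht₁ t₂ ht₂ hmem
    obtain ⟨hne, x, hx⟩ := hmem
    have haT := hTconj t₁ ht₁ x
    have hbT := hTconj t₂ ht₂ x
    have hai := hTinv _ haT
    have hbi := hTinv _ hbT
    have hab : x * (t₁ * t₂) * x⁻¹ = (x * t₁ * x⁻¹) * (x * t₂ * x⁻¹) := by group
    rw [hab] at hx
    generalize x * t₁ * x⁻¹ = a at *
    generalize x * t₂ * x⁻¹ = b at *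
    have hab1 : a * b ≠ 1 := by
      rw [← hab]
      intro h0
      apply hne
      have : t₁ * t₂ = x⁻¹ * (x * (t₁ * t₂) * x⁻¹) * x := by group
      rw [this, h0]; group
    have haS : a ∈ S := by
      apply key a (a * b) hx hab1
      have : a * (a * b) * a⁻¹ = (a * b)⁻¹ := by
        rw [mul_inv_rev, inv_of_sq_eq_one hai.2, inv_of_sq_eq_one hbi.2, ← mul_assoc, ← sq, hai.2,
          one_mul]
      rw [this]; exact S.inv_mem hx
    have hbS : b ∈ S := by
      apply key b (a * b) hx hab1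
      have : b * (a * b) * b⁻¹ = (a * b)⁻¹ := by
        rw [mul_inv_rev, inv_of_sq_eq_one hai.2, inv_of_sq_eq_one hbi.2, mul_assoc, mul_assoc,
          ← sq, hbi.2, mul_one]
      rw [this]; exact S.inv_mem hx
    have e1 := huniq a haS hai
    have e2 := huniq b hbS hbi
    apply hab1
    rw [e1, e2, ← sq, ht.2]
  -- every element of the kernel is such a product
  have hsurj : ∀ t₁ ∈ T, ∀ g ∈ K₀, ∃ t₂ ∈ T, g = t₁ * t₂ := by
    intro t₁ ht₁ g hg
    have himg : (fun y => t₁ * y) '' T = K₀ := by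
      apply Set.eq_of_subset_of_ncard_le
      · rintro _ ⟨t₂, ht₂, rfl⟩
        exact hprod t₁ ht₁ t₂ ht₂
      · rw [Set.ncard_image_of_injective _ (mul_right_injective t₁), hTcard, hK₀card]
      · exact Set.toFinite _
    rw [← himg] at hg
    obtain ⟨t₂, ht₂, rfl⟩ := hg
    exact ⟨t₂, ht₂, rfl⟩
  have htT : t ∈ T := ⟨1, by simp⟩
  refine ⟨{ carrier := K₀
            mul_mem' := ?_
            one_mem' := ?_
            inv_mem' := ?_ }, ⟨?_⟩, ?_, ?_⟩
  · intro a b ha hb
    obtain ⟨t₂, ht₂, rfl⟩ := hsurj t htT a ha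
    obtain ⟨t₃, ht₃, rfl⟩ := hsurj t₂ ht₂ b hb
    have : t * t₂ * (t₂ * t₃) = t * (t₂ * t₂) * t₃ := by group
    rw [this, ← sq, (hTinv t₂ ht₂).2, mul_one]
    exact hprod t htT t₃ ht₃
  · intro h
    exact h.1 rfl
  · intro a ha
    obtain ⟨t₂, ht₂, rfl⟩ := hsurj t htT a ha
    rw [mul_inv_rev, hti, inv_of_sq_eq_one (hTinv t₂ ht₂).2]
    exact hprod t₂ ht₂ t htT
  · intro g hg x
    show x * g * x⁻¹ ∈ K₀
    intro h
    exact hg (conjSet_conj S x h)
  · intro g hg
    exact hg
  · show Nat.card K₀ = S.index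
    rw [Nat.card_coe_set_eq, hK₀card]

end Kernel

end Cfsg.Agent.Lib.Helper09
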