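import Cfsg.Agent.Lib.Helper09.IrredOrder

set_option autoImplicit false

namespace Cfsg.Agent.Lib.Helper09

open Matrix Polynomial

section Galois

variable {F : Type*} [Field F] [Fintype F] {z : Matrix.SpecialLinearGroup (Fin 4) F}

/-- a prime as in `IrrHyp` does not divide the order of the field -/
theorem IrrHyp.not_dvd_card {p : ℕ} (h : IrrHyp z p) : ¬ p ∣ Fintype.card F := by
  intro hd
  have h1 : p ∣ Fintype.card F ^ 2 := dvd_pow hd (by norm_num)
  have h2 : p ∣ 1 := (Nat.dvd_add_right h1).1 h.dvd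
  exact h.prime.one_lt.ne' (Nat.dvd_one.1 h2)

/-- the powers `z^(q^i)`, `i < 4`, are distinct -/
theorem IrrHyp.pow_injective {p : ℕ} (h : IrrHyp z p) {i j : ℕ} (hi : i < 4) (hj : j < 4)
    (hij : z ^ (Fintype.card F ^ i) = z ^ (Fintype.card F ^ j)) : i = j := by
  set q := Fintype.card F with hq
  wlog hle : i ≤ j generalizing i j
  · exact (this hj hi hij.symm (by omega)).symm
  have h1 : q ^ i ≡ q ^ j [MOD p] := by
    have := pow_eq_pow_iff_modEq.1 hij
    rwa [h.order] at this
  obtain ⟨d, rfl⟩ : ∃ d, j = i + d := ⟨j - i, by omega⟩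
  have hcop : Nat.Coprime (q ^ i) p := by
    apply Nat.Coprime.pow_left
    exact (Nat.Prime.coprime_iff_not_dvd h.prime).2 h.not_dvd_card |>.symm
  have h2 : q ^ d ≡ 1 [MOD p] := by
    have : q ^ i * 1 ≡ q ^ i * q ^ d [MOD p] := by rw [mul_one, ← pow_add]; exact h1
    exact (Nat.ModEq.cancel_left_of_coprime (by rwa [Nat.coprime_comm, Nat.Coprime] at hcop) this).symm
  rcases pow_modEq_one_cases h.prime h.ne_two h.dvd (by omega) h2 with h0 | h4
  · omega
  · omega

/-- a conjugate of `z` commuting with `z` is a Frobenius power of `z` -/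
theorem IrrHyp.conj_eq_pow {p : ℕ} (h : IrrHyp z p) (y : Matrix.SpecialLinearGroup (Fin 4) F)
    (hy : z * (y * z * y⁻¹) = (y * z * y⁻¹) * z) :
    ∃ i : ℕ, i < 4 ∧ y * z * y⁻¹ = z ^ (Fintype.card F ^ i) := by
  classical
  let _ : CommRing ↥(Cent z) :=
    { (inferInstance : Ring ↥(Cent z)) with
      mul_comm := fun A B => Subtype.ext (h.cent_comm A.2 B.2) }
  have : NoZeroDivisors ↥(Cent z) := by
    refine ⟨fun {A B} hAB => ?_⟩
    have h1 : A.1 * B.1 = 0 := congrArg Subtype.val hAB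
    rcases h.cent_noZeroDiv A.2 h1 with h0 | h0
    · exact Or.inl (Subtype.ext h0)
    · exact Or.inr (Subtype.ext h0)
  have : Nontrivial ↥(Cent z) := by
    refine ⟨⟨0, 1, ?_⟩⟩
    intro h01
    have h1 : (0 : Matrix (Fin 4) (Fin 4) F) = 1 := congrArg Subtype.val h01
    have := congrFun (congrFun h1 0) 0
    simp at this
  have : IsDomain ↥(Cent z) := NoZeroDivisors.to_isDomain _
  set q := Fintype.card F with hq
  let ζ : ↥(Cent z) := ⟨z.1, mem_Cent.2 rfl⟩
  let μ : ↥(Cent z) := ⟨(y * z * y⁻¹).1, mem_Cent.2 (congrArg Subtype.val hy)⟩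
  set χ : F[X] := z.1.charpoly with hχ
  have hχmonic : χ.Monic := Matrix.charpoly_monic z.1
  have hχdeg : χ.natDegree = 4 := by
    rw [hχ, Matrix.charpoly_natDegree_eq_dim]; rfl
  have hroot0 : aeval ζ χ = 0 := by
    apply Subtype.ext
    rw [aeval_subalgebra_coe]
    exact Matrix.aeval_self_charpoly z.1
  have hrootμ : aeval μ χ = 0 := by
    apply Subtype.ext
    rw [aeval_subalgebra_coe]
    have hc : (y * z * y⁻¹).1.charpoly = χ := by
      have e1 : (y * z * y⁻¹).1 = (y.1 * z.1) * (y⁻¹).1 := by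
        simp [Matrix.SpecialLinearGroup.coe_mul]
      rw [e1, Matrix.charpoly_mul_comm, ← mul_assoc]
      have e2 : (y⁻¹).1 * y.1 = 1 := by
        rw [← Matrix.SpecialLinearGroup.coe_mul, inv_mul_cancel]; rfl
      rw [e2, one_mul]
    rw [← hc]
    exact Matrix.aeval_self_charpoly _
  have hfrob : ∀ t : ↥(Cent z), aeval t χ = 0 → aeval (t ^ q) χ = 0 := by
    intro t ht
    rw [← expand_aeval, hq, FiniteField.expand_card, map_pow, ht, zero_pow Fintype.card_ne_zero]
  have hrooti : ∀ i : ℕ, aeval (ζ ^ (q ^ i)) χ = 0 := by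
    intro i
    induction i with
    | zero => simpa using hroot0
    | succ i ih =>
      rw [pow_succ, pow_mul]
      exact hfrob _ ih
  have hmap : χ.map (algebraMap F ↥(Cent z)) ≠ 0 := (hχmonic.map _).ne_zero
  -- the four roots
  let S : Finset ↥(Cent z) := (Finset.range 4).image (fun i => ζ ^ (q ^ i))
  have hSinj : Set.InjOn (fun i : ℕ => ζ ^ (q ^ i)) (Finset.range 4 : Finset ℕ) := by
    intro i hi j hj hij
    rw [Finset.coe_range, Set.mem_Iio] at hi hj
    apply h.pow_injective hi hj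
    have h1 : (ζ ^ (q ^ i)).1 = (ζ ^ (q ^ j)).1 := congrArg Subtype.val hij
    apply Subtype.ext
    rw [Matrix.SpecialLinearGroup.coe_pow, Matrix.SpecialLinearGroup.coe_pow]
    simpa using h1
  have hScard : S.card = 4 := by
    rw [Finset.card_image_of_injOn hSinj, Finset.card_range]
  have hSsub : S ⊆ (χ.aroots ↥(Cent z)).toFinset := by
    intro t ht
    obtain ⟨i, -, rfl⟩ := Finset.mem_image.1 ht
    rw [Multiset.mem_toFinset, mem_aroots']
    exact ⟨hmap, hrooti i⟩
  have hμS : μ ∈ S := by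
    by_contra hμ
    have h1 : insert μ S ⊆ (χ.aroots ↥(Cent z)).toFinset := by
      intro t ht
      rcases Finset.mem_insert.1 ht with rfl | ht
      · rw [Multiset.mem_toFinset, mem_aroots']
        exact ⟨hmap, hrootμ⟩
      · exact hSsub ht
    have h2 := Finset.card_le_card h1
    rw [Finset.card_insert_of_notMem hμ, hScard] at h2
    have h3 : (χ.aroots ↥(Cent z)).toFinset.card ≤ 4 := by
      calc (χ.aroots ↥(Cent z)).toFinset.card ≤ Multiset.card (χ.aroots ↥(Cent z)) :=
            Multiset.toFinset_card_le _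
        _ ≤ (χ.map (algebraMap F ↥(Cent z))).natDegree := card_roots' _
        _ ≤ χ.natDegree := natDegree_map_le
        _ = 4 := hχdeg
    omega
  obtain ⟨i, hi, hiμ⟩ := Finset.mem_image.1 hμS
  refine ⟨i, Finset.mem_range.1 hi, ?_⟩
  apply Subtype.ext
  have h1 : (ζ ^ (q ^ i)).1 = μ.1 := congrArg Subtype.val hiμ
  rw [Matrix.SpecialLinearGroup.coe_pow]
  have h2 : (ζ ^ (q ^ i)).1 = z.1 ^ (q ^ i) := rfl
  rw [← h2, h1]

end Galois

end Cfsg.Agent.Lib.Helper09
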