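import Mathlib

set_option autoImplicit false

namespace Cfsg.Agent.Lib.Helper09

open Matrix

section NumberTheory

/-- if `p` is an odd prime dividing `q^2+1` then `q^d ≡ 1 mod p` with `d ≤ 4` forces `d ∈ {0,4}` -/
theorem pow_modEq_one_cases {p q d : ℕ} (hp : p.Prime) (hp2 : p ≠ 2) (hdiv : p ∣ q ^ 2 + 1)
    (hd : d ≤ 4) (h : q ^ d ≡ 1 [MOD p]) : d = 0 ∨ d = 4 := by
  have : Fact p.Prime := ⟨hp⟩
  have hx : ((q : ZMod p)) ^ 2 + 1 = 0 := by
    have := (ZMod.natCast_eq_zero_iff (q ^ 2 + 1) p).2 hdiv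
    push_cast at this
    exact this
  have h2 : (2 : ZMod p) ≠ 0 := by
    intro h2
    have : ((2 : ℕ) : ZMod p) = 0 := by exact_mod_cast h2
    rw [ZMod.natCast_eq_zero_iff] at this
    have := (Nat.prime_dvd_prime_iff_eq hp Nat.prime_two).1 this
    exact hp2 this
  have hq : ((q : ZMod p)) ^ d = 1 := by
    have := (ZMod.natCast_eq_natCast_iff _ _ p).2 h
    push_cast at this
    exact this
  have hq1 : (q : ZMod p) ≠ 1 := by
    intro h1
    rw [h1] at hx
    apply h2
    linear_combination hx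
  interval_cases d
  · left; rfl
  · exfalso
    exact hq1 (by simpa using hq)
  · exfalso
    apply h2
    linear_combination hx - hq
  · exfalso
    apply hq1
    have h4 : ((q : ZMod p)) ^ 4 = 1 := by linear_combination ((q : ZMod p) ^ 2 - 1) * hx
    linear_combination h4 - (q : ZMod p) * hq
  · right; rfl

end NumberTheory

section LinearAlgebra

variable {F : Type*} [Field F] [Fintype F]

/-- the subspace of vectors fixed by a matrix -/
def fixSub (Z : Matrix (Fin 4) (Fin 4) F) : Submodule F (Fin 4 → F) where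
  carrier := {v | Z *ᵥ v = v}
  add_mem' := by
    intro a b ha hb
    show Z *ᵥ (a + b) = a + b
    rw [Matrix.mulVec_add, ha, hb]
  zero_mem' := by
    show Z *ᵥ 0 = 0
    rw [Matrix.mulVec_zero]
  smul_mem' := by
    intro c a ha
    show Z *ᵥ (c • a) = c • a
    rw [Matrix.mulVec_smul, ha]

omit [Fintype F] in
theorem mem_fixSub (Z : Matrix (Fin 4) (Fin 4) F) (v : Fin 4 → F) :
    v ∈ fixSub Z ↔ Z *ᵥ v = v := Iff.rfl

theorem card_submodule (W : Submodule F (Fin 4 → F)) :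
    Nat.card W = Fintype.card F ^ Module.finrank F W := by
  rw [Module.natCard_eq_pow_finrank (K := F) (V := W), Nat.card_eq_fintype_card]

omit [Fintype F] in
theorem finrank_le_four (W : Submodule F (Fin 4 → F)) : Module.finrank F W ≤ 4 := by
  have := Submodule.finrank_le W
  simpa using this

variable (z : Matrix.SpecialLinearGroup (Fin 4) F)

omit [Fintype F] in
theorem pow_mulVec_mem (W : Submodule F (Fin 4 → F)) (hW : ∀ w ∈ W, z.1 *ᵥ w ∈ W) (n : ℕ) :
    ∀ w ∈ W, (z ^ n).1 *ᵥ w ∈ W := by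
  induction n with
  | zero => intro w hw; simpa using hw
  | succ n ih =>
    intro w hw
    rw [pow_succ, Matrix.SpecialLinearGroup.coe_mul, ← Matrix.mulVec_mulVec]
    exact ih _ (hW w hw)

theorem zpowers_mulVec_mem (W : Submodule F (Fin 4 → F)) (hW : ∀ w ∈ W, z.1 *ᵥ w ∈ W)
    (g : Matrix.SpecialLinearGroup (Fin 4) F) (hg : g ∈ Subgroup.zpowers z) :
    ∀ w ∈ W, g.1 *ᵥ w ∈ W := by
  rw [← (isOfFinOrder_of_finite z).mem_powers_iff_mem_zpowers, Submonoid.mem_powers_iff] at hg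
  obtain ⟨n, rfl⟩ := hg
  exact pow_mulVec_mem z W hW n

/-- the cyclic group generated by `z` acts on an invariant subspace -/
@[reducible] def zpAction (W : Submodule F (Fin 4 → F)) (hW : ∀ w ∈ W, z.1 *ᵥ w ∈ W) :
    MulAction ↥(Subgroup.zpowers z) ↥W where
  smul g w := ⟨g.1.1 *ᵥ w.1, zpowers_mulVec_mem z W hW g.1 g.2 w.1 w.2⟩
  one_smul w := Subtype.ext (by
    show (1 : Matrix.SpecialLinearGroup (Fin 4) F).1 *ᵥ w.1 = w.1
    simp)
  mul_smul g h w := Subtype.ext (by
    show (g.1 * h.1).1 *ᵥ w.1 = g.1.1 *ᵥ (h.1.1 *ᵥ w.1)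
    rw [Matrix.SpecialLinearGroup.coe_mul, Matrix.mulVec_mulVec])

omit [Fintype F] in
theorem pow_mulVec_fix (n : ℕ) {v : Fin 4 → F} (hv : z.1 *ᵥ v = v) : (z ^ n).1 *ᵥ v = v := by
  induction n with
  | zero => simp
  | succ n ih =>
    rw [pow_succ, Matrix.SpecialLinearGroup.coe_mul, ← Matrix.mulVec_mulVec, hv, ih]

/-- counting fixed vectors modulo `p` -/
theorem card_modEq_fix {p : ℕ} [hp : Fact p.Prime] (hz : orderOf z = p)
    (W : Submodule F (Fin 4 → F)) (hW : ∀ w ∈ W, z.1 *ᵥ w ∈ W) :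
    Nat.card W ≡ Nat.card ↥(W ⊓ fixSub z.1) [MOD p] := by
  let _ := zpAction z W hW
  have hP : IsPGroup p ↥(Subgroup.zpowers z) := by
    apply IsPGroup.of_card (n := 1)
    rw [Nat.card_zpowers, hz, pow_one]
  have key := hP.card_modEq_card_fixedPoints ↥W
  have e : ↥(MulAction.fixedPoints ↥(Subgroup.zpowers z) ↥W) ≃ ↥(W ⊓ fixSub z.1) :=
    { toFun := fun w => ⟨w.1.1, w.1.2, by
        have := w.2 ⟨z, Subgroup.mem_zpowers z⟩
        exact congrArg Subtype.val this⟩
      invFun := fun w => ⟨⟨w.1, w.2.1⟩, by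
        rintro ⟨g, hg⟩
        rw [← (isOfFinOrder_of_finite z).mem_powers_iff_mem_zpowers, Submonoid.mem_powers_iff] at hg
        obtain ⟨n, rfl⟩ := hg
        apply Subtype.ext
        exact pow_mulVec_fix z n w.2.2⟩
      left_inv := fun w => rfl
      right_inv := fun w => rfl }
  rw [Nat.card_congr e] at key
  exact key


/-- hypotheses: `z` has odd prime order `p` dividing `q^2+1` -/
structure IrrHyp (p : ℕ) : Prop where
  prime : p.Prime
  ne_two : p ≠ 2
  dvd : p ∣ Fintype.card F ^ 2 + 1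
  order : orderOf z = p

variable {z}

theorem IrrHyp.fix_eq_bot {p : ℕ} (h : IrrHyp z p) : fixSub z.1 = ⊥ := by
  haveI : Fact p.Prime := ⟨h.prime⟩
  have key := card_modEq_fix z h.order ⊤ (fun w _ => Submodule.mem_top)
  rw [top_inf_eq, card_submodule, card_submodule] at key
  have h4 : Module.finrank F (⊤ : Submodule F (Fin 4 → F)) = 4 := by
    rw [finrank_top]; simp
  rw [h4] at key
  have hq4 : Fintype.card F ^ 4 ≡ 1 [MOD p] := by
    have hd := h.dvd
    have h1 : (Fintype.card F ^ 2) ^ 2 ≡ 1 [MOD p] := by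
      have : Fintype.card F ^ 2 + 1 ≡ 0 [MOD p] := (Nat.modEq_zero_iff_dvd).2 hd
      have h2 : (Fintype.card F ^ 2 + 1) * (Fintype.card F ^ 2 + 1) ≡ 0 * (Fintype.card F ^ 2 + 1) [MOD p] :=
        this.mul_right _
      -- (x+1)^2 = x^2 + 2x + 1 ≡ 0 and 2x + 2 ≡ 0 so x^2 ≡ 1
      have h3 : 2 * (Fintype.card F ^ 2 + 1) ≡ 0 [MOD p] := by
        have := this.mul_left 2
        simpa using this
      have h5 : (Fintype.card F ^ 2) ^ 2 + 2 * (Fintype.card F ^ 2 + 1) ≡ 1 + 0 [MOD p] := by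
        have : (Fintype.card F ^ 2) ^ 2 + 2 * (Fintype.card F ^ 2 + 1) =
            (Fintype.card F ^ 2 + 1) * (Fintype.card F ^ 2 + 1) + 1 := by ring
        rw [this]
        have h6 := h2.add_right 1
        simpa using h6
      exact Nat.ModEq.add_right_cancel h3 h5
    have : Fintype.card F ^ 4 = (Fintype.card F ^ 2) ^ 2 := by ring
    rw [this]; exact h1
  have hfix : Fintype.card F ^ Module.finrank F (fixSub z.1) ≡ 1 [MOD p] := key.symm.trans hq4
  rcases pow_modEq_one_cases h.prime h.ne_two h.dvd (finrank_le_four _) hfix with h0 | h0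
  · exact Submodule.finrank_eq_zero.1 h0
  · exfalso
    have htop : fixSub z.1 = ⊤ := by
      apply Submodule.eq_top_of_finrank_eq
      rw [h0]; simp
    have hz1 : z = 1 := by
      apply Subtype.ext
      show z.1 = 1
      apply Matrix.toLin'.injective
      apply LinearMap.ext
      intro v
      have : v ∈ fixSub z.1 := by rw [htop]; exact Submodule.mem_top
      rw [Matrix.toLin'_apply, (mem_fixSub z.1 v).1 this]
      simp
    have := h.order
    rw [hz1, orderOf_one] at this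
    exact h.prime.one_lt.ne this

/-- `z` acts irreducibly -/
theorem IrrHyp.irreducible {p : ℕ} (h : IrrHyp z p) (W : Submodule F (Fin 4 → F))
    (hW : ∀ w ∈ W, z.1 *ᵥ w ∈ W) : W = ⊥ ∨ W = ⊤ := by
  haveI : Fact p.Prime := ⟨h.prime⟩
  have key := card_modEq_fix z h.order W hW
  rw [h.fix_eq_bot, inf_bot_eq, card_submodule, card_submodule] at key
  have h0 : Module.finrank F (⊥ : Submodule F (Fin 4 → F)) = 0 := finrank_bot F _
  rw [h0, pow_zero] at key
  rcases pow_modEq_one_cases h.prime h.ne_two h.dvd (finrank_le_four _) key with h1 | h1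
  · left
    exact Submodule.finrank_eq_zero.1 h1
  · right
    apply Submodule.eq_top_of_finrank_eq
    rw [h1]; simp

end LinearAlgebra

section Centralizer

variable {F : Type*} [Field F] [Fintype F] {z : Matrix.SpecialLinearGroup (Fin 4) F}

/-- the matrices commuting with `z` -/
def Cent (z : Matrix.SpecialLinearGroup (Fin 4) F) : Subalgebra F (Matrix (Fin 4) (Fin 4) F) :=
  Subalgebra.centralizer F {z.1}

omit [Fintype F] in
theorem mem_Cent {A : Matrix (Fin 4) (Fin 4) F} : A ∈ Cent z ↔ z.1 * A = A * z.1 := by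
  simp [Cent, Subalgebra.mem_centralizer_iff]

/-- evaluation of a matrix at a vector, as a linear map -/
def evalAt (v : Fin 4 → F) : Matrix (Fin 4) (Fin 4) F →ₗ[F] (Fin 4 → F) where
  toFun M := M *ᵥ v
  map_add' := fun M N => Matrix.add_mulVec M N v
  map_smul' := fun c M => Matrix.smul_mulVec c M v

omit [Fintype F] in
theorem adjoin_comm_cent {A M : Matrix (Fin 4) (Fin 4) F} (hA : A ∈ Cent z)
    (hM : M ∈ Algebra.adjoin F ({z.1} : Set (Matrix (Fin 4) (Fin 4) F))) : A * M = M * A := by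
  have h1 := Algebra.adjoin_le_centralizer_centralizer F ({z.1} : Set (Matrix (Fin 4) (Fin 4) F)) hM
  rw [Subalgebra.mem_centralizer_iff] at h1
  exact h1 A hA

omit [Fintype F] in
theorem adjoin_le_Cent :
    Algebra.adjoin F ({z.1} : Set (Matrix (Fin 4) (Fin 4) F)) ≤ Cent z := by
  apply Algebra.adjoin_le
  intro x hx
  rw [Set.mem_singleton_iff] at hx
  rw [hx]
  exact mem_Cent.2 rfl

/-- every vector is a polynomial in `z` applied to the first basis vector -/
theorem IrrHyp.cyclic {p : ℕ} (h : IrrHyp z p) (u : Fin 4 → F) :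
    ∃ M ∈ Algebra.adjoin F ({z.1} : Set (Matrix (Fin 4) (Fin 4) F)),
      M *ᵥ (Pi.single 0 1 : Fin 4 → F) = u := by
  set E := Algebra.adjoin F ({z.1} : Set (Matrix (Fin 4) (Fin 4) F)) with hE
  set W : Submodule F (Fin 4 → F) :=
    Submodule.map (evalAt (Pi.single 0 1 : Fin 4 → F)) (Subalgebra.toSubmodule E) with hW
  have hinv : ∀ w ∈ W, z.1 *ᵥ w ∈ W := by
    rintro w ⟨M, hM, rfl⟩
    refine ⟨z.1 * M, ?_, ?_⟩
    · exact E.mul_mem (Algebra.subset_adjoin rfl) hM
    · show (z.1 * M) *ᵥ _ = z.1 *ᵥ (M *ᵥ _)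
      rw [Matrix.mulVec_mulVec]
  have hne : W ≠ ⊥ := by
    intro hbot
    have h1 : (Pi.single 0 1 : Fin 4 → F) ∈ W := by
      refine ⟨1, E.one_mem, ?_⟩
      show (1 : Matrix (Fin 4) (Fin 4) F) *ᵥ _ = _
      rw [Matrix.one_mulVec]
    rw [hbot, Submodule.mem_bot] at h1
    have := congrFun h1 0
    simp at this
  have htop : W = ⊤ := (h.irreducible W hinv).resolve_left hne
  have hu : u ∈ W := by rw [htop]; exact Submodule.mem_top
  obtain ⟨M, hM, rfl⟩ := hu
  exact ⟨M, hM, rfl⟩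

/-- the centraliser algebra of `z` is commutative -/
theorem IrrHyp.cent_comm {p : ℕ} (h : IrrHyp z p) {A B : Matrix (Fin 4) (Fin 4) F}
    (hA : A ∈ Cent z) (hB : B ∈ Cent z) : A * B = B * A := by
  apply Matrix.toLin'.injective
  apply LinearMap.ext
  intro u
  rw [Matrix.toLin'_apply, Matrix.toLin'_apply]
  obtain ⟨R, hR, rfl⟩ := h.cyclic u
  obtain ⟨P, hP, hPv⟩ := h.cyclic (A *ᵥ (Pi.single 0 1 : Fin 4 → F))
  obtain ⟨Q, hQ, hQv⟩ := h.cyclic (B *ᵥ (Pi.single 0 1 : Fin 4 → F))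
  have hAR := adjoin_comm_cent hA hR
  have hBR := adjoin_comm_cent hB hR
  have hAQ := adjoin_comm_cent hA hQ
  have hBP := adjoin_comm_cent hB hP
  have hPQ : P * Q = Q * P := adjoin_comm_cent (adjoin_le_Cent hP) hQ
  set v : Fin 4 → F := Pi.single 0 1 with hv
  calc (A * B) *ᵥ (R *ᵥ v) = (A * B * R) *ᵥ v := by rw [Matrix.mulVec_mulVec]
    _ = (R * A * B) *ᵥ v := by
        rw [Matrix.mul_assoc A B R, hBR, ← Matrix.mul_assoc, hAR]
    _ = (R * A) *ᵥ (B *ᵥ v) := by rw [Matrix.mulVec_mulVec]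
    _ = (R * A) *ᵥ (Q *ᵥ v) := by rw [hQv]
    _ = (R * (A * Q)) *ᵥ v := by rw [Matrix.mulVec_mulVec, Matrix.mul_assoc]
    _ = (R * (Q * A)) *ᵥ v := by rw [hAQ]
    _ = (R * Q) *ᵥ (A *ᵥ v) := by rw [Matrix.mulVec_mulVec, Matrix.mul_assoc]
    _ = (R * Q) *ᵥ (P *ᵥ v) := by rw [hPv]
    _ = (R * (Q * P)) *ᵥ v := by rw [Matrix.mulVec_mulVec, Matrix.mul_assoc]
    _ = (R * (P * Q)) *ᵥ v := by rw [hPQ]
    _ = (R * P) *ᵥ (Q *ᵥ v) := by rw [Matrix.mulVec_mulVec, Matrix.mul_assoc]
    _ = (R * P) *ᵥ (B *ᵥ v) := by rw [hQv]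
    _ = (R * (P * B)) *ᵥ v := by rw [Matrix.mulVec_mulVec, Matrix.mul_assoc]
    _ = (R * (B * P)) *ᵥ v := by rw [hBP]
    _ = (R * B) *ᵥ (P *ᵥ v) := by rw [Matrix.mulVec_mulVec, Matrix.mul_assoc]
    _ = (R * B) *ᵥ (A *ᵥ v) := by rw [hPv]
    _ = (R * B * A) *ᵥ v := by rw [Matrix.mulVec_mulVec]
    _ = (B * A * R) *ᵥ v := by
        rw [Matrix.mul_assoc B A R, hAR, ← Matrix.mul_assoc, hBR]
    _ = (B * A) *ᵥ (R *ᵥ v) := by rw [Matrix.mulVec_mulVec]

/-- a nonzero matrix commuting with `z` is injective -/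
theorem IrrHyp.cent_injective {p : ℕ} (h : IrrHyp z p) {A : Matrix (Fin 4) (Fin 4) F}
    (hA : A ∈ Cent z) (hA0 : A ≠ 0) {w : Fin 4 → F} (hw : A *ᵥ w = 0) : w = 0 := by
  set K : Submodule F (Fin 4 → F) := LinearMap.ker (Matrix.toLin' A) with hK
  have hmem : ∀ x, x ∈ K ↔ A *ᵥ x = 0 := by
    intro x
    rw [hK, LinearMap.mem_ker, Matrix.toLin'_apply]
  have hinv : ∀ x ∈ K, z.1 *ᵥ x ∈ K := by
    intro x hx
    rw [hmem] at hx ⊢
    rw [Matrix.mulVec_mulVec, ← mem_Cent.1 hA, ← Matrix.mulVec_mulVec, hx, Matrix.mulVec_zero]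
  rcases h.irreducible K hinv with hb | ht
  · have : w ∈ K := (hmem w).2 hw
    rw [hb, Submodule.mem_bot] at this
    exact this
  · exfalso
    apply hA0
    apply Matrix.toLin'.injective
    apply LinearMap.ext
    intro x
    have : x ∈ K := by rw [ht]; exact Submodule.mem_top
    rw [Matrix.toLin'_apply, (hmem x).1 this]
    simp

theorem IrrHyp.cent_noZeroDiv {p : ℕ} (h : IrrHyp z p) {A B : Matrix (Fin 4) (Fin 4) F}
    (hA : A ∈ Cent z) (hAB : A * B = 0) : A = 0 ∨ B = 0 := by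
  by_cases hA0 : A = 0
  · exact Or.inl hA0
  · right
    apply Matrix.toLin'.injective
    apply LinearMap.ext
    intro x
    rw [Matrix.toLin'_apply]
    have : A *ᵥ (B *ᵥ x) = 0 := by
      rw [Matrix.mulVec_mulVec, hAB, Matrix.zero_mulVec]
    rw [h.cent_injective hA hA0 this]
    simp

/-- a finite group mapping injectively into the centraliser of `z` is cyclic -/
theorem IrrHyp.isCyclic_of_commute {p : ℕ} (h : IrrHyp z p) {G : Type*} [Group G] [Finite G]
    (f : G →* Matrix.SpecialLinearGroup (Fin 4) F) (hf : Function.Injective f)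
    (hc : ∀ g, z.1 * (f g).1 = (f g).1 * z.1) : IsCyclic G := by
  letI : CommRing ↥(Cent z) :=
    { (inferInstance : Ring ↥(Cent z)) with
      mul_comm := fun A B => Subtype.ext (h.cent_comm A.2 B.2) }
  haveI : NoZeroDivisors ↥(Cent z) := by
    refine ⟨fun {A B} hAB => ?_⟩
    have h1 : A.1 * B.1 = 0 := congrArg Subtype.val hAB
    rcases h.cent_noZeroDiv A.2 h1 with h0 | h0
    · exact Or.inl (Subtype.ext h0)
    · exact Or.inr (Subtype.ext h0)
  haveI : Nontrivial ↥(Cent z) := by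
    refine ⟨⟨0, 1, ?_⟩⟩
    intro h01
    have h1 : (0 : Matrix (Fin 4) (Fin 4) F) = 1 := congrArg Subtype.val h01
    have := congrFun (congrFun h1 0) 0
    simp at this
  haveI : IsDomain ↥(Cent z) := NoZeroDivisors.to_isDomain _
  let f' : G →* ↥(Cent z) :=
    { toFun := fun g => ⟨(f g).1, mem_Cent.2 (hc g)⟩
      map_one' := by
        apply Subtype.ext
        show (f 1).1 = 1
        rw [map_one]; rfl
      map_mul' := fun a b => by
        apply Subtype.ext
        show (f (a * b)).1 = (f a).1 * (f b).1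
        rw [map_mul]; rfl }
  have hf' : Function.Injective f' := by
    intro a b hab
    apply hf
    apply Subtype.ext
    have h1 : (f' a).1 = (f' b).1 := congrArg Subtype.val hab
    exact h1
  exact isCyclic_of_injective_ringHom f' hf'

end Centralizer

end Cfsg.Agent.Lib.Helper09
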