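import Mathlib
import Cfsg.Prelude.Def_Transfer

/-!
# S2861: generic glue

* `Good p U`: `N(U) ≠ ⊤` and `U` is the only nontrivial elementary abelian `p`-subgroup of `N(U)`
  normalized by `N(U)`.
* `Good.map`: invariance under isomorphisms.
* `quotient_unique`: transfer of the uniqueness statement from the range of a homomorphism to the quotient by its kernel.
* `map_eq_normalizer`: the image of a "unique maximal overgroup" is the full normalizer.
-/

set_option autoImplicit false

namespace Cfsg.Agent.Lib.Helper09.L2861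

open Subgroup

/-- `N(U) ≠ ⊤` and `U` is the unique nontrivial elementary abelian `p`-subgroup of `N(U)` normalized by `N(U)`. -/
def Good {X : Type*} [Group X] (p : ℕ) (U : Subgroup X) : Prop :=
  normalizer (U : Set X) ≠ ⊤ ∧
  ∀ W : Subgroup X, W ≤ normalizer (U : Set X) →
    (∀ b ∈ normalizer (U : Set X), ∀ w ∈ W, b * w * b⁻¹ ∈ W) →
    Cfsg.IsElementaryAbelian p W → W ≠ ⊥ → W = U

theorem isElementaryAbelian_map {X X' : Type*} [Group X] [Group X'] {p : ℕ} (f : X →* X')
    {W : Subgroup X} (h : Cfsg.IsElementaryAbelian p W) : Cfsg.IsElementaryAbelian p (W.map f) := by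
  obtain ⟨h1, h2⟩ := h
  refine ⟨⟨⟨?_⟩⟩, ?_⟩
  · rintro ⟨a, x, hx, rfl⟩ ⟨b, y, hy, rfl⟩
    apply Subtype.ext
    show f x * f y = f y * f x
    have := h1.is_comm.comm ⟨x, hx⟩ ⟨y, hy⟩
    have h3 : x * y = y * x := congrArg Subtype.val this
    rw [← map_mul, ← map_mul, h3]
  · rintro a ⟨x, hx, rfl⟩
    rw [← map_pow, h2 x hx, map_one]

theorem Good.map {X X' : Type*} [Group X] [Group X'] {p : ℕ} {U : Subgroup X} (h : Good p U)
    (e : X ≃* X') : Good p (U.map e.toMonoidHom) := by
  have hN : normalizer ((U.map e.toMonoidHom : Subgroup X') : Set X') =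
      (normalizer (U : Set X)).map e.toMonoidHom := (Subgroup.map_equiv_normalizer_eq U e).symm
  refine ⟨?_, ?_⟩
  · intro htop
    apply h.1
    rw [hN] at htop
    rw [eq_top_iff]
    intro x _
    have : e x ∈ (normalizer (U : Set X)).map e.toMonoidHom := by rw [htop]; trivial
    obtain ⟨y, hy, hxy⟩ := this
    have : y = x := e.injective hxy
    rw [← this]; exact hy
  · intro W hW hnorm hea hne
    have hW' : W.map e.symm.toMonoidHom ≤ normalizer (U : Set X) := by
      rintro _ ⟨w, hw, rfl⟩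
      have := hW hw
      rw [hN] at this
      obtain ⟨y, hy, hyw⟩ := this
      have : e.symm w = y := by rw [← hyw]; simp
      show e.symm w ∈ _
      rw [this]; exact hy
    have hnorm' : ∀ b ∈ normalizer (U : Set X), ∀ w ∈ W.map e.symm.toMonoidHom,
        b * w * b⁻¹ ∈ W.map e.symm.toMonoidHom := by
      rintro b hb _ ⟨w, hw, rfl⟩
      have hb' : e b ∈ normalizer ((U.map e.toMonoidHom : Subgroup X') : Set X') := by
        rw [hN]; exact ⟨b, hb, rfl⟩
      refine ⟨e b * w * (e b)⁻¹, hnorm _ hb' w hw, ?_⟩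
      simp
    have hne' : W.map e.symm.toMonoidHom ≠ ⊥ := by
      intro h0
      apply hne
      rw [eq_bot_iff]
      intro w hw
      have : e.symm w ∈ W.map e.symm.toMonoidHom := ⟨w, hw, rfl⟩
      rw [h0, mem_bot] at this
      have h1 : w = 1 := by
        have := congrArg e this
        simpa using this
      rw [h1]; exact one_mem _
    have := h.2 _ hW' hnorm' (isElementaryAbelian_map _ hea) hne'
    rw [← this]
    ext w
    constructor
    · intro hw
      exact ⟨e.symm w, ⟨w, hw, rfl⟩, by simp⟩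
    · rintro ⟨_, ⟨w', hw', rfl⟩, rfl⟩
      simpa using hw'

/-- transfer of uniqueness from the range of `ψ` to the quotient by its kernel -/
theorem quotient_unique {N X : Type*} [Group N] [Group X] (p : ℕ) (ψ : N →* X)
    (K : Subgroup N) [K.Normal] (hK : ψ.ker = K) (Y' : Subgroup N)
    (h : ∀ W : Subgroup X, W ≤ ψ.range → (∀ b ∈ ψ.range, ∀ w ∈ W, b * w * b⁻¹ ∈ W) →
      Cfsg.IsElementaryAbelian p W → W ≠ ⊥ → W = Y'.map ψ)
    (V : Subgroup (N ⧸ K)) (hVn : V.Normal) (hVe : Cfsg.IsElementaryAbelian p V) (hV1 : V ≠ ⊥) :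
    V = Y'.map (QuotientGroup.mk' K) := by
  have hker : ∀ {a b : N}, ψ a = ψ b ↔ (QuotientGroup.mk' K a) = QuotientGroup.mk' K b := by
    intro a b
    rw [QuotientGroup.mk'_apply, QuotientGroup.mk'_apply, QuotientGroup.eq, ← hK, MonoidHom.mem_ker,
      map_mul, map_inv, inv_mul_eq_one]
  set W : Subgroup X := (V.comap (QuotientGroup.mk' K)).map ψ with hWdef
  have hmemW : ∀ n : N, ψ n ∈ W ↔ QuotientGroup.mk' K n ∈ V := by
    intro n
    constructor
    · rintro ⟨n', hn', hnn⟩
      rw [← hker.1 hnn]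
      exact hn'
    · intro hn
      exact ⟨n, hn, rfl⟩
  have hW1 : W ≤ ψ.range := by
    rintro _ ⟨n, _, rfl⟩
    exact ⟨n, rfl⟩
  have hW2 : ∀ b ∈ ψ.range, ∀ w ∈ W, b * w * b⁻¹ ∈ W := by
    rintro _ ⟨n0, rfl⟩ _ ⟨n, hn, rfl⟩
    rw [← map_inv, ← map_mul, ← map_mul, hmemW, map_mul, map_mul, map_inv]
    exact hVn.conj_mem _ hn _
  have hW3 : Cfsg.IsElementaryAbelian p W := by
    obtain ⟨h1, h2⟩ := hVe
    refine ⟨⟨⟨?_⟩⟩, ?_⟩
    · rintro ⟨_, n, hn, rfl⟩ ⟨_, n', hn', rfl⟩
      apply Subtype.ext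
      show ψ n * ψ n' = ψ n' * ψ n
      rw [← map_mul, ← map_mul, hker, map_mul, map_mul]
      exact congrArg Subtype.val (h1.is_comm.comm ⟨_, hn⟩ ⟨_, hn'⟩)
    · rintro _ ⟨n, hn, rfl⟩
      rw [← map_pow, ← map_one ψ, hker, map_pow, map_one]
      exact h2 _ hn
  have hW4 : W ≠ ⊥ := by
    intro h0
    apply hV1
    rw [eq_bot_iff]
    intro v hv
    obtain ⟨n, rfl⟩ := QuotientGroup.mk'_surjective K v
    have : ψ n ∈ W := (hmemW n).2 hv
    rw [h0, mem_bot, ← map_one ψ, hker, map_one] at this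
    rw [this]; exact one_mem _
  have hWY := h W hW1 hW2 hW3 hW4
  ext v
  obtain ⟨n, rfl⟩ := QuotientGroup.mk'_surjective K v
  constructor
  · intro hv
    have : ψ n ∈ W := (hmemW n).2 hv
    rw [hWY] at this
    obtain ⟨y, hy, hyn⟩ := this
    exact ⟨y, hy, hker.1 hyn⟩
  · rintro ⟨y, hy, hyn⟩
    have : ψ y ∈ W := by rw [hWY]; exact ⟨y, hy, rfl⟩
    rw [← hyn]
    exact (hmemW y).1 this

/-- if every proper subgroup containing `Y` lies in `N ≤ N(Y)` and `N(π Y) ≠ ⊤` for a surjection `π`, then `π N = N(π Y)` -/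
theorem map_eq_normalizer {L X : Type*} [Group L] [Group X] (π : L →* X)
    (hπ : Function.Surjective π) (Y N : Subgroup L)
    (hN : N ≤ normalizer (Y : Set L))
    (hmax : ∀ Z : Subgroup L, Y ≤ Z → Z ≠ ⊤ → Z ≤ N)
    (hne : normalizer ((Y.map π : Subgroup X) : Set X) ≠ ⊤) :
    N.map π = normalizer ((Y.map π : Subgroup X) : Set X) := by
  apply le_antisymm
  · exact (Subgroup.map_mono hN).trans (Subgroup.le_normalizer_map π)
  · intro x hx
    obtain ⟨l, rfl⟩ := hπ x
    set Z : Subgroup L := (normalizer ((Y.map π : Subgroup X) : Set X)).comap π with hZ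
    have hYZ : Y ≤ Z := by
      intro y hy
      show π y ∈ normalizer _
      exact Subgroup.le_normalizer (Subgroup.mem_map_of_mem π hy)
    have hZtop : Z ≠ ⊤ := by
      intro h
      apply hne
      rw [eq_top_iff]
      intro x _
      obtain ⟨l', rfl⟩ := hπ x
      have : l' ∈ Z := by rw [h]; trivial
      exact this
    have hl : l ∈ Z := hx
    exact ⟨l, hmax Z hYZ hZtop hl, rfl⟩

end Cfsg.Agent.Lib.Helper09.L2861
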