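import Cfsg.Agent.Lib.Helper09.SuzukiCN
import Cfsg.Prelude.Def_KGroupFacts

set_option autoImplicit false

namespace Cfsg.Agent.Lib.Helper09

open Matrix
open scoped Pointwise

section FieldAut

variable {F : Type*} [Field F] [Fintype F] {m : ℕ}

omit [Fintype F] in
theorem map_sg (ψ : F →+* F) (m : ℕ) (a : F) : ψ (sg m a) = sg m (ψ a) := map_pow ψ a _

omit [Fintype F] in
theorem map_ff (ψ : F →+* F) (m : ℕ) (a b : F) : ψ (ff m a b) = ff m (ψ a) (ψ b) := by
  simp only [ff, map_add, map_mul, map_pow]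

omit [Fintype F] in
theorem map_tauS (ψ : F →+* F) (m : ℕ) (a b : F) :
    Matrix.SpecialLinearGroup.map ψ (tauS m a b) = tauS m (ψ a) (ψ b) := by
  apply Subtype.ext
  ext i j
  simp only [Matrix.SpecialLinearGroup.map_apply_coe, RingHom.mapMatrix_apply, Matrix.map_apply]
  fin_cases i <;> fin_cases j <;> simp [tauS, tauM, map_sg, map_ff]

omit [Fintype F] in
theorem map_wS (ψ : F →+* F) :
    Matrix.SpecialLinearGroup.map ψ (wS F) = wS F := by
  apply Subtype.ext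
  ext i j
  simp only [Matrix.SpecialLinearGroup.map_apply_coe, RingHom.mapMatrix_apply, Matrix.map_apply]
  fin_cases i <;> fin_cases j <;> simp [wS, wM]

omit [Fintype F] in
theorem map_hS (ψ : F →+* F) (m : ℕ) (k : Fˣ) :
    Matrix.SpecialLinearGroup.map ψ (hS m k) = hS m (Units.map (ψ : F →* F) k) := by
  apply Subtype.ext
  ext i j
  simp only [Matrix.SpecialLinearGroup.map_apply_coe, RingHom.mapMatrix_apply, Matrix.map_apply]
  fin_cases i <;> fin_cases j <;> simp [hS, hM, map_pow, map_inv₀]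

theorem map_mem_sz (hm : 1 ≤ m) (hF : Fintype.card F = 2 ^ (2 * m + 1)) (ψ : F →+* F)
    {g : Matrix.SpecialLinearGroup (Fin 4) F} (hg : g ∈ Cfsg.Sz F m) :
    Matrix.SpecialLinearGroup.map ψ g ∈ Cfsg.Sz F m := by
  rcases sz_bruhat hm hF hg with ⟨a, b, k, rfl⟩ | ⟨a, b, a', b', k, rfl⟩
  · rw [map_mul, map_tauS, map_hS]
    exact mul_mem (tauS_mem hF _ _) (hS_mem hF _)
  · rw [map_mul, map_mul, map_mul, map_tauS, map_tauS, map_hS, map_wS]
    exact mul_mem (mul_mem (mul_mem (tauS_mem hF _ _) (wS_mem hF)) (tauS_mem hF _ _))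
      (hS_mem hF _)

/-- the entrywise action of a field endomorphism on the Suzuki group -/
noncomputable def fHom (hm : 1 ≤ m) (hF : Fintype.card F = 2 ^ (2 * m + 1)) (ψ : F →+* F) :
    ↥(Cfsg.Sz F m) →* ↥(Cfsg.Sz F m) :=
  ((Matrix.SpecialLinearGroup.map ψ).comp (Cfsg.Sz F m).subtype).codRestrict (Cfsg.Sz F m)
    (fun g => map_mem_sz hm hF ψ g.2)

theorem fHom_coe (hm : 1 ≤ m) (hF : Fintype.card F = 2 ^ (2 * m + 1)) (ψ : F →+* F)
    (g : ↥(Cfsg.Sz F m)) :
    ((fHom hm hF ψ g : ↥(Cfsg.Sz F m)) : Matrix.SpecialLinearGroup (Fin 4) F)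
      = Matrix.SpecialLinearGroup.map ψ g.1 := rfl

theorem fHom_tauG (hm : 1 ≤ m) (hF : Fintype.card F = 2 ^ (2 * m + 1)) (ψ : F →+* F) (a b : F) :
    fHom hm hF ψ (tauG hF a b) = tauG hF (ψ a) (ψ b) :=
  Subtype.ext (map_tauS ψ m a b)

theorem fHom_wG (hm : 1 ≤ m) (hF : Fintype.card F = 2 ^ (2 * m + 1)) (ψ : F →+* F) :
    fHom hm hF ψ (wG hF) = wG hF :=
  Subtype.ext (map_wS ψ)

theorem fHom_hG (hm : 1 ≤ m) (hF : Fintype.card F = 2 ^ (2 * m + 1)) (ψ : F →+* F) (k : Fˣ) :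
    fHom hm hF ψ (hG hF k) = hG hF (Units.map (ψ : F →* F) k) :=
  Subtype.ext (map_hS ψ m k)

theorem fHom_comp (hm : 1 ≤ m) (hF : Fintype.card F = 2 ^ (2 * m + 1)) (ψ φ : F →+* F)
    (g : ↥(Cfsg.Sz F m)) : fHom hm hF ψ (fHom hm hF φ g) = fHom hm hF (ψ.comp φ) g := by
  apply Subtype.ext
  apply Subtype.ext
  ext i j
  simp [fHom_coe, Matrix.SpecialLinearGroup.map_apply_coe]

theorem fHom_id (hm : 1 ≤ m) (hF : Fintype.card F = 2 ^ (2 * m + 1))
    (g : ↥(Cfsg.Sz F m)) : fHom hm hF (RingHom.id F) g = g := by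
  apply Subtype.ext
  apply Subtype.ext
  ext i j
  simp [fHom_coe, Matrix.SpecialLinearGroup.map_apply_coe]

/-- the automorphism of the Suzuki group induced by a field automorphism -/
noncomputable def fAut (hm : 1 ≤ m) (hF : Fintype.card F = 2 ^ (2 * m + 1)) (ψ : F ≃+* F) :
    MulAut ↥(Cfsg.Sz F m) where
  toFun := fHom hm hF (ψ : F →+* F)
  invFun := fHom hm hF (ψ.symm : F →+* F)
  left_inv g := by
    rw [fHom_comp]
    have : (ψ.symm : F →+* F).comp (ψ : F →+* F) = RingHom.id F := by ext x; simp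
    rw [this, fHom_id]
  right_inv g := by
    rw [fHom_comp]
    have : (ψ : F →+* F).comp (ψ.symm : F →+* F) = RingHom.id F := by ext x; simp
    rw [this, fHom_id]
  map_mul' := map_mul _

theorem fAut_apply (hm : 1 ≤ m) (hF : Fintype.card F = 2 ^ (2 * m + 1)) (ψ : F ≃+* F)
    (g : ↥(Cfsg.Sz F m)) : fAut hm hF ψ g = fHom hm hF (ψ : F →+* F) g := rfl

/-- field automorphisms act on the Suzuki group -/
noncomputable def fAutHom (hm : 1 ≤ m) (hF : Fintype.card F = 2 ^ (2 * m + 1)) :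
    (F ≃+* F) →* MulAut ↥(Cfsg.Sz F m) where
  toFun := fAut hm hF
  map_one' := by
    apply MulEquiv.ext
    intro g
    rw [fAut_apply, MulAut.one_apply]
    exact fHom_id hm hF g
  map_mul' ψ φ := by
    apply MulEquiv.ext
    intro g
    rw [MulAut.mul_apply, fAut_apply, fAut_apply, fAut_apply, fHom_comp]
    rfl

theorem fAut_tauG (hm : 1 ≤ m) (hF : Fintype.card F = 2 ^ (2 * m + 1)) (ψ : F ≃+* F) (a b : F) :
    fAut hm hF ψ (tauG hF a b) = tauG hF (ψ a) (ψ b) := fHom_tauG hm hF _ a b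

theorem fAut_wG (hm : 1 ≤ m) (hF : Fintype.card F = 2 ^ (2 * m + 1)) (ψ : F ≃+* F) :
    fAut hm hF ψ (wG hF) = wG hF := fHom_wG hm hF _

theorem fAut_hG (hm : 1 ≤ m) (hF : Fintype.card F = 2 ^ (2 * m + 1)) (ψ : F ≃+* F) (k : Fˣ) :
    fAut hm hF ψ (hG hF k) = hG hF (Units.map ((ψ : F →+* F) : F →* F) k) := fHom_hG hm hF _ k

end FieldAut

section Inner

variable {F : Type*} [Field F] [Fintype F] {m : ℕ}

theorem wG_smul_oInf (hF : Fintype.card F = 2 ^ (2 * m + 1)) :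
    wG hF • oInf F m = oAff m 0 0 := Subtype.ext (wS_smul_pInf m)

theorem wG_smul_oAff_zero (hF : Fintype.card F = 2 ^ (2 * m + 1)) :
    wG hF • oAff m (0 : F) 0 = oInf F m := Subtype.ext (wS_smul_pAff_zero m)

theorem wG_inv (hF : Fintype.card F = 2 ^ (2 * m + 1)) : (wG (m := m) hF)⁻¹ = wG hF :=
  inv_eq_of_mul_eq_one_left (wG_mul_wG hF)

theorem tauG_one_ne_one (hF : Fintype.card F = 2 ^ (2 * m + 1)) : tauG (m := m) hF (1 : F) 0 ≠ 1 := by
  rw [← tauG_zero hF]
  intro h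
  exact one_ne_zero (tauG_injective hF h).1

/-- an element of the point stabiliser fixing the origin is in the torus -/
theorem eq_hG_of_fix (hm : 1 ≤ m) (hF : Fintype.card F = 2 ^ (2 * m + 1)) {g : ↥(Cfsg.Sz F m)}
    (h1 : g • oInf F m = oInf F m) (h2 : g • oAff m (0 : F) 0 = oAff m 0 0) :
    ∃ k : Fˣ, g = hG hF k := by
  obtain ⟨a, b, k, rfl⟩ := (mem_stab_inf_iff hm hF g).1 (MulAction.mem_stabilizer_iff.2 h1)
  rw [mul_smul, hG_smul_oAff, mul_zero, mul_zero, tauG_smul_oAff_zero] at h2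
  obtain ⟨rfl, rfl⟩ := pAff_injective (congrArg Subtype.val h2)
  exact ⟨k, by rw [tauG_zero, one_mul]⟩

/-- a field automorphism inducing an inner automorphism is trivial -/
theorem fAut_inner (hm : 1 ≤ m) (hF : Fintype.card F = 2 ^ (2 * m + 1)) (ψ : F ≃+* F)
    (g : ↥(Cfsg.Sz F m)) (h : fAut hm hF ψ = MulAut.conj g) : ψ = 1 := by
  have hconj : ∀ x : ↥(Cfsg.Sz F m), g * x * g⁻¹ = fAut hm hF ψ x := by
    intro x
    rw [h, MulAut.conj_apply]
  -- `g` commutes with `τ(1,0)` and with `w`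
  have h1 : g * tauG hF 1 0 = tauG hF 1 0 * g := by
    have := hconj (tauG hF 1 0)
    rw [fAut_tauG, map_one, map_zero] at this
    calc g * tauG hF 1 0 = (g * tauG hF 1 0 * g⁻¹) * g := by group
      _ = tauG hF 1 0 * g := by rw [this]
  have h2 : g * wG hF = wG hF * g := by
    have := hconj (wG hF)
    rw [fAut_wG] at this
    calc g * wG hF = (g * wG hF * g⁻¹) * g := by group
      _ = wG hF * g := by rw [this]
  have hinf : g • oInf F m = oInf F m := by
    apply tauG_fix hF (tauG_one_ne_one hF)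
    rw [← mul_smul, ← h1, mul_smul, tauG_smul_oInf]
  have hzero : g • oAff m (0 : F) 0 = oAff m 0 0 := by
    rw [← wG_smul_oInf hF, ← mul_smul, h2, mul_smul, hinf]
  obtain ⟨k, rfl⟩ := eq_hG_of_fix hm hF hinf hzero
  have hk : k = 1 := by
    have := hconj (tauG hF 1 0)
    rw [fAut_tauG, map_one, map_zero, hG_conj_tauG] at this
    exact Units.ext (by simpa using (tauG_injective hF this).1)
  subst hk
  ext a
  have := hconj (tauG hF a 0)
  rw [fAut_tauG, hG_one, one_mul, inv_one, mul_one] at this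
  exact ((tauG_injective hF this).1).symm

end Inner

section Reduce

variable {F : Type*} [Field F] [Fintype F] {m : ℕ}

theorem inv_mem_of_forall_mem {G : Type*} [Group G] [Finite G] (β : MulAut G) (K : Subgroup G)
    (h : ∀ u ∈ K, β u ∈ K) : ∀ u ∈ K, β⁻¹ u ∈ K := by
  have hle : K.map β.toMonoidHom ≤ K := by
    rintro _ ⟨u, hu, rfl⟩
    exact h u hu
  have hcard : Nat.card (K.map β.toMonoidHom) = Nat.card K :=
    Subgroup.card_map_of_injective β.injective
  have heq : K.map β.toMonoidHom = K := Subgroup.eq_of_le_of_card_ge hle (by rw [hcard])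
  intro u hu
  rw [← heq] at hu
  obtain ⟨u', hu', rfl⟩ := hu
  simpa using hu'

/-- the torus as a homomorphism -/
noncomputable def hGHom (hF : Fintype.card F = 2 ^ (2 * m + 1)) : Fˣ →* ↥(Cfsg.Sz F m) where
  toFun := hG hF
  map_one' := hG_one hF
  map_mul' := hG_mul hF

/-- the torus subgroup -/
noncomputable def Hz (hF : Fintype.card F = 2 ^ (2 * m + 1)) : Subgroup ↥(Cfsg.Sz F m) :=
  (hGHom hF).range

theorem mem_Hz (hF : Fintype.card F = 2 ^ (2 * m + 1)) (g : ↥(Cfsg.Sz F m)) :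
    g ∈ Hz hF ↔ ∃ k : Fˣ, g = hG hF k := by
  constructor
  · rintro ⟨k, rfl⟩
    exact ⟨k, rfl⟩
  · rintro ⟨k, rfl⟩
    exact ⟨k, rfl⟩

/-- standard form of an automorphism of the Suzuki group -/
def Std (hF : Fintype.card F = 2 ^ (2 * m + 1)) (β : MulAut ↥(Cfsg.Sz F m)) : Prop :=
  (∀ a b : F, ∃ a' b' : F, β (tauG hF a b) = tauG hF a' b') ∧
  (∀ k : Fˣ, ∃ k' : Fˣ, β (hG hF k) = hG hF k') ∧ β (wG hF) = wG hF

theorem Std.inv {hF : Fintype.card F = 2 ^ (2 * m + 1)} {β : MulAut ↥(Cfsg.Sz F m)}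
    (h : Std hF β) : Std hF β⁻¹ := by
  obtain ⟨h1, h2, h3⟩ := h
  refine ⟨?_, ?_, ?_⟩
  · intro a b
    have := inv_mem_of_forall_mem β (Uz hF) (by
      intro u hu
      obtain ⟨a, b, rfl⟩ := (mem_Uz hF u).1 hu
      obtain ⟨a', b', h⟩ := h1 a b
      rw [h]; exact tauG_mem_Uz hF a' b') (tauG hF a b) (tauG_mem_Uz hF a b)
    exact (mem_Uz hF _).1 this
  · intro k
    have := inv_mem_of_forall_mem β (Hz hF) (by
      intro u hu
      obtain ⟨k, rfl⟩ := (mem_Hz hF u).1 hu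
      obtain ⟨k', h⟩ := h2 k
      rw [h]; exact (mem_Hz hF _).2 ⟨k', rfl⟩) (hG hF k) ((mem_Hz hF _).2 ⟨k, rfl⟩)
    exact (mem_Hz hF _).1 this
  · rw [MulAut.inv_apply, MulEquiv.symm_apply_eq]
    exact h3.symm

end Reduce


section Reduce2

variable {F : Type*} [Field F] [Fintype F] {m : ℕ}

theorem stab_of_conj_mem (hF : Fintype.card F = 2 ^ (2 * m + 1)) {x : ↥(Cfsg.Sz F m)}
    (h : x⁻¹ * tauG hF 1 0 * x ∈ Uz hF) : x • oInf F m = oInf F m := by
  obtain ⟨a, b, hab⟩ := (mem_Uz hF _).1 h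
  apply tauG_fix hF (tauG_one_ne_one hF)
  have : tauG hF 1 0 * x = x * tauG hF a b := by
    rw [← hab]; group
  rw [← mul_smul, this, mul_smul, tauG_smul_oInf]

theorem exists_conj_Uz (hm : 1 ≤ m) (hF : Fintype.card F = 2 ^ (2 * m + 1))
    (α : MulAut ↥(Cfsg.Sz F m)) :
    ∃ x : ↥(Cfsg.Sz F m), ∀ u ∈ Uz hF, (MulAut.conj x * α) u ∈ Uz hF := by
  have : Fact (Nat.Prime 2) := ⟨Nat.prime_two⟩
  have hcard : Nat.card ((Uz hF).map α.toMonoidHom)
      = 2 ^ (Nat.card ↥(Cfsg.Sz F m)).factorization 2 := by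
    rw [Subgroup.card_map_of_injective α.injective, card_Uz' hm hF]
  obtain ⟨x, hx⟩ := sylow_eq_smul hm hF (Sylow.ofCard _ hcard)
  refine ⟨x⁻¹, ?_⟩
  intro u hu
  have h1 : α u ∈ ((x • Usyl hm hF : Sylow 2 ↥(Cfsg.Sz F m)) : Subgroup ↥(Cfsg.Sz F m)) := by
    rw [hx]
    exact Subgroup.mem_map_of_mem _ hu
  rw [Sylow.coe_subgroup_smul, Subgroup.mem_pointwise_smul_iff_inv_smul_mem, coe_Usyl] at h1
  rw [MulAut.mul_apply, MulAut.conj_apply, inv_inv]
  have : (MulAut.conj x)⁻¹ • α u = x⁻¹ * α u * x := by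
    simp [MulAut.smul_def]
  rw [← this]
  exact h1

theorem stab_of_preserve (hm : 1 ≤ m) (hF : Fintype.card F = 2 ^ (2 * m + 1))
    {β : MulAut ↥(Cfsg.Sz F m)} (hβ : ∀ u ∈ Uz hF, β u ∈ Uz hF) {g : ↥(Cfsg.Sz F m)}
    (hg : g • oInf F m = oInf F m) : β g • oInf F m = oInf F m := by
  apply stab_of_conj_mem hF
  have h1 := inv_mem_of_forall_mem β (Uz hF) hβ _ (tauG_mem_Uz hF 1 0)
  have hgN : g⁻¹ ∈ Subgroup.normalizer ((Uz hF : Subgroup ↥(Cfsg.Sz F m)) : Set ↥(Cfsg.Sz F m)) := by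
    rw [normalizer_Uz hm hF]
    exact inv_mem (MulAction.mem_stabilizer_iff.2 hg)
  rw [Subgroup.mem_normalizer_iff] at hgN
  have h2 := (hgN _).1 h1
  have h3 := hβ _ h2
  rw [map_mul, map_mul, map_inv, inv_inv, MulAut.apply_inv_self] at h3
  exact h3

end Reduce2

section Reduce3

variable {F : Type*} [Field F] [Fintype F] {m : ℕ}

theorem hG_pow (hF : Fintype.card F = 2 ^ (2 * m + 1)) (k : Fˣ) (n : ℕ) :
    hG hF k ^ n = hG hF (k ^ n) := (map_pow (hGHom hF) k n).symm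

theorem hG_eq_one (hF : Fintype.card F = 2 ^ (2 * m + 1)) {k : Fˣ} (h : hG hF k = 1) : k = 1 :=
  hG_injective hF (by rw [h, hG_one])

theorem exists_conj_Hz (hm : 1 ≤ m) (hF : Fintype.card F = 2 ^ (2 * m + 1))
    {β : MulAut ↥(Cfsg.Sz F m)} (hβ : ∀ u ∈ Uz hF, β u ∈ Uz hF) :
    ∃ c d : F, (∀ u ∈ Uz hF, (MulAut.conj (tauG hF c d)⁻¹ * β) u ∈ Uz hF) ∧
      ∀ l : Fˣ, ∃ l' : Fˣ, (MulAut.conj (tauG hF c d)⁻¹ * β) (hG hF l) = hG hF l' := by
  have h2 := two_eq_zero' hF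
  obtain ⟨k, hk⟩ := exists_unit_ne_one hm hF
  have hx₀ : β (hG hF k) • oInf F m = oInf F m := stab_of_preserve hm hF hβ (hG_smul_oInf hF k)
  obtain ⟨a, b, k₁, hx⟩ := (mem_stab_inf_iff hm hF _).1 (MulAction.mem_stabilizer_iff.2 hx₀)
  have hk₁ : k₁ ≠ 1 := by
    rintro rfl
    rw [hG_one, mul_one] at hx
    have h4 : (β (hG hF k)) ^ 4 = 1 := by rw [hx, tauG_pow_four]
    rw [← map_pow] at h4
    have h5 : (hG hF k) ^ 4 = 1 := β.injective (by rw [h4, map_one])
    rw [hG_pow] at h5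
    have h6 := hG_eq_one hF h5
    apply hk
    apply Units.ext
    apply fourth_root_one hF
    have := congrArg Units.val h6
    simpa using this
  have hk₁' : (k₁ : F) ≠ 1 := fun h => hk₁ (Units.ext h)
  have hne1 : 1 + (k₁ : F) ≠ 0 := by
    intro h
    apply hk₁'
    linear_combination h - h2
  have hne2 : 1 + sg m (k₁ : F) * k₁ ≠ 0 := by
    intro h
    apply hk₁'
    apply eq_one_of_sg_mul_self hF
    linear_combination h - h2
  set c : F := a / (1 + (k₁ : F)) with hc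
  set d : F := (b + sg m a * ((k₁ : F) * c)) / (1 + sg m (k₁ : F) * k₁) with hd
  have hc' : c * (1 + (k₁ : F)) = a := div_mul_cancel₀ _ hne1
  have hd' : d * (1 + sg m (k₁ : F) * k₁) = b + sg m a * ((k₁ : F) * c) := div_mul_cancel₀ _ hne2
  have hfix : β (hG hF k) • oAff m c d = oAff m c d := by
    rw [hx, mul_smul, hG_smul_oAff, tauG_smul_oAff]
    congr 1
    · linear_combination (-1) * hc' + (c * (k₁ : F)) * h2
    · linear_combination (-1) * hd' + (sg m (k₁ : F) * k₁ * d) * h2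
  refine ⟨c, d, ?_, ?_⟩
  · intro u hu
    rw [MulAut.mul_apply, MulAut.conj_apply, inv_inv]
    exact mul_mem (mul_mem (inv_mem (tauG_mem_Uz hF c d)) (hβ u hu)) (tauG_mem_Uz hF c d)
  · -- the image of `h k`
    have hy1 : ((tauG hF c d)⁻¹ * β (hG hF k) * tauG hF c d) • oInf F m = oInf F m := by
      rw [mul_smul, mul_smul, tauG_smul_oInf, hx₀, inv_smul_eq_iff, tauG_smul_oInf]
    have hy2 : ((tauG hF c d)⁻¹ * β (hG hF k) * tauG hF c d) • oAff m (0 : F) 0 = oAff m 0 0 := by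
      rw [mul_smul, mul_smul, tauG_smul_oAff_zero, hfix, inv_smul_eq_iff, tauG_smul_oAff_zero]
    obtain ⟨k₂, hk₂⟩ := eq_hG_of_fix hm hF hy1 hy2
    have hγk : (MulAut.conj (tauG hF c d)⁻¹ * β) (hG hF k) = hG hF k₂ := by
      rw [MulAut.mul_apply, MulAut.conj_apply, inv_inv]
      exact hk₂
    have hk₂' : k₂ ≠ 1 := by
      rintro rfl
      rw [hG_one] at hγk
      have : hG hF k = 1 := (MulAut.conj (tauG hF c d)⁻¹ * β).injective (by rw [hγk, map_one])
      exact hk (hG_eq_one hF this)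
    intro l
    apply commute_hG hm hF hk₂'
    rw [← hγk, ← map_mul, ← map_mul, ← hG_mul, ← hG_mul, mul_comm]

end Reduce3

section Reduce4

variable {F : Type*} [Field F] [Fintype F] {m : ℕ}

theorem exists_conj_w (hm : 1 ≤ m) (hF : Fintype.card F = 2 ^ (2 * m + 1))
    {γ : MulAut ↥(Cfsg.Sz F m)} (hγU : ∀ u ∈ Uz hF, γ u ∈ Uz hF)
    (hγH : ∀ l : Fˣ, ∃ l' : Fˣ, γ (hG hF l) = hG hF l') :
    ∃ j : Fˣ, Std hF (MulAut.conj (hG hF j) * γ) := by
  obtain ⟨k, hk⟩ := exists_unit_ne_one hm hF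
  obtain ⟨k₂, hk₂⟩ := hγH k
  have hk₂' : k₂ ≠ 1 := by
    rintro rfl
    rw [hG_one] at hk₂
    have : hG hF k = 1 := γ.injective (by rw [hk₂, map_one])
    exact hk (hG_eq_one hF this)
  set y := γ (wG hF) with hy
  have hinv : y * hG hF k₂ = hG hF k₂⁻¹ * y := by
    rw [← hG_inv, ← hk₂, hy, ← map_inv, ← map_mul, ← map_mul, wG_mul_hG, hG_inv]
  have hk₂i : k₂⁻¹ ≠ 1 := by simpa using hk₂'
  have hp1 : hG hF k₂⁻¹ • (y • oInf F m) = y • oInf F m := by
    rw [← mul_smul, ← hinv, mul_smul, hG_smul_oInf]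
  have hp2 : hG hF k₂⁻¹ • (y • oAff m (0 : F) 0) = y • oAff m 0 0 := by
    rw [← mul_smul, ← hinv, mul_smul, hG_smul_oAff, mul_zero, mul_zero]
  have hne : y • oInf F m ≠ y • oAff m (0 : F) 0 := by
    intro h
    exact oInf_ne_oAff 0 0 (MulAction.injective y h)
  have key : ∃ l : Fˣ, y = wG hF * hG hF l := by
    rcases hG_fix hF hk₂i hp1 with h1 | h1
    · rcases hG_fix hF hk₂i hp2 with h2 | h2
      · exact absurd (h1.trans h2.symm) hne
      · exfalso
        obtain ⟨l, hl⟩ := eq_hG_of_fix hm hF h1 h2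
        rw [hl, ← hG_mul, ← hG_mul] at hinv
        have h3 := hG_injective hF hinv
        have h4 : k₂ * k₂ = 1 := by
          have : k₂ = k₂⁻¹ := by
            have h5 : l * k₂ = l * k₂⁻¹ := by rw [h3, mul_comm]
            exact mul_left_cancel h5
          nth_rewrite 2 [this]
          exact mul_inv_cancel k₂
        exact hk₂' (unit_sq_eq_one hF h4)
    · rcases hG_fix hF hk₂i hp2 with h2 | h2
      · have e1 : (wG hF * y) • oInf F m = oInf F m := by
          rw [mul_smul, h1, wG_smul_oAff_zero]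
        have e2 : (wG hF * y) • oAff m (0 : F) 0 = oAff m 0 0 := by
          rw [mul_smul, h2, wG_smul_oInf]
        obtain ⟨l, hl⟩ := eq_hG_of_fix hm hF e1 e2
        exact ⟨l, by rw [← hl, ← mul_assoc, wG_mul_wG, one_mul]⟩
      · exact absurd (h1.trans h2.symm) hne
  obtain ⟨l, hl⟩ := key
  obtain ⟨j, hj⟩ := exists_inv_sq hF l⁻¹
  refine ⟨j, ?_, ?_, ?_⟩
  · intro a b
    obtain ⟨a', b', hab⟩ := (mem_Uz hF _).1 (hγU _ (tauG_mem_Uz hF a b))
    rw [MulAut.mul_apply, MulAut.conj_apply, hab, hG_conj_tauG]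
    exact ⟨_, _, rfl⟩
  · intro k'
    obtain ⟨l', hl'⟩ := hγH k'
    rw [MulAut.mul_apply, MulAut.conj_apply, hl', hG_inv, ← hG_mul, ← hG_mul]
    exact ⟨_, rfl⟩
  · rw [MulAut.mul_apply, MulAut.conj_apply, ← hy, hl, hG_inv]
    have h1 : hG hF j * wG hF = wG hF * hG hF j⁻¹ := by
      rw [wG_mul_hG, inv_inv]
    rw [← mul_assoc, h1, mul_assoc, mul_assoc, ← hG_mul, ← hG_mul]
    have : j⁻¹ * (l * j⁻¹) = 1 := by
      rw [mul_comm l, ← mul_assoc, hj, inv_mul_cancel]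
    rw [this, hG_one, mul_one]

/-- every automorphism is standard up to an inner automorphism -/
theorem exists_conj_std (hm : 1 ≤ m) (hF : Fintype.card F = 2 ^ (2 * m + 1))
    (α : MulAut ↥(Cfsg.Sz F m)) : ∃ g : ↥(Cfsg.Sz F m), Std hF (MulAut.conj g * α) := by
  obtain ⟨x, hx⟩ := exists_conj_Uz hm hF α
  obtain ⟨c, d, h1, h2⟩ := exists_conj_Hz hm hF hx
  obtain ⟨j, hj⟩ := exists_conj_w hm hF h1 h2
  refine ⟨hG hF j * (tauG hF c d)⁻¹ * x, ?_⟩
  rw [map_mul, map_mul, mul_assoc, mul_assoc]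
  exact hj

end Reduce4

section Struct

variable {F : Type*} [Field F] [Fintype F] {m : ℕ}

/-- a translation commuting with all `τ(x,0)` is central -/
theorem central_of_commute (hm : 1 ≤ m) (hF : Fintype.card F = 2 ^ (2 * m + 1)) {a' b' : F}
    (h : ∀ x : F, tauG hF a' b' * tauG hF x 0 = tauG hF x 0 * tauG hF a' b') : a' = 0 := by
  have h2 := two_eq_zero' hF
  have key : ∀ x : F, sg m a' * x = sg m x * a' := by
    intro x
    have := h x
    rw [tauG_mul, tauG_mul] at this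
    have e := (tauG_injective hF this).2
    linear_combination e
  obtain ⟨t, ht⟩ := exists_sg_ne_self hF hm
  have e1 := key 1
  rw [sg_one, mul_one, one_mul] at e1
  have e2 := key t
  rw [e1] at e2
  have : a' * (t - sg m t) = 0 := by linear_combination e2
  rcases mul_eq_zero.1 this with h0 | h0
  · exact h0
  · exact absurd (by linear_combination (-1 : F) * h0) ht

theorem std_central (hm : 1 ≤ m) (hF : Fintype.card F = 2 ^ (2 * m + 1))
    {β : MulAut ↥(Cfsg.Sz F m)} (h : Std hF β) (b : F) :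
    ∃ b' : F, β (tauG hF 0 b) = tauG hF 0 b' := by
  obtain ⟨a', b', hab⟩ := h.1 0 b
  have : a' = 0 := by
    apply central_of_commute hm hF (b' := b')
    intro x
    obtain ⟨x', y', hxy⟩ := h.inv.1 x 0
    have hx : tauG hF x 0 = β (tauG hF x' y') := by
      rw [← hxy, MulAut.apply_inv_self]
    rw [hx, ← hab, ← map_mul, ← map_mul]
    congr 1
    rw [tauG_mul, tauG_mul]
    congr 1
    · ring
    · rw [sg_zero]; ring
  subst this
  exact ⟨b', hab⟩

theorem std_structure (hm : 1 ≤ m) (hF : Fintype.card F = 2 ^ (2 * m + 1))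
    {β : MulAut ↥(Cfsg.Sz F m)} (h : Std hF β) :
    ∃ (φ δ χ : F → F) (ψ : Fˣ → Fˣ),
      (∀ a b, β (tauG hF a b) = tauG hF (φ a) (δ a + χ b)) ∧
      (∀ k, β (hG hF k) = hG hF (ψ k)) ∧
      φ 0 = 0 ∧ δ 0 = 0 ∧ χ 0 = 0 ∧
      (∀ a a', φ (a + a') = φ a + φ a') ∧
      (∀ a a', δ (a + a') + χ (sg m a * a') = δ a + δ a' + sg m (φ a) * φ a') ∧
      (∀ b b', χ (b + b') = χ b + χ b') ∧
      (∀ (k : Fˣ) a, φ (k * a) = ψ k * φ a) ∧
      (∀ (k : Fˣ) a, δ (k * a) = sg m (ψ k : F) * ψ k * δ a) ∧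
      (∀ (k : Fˣ) b, χ (sg m (k : F) * k * b) = sg m (ψ k : F) * ψ k * χ b) ∧
      (∀ k k', ψ (k * k') = ψ k * ψ k') ∧ φ 1 ≠ 0 := by
  have h2 := two_eq_zero' hF
  choose A B hAB using h.1
  choose ψ hψ using h.2.1
  have hA0 : ∀ b, A 0 b = 0 := by
    intro b
    obtain ⟨b', hb'⟩ := std_central hm hF h b
    rw [hAB] at hb'
    exact (tauG_injective hF hb').1
  have h00 : A 0 0 = 0 ∧ B 0 0 = 0 := by
    have := hAB 0 0
    rw [tauG_zero, map_one, ← tauG_zero hF] at this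
    obtain ⟨e1, e2⟩ := tauG_injective hF this
    exact ⟨e1.symm, e2.symm⟩
  have hτ : ∀ a b, β (tauG hF a b) = tauG hF (A a 0) (B a 0 + B 0 b) := by
    intro a b
    have : tauG hF a b = tauG hF a 0 * tauG hF 0 b := by
      rw [tauG_mul]; congr 1 <;> ring
    rw [this, map_mul, hAB, hAB, tauG_mul, hA0]
    congr 1 <;> ring
  -- the general multiplication identity
  have hG1 : ∀ a b a' b', A (a + a') 0 = A a 0 + A a' 0 ∧
      B (a + a') 0 + B 0 (b + b' + sg m a * a') =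
        B a 0 + B 0 b + (B a' 0 + B 0 b') + sg m (A a 0) * A a' 0 := by
    intro a b a' b'
    have := congrArg β (tauG_mul hF a b a' b')
    rw [map_mul, hτ, hτ, hτ, tauG_mul] at this
    obtain ⟨e1, e2⟩ := tauG_injective hF this
    exact ⟨e1.symm, e2.symm⟩
  have hG2 : ∀ (k : Fˣ) a b, A (k * a) 0 = ψ k * A a 0 ∧
      B (k * a) 0 + B 0 (sg m (k : F) * k * b) = sg m (ψ k : F) * ψ k * (B a 0 + B 0 b) := by
    intro k a b
    have := congrArg β (hG_mul_tauG hF k a b)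
    rw [map_mul, map_mul, hτ, hτ, hψ, hG_mul_tauG] at this
    obtain ⟨e1, e2⟩ := tauG_injective hF (mul_right_cancel this)
    exact ⟨e1.symm, e2.symm⟩
  have hχadd : ∀ b b', B 0 (b + b') = B 0 b + B 0 b' := by
    intro b b'
    have := (hG1 0 b 0 b').2
    rw [add_zero, sg_zero, zero_mul, add_zero, h00.1, h00.2, sg_zero, zero_mul] at this
    linear_combination this
  refine ⟨fun a => A a 0, fun a => B a 0, fun b => B 0 b, ψ, hτ, hψ, h00.1, h00.2, h00.2,
    fun a a' => (hG1 a 0 a' 0).1, ?_, hχadd, fun k a => (hG2 k a 0).1, ?_, ?_, ?_, ?_⟩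
  · intro a a'
    have := (hG1 a 0 a' 0).2
    rw [add_zero, zero_add, h00.2] at this
    linear_combination this
  · intro k a
    have := (hG2 k a 0).2
    rw [mul_zero, h00.2] at this
    linear_combination this
  · intro k b
    have := (hG2 k 0 b).2
    rw [mul_zero, h00.2] at this
    linear_combination this
  · intro k k'
    apply hG_injective hF
    rw [← hψ, hG_mul, map_mul, hψ, hψ, hG_mul]
  · intro h0
    have e1 : β (tauG hF 1 0) ^ 2 = β (tauG hF 0 1) := by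
      rw [← map_pow, Cfsg.Agent.S2241.tauG_sq, sg_one, mul_one]
    rw [hτ, hτ, Cfsg.Agent.S2241.tauG_sq] at e1
    simp only [h0, sg_zero, zero_mul] at e1
    have e2 : β (tauG hF 0 1) = 1 := by
      rw [hτ, ← e1, tauG_zero]
    have e3 : tauG hF (0 : F) 1 = 1 := β.injective (by rw [e2, map_one])
    rw [← tauG_zero hF] at e3
    exact one_ne_zero (tauG_injective hF e3).2

end Struct

section RingAut

variable {F : Type*} [Field F] [Fintype F]

open Classical in
theorem exists_ringEquiv {φ : F → F} {ψ : Fˣ → Fˣ} (hφ0 : φ 0 = 0)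
    (hφadd : ∀ a a', φ (a + a') = φ a + φ a')
    (hφψ : ∀ (k : Fˣ) a, φ (k * a) = ψ k * φ a) (hφ1 : φ 1 ≠ 0) :
    ∃ Ψ : F ≃+* F, ∀ k : Fˣ, Ψ k = ψ k := by
  let Ψ₀ : F → F := fun x => if hx : x = 0 then 0 else (ψ (Units.mk0 x hx) : F)
  have hΨ0 : Ψ₀ 0 = 0 := by simp [Ψ₀]
  have hΨu : ∀ k : Fˣ, Ψ₀ k = ψ k := by
    intro k
    simp [Ψ₀]
  have key : ∀ x a, φ (x * a) = Ψ₀ x * φ a := by
    intro x a
    by_cases hx : x = 0
    · subst hx
      rw [zero_mul, hφ0, hΨ0, zero_mul]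
    · have := hφψ (Units.mk0 x hx) a
      rw [Units.val_mk0] at this
      rw [this]
      simp [Ψ₀, hx]
  have h1 : Ψ₀ 1 = 1 := by
    have := key 1 1
    rw [mul_one] at this
    exact (mul_right_cancel₀ hφ1 (by rw [one_mul]; exact this)).symm
  have hmul : ∀ x y, Ψ₀ (x * y) = Ψ₀ x * Ψ₀ y := by
    intro x y
    apply mul_right_cancel₀ hφ1
    rw [← key, mul_assoc, key, key, mul_assoc]
  have hadd : ∀ x y, Ψ₀ (x + y) = Ψ₀ x + Ψ₀ y := by
    intro x y
    apply mul_right_cancel₀ hφ1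
    rw [← key, add_mul, hφadd, key, key, add_mul]
  let Ψ : F →+* F :=
    { toFun := Ψ₀
      map_one' := h1
      map_mul' := hmul
      map_zero' := hΨ0
      map_add' := hadd }
  have hinj : Function.Injective Ψ := Ψ.injective
  have hbij : Function.Bijective Ψ := ⟨hinj, Finite.injective_iff_surjective.1 hinj⟩
  refine ⟨RingEquiv.ofBijective Ψ hbij, ?_⟩
  intro k
  exact hΨu k

end RingAut

section Rigid

variable {F : Type*} [Field F] [Fintype F] {m : ℕ}

theorem sgmul_surjective (hF : Fintype.card F = 2 ^ (2 * m + 1)) (x : F) :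
    ∃ a : F, sg m a * a = x := by
  have hinj : Function.Injective (fun a : F => sg m a * a) := by
    intro a a' h
    simp only at h
    by_cases ha' : a' = 0
    · subst ha'
      rw [sg_zero, zero_mul] at h
      rcases mul_eq_zero.1 h with h0 | h0
      · exact sg_eq_zero.1 h0
      · exact h0
    · have hs : sg m a' ≠ 0 := fun h0 => ha' (sg_eq_zero.1 h0)
      have : sg m (a / a') * (a / a') = 1 := by
        rw [sg_div, div_mul_div_comm, h, div_self (mul_ne_zero hs ha')]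
      have := eq_one_of_sg_mul_self hF this
      exact (div_eq_one_iff_eq ha').1 this
  exact Finite.injective_iff_surjective.1 hinj x

theorem w_tau_w_smul (hF : Fintype.card F = 2 ^ (2 * m + 1)) {b : F} (hb : b ≠ 0) :
    (wG hF * tauG hF 0 b * wG hF) • oInf F m = oAff m (b / sg m b) 0 := by
  rw [mul_smul, mul_smul, wG_smul_oInf, tauG_smul_oAff_zero]
  have hff : ff m (0 : F) b = sg m b := by
    simp [ff, sg]
  have hne : ff m (0 : F) b ≠ 0 := by
    rw [hff]
    exact fun h => hb (sg_eq_zero.1 h)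
  apply Subtype.ext
  show wS F • pAff m 0 b = pAff m (b / sg m b) 0
  rw [wS_smul_pAff hF hne, hff, zero_div]

theorem std_eq_one (hm : 1 ≤ m) (hF : Fintype.card F = 2 ^ (2 * m + 1))
    {β : MulAut ↥(Cfsg.Sz F m)} (h : Std hF β) (hH : ∀ k, β (hG hF k) = hG hF k) : β = 1 := by
  have h2 := two_eq_zero' hF
  obtain ⟨φ, δ, χ, ψ, hτ, hψ, hφ0, hδ0, hχ0, hφadd, hδ, hχadd, hφψ, hδψ, hχψ, hψmul, hφ1⟩ :=
    std_structure hm hF h
  have hψid : ∀ k, ψ k = k := fun k => hG_injective hF (by rw [← hψ, hH])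
  simp only [hψid] at hφψ hδψ hχψ
  set c := φ 1 with hc
  have hφ : ∀ a, φ a = c * a := by
    intro a
    by_cases ha : a = 0
    · subst ha
      rw [hφ0, mul_zero]
    · have := hφψ (Units.mk0 a ha) 1
      rw [Units.val_mk0, mul_one] at this
      rw [this, mul_comm]
  have hsq : ∀ a, χ (sg m a * a) = sg m c * c * (sg m a * a) := by
    intro a
    have e1 : β (tauG hF a 0) ^ 2 = β (tauG hF 0 (sg m a * a)) := by
      rw [← map_pow, Cfsg.Agent.S2241.tauG_sq]
    rw [hτ, hτ, Cfsg.Agent.S2241.tauG_sq, hφ0, hδ0, hφ] at e1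
    have := (tauG_injective hF e1).2
    rw [sg_mul] at this
    linear_combination -this
  have hχ : ∀ x, χ x = sg m c * c * x := by
    intro x
    obtain ⟨a, rfl⟩ := sgmul_surjective hF x
    exact hsq a
  have hδadd : ∀ a a', δ (a + a') = δ a + δ a' := by
    intro a a'
    have := hδ a a'
    rw [hχ, hφ, hφ, sg_mul] at this
    linear_combination this
  set d := δ 1 with hd
  have hδx : ∀ x, δ x = sg m x * x * d := by
    intro x
    by_cases hx : x = 0
    · subst hx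
      rw [hδ0, sg_zero, zero_mul, zero_mul]
    · have := hδψ (Units.mk0 x hx) 1
      rw [Units.val_mk0, mul_one] at this
      exact this
  have hd0 : d = 0 := by
    obtain ⟨t, ht⟩ := exists_sg_ne_self hF hm
    have := hδadd 1 t
    rw [hδx, hδx 1, hδx t, sg_add hF, sg_one] at this
    have e : (t + sg m t) * d = 0 := by linear_combination this
    rcases mul_eq_zero.1 e with h0 | h0
    · exfalso
      apply ht
      linear_combination h0 - t * h2
    · exact h0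
  have hδ0' : ∀ x, δ x = 0 := by
    intro x
    rw [hδx, hd0, mul_zero]
  -- the relation with `w`
  have hβU : ∀ u ∈ Uz hF, β u ∈ Uz hF := by
    intro u hu
    obtain ⟨a, b, rfl⟩ := (mem_Uz hF u).1 hu
    rw [hτ]
    exact tauG_mem_Uz hF _ _
  have hc1 : c = 1 := by
    set e := sg m c * c with he
    have hene : e ≠ 0 := mul_ne_zero (fun h0 => hφ1 (sg_eq_zero.1 h0)) hφ1
    -- first computation
    have e1 : β (wG hF * tauG hF 0 1 * wG hF) • oInf F m = oAff m (e / sg m e) 0 := by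
      rw [map_mul, map_mul, h.2.2, hτ, hφ0, hδ0, hχ, zero_add, mul_one]
      exact w_tau_w_smul hF hene
    -- second computation
    have e2 : β (wG hF * tauG hF 0 1 * wG hF) • oInf F m = oAff m c 0 := by
      set g := wG hF * tauG hF 0 1 * wG hF with hg
      have hg1 : g • oInf F m = oAff m (1 : F) 0 := by
        have := w_tau_w_smul (m := m) hF (one_ne_zero (α := F))
        rw [sg_one, div_one] at this
        exact this
      set s := (tauG hF 1 0 * wG hF)⁻¹ * g with hs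
      have hs1 : s • oInf F m = oInf F m := by
        rw [hs, mul_smul, hg1, inv_smul_eq_iff, mul_smul, wG_smul_oInf, tauG_smul_oAff_zero]
      have hs2 := stab_of_preserve hm hF hβU hs1
      have hgs : g = tauG hF 1 0 * wG hF * s := by
        rw [hs]; group
      rw [hgs, map_mul, map_mul, mul_smul, hs2, h.2.2, hτ, mul_smul, wG_smul_oInf,
        tauG_smul_oAff_zero, hδ0', hχ0, add_zero]
    rw [e1] at e2
    have e3 := (pAff_injective (congrArg Subtype.val e2)).1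
    have hσe : sg m e = c ^ 2 * sg m c := by
      rw [he, sg_mul, sg_sg hF]
    have hσene : sg m e ≠ 0 := fun h0 => hene (sg_eq_zero.1 h0)
    have e4 : e = c * sg m e := (div_eq_iff hσene).1 e3
    rw [hσe] at e4
    have e5 : e * (c ^ 2 - 1) = 0 := by
      rw [he] at e4 ⊢
      linear_combination -e4
    have e6 : c ^ 2 - 1 = 0 := by
      rcases mul_eq_zero.1 e5 with h0 | h0
      · exact absurd h0 hene
      · exact h0
    have e7 : (c + 1) ^ 2 = 0 := by linear_combination e6 + (c + 1) * h2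
    have e8 : c + 1 = 0 := pow_eq_zero_iff (by norm_num) |>.1 e7
    linear_combination e8 - h2
  have hτid : ∀ a b, β (tauG hF a b) = tauG hF a b := by
    intro a b
    rw [hτ, hφ, hδ0', hχ, hc1, sg_one]
    congr 1 <;> ring
  apply MulEquiv.ext
  intro g
  rw [MulAut.one_apply]
  rcases bruhatG hm hF g with ⟨a, b, k, rfl⟩ | ⟨a, b, a', b', k, rfl⟩
  · rw [map_mul, hτid, hH]
  · rw [map_mul, map_mul, map_mul, hτid, hτid, hH, h.2.2]

end Rigid

section Galois

variable {F : Type*} [Field F] [Fintype F] {m : ℕ}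

theorem card_ringAut (hF : Fintype.card F = 2 ^ (2 * m + 1)) :
    Nat.card (F ≃+* F) = 2 * m + 1 := by
  have := charP_two hF
  have : Fact (Nat.Prime 2) := ⟨Nat.prime_two⟩
  let _ : Algebra (ZMod 2) F := ZMod.algebra F 2
  have hcomm : ∀ (e : F ≃+* F) (r : ZMod 2), e (algebraMap (ZMod 2) F r) = algebraMap (ZMod 2) F r := by
    intro e r
    have : (e : F →+* F).comp (algebraMap (ZMod 2) F) = algebraMap (ZMod 2) F :=
      RingHom.ext_zmod _ _
    exact congrFun (congrArg DFunLike.coe this) r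
  let E : (F ≃+* F) ≃ (F ≃ₐ[ZMod 2] F) :=
    { toFun := fun e => AlgEquiv.ofRingEquiv (f := e) (hcomm e)
      invFun := fun a => a.toRingEquiv
      left_inv := fun e => by ext x; rfl
      right_inv := fun a => by ext x; rfl }
  rw [Nat.card_congr E, IsGalois.card_aut_eq_finrank]
  have h1 := FiniteField.pow_finrank_eq_card 2 F
  rw [hF] at h1
  exact Nat.pow_right_injective (le_refl 2) h1

end Galois

section Final

variable {F : Type*} [Field F] [Fintype F] {m : ℕ}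

theorem fAut_inv (hm : 1 ≤ m) (hF : Fintype.card F = 2 ^ (2 * m + 1)) (Ψ : F ≃+* F) :
    (fAut hm hF Ψ)⁻¹ = fAut hm hF Ψ⁻¹ := (map_inv (fAutHom hm hF) Ψ).symm

/-- every automorphism of the Suzuki group is inner times field -/
theorem aut_normal_form (hm : 1 ≤ m) (hF : Fintype.card F = 2 ^ (2 * m + 1))
    (α : MulAut ↥(Cfsg.Sz F m)) :
    ∃ (g : ↥(Cfsg.Sz F m)) (Ψ : F ≃+* F), α = MulAut.conj g * fAut hm hF Ψ := by
  obtain ⟨g₀, hstd⟩ := exists_conj_std hm hF α
  obtain ⟨φ, δ, χ, ψ, hτ, hψ, hφ0, hδ0, hχ0, hφadd, hδ, hχadd, hφψ, hδψ, hχψ, hψmul, hφ1⟩ :=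
    std_structure hm hF hstd
  obtain ⟨Ψ, hΨ⟩ := exists_ringEquiv hφ0 hφadd hφψ hφ1
  have hstd' : Std hF ((fAut hm hF Ψ)⁻¹ * (MulAut.conj g₀ * α)) := by
    refine ⟨?_, ?_, ?_⟩
    · intro a b
      rw [MulAut.mul_apply, hτ, fAut_inv, fAut_tauG]
      exact ⟨_, _, rfl⟩
    · intro k
      rw [MulAut.mul_apply, hψ, fAut_inv, fAut_hG]
      exact ⟨_, rfl⟩
    · rw [MulAut.mul_apply, hstd.2.2, fAut_inv, fAut_wG]
  have hH : ∀ k, ((fAut hm hF Ψ)⁻¹ * (MulAut.conj g₀ * α)) (hG hF k) = hG hF k := by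
    intro k
    rw [MulAut.mul_apply, hψ, MulAut.inv_apply, MulEquiv.symm_apply_eq, fAut_hG]
    congr 1
    apply Units.ext
    rw [Units.coe_map]
    exact (hΨ k).symm
  have h1 := std_eq_one hm hF hstd' hH
  refine ⟨g₀⁻¹, Ψ, ?_⟩
  have h2 : MulAut.conj g₀ * α = fAut hm hF Ψ := by
    rw [inv_mul_eq_one] at h1
    exact h1.symm
  rw [← h2, map_inv, inv_mul_cancel_left]

theorem card_out_sz (hm : 1 ≤ m) (hF : Fintype.card F = 2 ^ (2 * m + 1)) :
    Nat.card (Cfsg.Out ↥(Cfsg.Sz F m)) = 2 * m + 1 := by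
  rw [← card_ringAut hF]
  let Φ : (F ≃+* F) →* Cfsg.Out ↥(Cfsg.Sz F m) :=
    (QuotientGroup.mk' (Cfsg.Inn ↥(Cfsg.Sz F m))).comp (fAutHom hm hF)
  have hinj : Function.Injective Φ := by
    rw [injective_iff_map_eq_one]
    intro Ψ hΨ
    have h1 : fAut hm hF Ψ ∈ Cfsg.Inn ↥(Cfsg.Sz F m) := by
      have : (QuotientGroup.mk' (Cfsg.Inn ↥(Cfsg.Sz F m))) (fAut hm hF Ψ) = 1 := hΨ
      rwa [QuotientGroup.mk'_apply, QuotientGroup.eq_one_iff] at this
    obtain ⟨g, hg⟩ := h1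
    exact fAut_inner hm hF Ψ g hg.symm
  have hsurj : Function.Surjective Φ := by
    intro x
    obtain ⟨α, rfl⟩ := QuotientGroup.mk_surjective x
    obtain ⟨g, Ψ, rfl⟩ := aut_normal_form hm hF α
    refine ⟨Ψ, ?_⟩
    show (QuotientGroup.mk (fAut hm hF Ψ) : Cfsg.Out ↥(Cfsg.Sz F m)) = _
    rw [QuotientGroup.mk_mul]
    have : (QuotientGroup.mk (MulAut.conj g) : Cfsg.Out ↥(Cfsg.Sz F m)) = 1 := by
      rw [QuotientGroup.eq_one_iff]
      exact ⟨g, rfl⟩
    rw [this, one_mul]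
  exact (Nat.card_congr (Equiv.ofBijective Φ ⟨hinj, hsurj⟩)).symm

end Final

section Transfer

theorem card_out_congr {G G' : Type*} [Group G] [Group G'] (e : G ≃* G') :
    Nat.card (Cfsg.Out G) = Nat.card (Cfsg.Out G') := by
  have h : (Cfsg.Inn G).map (MulAut.congr e).toMonoidHom = Cfsg.Inn G' := by
    ext β
    constructor
    · rintro ⟨_, ⟨g, rfl⟩, rfl⟩
      refine ⟨e g, ?_⟩
      apply MulEquiv.ext
      intro x
      simp [MulAut.congr]
    · rintro ⟨g', rfl⟩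
      refine ⟨MulAut.conj (e.symm g'), ⟨_, rfl⟩, ?_⟩
      apply MulEquiv.ext
      intro x
      simp [MulAut.congr]
  exact Nat.card_congr (QuotientGroup.congr _ _ (MulAut.congr e) h).toEquiv

end Transfer

end Cfsg.Agent.Lib.Helper09
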