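import Cfsg.Agent.Lib.Helper09.SuzukiSubgroupThm
import Cfsg.Agent.Lib.Helper09.FixityCount

set_option autoImplicit false

namespace Cfsg.Agent.Lib.Helper09

open Matrix MulAction
open scoped Pointwise

section Refined

variable {F : Type*} [Field F] [Fintype F] {m : ℕ}

/-- Suzuki's subgroup theorem, keeping track of the maximal torus -/
theorem subgroups_sz' (hm : 1 ≤ m) (hF : Fintype.card F = 2 ^ (2 * m + 1))
    (M : Subgroup ↥(Cfsg.Sz F m)) (hM : M ≠ ⊤) :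
    (∃ p : ↥(Cfsg.suzukiOvoid F m), ∀ g ∈ M, g • p = p) ∨
    (∃ A : Subgroup ↥(Cfsg.Sz F m), IsMaxTorus hF A ∧
      M ≤ Subgroup.normalizer ((A : Subgroup ↥(Cfsg.Sz F m)) : Set ↥(Cfsg.Sz F m))) ∨
    (∃ (K : Type) (_ : Field K) (_ : Fintype K) (k : ℕ), 1 ≤ k ∧ k < m ∧
      Fintype.card K = 2 ^ (2 * k + 1) ∧ 2 * k + 1 ∣ 2 * m + 1 ∧
      ∃ S : Subgroup ↥(Cfsg.Sz F m), Nonempty (↥S ≃* ↥(Cfsg.Sz K k)) ∧ M ≤ S) := by
  have : Fact (Nat.Prime 2) := ⟨Nat.prime_two⟩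
  by_cases hfixall : ∃ p : ↥(Cfsg.suzukiOvoid F m), ∀ g ∈ M, g • p = p
  · exact Or.inl hfixall
  push Not at hfixall
  right
  by_cases heven : 2 ∣ Nat.card M
  · obtain ⟨u₀', hu₀'⟩ := exists_prime_orderOf_dvd_card' 2 heven
    have hu₀1 : (u₀' : ↥(Cfsg.Sz F m)) ≠ 1 := by
      intro h0
      have : u₀' = 1 := Subtype.ext h0
      rw [this, orderOf_one] at hu₀'
      omega
    have hu₀2 : (u₀' : ↥(Cfsg.Sz F m)) ^ 2 = 1 := by
      have := pow_orderOf_eq_one u₀'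
      rw [hu₀'] at this
      exact coe_sq_eq_one this
    obtain ⟨p₀, hp₀⟩ := two_elt_fix_exists hm hF hu₀1 (pow_four_of_sq hu₀2)
    obtain ⟨g₀, hg₀M, hg₀p⟩ := hfixall p₀
    by_cases h2grp : ∀ g ∈ M, g • p₀ = p₀ → g ^ 4 = 1
    · left
      obtain ⟨A, hA, hMA⟩ := frobenius_case hm hF M p₀ u₀' u₀'.2 hu₀1 hu₀2 hp₀ h2grp
        ⟨g₀, hg₀M, hg₀p⟩
      exact ⟨A, hA, hMA⟩
    · right
      push Not at h2grp
      obtain ⟨x, hxM, hxp, hx4⟩ := h2grp
      obtain ⟨z, k₂, hcore⟩ := exists_coreHyp hm hF M p₀ u₀'.2 hu₀1 hu₀2 hp₀ hxM hxp hx4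
        hg₀M hg₀p
      have hM' : M.map (MulAut.conj z).toMonoidHom ≠ ⊤ := by
        intro htop
        apply hM
        rw [eq_top_iff]
        intro y _
        have : z * y * z⁻¹ ∈ M.map (MulAut.conj z).toMonoidHom := by
          rw [htop]; exact Subgroup.mem_top _
        rw [mem_map_conj] at this
        have e : z⁻¹ * (z * y * z⁻¹) * z = y := by group
        rwa [e] at this
      obtain ⟨K, instK, instKf, k, hk1, hkm, hKcard, hdiv, S₀, ⟨e₀⟩, hle⟩ :=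
        core_conclusion hm hF _ k₂ hcore hM'
      refine ⟨K, instK, instKf, k, hk1, hkm, hKcard, hdiv,
        S₀.map (MulAut.conj z⁻¹).toMonoidHom, ⟨?_⟩, ?_⟩
      · exact (((MulAut.conj z⁻¹).subgroupMap S₀).symm).trans e₀
      · intro y hy
        rw [mem_map_conj, inv_inv]
        exact hle (conj_mem_map_conj z hy)
  · left
    have hne : M ≠ ⊥ := by
      rintro rfl
      obtain ⟨g, hg, hgp⟩ := hfixall (oInf F m)
      rw [Subgroup.mem_bot] at hg
      rw [hg, one_smul] at hgp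
      exact hgp rfl
    obtain ⟨A, hA, hMA⟩ := odd_subgroup_le hm hF M heven hne
    exact ⟨A, hA, hMA.trans Subgroup.le_normalizer⟩

theorem card_normalizer_map_conj' {G : Type*} [Group G] (T : Subgroup G) (x : G) :
    Nat.card (Subgroup.normalizer ((T.map (MulAut.conj x).toMonoidHom : Subgroup G) : Set G)) =
      Nat.card (Subgroup.normalizer ((T : Subgroup G) : Set G)) := by
  rw [← Subgroup.map_equiv_normalizer_eq, card_map_conj]

/-- the normaliser of a nonsplit torus has four times its order -/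
theorem IsTorus.card_normalizer_four (hm : 1 ≤ m) (hF : Fintype.card F = 2 ^ (2 * m + 1))
    {A : Subgroup ↥(Cfsg.Sz F m)} (hT : IsTorus F m A) :
    Nat.card (Subgroup.normalizer ((A : Subgroup ↥(Cfsg.Sz F m)) : Set ↥(Cfsg.Sz F m)))
      = 4 * Nat.card A := by
  obtain ⟨T₁, T₂, hT₁, hT₂, hcov, hN₁, hN₂, -, -⟩ := tori_orders hm hF
  obtain ⟨g, hg, hAg⟩ := hT
  have hgA : g ∈ conjSet A := by rw [hAg]; exact mem_conjSet_centralizer hg
  have hT' : IsTorus F m A := ⟨g, hg, hAg⟩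
  rcases hcov hg with h1 | h1
  · obtain ⟨y, hy⟩ := hT₁.conj_of_conjSet_inter hm hF hT' h1 hgA
    rw [hy, card_normalizer_map_conj', card_map_conj, hN₁]
  · obtain ⟨y, hy⟩ := hT₂.conj_of_conjSet_inter hm hF hT' h1 hgA
    rw [hy, card_normalizer_map_conj', card_map_conj, hN₂]

theorem IsMaxTorus.card_normalizer_dvd (hm : 1 ≤ m) {hF : Fintype.card F = 2 ^ (2 * m + 1)}
    {A : Subgroup ↥(Cfsg.Sz F m)} (hA : IsMaxTorus hF A) :
    Nat.card (Subgroup.normalizer ((A : Subgroup ↥(Cfsg.Sz F m)) : Set ↥(Cfsg.Sz F m)))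
      ∣ 4 * Nat.card A := by
  rcases hA with ⟨x, rfl⟩ | hT
  · rw [card_normalizer_map_conj', card_map_conj, card_normalizer_Hz hm hF, card_Hz]
    exact ⟨2, by ring⟩
  · rw [hT.card_normalizer_four hm hF]

theorem IsMaxTorus.card_odd (hm : 1 ≤ m) {hF : Fintype.card F = 2 ^ (2 * m + 1)}
    {A : Subgroup ↥(Cfsg.Sz F m)} (hA : IsMaxTorus hF A) : ¬ 2 ∣ Nat.card A := by
  have : Fact (Nat.Prime 2) := ⟨Nat.prime_two⟩
  intro h2
  obtain ⟨u, hu⟩ := exists_prime_orderOf_dvd_card' 2 h2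
  have := (hA.torusLike hm).odd u.1 u.2
  rw [Subgroup.orderOf_coe, hu] at this
  exact this dvd_rfl

end Refined

section Core

variable {F : Type*} [Field F] [Fintype F] {m : ℕ}

theorem centralizer_central (hm : 1 ≤ m) (hF : Fintype.card F = 2 ^ (2 * m + 1)) {b : F}
    (hb : b ≠ 0) :
    Subgroup.centralizer ({tauG hF 0 b} : Set ↥(Cfsg.Sz F m)) = Uz hF := by
  ext c
  rw [mem_centralizer_singleton]
  constructor
  · intro h
    exact commute_central hm hF hb h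
  · intro h
    obtain ⟨a', b', rfl⟩ := (mem_Uz hF c).1 h
    rw [tauG_mul, tauG_mul]
    congr 1
    · ring
    · rw [sg_zero]; ring

theorem centralizer_hG (hm : 1 ≤ m) (hF : Fintype.card F = 2 ^ (2 * m + 1)) {k : Fˣ}
    (hk : k ≠ 1) :
    Subgroup.centralizer ({hG hF k} : Set ↥(Cfsg.Sz F m)) = Hz hF := by
  ext c
  rw [mem_centralizer_singleton, mem_Hz]
  constructor
  · intro h
    exact commute_hG hm hF hk h
  · rintro ⟨l, rfl⟩
    rw [← hG_mul, ← hG_mul, mul_comm]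

variable {Ω : Type*} [MulAction ↥(Cfsg.Sz F m) Ω]

/-- a subgroup is a point stabiliser of the action -/
def IsStab (Ω : Type*) [MulAction ↥(Cfsg.Sz F m) Ω] (M : Subgroup ↥(Cfsg.Sz F m)) : Prop :=
  ∃ α : Ω, stabilizer ↥(Cfsg.Sz F m) α = M

theorem IsStab.conj {M : Subgroup ↥(Cfsg.Sz F m)} (h : IsStab Ω M) (x : ↥(Cfsg.Sz F m)) :
    IsStab Ω (M.map (MulAut.conj x).toMonoidHom) := by
  obtain ⟨α, rfl⟩ := h
  exact ⟨x • α, stabilizer_smul_eq_stabilizer_map_conj x α⟩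

theorem IsStab.conj_count [Finite Ω] [IsPretransitive ↥(Cfsg.Sz F m) Ω]
    (hfix : ∀ g : ↥(Cfsg.Sz F m), g ≠ 1 → Nat.card (fixedBy Ω g) ≤ 2)
    {M : Subgroup ↥(Cfsg.Sz F m)} (hM : IsStab Ω M) {g : ↥(Cfsg.Sz F m)} (hg1 : g ≠ 1) :
    Nat.card {x : ↥(Cfsg.Sz F m) // x⁻¹ * g * x ∈ M} ≤ 2 * Nat.card M := by
  obtain ⟨α, rfl⟩ := hM
  exact (card_conj_mem_stab_le α g).trans (Nat.mul_le_mul_right _ (hfix g hg1))

theorem IsStab.cent_le [Finite Ω]
    (hfix : ∀ g : ↥(Cfsg.Sz F m), g ≠ 1 → Nat.card (fixedBy Ω g) ≤ 2)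
    {M : Subgroup ↥(Cfsg.Sz F m)} (hM : IsStab Ω M) {g : ↥(Cfsg.Sz F m)} (hg : g ∈ M)
    (hg1 : g ≠ 1) :
    Nat.card (Subgroup.centralizer ({g} : Set ↥(Cfsg.Sz F m))) ≤
      2 * Nat.card ↥(Subgroup.centralizer ({g} : Set ↥(Cfsg.Sz F m)) ⊓ M) := by
  obtain ⟨α, rfl⟩ := hM
  exact (card_centralizer_le_fix α g hg).trans (Nat.mul_le_mul_right _ (hfix g hg1))

theorem q_ge_eight (hm : 1 ≤ m) : 8 ≤ 2 ^ (2 * m + 1) := by
  have : 2 ^ 3 ≤ 2 ^ (2 * m + 1) := Nat.pow_le_pow_right (by norm_num) (by omega)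
  simpa using this

/-- a point stabiliser containing a central involution of the unipotent group fixes the point at
infinity -/
theorem IsStab.le_stab_inf (hm : 1 ≤ m) (hF : Fintype.card F = 2 ^ (2 * m + 1)) [Finite Ω]
    (hfix : ∀ g : ↥(Cfsg.Sz F m), g ≠ 1 → Nat.card (fixedBy Ω g) ≤ 2)
    {M : Subgroup ↥(Cfsg.Sz F m)} (hM : IsStab Ω M) (hMtop : M ≠ ⊤) {b : F} (hb : b ≠ 0)
    (hz : tauG hF 0 b ∈ M) : M ≤ stabilizer ↥(Cfsg.Sz F m) (oInf F m) := by
  have hz1 : tauG hF 0 b ≠ 1 := Cfsg.Agent.S2240.tauG_zero_ne_one hF hb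
  have hD2 := hM.cent_le hfix hz hz1
  rw [centralizer_central hm hF hb, card_Uz] at hD2
  have hq8 := q_ge_eight hm
  have hPdvd : Nat.card ↥(Uz hF ⊓ M) ∣ (2 ^ (2 * m + 1)) ^ 2 := by
    rw [← card_Uz hF]
    exact Subgroup.card_dvd_of_le inf_le_left
  rcases subgroups_sz' hm hF M hMtop with ⟨p, hp⟩ | ⟨A, hA, hMA⟩ |
    ⟨K, instK, instKf, k, hk1, hkm, hK, hdiv, S, ⟨e⟩, hMS⟩
  · have hp' := tauG_fix hF hz1 (hp _ hz)
    intro g hg
    rw [mem_stabilizer_iff, ← hp']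
    exact hp g hg
  · exfalso
    have h1 : Nat.card ↥(Uz hF ⊓ M) ∣ 4 * Nat.card A :=
      (Subgroup.card_dvd_of_le (le_trans inf_le_right hMA)).trans (hA.card_normalizer_dvd hm)
    have hodd := hA.card_odd hm
    have hc2 : Nat.Coprime 2 (Nat.card A) := (Nat.Prime.coprime_iff_not_dvd Nat.prime_two).2 hodd
    have hc : Nat.Coprime (Nat.card ↥(Uz hF ⊓ M)) (Nat.card A) :=
      Nat.Coprime.coprime_dvd_left hPdvd ((hc2.pow_left _).pow_left _)
    have h4 : Nat.card ↥(Uz hF ⊓ M) ∣ 4 := hc.dvd_of_dvd_mul_right h1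
    have := Nat.le_of_dvd (by norm_num) h4
    nlinarith
  · exfalso
    have h1 : Nat.card ↥(Uz hF ⊓ M) ∣ Nat.card S :=
      Subgroup.card_dvd_of_le (le_trans inf_le_right hMS)
    rw [Nat.card_congr e.toEquiv, card_sz hk1 hK, mul_assoc] at h1
    have hoddA : Nat.Coprime 2 ((2 ^ (2 * k + 1)) ^ 2 + 1) :=
      (Nat.Prime.coprime_iff_not_dvd Nat.prime_two).2 (odd_q_sq_add_one k)
    have hoddB : Nat.Coprime 2 (2 ^ (2 * k + 1) - 1) :=
      (Nat.Prime.coprime_iff_not_dvd Nat.prime_two).2 (odd_q_sub_one k)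
    have hc : Nat.Coprime (Nat.card ↥(Uz hF ⊓ M))
        (((2 ^ (2 * k + 1)) ^ 2 + 1) * (2 ^ (2 * k + 1) - 1)) :=
      Nat.Coprime.coprime_dvd_left hPdvd (((hoddA.mul_right hoddB).pow_left _).pow_left _)
    have h2 : Nat.card ↥(Uz hF ⊓ M) ∣ (2 ^ (2 * k + 1)) ^ 2 := hc.dvd_of_dvd_mul_right h1
    have h3 := Nat.le_of_dvd (by positivity) h2
    have h4 : 2 * k + 1 + 2 ≤ 2 * m + 1 := by omega
    have h5 : 2 ^ (2 * k + 1 + 2) ≤ 2 ^ (2 * m + 1) := Nat.pow_le_pow_right (by norm_num) h4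
    rw [pow_add] at h5
    have h6 : 0 < 2 ^ (2 * k + 1) := by positivity
    nlinarith

theorem hG_conj_central' (hF : Fintype.card F = 2 ^ (2 * m + 1)) (k : Fˣ) (b : F) :
    hG hF k * tauG hF 0 b * (hG hF k)⁻¹ = tauG hF 0 (sg m (k : F) * k * b) := by
  rw [hG_conj_tauG, mul_zero]

/-- a point stabiliser containing a central involution is not a subgroup of the unipotent group -/
theorem IsStab.not_le_Uz (hm : 1 ≤ m) (hF : Fintype.card F = 2 ^ (2 * m + 1)) [Finite Ω]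
    [IsPretransitive ↥(Cfsg.Sz F m) Ω]
    (hfix : ∀ g : ↥(Cfsg.Sz F m), g ≠ 1 → Nat.card (fixedBy Ω g) ≤ 2)
    {M : Subgroup ↥(Cfsg.Sz F m)} (hM : IsStab Ω M) {b : F} (hb : b ≠ 0)
    (hz : tauG hF 0 b ∈ M) : ¬ M ≤ Uz hF := by
  classical
  intro hle
  have hz1 : tauG hF 0 b ≠ 1 := Cfsg.Agent.S2240.tauG_zero_ne_one hF hb
  have hD2 := hM.cent_le hfix hz hz1
  rw [centralizer_central hm hF hb, card_Uz, inf_eq_right.2 hle] at hD2
  have hq8 := q_ge_eight hm
  -- squares of the unipotent group lie in `M`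
  have hsq : ∀ u ∈ Uz hF, u ^ 2 ∈ M := by
    intro u hu
    have hcard : Nat.card ↥(M.subgroupOf (Uz hF)) = Nat.card M :=
      Nat.card_congr (Subgroup.subgroupOfEquivOfLe hle).toEquiv
    have hidx := Subgroup.card_mul_index (M.subgroupOf (Uz hF))
    rw [hcard, card_Uz] at hidx
    have hle2 : (M.subgroupOf (Uz hF)).index ≤ 2 := by
      by_contra h3
      push Not at h3
      have : Nat.card M * 3 ≤ Nat.card M * (M.subgroupOf (Uz hF)).index :=
        Nat.mul_le_mul_left _ h3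
      have hpos : 0 < Nat.card M := Nat.card_pos
      omega
    have hne0 : (M.subgroupOf (Uz hF)).index ≠ 0 := by
      intro h0
      rw [h0, mul_zero] at hidx
      have : 0 < (2 ^ (2 * m + 1)) ^ 2 := by positivity
      omega
    have hcases : (M.subgroupOf (Uz hF)).index = 1 ∨ (M.subgroupOf (Uz hF)).index = 2 := by omega
    rcases hcases with h1 | h2
    · have htop := Subgroup.index_eq_one.1 h1
      have : (⟨u, hu⟩ : ↥(Uz hF)) ∈ M.subgroupOf (Uz hF) := by rw [htop]; exact Subgroup.mem_top _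
      exact M.pow_mem (Subgroup.mem_subgroupOf.1 this) 2
    · have := Subgroup.sq_mem_of_index_two h2 (⟨u, hu⟩ : ↥(Uz hF))
      exact Subgroup.mem_subgroupOf.1 this
  have hZ : ∀ c : F, tauG hF 0 c ∈ M := by
    intro c
    obtain ⟨a, ha⟩ := sgmul_surjective hF c
    have := hsq (tauG hF a 0) (tauG_mem_Uz hF a 0)
    rwa [Cfsg.Agent.S2241.tauG_sq, ha] at this
  -- count
  have hC : ∀ c ∈ Uz hF, c * tauG hF 0 b = tauG hF 0 b * c := by
    intro c hc
    rw [← centralizer_central hm hF hb] at hc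
    exact (mem_centralizer_singleton _ _).1 hc
  have hinjk : Function.Injective (fun k : Fˣ => (hG hF k)⁻¹) := by
    intro k k' h
    exact hG_injective hF (inv_injective h)
  have hGA := card_mul_card_le_of_conj M (tauG hF 0 b) (Uz hF) hC
    (Finset.univ.image (fun k : Fˣ => (hG hF k)⁻¹))
    (by
      intro x hx
      obtain ⟨k, -, rfl⟩ := Finset.mem_image.1 hx
      rw [inv_inv, hG_conj_central']
      exact hZ _)
    (by
      intro x hx y hy h
      obtain ⟨k, -, rfl⟩ := Finset.mem_image.1 hx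
      obtain ⟨k', -, rfl⟩ := Finset.mem_image.1 hy
      rw [inv_inv, inv_inv, hG_conj_central', hG_conj_central'] at h
      have h1 := (tauG_injective hF h).2
      have h2 : sg m (k : F) * k = sg m (k' : F) * k' := mul_right_cancel₀ hb h1
      have hk'0 : (k' : F) ≠ 0 := k'.ne_zero
      have hs : sg m (k' : F) ≠ 0 := fun h0 => hk'0 (sg_eq_zero.1 h0)
      have h3 : sg m ((k : F) / k') * ((k : F) / k') = 1 := by
        rw [sg_div, div_mul_div_comm, h2, div_self (mul_ne_zero hs hk'0)]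
      have h4 := eq_one_of_sg_mul_self hF h3
      have h5 : (k : F) = k' := (div_eq_one_iff_eq hk'0).1 h4
      rw [Units.ext h5])
  rw [Finset.card_image_of_injective _ hinjk, Finset.card_univ, ← Nat.card_eq_fintype_card,
    card_units hF, card_Uz] at hGA
  have hcount := hM.conj_count hfix hz1
  have hMle : Nat.card M ≤ (2 ^ (2 * m + 1)) ^ 2 := by
    rw [← card_Uz hF]
    exact Subgroup.card_le_of_le hle
  have h7 : 7 ≤ 2 ^ (2 * m + 1) - 1 := by omega
  have hpos : 0 < (2 ^ (2 * m + 1)) ^ 2 := by positivity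
  have : (2 ^ (2 * m + 1)) ^ 2 * 7 ≤ (2 ^ (2 * m + 1)) ^ 2 * (2 ^ (2 * m + 1) - 1) :=
    Nat.mul_le_mul_left _ h7
  omega

/-- a point stabiliser inside the Borel subgroup containing a central involution and the torus is
the Borel subgroup -/
theorem IsStab.eq_stab_inf (hm : 1 ≤ m) (hF : Fintype.card F = 2 ^ (2 * m + 1)) [Finite Ω]
    (hfix : ∀ g : ↥(Cfsg.Sz F m), g ≠ 1 → Nat.card (fixedBy Ω g) ≤ 2)
    {M : Subgroup ↥(Cfsg.Sz F m)} (hM : IsStab Ω M)
    (hle : M ≤ stabilizer ↥(Cfsg.Sz F m) (oInf F m)) {b : F} (hb : b ≠ 0)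
    (hz : tauG hF 0 b ∈ M) (hH : Hz hF ≤ M) : M = stabilizer ↥(Cfsg.Sz F m) (oInf F m) := by
  have hz1 : tauG hF 0 b ≠ 1 := Cfsg.Agent.S2240.tauG_zero_ne_one hF hb
  have hD2 := hM.cent_le hfix hz hz1
  rw [centralizer_central hm hF hb, card_Uz] at hD2
  have hq8 := q_ge_eight hm
  -- an element with nonzero first coordinate
  have ha : ∃ a₁ b₁ : F, a₁ ≠ 0 ∧ tauG hF a₁ b₁ ∈ M := by
    by_contra hcon
    push Not at hcon
    have hex : ∀ u : ↥(Uz hF ⊓ M), ∃ c : F, (u : ↥(Cfsg.Sz F m)) = tauG hF 0 c := by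
      intro u
      obtain ⟨a', b', hab⟩ := (mem_Uz hF _).1 (Subgroup.mem_inf.1 u.2).1
      have hmem : tauG hF a' b' ∈ M := by rw [← hab]; exact (Subgroup.mem_inf.1 u.2).2
      have : a' = 0 := by
        by_contra h0
        exact hcon a' b' h0 hmem
      exact ⟨b', by rw [hab, this]⟩
    choose f hf using hex
    have hinj : Function.Injective f := by
      intro u v huv
      apply Subtype.ext
      rw [hf u, hf v, huv]
    have hcard := Nat.card_le_card_of_injective f hinj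
    rw [Nat.card_eq_fintype_card (α := F), hF] at hcard
    nlinarith
  obtain ⟨a₁, b₁, ha₁, hu₁⟩ := ha
  -- all first coordinates occur
  have hall : ∀ a : F, a ≠ 0 → ∃ b' : F, tauG hF a b' ∈ M := by
    intro a ha0
    have hk0 : a / a₁ ≠ 0 := div_ne_zero ha0 ha₁
    have hmem : hG hF (Units.mk0 _ hk0) * tauG hF a₁ b₁ * (hG hF (Units.mk0 _ hk0))⁻¹ ∈ M :=
      M.mul_mem (M.mul_mem (hH ((mem_Hz hF _).2 ⟨_, rfl⟩)) hu₁)
        (M.inv_mem (hH ((mem_Hz hF _).2 ⟨_, rfl⟩)))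
    rw [hG_conj_tauG, Units.val_mk0, div_mul_cancel₀ a ha₁] at hmem
    exact ⟨_, hmem⟩
  -- the centre
  have hZ : ∀ c : F, tauG hF 0 c ∈ M := by
    intro c
    obtain ⟨a, hac⟩ := sgmul_surjective hF c
    by_cases ha0 : a = 0
    · rw [ha0, sg_zero, zero_mul] at hac
      rw [← hac, tauG_zero]
      exact M.one_mem
    · obtain ⟨b', hb'⟩ := hall a ha0
      have := M.pow_mem hb' 2
      rwa [Cfsg.Agent.S2241.tauG_sq, hac] at this
  have hU : ∀ a b' : F, tauG hF a b' ∈ M := by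
    intro a b'
    by_cases ha0 : a = 0
    · rw [ha0]; exact hZ b'
    · obtain ⟨b'', hb''⟩ := hall a ha0
      have := M.mul_mem hb'' (hZ (b' - b''))
      rw [tauG_mul] at this
      have e : tauG hF (a + 0) (b'' + (b' - b'') + sg m a * 0) = tauG hF a b' := by
        congr 1 <;> ring
      rwa [e] at this
  apply le_antisymm hle
  intro g hg
  obtain ⟨a, b', k, rfl⟩ := (mem_stab_inf_iff hm hF g).1 hg
  exact M.mul_mem (hU a b') (hH ((mem_Hz hF _).2 ⟨k, rfl⟩))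

/-- moving a point stabiliser inside the Borel subgroup so that it contains the torus -/
theorem IsStab.exists_Hz_le (hm : 1 ≤ m) (hF : Fintype.card F = 2 ^ (2 * m + 1)) [Finite Ω]
    (hfix : ∀ g : ↥(Cfsg.Sz F m), g ≠ 1 → Nat.card (fixedBy Ω g) ≤ 2)
    {M : Subgroup ↥(Cfsg.Sz F m)} (hM : IsStab Ω M)
    (hle : M ≤ stabilizer ↥(Cfsg.Sz F m) (oInf F m)) {b : F}
    (hz : tauG hF 0 b ∈ M) (hnU : ¬ M ≤ Uz hF) :
    ∃ M' : Subgroup ↥(Cfsg.Sz F m), IsStab Ω M' ∧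
      M' ≤ stabilizer ↥(Cfsg.Sz F m) (oInf F m) ∧ tauG hF 0 b ∈ M' ∧ Hz hF ≤ M' := by
  obtain ⟨g, hgM, hgU⟩ := SetLike.not_le_iff_exists.1 hnU
  obtain ⟨a₀, b₀, k, rfl⟩ := (mem_stab_inf_iff hm hF g).1 (hle hgM)
  have hk1 : k ≠ 1 := by
    rintro rfl
    apply hgU
    rw [hG_one, mul_one]
    exact tauG_mem_Uz hF _ _
  obtain ⟨c, d, hcd⟩ := borel_fix_aff hF a₀ b₀ hk1
  have htstab : tauG hF c d ∈ stabilizer ↥(Cfsg.Sz F m) (oInf F m) :=
    mem_stabilizer_iff.2 (tauG_smul_oInf hF c d)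
  refine ⟨M.map (MulAut.conj (tauG hF c d)⁻¹).toMonoidHom, hM.conj _, ?_, ?_, ?_⟩
  · intro y hy
    rw [mem_map_conj, inv_inv] at hy
    have h1 := hle hy
    have : y = (tauG hF c d)⁻¹ * (tauG hF c d * y * (tauG hF c d)⁻¹) * tauG hF c d := by group
    rw [this]
    exact Subgroup.mul_mem _ (Subgroup.mul_mem _ (Subgroup.inv_mem _ htstab) h1) htstab
  · rw [mem_map_conj, inv_inv, tauG_conj_tauG]
    have e : tauG hF 0 (b + sg m c * 0 + sg m 0 * c) = tauG hF 0 b := by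
      congr 1
      rw [sg_zero]; ring
    rw [e]
    exact hz
  · -- the conjugate of `g` is a torus element
    set g' := (tauG hF c d)⁻¹ * (tauG hF a₀ b₀ * hG hF k) * tauG hF c d with hg'
    have hg'M : g' ∈ M.map (MulAut.conj (tauG hF c d)⁻¹).toMonoidHom := by
      rw [mem_map_conj, inv_inv]
      have : tauG hF c d * g' * (tauG hF c d)⁻¹ = tauG hF a₀ b₀ * hG hF k := by
        rw [hg']; group
      rw [this]
      exact hgM
    have e1 : g' • oInf F m = oInf F m := by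
      rw [hg', mul_smul, mul_smul, tauG_smul_oInf, mul_smul, hG_smul_oInf, tauG_smul_oInf,
        inv_smul_eq_iff, tauG_smul_oInf]
    have e2 : g' • oAff m (0 : F) 0 = oAff m 0 0 := by
      rw [hg', mul_smul, mul_smul, tauG_smul_oAff_zero, hcd, inv_smul_eq_iff,
        tauG_smul_oAff_zero]
    obtain ⟨k₂, hk₂⟩ := eq_hG_of_fix hm hF e1 e2
    have hk₂1 : k₂ ≠ 1 := by
      rintro rfl
      rw [hG_one] at hk₂
      apply hgU
      have : tauG hF a₀ b₀ * hG hF k = tauG hF c d * g' * (tauG hF c d)⁻¹ := by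
        rw [hg']; group
      rw [this, hk₂, mul_one, mul_inv_cancel]
      exact Subgroup.one_mem _
    rw [hk₂] at hg'M
    have hD2 := (hM.conj (tauG hF c d)⁻¹).cent_le hfix hg'M
      (fun h => hk₂1 (hG_eq_one hF h))
    rw [centralizer_hG hm hF hk₂1, card_Hz] at hD2
    have hdvd : Nat.card ↥(Hz hF ⊓ M.map (MulAut.conj (tauG hF c d)⁻¹).toMonoidHom) ∣
        2 ^ (2 * m + 1) - 1 := by
      rw [← card_Hz (m := m) hF]
      exact Subgroup.card_dvd_of_le inf_le_left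
    have hodd := odd_q_sub_one m
    obtain ⟨e, he⟩ := hdvd
    have he1 : e = 1 := by
      by_contra hne
      have he0 : e ≠ 0 := by
        rintro rfl
        rw [mul_zero] at he
        have := q_ge_eight hm
        omega
      have he2 : ¬ 2 ∣ e := fun h2 => hodd (he ▸ Dvd.dvd.mul_left h2 _)
      have he3 : 3 ≤ e := by
        rcases Nat.lt_or_ge e 3 with hlt | hge
        · interval_cases e
          · exact absurd rfl he0
          · exact absurd rfl hne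
          · exact absurd (dvd_refl 2) he2
        · exact hge
      have hdpos : 0 < Nat.card ↥(Hz hF ⊓ M.map (MulAut.conj (tauG hF c d)⁻¹).toMonoidHom) :=
        Nat.card_pos
      nlinarith
    rw [he1, mul_one] at he
    have heq : Hz hF ⊓ M.map (MulAut.conj (tauG hF c d)⁻¹).toMonoidHom = Hz hF := by
      apply Subgroup.eq_of_le_of_card_ge inf_le_left
      rw [← he, card_Hz]
    rw [← heq]
    exact inf_le_right

/-- the point stabilisers of a fixity-2 action are Borel subgroups or split tori -/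
theorem fixity_core (hm : 1 ≤ m) (hF : Fintype.card F = 2 ^ (2 * m + 1)) [Finite Ω]
    [IsPretransitive ↥(Cfsg.Sz F m) Ω]
    (hfix : ∀ g : ↥(Cfsg.Sz F m), g ≠ 1 → Nat.card (fixedBy Ω g) ≤ 2)
    (hntop : ∀ α : Ω, stabilizer ↥(Cfsg.Sz F m) α ≠ ⊤)
    (hnbot : ∃ α : Ω, stabilizer ↥(Cfsg.Sz F m) α ≠ ⊥) :
    (∃ α : Ω, stabilizer ↥(Cfsg.Sz F m) α = stabilizer ↥(Cfsg.Sz F m) (oInf F m)) ∨
    (∃ α : Ω, stabilizer ↥(Cfsg.Sz F m) α = Hz hF) := by
  have : Fact (Nat.Prime 2) := ⟨Nat.prime_two⟩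
  obtain ⟨α₀, hα₀⟩ := hnbot
  have hM₀ : IsStab Ω (stabilizer ↥(Cfsg.Sz F m) α₀) := ⟨α₀, rfl⟩
  by_cases heven : 2 ∣ Nat.card (stabilizer ↥(Cfsg.Sz F m) α₀)
  · left
    obtain ⟨z₀, hz₀⟩ := exists_prime_orderOf_dvd_card' 2 heven
    have hz₀1 : (z₀ : ↥(Cfsg.Sz F m)) ≠ 1 := by
      intro h0
      have : z₀ = 1 := Subtype.ext h0
      rw [this, orderOf_one] at hz₀
      omega
    have hz₀2 : (z₀ : ↥(Cfsg.Sz F m)) ^ 2 = 1 := by
      have := pow_orderOf_eq_one z₀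
      rw [hz₀] at this
      exact coe_sq_eq_one this
    obtain ⟨x, hx⟩ := two_elt_conj hm hF hz₀1 (pow_four_of_sq hz₀2)
    obtain ⟨a, b, hab⟩ := (mem_Uz hF _).1 hx
    have hsq : tauG hF a b ^ 2 = 1 := by
      rw [← hab, conj_pow, hz₀2, mul_one, mul_inv_cancel]
    rw [Cfsg.Agent.S2241.tauG_sq, ← tauG_zero hF] at hsq
    have ha0 : a = 0 := by
      have h1 := (tauG_injective hF hsq).2
      rcases mul_eq_zero.1 h1 with h | h
      · exact sg_eq_zero.1 h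
      · exact h
    rw [ha0] at hab
    have hb0 : b ≠ 0 := by
      rintro rfl
      rw [tauG_zero] at hab
      exact conj_ne_one' hz₀1 hab
    have hM₁ := hM₀.conj x
    have hzM₁ : tauG hF 0 b ∈ (stabilizer ↥(Cfsg.Sz F m) α₀).map (MulAut.conj x).toMonoidHom := by
      rw [mem_map_conj, ← hab]
      have : x⁻¹ * (x * (z₀ : ↥(Cfsg.Sz F m)) * x⁻¹) * x = z₀ := by group
      rw [this]
      exact z₀.2
    have hM₁top : (stabilizer ↥(Cfsg.Sz F m) α₀).map (MulAut.conj x).toMonoidHom ≠ ⊤ := by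
      obtain ⟨α₁, hα₁⟩ := hM₁
      rw [← hα₁]
      exact hntop α₁
    have hle := hM₁.le_stab_inf hm hF hfix hM₁top hb0 hzM₁
    have hnU := hM₁.not_le_Uz hm hF hfix hb0 hzM₁
    obtain ⟨M₂, hM₂, hle₂, hz₂, hH₂⟩ := hM₁.exists_Hz_le hm hF hfix hle hzM₁ hnU
    have heq := hM₂.eq_stab_inf hm hF hfix hle₂ hb0 hz₂ hH₂
    obtain ⟨α₂, hα₂⟩ := hM₂
    exact ⟨α₂, hα₂.trans heq⟩
  · right
    obtain ⟨A, hA, hMA⟩ := odd_subgroup_le hm hF _ heven hα₀
    obtain ⟨g, hgM, hg1⟩ : ∃ g ∈ stabilizer ↥(Cfsg.Sz F m) α₀, g ≠ 1 := by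
      by_contra hcon
      push Not at hcon
      exact hα₀ ((Subgroup.eq_bot_iff_forall _).2 hcon)
    have hTL := hA.torusLike hm
    have hcent : Subgroup.centralizer ({g} : Set ↥(Cfsg.Sz F m)) = A := by
      ext c
      rw [mem_centralizer_singleton]
      constructor
      · intro h
        exact hTL.cent g (hMA hgM) hg1 c h
      · intro h
        exact hTL.comm c h g (hMA hgM)
    have hD2 := hM₀.cent_le hfix hgM hg1
    rw [hcent, inf_eq_right.2 hMA] at hD2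
    have hodd := hA.card_odd hm
    have hdvd : Nat.card (stabilizer ↥(Cfsg.Sz F m) α₀) ∣ Nat.card A :=
      Subgroup.card_dvd_of_le hMA
    have hcardeq : Nat.card A = Nat.card (stabilizer ↥(Cfsg.Sz F m) α₀) := by
      obtain ⟨e, he⟩ := hdvd
      have hpos : 0 < Nat.card (stabilizer ↥(Cfsg.Sz F m) α₀) := Nat.card_pos
      have he2 : ¬ 2 ∣ e := fun h2 => hodd (he ▸ Dvd.dvd.mul_left h2 _)
      have he1 : e = 1 := by
        rcases Nat.lt_or_ge e 3 with hlt | hge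
        · interval_cases e
          · rw [mul_zero] at he
            have : 0 < Nat.card A := Nat.card_pos
            omega
          · rfl
          · exact absurd (dvd_refl 2) he2
        · nlinarith
      rw [he, he1, mul_one]
    have hMeq : stabilizer ↥(Cfsg.Sz F m) α₀ = A :=
      Subgroup.eq_of_le_of_card_ge hMA hcardeq.le
    have hcount := hM₀.conj_count hfix hg1
    have hN := card_normalizer_le_of_conj (stabilizer ↥(Cfsg.Sz F m) α₀) hgM
    rw [hMeq] at hcount hN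
    rcases hA with ⟨x, hx⟩ | hT
    · refine ⟨x⁻¹ • α₀, ?_⟩
      rw [stabilizer_smul_eq_stabilizer_map_conj, hMeq, hx]
      ext y
      rw [mem_map_conj, mem_map_conj, inv_inv]
      have : x⁻¹ * (x * y * x⁻¹) * x = y := by group
      rw [this]
    · exfalso
      rw [hT.card_normalizer_four hm hF] at hN
      have hpos : 0 < Nat.card A := Nat.card_pos
      omega

theorem card_of_stab_eq_inf (hm : 1 ≤ m) (hF : Fintype.card F = 2 ^ (2 * m + 1)) [Finite Ω]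
    [IsPretransitive ↥(Cfsg.Sz F m) Ω] {α : Ω}
    (hα : stabilizer ↥(Cfsg.Sz F m) α = stabilizer ↥(Cfsg.Sz F m) (oInf F m)) :
    Nat.card Ω = (2 ^ (2 * m + 1)) ^ 2 + 1 := by
  have h1 := Subgroup.card_mul_index (stabilizer ↥(Cfsg.Sz F m) α)
  rw [index_stabilizer_of_transitive, hα, card_stab_oInf hm hF, card_sz hm hF] at h1
  have hq8 := q_ge_eight hm
  have hpos : 0 < (2 ^ (2 * m + 1)) ^ 2 * (2 ^ (2 * m + 1) - 1) := by
    apply Nat.mul_pos (by positivity)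
    omega
  apply Nat.eq_of_mul_eq_mul_left hpos
  rw [h1]
  ring

theorem two_trans_of_stab_eq_inf (hF : Fintype.card F = 2 ^ (2 * m + 1))
    [IsPretransitive ↥(Cfsg.Sz F m) Ω] {α : Ω}
    (hα : stabilizer ↥(Cfsg.Sz F m) α = stabilizer ↥(Cfsg.Sz F m) (oInf F m)) :
    IsMultiplyPretransitive ↥(Cfsg.Sz F m) Ω 2 := by
  have h2 := sz_two_pretransitive (m := m) hF
  rw [is_two_pretransitive_iff] at h2 ⊢
  -- the stabiliser of `α` is transitive on the other points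
  have key : ∀ β γ : Ω, β ≠ α → γ ≠ α → ∃ h : ↥(Cfsg.Sz F m), h • α = α ∧ h • β = γ := by
    intro β γ hβ hγ
    obtain ⟨y, rfl⟩ := exists_smul_eq ↥(Cfsg.Sz F m) α β
    obtain ⟨y', rfl⟩ := exists_smul_eq ↥(Cfsg.Sz F m) α γ
    have hy : y • oInf F m ≠ oInf F m := by
      intro h
      apply hβ
      have : y ∈ stabilizer ↥(Cfsg.Sz F m) α := by rw [hα]; exact mem_stabilizer_iff.2 h
      exact mem_stabilizer_iff.1 this
    have hy' : y' • oInf F m ≠ oInf F m := by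
      intro h
      apply hγ
      have : y' ∈ stabilizer ↥(Cfsg.Sz F m) α := by rw [hα]; exact mem_stabilizer_iff.2 h
      exact mem_stabilizer_iff.1 this
    obtain ⟨h, h1, h3⟩ := h2 hy.symm hy'.symm
    have hhα : h ∈ stabilizer ↥(Cfsg.Sz F m) α := by rw [hα]; exact mem_stabilizer_iff.2 h1
    refine ⟨h, mem_stabilizer_iff.1 hhα, ?_⟩
    have : y'⁻¹ * h * y ∈ stabilizer ↥(Cfsg.Sz F m) α := by
      rw [hα, mem_stabilizer_iff, mul_smul, mul_smul, h3, inv_smul_smul]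
    have h4 := mem_stabilizer_iff.1 this
    rw [mul_smul, mul_smul, inv_smul_eq_iff] at h4
    exact h4
  intro a b c d hab hcd
  obtain ⟨x, rfl⟩ := exists_smul_eq ↥(Cfsg.Sz F m) α a
  obtain ⟨x', rfl⟩ := exists_smul_eq ↥(Cfsg.Sz F m) α c
  have hb' : x⁻¹ • b ≠ α := by
    intro h
    apply hab
    rw [← h, smul_inv_smul]
  have hd' : x'⁻¹ • d ≠ α := by
    intro h
    apply hcd
    rw [← h, smul_inv_smul]
  obtain ⟨h, h1, h3⟩ := key _ _ hb' hd'
  refine ⟨x' * h * x⁻¹, ?_, ?_⟩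
  · rw [mul_smul, mul_smul, inv_smul_smul, h1]
  · rw [mul_smul, mul_smul, h3, smul_inv_smul]

theorem card_of_stab_eq_Hz (hm : 1 ≤ m) (hF : Fintype.card F = 2 ^ (2 * m + 1)) [Finite Ω]
    [IsPretransitive ↥(Cfsg.Sz F m) Ω] {α : Ω}
    (hα : stabilizer ↥(Cfsg.Sz F m) α = Hz hF) :
    Nat.card Ω = (2 ^ (2 * m + 1)) ^ 2 * ((2 ^ (2 * m + 1)) ^ 2 + 1) ∧
      ∀ β : Ω, Nat.card (stabilizer ↥(Cfsg.Sz F m) β) = 2 ^ (2 * m + 1) - 1 := by
  constructor
  · have h1 := Subgroup.card_mul_index (stabilizer ↥(Cfsg.Sz F m) α)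
    rw [index_stabilizer_of_transitive, hα, card_Hz, card_sz hm hF] at h1
    have hq8 := q_ge_eight hm
    have hpos : 0 < 2 ^ (2 * m + 1) - 1 := by omega
    apply Nat.eq_of_mul_eq_mul_left hpos
    rw [h1]
    ring
  · intro β
    obtain ⟨x, rfl⟩ := exists_smul_eq ↥(Cfsg.Sz F m) α β
    rw [stabilizer_smul_eq_stabilizer_map_conj, card_map_conj, hα, card_Hz]

end Core

end Cfsg.Agent.Lib.Helper09
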