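import Cfsg.Agent.Lib.Helper09.SuzukiSimple
import Cfsg.Agent.S0319
import Cfsg.Agent.S0323

set_option autoImplicit false

namespace Cfsg.Agent.Lib.Helper09

open Matrix
open scoped Pointwise

section Action

variable {F : Type*} [Field F] [Fintype F] {m : ℕ}

/-- the point at infinity as an element of the ovoid -/
def oInf (F : Type*) [Field F] (m : ℕ) : ↥(Cfsg.suzukiOvoid F m) := ⟨pInf F, pInf_mem m⟩

/-- affine points as elements of the ovoid -/
def oAff (m : ℕ) (x y : F) : ↥(Cfsg.suzukiOvoid F m) := ⟨pAff m x y, pAff_mem m x y⟩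

omit [Fintype F] in
theorem oInf_ne_oAff (x y : F) : oInf F m ≠ oAff m x y := by
  intro h
  exact pAff_ne_pInf m x y (congrArg Subtype.val h).symm

theorem sz_two_pretransitive (hF : Fintype.card F = 2 ^ (2 * m + 1)) :
    MulAction.IsMultiplyPretransitive ↥(Cfsg.Sz F m) ↥(Cfsg.suzukiOvoid F m) 2 := by
  rw [MulAction.is_two_pretransitive_iff]
  intro a b c d hab hcd
  obtain ⟨g, hg, hg1, hg2⟩ := sz_exists_to_inf_zero hF a.2 b.2 (fun h => hab (Subtype.ext h))
  obtain ⟨g', hg', hg1', hg2'⟩ := sz_exists_to_inf_zero hF c.2 d.2 (fun h => hcd (Subtype.ext h))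
  refine ⟨(⟨g', hg'⟩ : ↥(Cfsg.Sz F m))⁻¹ * ⟨g, hg⟩, Subtype.ext ?_, Subtype.ext ?_⟩
  · show (g'⁻¹ * g) • (a : Projectivization F (Fin 4 → F)) = c
    rw [mul_smul, hg1, inv_smul_eq_iff, hg1']
  · show (g'⁻¹ * g) • (b : Projectivization F (Fin 4 → F)) = d
    rw [mul_smul, hg2, inv_smul_eq_iff, hg2']

/-- an element of `Sz` fixing the two base points and a third ovoid point is trivial -/
theorem sz_fix_three (hm : 1 ≤ m) (hF : Fintype.card F = 2 ^ (2 * m + 1))
    {g : Matrix.SpecialLinearGroup (Fin 4) F} (hg : g ∈ Cfsg.Sz F m) {x y : F}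
    (hxy : ¬ (x = 0 ∧ y = 0)) (h1 : g • pInf F = pInf F)
    (h2 : g • pAff m (0 : F) 0 = pAff m 0 0) (h3 : g • pAff m x y = pAff m x y) : g = 1 := by
  obtain ⟨k, rfl⟩ := torus_of_fix hm hF hg h1 h2
  rw [hS_smul_pAff hF] at h3
  obtain ⟨e1, e2⟩ := pAff_injective h3
  have : k = 1 := by
    by_cases hx : x = 0
    · have hy : y ≠ 0 := fun hy => hxy ⟨hx, hy⟩
      have : sg m (k : F) * k = 1 := mul_right_cancel₀ hy (by rw [e2, one_mul])
      exact Units.ext (eq_one_of_sg_mul_self hF this)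
    · exact Units.ext (mul_right_cancel₀ hx (by rw [e1, Units.val_one, one_mul]))
  rw [this, hS_one]

/-- no nonidentity element of `Sz` fixes three ovoid points -/
theorem sz_fix_three' (hm : 1 ≤ m) (hF : Fintype.card F = 2 ^ (2 * m + 1))
    {g : Matrix.SpecialLinearGroup (Fin 4) F} (hg : g ∈ Cfsg.Sz F m)
    {p q r : Projectivization F (Fin 4 → F)} (hp : p ∈ Cfsg.suzukiOvoid F m)
    (hq : q ∈ Cfsg.suzukiOvoid F m) (hr : r ∈ Cfsg.suzukiOvoid F m)
    (hpq : p ≠ q) (hqr : q ≠ r) (hpr : p ≠ r)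
    (h1 : g • p = p) (h2 : g • q = q) (h3 : g • r = r) : g = 1 := by
  obtain ⟨t, ht, ht1, ht2⟩ := sz_exists_to_inf_zero hF hp hq hpq
  have hmem := smul_mem_ovoid ht hr
  rcases (mem_ovoid_iff m _).1 hmem with h | ⟨x, y, h⟩
  · exfalso
    rw [← ht1] at h
    exact hpr (smul_left_cancel t h).symm
  · have hxy : ¬ (x = 0 ∧ y = 0) := by
      rintro ⟨rfl, rfl⟩
      rw [← ht2] at h
      exact hqr (smul_left_cancel t h).symm
    have key := sz_fix_three hm hF (g := t * g * t⁻¹)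
      (mul_mem (mul_mem ht hg) (inv_mem ht)) hxy
      (by rw [mul_smul, mul_smul, inv_smul_eq_iff.2 ht1.symm, h1, ht1])
      (by rw [mul_smul, mul_smul, inv_smul_eq_iff.2 ht2.symm, h2, ht2])
      (by rw [mul_smul, mul_smul, inv_smul_eq_iff.2 h.symm, h3, h])
    have : g = t⁻¹ * (t * g * t⁻¹) * t := by group
    rw [this, key]
    group

theorem sz_faithful (hm : 1 ≤ m) (hF : Fintype.card F = 2 ^ (2 * m + 1)) :
    FaithfulSMul ↥(Cfsg.Sz F m) ↥(Cfsg.suzukiOvoid F m) := by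
  refine ⟨fun {g₁ g₂} h => ?_⟩
  have hfix : ∀ p : ↥(Cfsg.suzukiOvoid F m),
      ((g₂⁻¹ * g₁ : ↥(Cfsg.Sz F m)) : Matrix.SpecialLinearGroup (Fin 4) F) •
        (p : Projectivization F (Fin 4 → F)) = p := by
    intro p
    have : (g₂⁻¹ * g₁) • p = p := by rw [mul_smul, h p, inv_smul_smul]
    exact congrArg Subtype.val this
  have hxy : ¬ ((1 : F) = 0 ∧ (0 : F) = 0) := fun h => one_ne_zero h.1
  have key := sz_fix_three hm hF (g₂⁻¹ * g₁).2 hxy (hfix (oInf F m)) (hfix (oAff m 0 0))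
    (hfix (oAff m 1 0))
  have : g₂⁻¹ * g₁ = 1 := Subtype.ext key
  exact (inv_mul_eq_one.1 this).symm

end Action

section Borel

variable {F : Type*} [Field F] [Fintype F] {m : ℕ}

theorem fix_inf_col {g : Matrix.SpecialLinearGroup (Fin 4) F} (h : g • pInf F = pInf F) :
    g.1 0 0 ≠ 0 ∧ g.1 1 0 = 0 ∧ g.1 2 0 = 0 ∧ g.1 3 0 = 0 := by
  have hne := sl_mulVec_ne_zero g (e1_ne_zero (F := F))
  unfold pInf at h
  rw [sl_smul_mk _ _ hne, Projectivization.mk_eq_mk_iff'] at h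
  obtain ⟨a, ha⟩ := h
  have ha0 : a ≠ 0 := by
    rintro rfl
    rw [zero_smul] at ha
    exact hne ha.symm
  have c0 : ∀ i, g.1 i 0 = (a • (e1 : Fin 4 → F)) i := fun i => by
    rw [ha, mulVec_e1_apply]
  refine ⟨?_, ?_, ?_, ?_⟩
  · rw [c0 0]; simpa [e1] using ha0
  · rw [c0 1]; simp [e1]
  · rw [c0 2]; simp [e1]
  · rw [c0 3]; simp [e1]

omit [Fintype F] in
theorem stab_coe (g : ↥(MulAction.stabilizer ↥(Cfsg.Sz F m) (oInf F m))) :
    ((g : ↥(Cfsg.Sz F m)) : Matrix.SpecialLinearGroup (Fin 4) F) • pInf F = pInf F :=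
  congrArg Subtype.val g.2

/-- the eigenvalue on the fixed vector, as a homomorphism from the point stabiliser -/
noncomputable def alphaHom (F : Type*) [Field F] [Fintype F] (m : ℕ) :
    ↥(MulAction.stabilizer ↥(Cfsg.Sz F m) (oInf F m)) →* Fˣ where
  toFun g := Units.mk0 (g.1.1.1 0 0) (fix_inf_col (stab_coe g)).1
  map_one' := by
    apply Units.ext
    simp
  map_mul' g g' := by
    apply Units.ext
    obtain ⟨_, c1, c2, c3⟩ := fix_inf_col (stab_coe g')
    show (g.1.1.1 * g'.1.1.1) 0 0 = g.1.1.1 0 0 * g'.1.1.1 0 0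
    rw [Matrix.mul_apply, Fin.sum_univ_four, c1, c2, c3]
    simp

theorem SuzU.isSolvable (hF : Fintype.card F = 2 ^ (2 * m + 1)) : Group.IsSolvable (SuzU hF) := by
  have : Fact (Nat.Prime 2) := ⟨Nat.prime_two⟩
  have : Finite (SuzU hF) := inferInstanceAs (Finite (F × F))
  have hp : IsPGroup 2 (SuzU hF) :=
    IsPGroup.of_card (n := 2 * (2 * m + 1)) (by rw [SuzU.card, ← pow_mul]; ring_nf)
  have := hp.isNilpotent
  infer_instance

/-- the unipotent radical, mapped into the point stabiliser -/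
noncomputable def tauStab (hF : Fintype.card F = 2 ^ (2 * m + 1)) :
    SuzU hF →* ↥(MulAction.stabilizer ↥(Cfsg.Sz F m) (oInf F m)) :=
  (tauHom hF).codRestrict _ (fun x => by
    rw [MulAction.mem_stabilizer_iff]
    exact Subtype.ext (tauS_smul_pInf m x.1 x.2))

theorem stab_inf_solvable (hm : 1 ≤ m) (hF : Fintype.card F = 2 ^ (2 * m + 1)) :
    Group.IsSolvable ↥(MulAction.stabilizer ↥(Cfsg.Sz F m) (oInf F m)) := by
  have := SuzU.isSolvable hF
  refine Group.isSolvable_of_ker_le_range (tauStab hF) (alphaHom F m) ?_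
  intro g hg
  rw [MonoidHom.mem_ker] at hg
  obtain ⟨a, b, k, h⟩ := sz_fix_inf hm hF g.1.2 (stab_coe g)
  have h00 : g.1.1.1 0 0 = (k : F) ^ (2 ^ m + 1) := by
    rw [h]
    show (tauM m a b * hM m k) 0 0 = _
    simp [tauM, hM, Matrix.mul_apply, Matrix.diagonal_apply]
  have h1 : g.1.1.1 0 0 = 1 := by
    have := congrArg Units.val hg
    simpa [alphaHom] using this
  have hk : k = 1 := by
    apply eq_one_of_pow_eq_one hF
    apply Units.ext
    rw [Units.val_pow_eq_pow_val, ← h00, h1, Units.val_one]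
  rw [hk, hS_one, mul_one] at h
  refine ⟨SuzU.mk hF a b, ?_⟩
  apply Subtype.ext
  apply Subtype.ext
  exact h.symm

end Borel

section Main

variable {F : Type*} [Field F] [Fintype F] {m : ℕ}

theorem sz_nontrivial (hF : Fintype.card F = 2 ^ (2 * m + 1)) : Nontrivial ↥(Cfsg.Sz F m) := by
  refine ⟨⟨tauG hF 1 0, 1, ?_⟩⟩
  intro h
  have h1 : tauS m (1 : F) 0 = 1 := congrArg Subtype.val h
  rw [← tauS_zero m] at h1
  exact one_ne_zero (tauS_injective h1).1

/-- the Suzuki group is simple -/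
theorem sz_isSimpleGroup (hm : 1 ≤ m) (hF : Fintype.card F = 2 ^ (2 * m + 1)) :
    IsSimpleGroup ↥(Cfsg.Sz F m) := by
  have h2t := sz_two_pretransitive (m := m) hF
  have hxy : oInf F m ≠ oAff m 0 0 := oInf_ne_oAff 0 0
  have hxz : oInf F m ≠ oAff m 1 0 := oInf_ne_oAff 1 0
  have hyz : oAff m (0 : F) 0 ≠ oAff m 1 0 := by
    intro h
    exact zero_ne_one (pAff_injective (congrArg Subtype.val h)).1
  obtain ⟨P, hPB, -, hPr⟩ := Cfsg.Agent.S0323.result h2t hxy hyz hxz
  have := sz_nontrivial (m := m) hF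
  have := sz_faithful hm hF
  apply Cfsg.Agent.S0319.result P
  · intro J hJ hJne hJc
    exfalso
    obtain ⟨s, hs⟩ := hJne
    obtain ⟨s', hs'⟩ := hJc
    have hcard : Nat.card P.S = 1 := hPr
    have hsub : Subsingleton P.S := (Nat.card_eq_one_iff_unique.1 hcard).1
    have h1 := Subsingleton.elim (⟨s, hJ hs⟩ : P.S) ⟨s', hs'.1⟩
    have h2 : s = s' := congrArg Subtype.val h1
    exact hs'.2 (h2 ▸ hs)
  · rw [hPB]
    exact stab_inf_solvable hm hF
  · exact sz_perfect hm hF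
  · rw [hPB, eq_bot_iff]
    intro g hg
    rw [Subgroup.mem_bot]
    apply FaithfulSMul.eq_of_smul_eq_smul (α := ↥(Cfsg.suzukiOvoid F m))
    intro p
    rw [one_smul]
    rw [MulAction.is_two_pretransitive_iff] at h2t
    have hpre : ∃ t : ↥(Cfsg.Sz F m), t • oInf F m = p := by
      by_cases hp : p = oInf F m
      · exact ⟨1, by rw [one_smul, hp]⟩
      · obtain ⟨t, ht, -⟩ := h2t hxy hp
        exact ⟨t, ht⟩
    obtain ⟨t, rfl⟩ := hpre
    have := hg t⁻¹
    rw [MulAction.mem_stabilizer_iff, inv_inv, mul_smul, mul_smul, inv_smul_eq_iff] at this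
    exact this

/-- the Suzuki group is a Zassenhaus group on the ovoid -/
theorem sz_isZassenhaus (hm : 1 ≤ m) (hF : Fintype.card F = 2 ^ (2 * m + 1)) :
    Cfsg.IsZassenhausGroup ↥(Cfsg.Sz F m) ↥(Cfsg.suzukiOvoid F m) := by
  refine ⟨sz_faithful hm hF, sz_two_pretransitive hF, ?_, ?_, ?_⟩
  · intro g a b c hab hbc hac h1 h2 h3
    apply Subtype.ext
    exact sz_fix_three' hm hF g.2 a.2 b.2 c.2 (fun h => hab (Subtype.ext h))
      (fun h => hbc (Subtype.ext h)) (fun h => hac (Subtype.ext h))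
      (congrArg Subtype.val h1) (congrArg Subtype.val h2) (congrArg Subtype.val h3)
  · obtain ⟨k, hk⟩ := exists_unit_ne_one (F := F) hm hF
    refine ⟨hG hF k, ?_, oInf F m, oAff m 0 0, oInf_ne_oAff 0 0,
      Subtype.ext (hS_smul_pInf m k), Subtype.ext (hS_smul_pAff_zero hF k)⟩
    intro h
    apply hk
    have h1 : hS m k = 1 := congrArg Subtype.val h
    exact hS_injective m (h1.trans (hS_one m).symm)
  · intro N hN hNt
    have := sz_isSimpleGroup hm hF
    rcases hN.eq_bot_or_eq_top with rfl | rfl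
    · exfalso
      obtain ⟨n, hn⟩ := MulAction.exists_smul_eq ↥(⊥ : Subgroup ↥(Cfsg.Sz F m))
        (oInf F m) (oAff m 0 0)
      have hn1 : n = 1 := Subsingleton.elim _ _
      rw [hn1, one_smul] at hn
      exact oInf_ne_oAff 0 0 hn
    · refine ⟨oInf F m, ?_⟩
      intro h
      have hmem : (⟨tauG hF 1 0, Subgroup.mem_top _⟩ : ↥(⊤ : Subgroup ↥(Cfsg.Sz F m))) ∈
          MulAction.stabilizer ↥(⊤ : Subgroup ↥(Cfsg.Sz F m)) (oInf F m) := by
        rw [MulAction.mem_stabilizer_iff]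
        exact Subtype.ext (tauS_smul_pInf m 1 0)
      rw [h, Subgroup.mem_bot] at hmem
      have h1 : tauS m (1 : F) 0 = 1 := congrArg Subtype.val (congrArg Subtype.val hmem)
      rw [← tauS_zero m] at h1
      exact one_ne_zero (tauS_injective h1).1

end Main

end Cfsg.Agent.Lib.Helper09
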