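import Cfsg.Prelude.Def_Sz
import Cfsg.Agent.Lib.Helper09.SuzukiZassenhaus

set_option autoImplicit false

namespace Cfsg.Agent.Lib.Helper09

open Matrix
open scoped Pointwise

section LieA

variable {F : Type*} [Field F]

theorem altForm4_eq (u v : Fin 4 → F) :
    Cfsg.Lie.altForm4 u v = u ⬝ᵥ (Cfsg.suzukiForm F *ᵥ v) := by
  simp [Cfsg.Lie.altForm4, Cfsg.suzukiForm, Matrix.mulVec, dotProduct, Fin.sum_univ_four]

theorem altForm4_mulVec (M : Matrix (Fin 4) (Fin 4) F) (u v : Fin 4 → F) :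
    Cfsg.Lie.altForm4 (M *ᵥ u) (M *ᵥ v) = u ⬝ᵥ ((M.transpose * Cfsg.suzukiForm F * M) *ᵥ v) := by
  rw [altForm4_eq, ← Matrix.mulVec_mulVec, ← Matrix.mulVec_mulVec,
    Matrix.dotProduct_mulVec u M.transpose, Matrix.vecMul_transpose]

theorem altForm4_of_presJ {M : Matrix (Fin 4) (Fin 4) F} (h : PresJ M) (u v : Fin 4 → F) :
    Cfsg.Lie.altForm4 (M *ᵥ u) (M *ᵥ v) = Cfsg.Lie.altForm4 u v := by
  rw [altForm4_mulVec, h, ← altForm4_eq]

theorem presJ_of_altForm4 {M : Matrix (Fin 4) (Fin 4) F}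
    (h : ∀ u v : Fin 4 → F, Cfsg.Lie.altForm4 (M *ᵥ u) (M *ᵥ v) = Cfsg.Lie.altForm4 u v) :
    PresJ M := by
  unfold PresJ
  ext i j
  have := h (Pi.single i 1) (Pi.single j 1)
  rw [altForm4_mulVec, altForm4_eq] at this
  simpa using this

end LieA

section Generators

variable {F : Type*} [Field F] [Fintype F] {m : ℕ}

omit [Fintype F] in
theorem sg_def' (m : ℕ) (x : F) : x ^ 2 ^ (m + 1) = sg m x := rfl

theorem star4_wM (hF : Fintype.card F = 2 ^ (2 * m + 1)) : Cfsg.Lie.star4 (wM : Matrix (Fin 4) (Fin 4) F) = (wM : Matrix (Fin 4) (Fin 4) F).map (fun x => x ^ 2 ^ (m + 1)) := by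
  have h2 := two_eq_zero' hF
  ext i j
  fin_cases i <;> fin_cases j <;>
    simp [Cfsg.Lie.star4, Cfsg.Lie.pairOf, wM, Matrix.map_apply]
  all_goals linear_combination (-1 : F) * h2

theorem star4_tauM (hF : Fintype.card F = 2 ^ (2 * m + 1)) (a b : F) :
    Cfsg.Lie.star4 (tauM m a b) = (tauM m a b).map (fun x => x ^ 2 ^ (m + 1)) := by
  have h2 := two_eq_zero' hF
  ext i j
  fin_cases i <;> fin_cases j <;>
    simp [Cfsg.Lie.star4, Cfsg.Lie.pairOf, tauM, Matrix.map_apply, sg_def', sg_add hF, sg_mul, sg_sg hF, ff_eq, sg_zero, sg_one, sg_pow]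
  all_goals try ring1
  · linear_combination (-(sg m a * a ^ 2 + sg m b)) * h2
  · linear_combination (-(sg m a ^ 2 * a ^ 2 + sg m a * sg m b)) * h2
  · linear_combination (-(sg m b)) * h2

theorem pow_q (hF : Fintype.card F = 2 ^ (2 * m + 1)) (x : F) : x ^ (2 ^ m * 2 ^ (m + 1)) = x := by
  have : 2 ^ m * 2 ^ (m + 1) = 2 ^ (2 * m + 1) := by rw [← pow_add]; congr 1; ring
  rw [this, ← hF, FiniteField.pow_card]

theorem star4_hM (hF : Fintype.card F = 2 ^ (2 * m + 1)) (k : Fˣ) :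
    Cfsg.Lie.star4 (hM m k) = (hM m k).map (fun x => x ^ 2 ^ (m + 1)) := by
  have hk : (k : F) ≠ 0 := k.ne_zero
  have hq := pow_q hF (k : F)
  have e1 : (k : F) ^ (2 ^ m + 1) = (k : F) ^ 2 ^ m * k := pow_succ _ _
  have e2 : ((k : F) ^ 2 ^ m) ^ 2 ^ (m + 1) = k := by rw [← pow_mul]; exact hq
  have e3 : (k : F) ^ 2 ^ (m + 1) = (k : F) ^ 2 ^ m * (k : F) ^ 2 ^ m := by
    rw [pow_succ 2 m, pow_mul, sq]
  have hr : (k : F) ^ 2 ^ m ≠ 0 := pow_ne_zero _ hk
  ext i j
  fin_cases i <;> fin_cases j <;>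
    simp [Cfsg.Lie.star4, Cfsg.Lie.pairOf, hM, Matrix.map_apply, Matrix.diagonal_apply]
  · rw [e1, mul_pow, e2, e3]; ring
  · rw [e1, e2]; field_simp
  · rw [e1, e2]; field_simp
  · rw [e1, mul_pow, e2, e3]; field_simp

end Generators

section Witness

variable {F : Type*} [Field F]

/-- 2x2 minors of a pair of vectors -/
def plk (c d : Fin 4 → F) (k l : Fin 4) : F := c k * d l - c l * d k

/-- 2x2 minors of a matrix -/
def mn (M : Matrix (Fin 4) (Fin 4) F) (k l i j : Fin 4) : F := M k i * M l j - M l i * M k j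

/-- Cauchy-Binet for 2x2 minors -/
theorem plk_mulVec (M : Matrix (Fin 4) (Fin 4) F) (c d : Fin 4 → F) (k l : Fin 4) :
    plk (M *ᵥ c) (M *ᵥ d) k l =
      mn M k l 0 1 * plk c d 0 1 + mn M k l 0 2 * plk c d 0 2 + mn M k l 0 3 * plk c d 0 3 +
      mn M k l 1 2 * plk c d 1 2 + mn M k l 1 3 * plk c d 1 3 + mn M k l 2 3 * plk c d 2 3 := by
  simp only [plk, mn, Matrix.mulVec, dotProduct, Fin.sum_univ_four]
  ring

theorem mulVec_apply4 (M : Matrix (Fin 4) (Fin 4) F) (v : Fin 4 → F) (p : Fin 4) :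
    (M *ᵥ v) p = M p 0 * v 0 + M p 1 * v 1 + M p 2 * v 2 + M p 3 * v 3 := by
  simp [Matrix.mulVec, dotProduct, Fin.sum_univ_four]

/-- a vector together with a second vector spanning the image line under the polarity -/
def Wit (m : ℕ) (v : Fin 4 → F) : Prop :=
  ∃ (d : Fin 4 → F) (s : F), plk v d 0 1 = sg m (v 0) ∧ plk v d 0 2 = sg m (v 1) ∧
    plk v d 1 3 = sg m (v 2) ∧ plk v d 2 3 = sg m (v 3) ∧ plk v d 0 3 = s ∧ plk v d 1 2 = s

/-- the matrix conditions defining the Suzuki group inside the symplectic group -/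
structure SzMat (m : ℕ) (M : Matrix (Fin 4) (Fin 4) F) : Prop where
  jr : ∀ k l : Fin 4, M k 0 * M l 3 + M k 1 * M l 2 + M k 2 * M l 1 + M k 3 * M l 0 =
    Cfsg.suzukiForm F k l
  jc : ∀ i j : Fin 4, M 0 i * M 3 j + M 1 i * M 2 j + M 2 i * M 1 j + M 3 i * M 0 j =
    Cfsg.suzukiForm F i j
  star : ∀ p r : Fin 4, mn M (Cfsg.Lie.pairOf p).1 (Cfsg.Lie.pairOf p).2
    (Cfsg.Lie.pairOf r).1 (Cfsg.Lie.pairOf r).2 = sg m (M p r)

theorem presJ_entry {M : Matrix (Fin 4) (Fin 4) F} (h : PresJ M) (i j : Fin 4) :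
    M 0 i * M 3 j + M 1 i * M 2 j + M 2 i * M 1 j + M 3 i * M 0 j = Cfsg.suzukiForm F i j := by
  have := congrFun (congrFun h i) j
  rw [← this]
  simp [Matrix.mul_apply, Fin.sum_univ_four, Cfsg.suzukiForm, Matrix.transpose_apply]
  ring

theorem presJ_transpose {M : Matrix (Fin 4) (Fin 4) F} (h : PresJ M) : PresJ M.transpose := by
  unfold PresJ at *
  rw [Matrix.transpose_transpose]
  have hJJ : Cfsg.suzukiForm F * Cfsg.suzukiForm F = 1 := by
    ext i j
    fin_cases i <;> fin_cases j <;> simp [Cfsg.suzukiForm, Matrix.mul_apply, Fin.sum_univ_four]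
  have h1 : (Cfsg.suzukiForm F * M.transpose * Cfsg.suzukiForm F) * M = 1 := by
    rw [Matrix.mul_assoc, Matrix.mul_assoc, ← Matrix.mul_assoc M.transpose, h, hJJ]
  have h2 : M * (Cfsg.suzukiForm F * M.transpose * Cfsg.suzukiForm F) = 1 :=
    (_root_.mul_eq_one_comm).1 h1
  calc M * Cfsg.suzukiForm F * M.transpose
      = M * (Cfsg.suzukiForm F * M.transpose * Cfsg.suzukiForm F) * Cfsg.suzukiForm F := by
        simp only [Matrix.mul_assoc]
        rw [hJJ, Matrix.mul_one]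
    _ = Cfsg.suzukiForm F := by rw [h2, Matrix.one_mul]

theorem szMat_of (m : ℕ) {M : Matrix (Fin 4) (Fin 4) F} (h : PresJ M)
    (hs : Cfsg.Lie.star4 M = M.map (fun x => x ^ 2 ^ (m + 1))) : SzMat m M := by
  refine ⟨?_, presJ_entry h, ?_⟩
  · intro k l
    have := presJ_entry (presJ_transpose h) k l
    simpa [Matrix.transpose_apply] using this
  · intro p r
    have := congrFun (congrFun hs p) r
    simpa [Cfsg.Lie.star4, mn, sg] using this

end Witness

section WitnessLemmas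

variable {F : Type*} [Field F] [Fintype F] {m : ℕ}

theorem sg_mulVec (hF : Fintype.card F = 2 ^ (2 * m + 1)) (M : Matrix (Fin 4) (Fin 4) F)
    (v : Fin 4 → F) (p : Fin 4) :
    sg m ((M *ᵥ v) p) = sg m (M p 0) * sg m (v 0) + sg m (M p 1) * sg m (v 1) +
      sg m (M p 2) * sg m (v 2) + sg m (M p 3) * sg m (v 3) := by
  rw [mulVec_apply4, sg_add hF, sg_add hF, sg_add hF, sg_mul, sg_mul, sg_mul, sg_mul]

/-- one star component of the image -/
theorem wit_component (hF : Fintype.card F = 2 ^ (2 * m + 1)) {M : Matrix (Fin 4) (Fin 4) F}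
    {v d : Fin 4 → F} {s : F}
    (h01 : plk v d 0 1 = sg m (v 0)) (h02 : plk v d 0 2 = sg m (v 1))
    (h13 : plk v d 1 3 = sg m (v 2)) (h23 : plk v d 2 3 = sg m (v 3))
    (h03 : plk v d 0 3 = s) (h12 : plk v d 1 2 = s) (k l p : Fin 4)
    (e0 : mn M k l 0 1 = sg m (M p 0)) (e1 : mn M k l 0 2 = sg m (M p 1))
    (e2 : mn M k l 1 3 = sg m (M p 2)) (e3 : mn M k l 2 3 = sg m (M p 3))
    (ej : M k 0 * M l 3 + M k 1 * M l 2 + M k 2 * M l 1 + M k 3 * M l 0 = 0) :
    plk (M *ᵥ v) (M *ᵥ d) k l = sg m ((M *ᵥ v) p) := by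
  have h2 := two_eq_zero' hF
  rw [plk_mulVec, sg_mulVec hF, h01, h02, h13, h23, h03, h12]
  simp only [mn] at *
  linear_combination sg m (v 0) * e0 + sg m (v 1) * e1 + sg m (v 2) * e2 + sg m (v 3) * e3 +
    s * ej - s * (M l 0 * M k 3 + M l 1 * M k 2) * h2

/-- the witness property is preserved by matrices of the Suzuki group -/
theorem wit_mulVec (hF : Fintype.card F = 2 ^ (2 * m + 1)) {M : Matrix (Fin 4) (Fin 4) F}
    (hM : SzMat m M) {v : Fin 4 → F} (hv : Wit m v) : Wit m (M *ᵥ v) := by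
  have h2 := two_eq_zero' hF
  obtain ⟨d, s, h01, h02, h13, h23, h03, h12⟩ := hv
  refine ⟨M *ᵥ d, plk (M *ᵥ v) (M *ᵥ d) 0 3, ?_, ?_, ?_, ?_, rfl, ?_⟩
  · have e := hM.star 0
    have j := hM.jr 0 1
    simp only [Cfsg.Lie.pairOf] at e
    refine wit_component hF h01 h02 h13 h23 h03 h12 0 1 0 ?_ ?_ ?_ ?_ ?_
    · simpa using e 0
    · simpa using e 1
    · simpa using e 2
    · simpa using e 3
    · simpa [Cfsg.suzukiForm] using j
  · have e := hM.star 1
    have j := hM.jr 0 2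
    simp only [Cfsg.Lie.pairOf] at e
    refine wit_component hF h01 h02 h13 h23 h03 h12 0 2 1 ?_ ?_ ?_ ?_ ?_
    · simpa using e 0
    · simpa using e 1
    · simpa using e 2
    · simpa using e 3
    · simpa [Cfsg.suzukiForm] using j
  · have e := hM.star 2
    have j := hM.jr 1 3
    simp only [Cfsg.Lie.pairOf] at e
    refine wit_component hF h01 h02 h13 h23 h03 h12 1 3 2 ?_ ?_ ?_ ?_ ?_
    · simpa using e 0
    · simpa using e 1
    · simpa using e 2
    · simpa using e 3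
    · simpa [Cfsg.suzukiForm] using j
  · have e := hM.star 3
    have j := hM.jr 2 3
    simp only [Cfsg.Lie.pairOf] at e
    refine wit_component hF h01 h02 h13 h23 h03 h12 2 3 3 ?_ ?_ ?_ ?_ ?_
    · simpa using e 0
    · simpa using e 1
    · simpa using e 2
    · simpa using e 3
    · simpa [Cfsg.suzukiForm] using j
  · -- the two remaining components agree
    have c01 := hM.jc 0 1
    have c02 := hM.jc 0 2
    have c03 := hM.jc 0 3
    have c12 := hM.jc 1 2
    have c13 := hM.jc 1 3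
    have c23 := hM.jc 2 3
    simp [Cfsg.suzukiForm] at c01 c02 c03 c12 c13 c23
    rw [plk_mulVec, plk_mulVec, h01, h02, h13, h23, h03, h12]
    simp only [mn]
    linear_combination (-(sg m (v 0))) * c01 - sg m (v 1) * c02 - s * c03 - s * c12
      - sg m (v 2) * c13 - sg m (v 3) * c23
      + (-s + sg m (v 0) * (M 3 0 * M 0 1 + M 1 0 * M 2 1)
        + sg m (v 1) * (M 3 0 * M 0 2 + M 1 0 * M 2 2)
        + s * (M 3 0 * M 0 3 + M 1 0 * M 2 3)
        + s * (M 3 1 * M 0 2 + M 1 1 * M 2 2)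
        + sg m (v 2) * (M 3 1 * M 0 3 + M 1 1 * M 2 3)
        + sg m (v 3) * (M 3 2 * M 0 3 + M 1 2 * M 2 3)) * h2

omit [Fintype F] in
theorem wit_e1 (m : ℕ) : Wit m (e1 : Fin 4 → F) := by
  refine ⟨![0, 1, 0, 0], 0, ?_, ?_, ?_, ?_, ?_, ?_⟩ <;>
    simp [plk, e1, sg_zero, sg_one]

/-- a nonzero vector with a witness spans a point of the ovoid -/
theorem wit_mem_ovoid (hF : Fintype.card F = 2 ^ (2 * m + 1)) {v : Fin 4 → F} (hv : v ≠ 0)
    (hw : Wit m v) : Projectivization.mk F v hv ∈ Cfsg.suzukiOvoid F m := by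
  have h2 := two_eq_zero' hF
  obtain ⟨d, s, h01, h02, h13, h23, h03, h12⟩ := hw
  -- incidence and Pluecker relations
  have E1 : v 1 * sg m (v 3) - v 2 * sg m (v 2) + v 3 * s = 0 := by
    rw [← h23, ← h13, ← h12]; simp only [plk]; ring
  have E2 : v 0 * s - v 1 * sg m (v 1) + v 2 * sg m (v 0) = 0 := by
    rw [← h12, ← h02, ← h01]; simp only [plk]; ring
  have E3 : sg m (v 0) * sg m (v 3) - sg m (v 1) * sg m (v 2) + s * s = 0 := by
    have : plk v d 0 1 * plk v d 2 3 - plk v d 0 2 * plk v d 1 3 + plk v d 0 3 * plk v d 1 2 = 0 := by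
      simp only [plk]; ring
    rw [h01, h23, h02, h13, h03, h12] at this
    exact this
  by_cases h3 : v 3 = 0
  · -- the point at infinity
    rw [h3, sg_zero] at E1 E3
    have hv2 : v 2 = 0 := by
      have : v 2 * sg m (v 2) = 0 := by linear_combination -E1
      rcases mul_eq_zero.1 this with h | h
      · exact h
      · exact sg_eq_zero.1 h
    rw [hv2, sg_zero] at E3
    have hs : s = 0 := by
      have : s * s = 0 := by linear_combination E3
      exact mul_self_eq_zero.1 this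
    rw [hs, hv2] at E2
    have hv1 : v 1 = 0 := by
      have : v 1 * sg m (v 1) = 0 := by linear_combination -E2
      rcases mul_eq_zero.1 this with h | h
      · exact h
      · exact sg_eq_zero.1 h
    have : v = v 0 • (e1 : Fin 4 → F) := by
      funext i
      fin_cases i <;> simp [e1, hv1, hv2, h3]
    rw [mk_smul_e1 hv this]
    exact pInf_mem m
  · -- an affine point
    have key : sg m (v 0) * sg m (v 3) * v 3 ^ 2 = sg m (v 1) * sg m (v 2) * v 3 ^ 2 +
        v 2 ^ 2 * sg m (v 2) ^ 2 + v 1 ^ 2 * sg m (v 3) ^ 2 := by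
      linear_combination v 3 ^ 2 * E3 - (v 3 * s + (v 2 * sg m (v 2) - v 1 * sg m (v 3))) * E1 +
        (-(v 2 ^ 2 * sg m (v 2) ^ 2) - v 1 ^ 2 * sg m (v 3) ^ 2 +
          v 1 * v 2 * sg m (v 2) * sg m (v 3)) * h2
    have hs3 : sg m (v 3) ≠ 0 := fun h => h3 (sg_eq_zero.1 h)
    have hff : v 0 / v 3 = ff m (v 2 / v 3) (v 1 / v 3) := by
      apply sg_injective hF
      rw [ff_eq, sg_add hF, sg_add hF, sg_mul, sg_mul, sg_sg hF, sg_sg hF, sg_pow, sg_div, sg_div,
        sg_div]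
      field_simp
      linear_combination key
    have : v = v 3 • pt m (v 2 / v 3) (v 1 / v 3) := by
      funext i
      fin_cases i
      · simp only [pt, Pi.smul_apply, smul_eq_mul]
        simp
        rw [← hff]; field_simp
      · simp [pt]; field_simp
      · simp [pt]; field_simp
      · simp [pt]
    rw [mk_smul_pt m _ _ hv this]
    exact pAff_mem m _ _

end WitnessLemmas

section Bridge

variable {F : Type*} [Field F] [Fintype F] {m : ℕ}

theorem szMat_tauM (hF : Fintype.card F = 2 ^ (2 * m + 1)) (a b : F) : SzMat m (tauM m a b) :=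
  szMat_of m (presJ_tauM hF a b) (star4_tauM hF a b)

theorem szMat_wM (hF : Fintype.card F = 2 ^ (2 * m + 1)) :
    SzMat m (wM : Matrix (Fin 4) (Fin 4) F) :=
  szMat_of m presJ_wM (star4_wM hF)

/-- every ovoid vector has a witness -/
theorem wit_pt (hF : Fintype.card F = 2 ^ (2 * m + 1)) (x y : F) : Wit m (pt m x y) := by
  have h1 : pt m x y = tauM m x y *ᵥ ((wM : Matrix (Fin 4) (Fin 4) F) *ᵥ e1) := by
    have h0 : (wM : Matrix (Fin 4) (Fin 4) F) *ᵥ e1 = pt m 0 0 := wM_mulVec_e1 m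
    have h3 : tauM m x y *ᵥ pt m 0 0 = pt m (0 + x) (0 + y + sg m x * 0) := tauM_mulVec_pt hF x y 0 0
    rw [h0, h3]
    simp
  rw [h1]
  exact wit_mulVec hF (szMat_tauM hF x y) (wit_mulVec hF (szMat_wM hF) (wit_e1 m))

/-- the defining set of the matrix Suzuki group -/
def LieSet (F : Type*) [Field F] (m : ℕ) : Set (GL (Fin 4) F) :=
  {g | g ∈ Cfsg.Lie.Sp4 F ∧ Cfsg.Lie.star4 (g : Matrix (Fin 4) (Fin 4) F) =
    (g : Matrix (Fin 4) (Fin 4) F).map (fun x => x ^ 2 ^ (m + 1))}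

omit [Fintype F] in
theorem lieSz_def : Cfsg.Lie.Sz F (2 ^ (m + 1)) = Subgroup.closure (LieSet F m) := rfl

omit [Fintype F] in
theorem mem_lieSet_iff (g : GL (Fin 4) F) :
    g ∈ LieSet F m ↔ PresJ (g : Matrix (Fin 4) (Fin 4) F) ∧
      Cfsg.Lie.star4 (g : Matrix (Fin 4) (Fin 4) F) =
        (g : Matrix (Fin 4) (Fin 4) F).map (fun x => x ^ 2 ^ (m + 1)) := by
  constructor
  · rintro ⟨h1, h2⟩
    exact ⟨presJ_of_altForm4 (fun u v => h1 u v), h2⟩
  · rintro ⟨h1, h2⟩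
    exact ⟨fun u v => altForm4_of_presJ h1 u v, h2⟩

theorem det_of_presJ (hF : Fintype.card F = 2 ^ (2 * m + 1)) {M : Matrix (Fin 4) (Fin 4) F}
    (h : PresJ M) : M.det = 1 := by
  have h2 := two_eq_zero' hF
  have hJ : (Cfsg.suzukiForm F).det = 1 := det_wM
  have h1 := congrArg Matrix.det h
  rw [Matrix.det_mul, Matrix.det_mul, Matrix.det_transpose, hJ, mul_one] at h1
  have h3 : (M.det + 1) ^ 2 = 0 := by linear_combination h1 + (M.det + 1) * h2
  have h4 : M.det + 1 = 0 := pow_eq_zero_iff (by norm_num) |>.1 h3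
  linear_combination h4 - h2

/-- an element of the defining set comes from the ovoid stabiliser -/
theorem lieSet_sub (hF : Fintype.card F = 2 ^ (2 * m + 1)) {g : GL (Fin 4) F}
    (hg : g ∈ LieSet F m) :
    ∃ σ ∈ Cfsg.Sz F m, Matrix.SpecialLinearGroup.toGL σ = g := by
  obtain ⟨hJ, hs⟩ := (mem_lieSet_iff g).1 hg
  have hM : SzMat m (g : Matrix (Fin 4) (Fin 4) F) := szMat_of m hJ hs
  let σ : Matrix.SpecialLinearGroup (Fin 4) F :=
    ⟨(g : Matrix (Fin 4) (Fin 4) F), det_of_presJ hF hJ⟩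
  have hσ : (σ : Matrix (Fin 4) (Fin 4) F) = (g : Matrix (Fin 4) (Fin 4) F) := rfl
  refine ⟨σ, ?_, Units.ext rfl⟩
  show σ ∈ MulAction.stabilizer (Matrix.SpecialLinearGroup (Fin 4) F) (Cfsg.suzukiOvoid F m)
  rw [MulAction.mem_stabilizer_set' (ovoid_finite m)]
  intro p hp
  rcases (mem_ovoid_iff m p).1 hp with rfl | ⟨x, y, rfl⟩
  · unfold pInf
    rw [sl_smul_mk _ _ (sl_mulVec_ne_zero _ e1_ne_zero)]
    exact wit_mem_ovoid hF _ (wit_mulVec hF hM (wit_e1 m))
  · unfold pAff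
    rw [sl_smul_mk _ _ (sl_mulVec_ne_zero _ (pt_ne_zero m x y))]
    exact wit_mem_ovoid hF _ (wit_mulVec hF hM (wit_pt hF x y))

theorem tauS_mem_lieSet (hF : Fintype.card F = 2 ^ (2 * m + 1)) (a b : F) :
    Matrix.SpecialLinearGroup.toGL (tauS m a b) ∈ LieSet F m :=
  (mem_lieSet_iff _).2 ⟨presJ_tauM hF a b, star4_tauM hF a b⟩

theorem wS_mem_lieSet (hF : Fintype.card F = 2 ^ (2 * m + 1)) :
    Matrix.SpecialLinearGroup.toGL (wS F) ∈ LieSet F m :=
  (mem_lieSet_iff _).2 ⟨presJ_wM, star4_wM hF⟩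

theorem hS_mem_lieSet (hF : Fintype.card F = 2 ^ (2 * m + 1)) (k : Fˣ) :
    Matrix.SpecialLinearGroup.toGL (hS m k) ∈ LieSet F m :=
  (mem_lieSet_iff _).2 ⟨presJ_hM m k, star4_hM hF k⟩

/-- the matrix Suzuki group is the image of the ovoid stabiliser -/
theorem lieSz_eq (hm : 1 ≤ m) (hF : Fintype.card F = 2 ^ (2 * m + 1)) :
    Cfsg.Lie.Sz F (2 ^ (m + 1)) = (Cfsg.Sz F m).map Matrix.SpecialLinearGroup.toGL := by
  apply le_antisymm
  · rw [lieSz_def, Subgroup.closure_le]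
    intro g hg
    obtain ⟨σ, hσ, rfl⟩ := lieSet_sub hF hg
    exact Subgroup.mem_map_of_mem _ hσ
  · rintro _ ⟨σ, hσ, rfl⟩
    rw [lieSz_def]
    have ht := fun a b => Subgroup.subset_closure (tauS_mem_lieSet (m := m) hF a b)
    have hw := Subgroup.subset_closure (wS_mem_lieSet (m := m) hF)
    have hh := fun k => Subgroup.subset_closure (hS_mem_lieSet (m := m) hF k)
    rcases sz_bruhat hm hF hσ with ⟨a, b, k, rfl⟩ | ⟨a, b, a', b', k, rfl⟩
    · rw [map_mul]
      exact mul_mem (ht a b) (hh k)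
    · rw [map_mul, map_mul, map_mul]
      exact mul_mem (mul_mem (mul_mem (ht a b) hw) (ht a' b')) (hh k)

/-- the isomorphism between the two realisations of the Suzuki group -/
noncomputable def lieEquiv (hm : 1 ≤ m) (hF : Fintype.card F = 2 ^ (2 * m + 1)) :
    ↥(Cfsg.Sz F m) ≃* ↥(Cfsg.Lie.Sz F (2 ^ (m + 1))) :=
  ((Cfsg.Sz F m).equivMapOfInjective Matrix.SpecialLinearGroup.toGL
    Matrix.SpecialLinearGroup.toGL_injective).trans
    (MulEquiv.subgroupCongr (lieSz_eq hm hF).symm)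

end Bridge

end Cfsg.Agent.Lib.Helper09
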