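import Cfsg.Agent.Lib.Helper09.L2861A
import Cfsg.Agent.Lib.Helper09.SuzukiFixity
import Cfsg.Agent.Lib.Helper09.SuzukiAut
import Cfsg.Agent.Lib.Helper09.SuzukiLie

/-!
# S2861: the Suzuki case (`m ≥ 1`)

In `Sz(q)`, `q = 2^(2m+1) ≥ 8`, an elementary abelian subgroup `U` of order `q` is the centre of a Sylow `2`-subgroup;
its normaliser is a Borel subgroup `B ≠ G`, and `U` is the only nontrivial elementary abelian `2`-subgroup of `B`
normalized by `B`.
-/

set_option autoImplicit false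

namespace Cfsg.Agent.Lib.Helper09.L2861

open Cfsg.Agent.Lib.Helper09 Matrix MulAction
open scoped Pointwise

variable {F : Type*} [Field F] [Fintype F] {m : ℕ}

/-- the centre of the standard Sylow `2`-subgroup -/
def Zz (hF : Fintype.card F = 2 ^ (2 * m + 1)) : Subgroup ↥(Cfsg.Sz F m) where
  carrier := {g | ∃ b : F, g = tauG hF 0 b}
  one_mem' := ⟨0, (tauG_zero hF).symm⟩
  mul_mem' := by
    rintro _ _ ⟨b, rfl⟩ ⟨b', rfl⟩
    refine ⟨b + b', ?_⟩
    rw [tauG_mul, sg_zero, zero_mul, add_zero, add_zero]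
  inv_mem' := by
    rintro _ ⟨b, rfl⟩
    refine ⟨b, ?_⟩
    rw [tauG_inv, sg_zero, zero_mul, add_zero]

theorem mem_Zz (hF : Fintype.card F = 2 ^ (2 * m + 1)) (g : ↥(Cfsg.Sz F m)) :
    g ∈ Zz hF ↔ ∃ b : F, g = tauG hF 0 b := Iff.rfl

theorem card_Zz (hF : Fintype.card F = 2 ^ (2 * m + 1)) : Nat.card (Zz (m := m) hF) = Fintype.card F := by
  have e : F ≃ Zz (m := m) hF :=
    Equiv.ofBijective (fun b => ⟨tauG hF 0 b, ⟨b, rfl⟩⟩)
      ⟨fun b b' h => (tauG_injective hF (congrArg Subtype.val h)).2,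
       fun ⟨g, b, hb⟩ => ⟨b, Subtype.ext hb.symm⟩⟩
  rw [← Nat.card_congr e, Nat.card_eq_fintype_card]

theorem tauG_sq_eq_one (hF : Fintype.card F = 2 ^ (2 * m + 1)) {a b : F}
    (h : tauG hF a b * tauG hF a b = 1) : a = 0 := by
  rw [tauG_mul, ← tauG_zero hF] at h
  have h2 := (tauG_injective hF h).2
  have h3 := two_eq_zero' hF
  have h4 : sg m a * a = 0 := by linear_combination h2 - b * h3
  rcases mul_eq_zero.1 h4 with h5 | h5
  · exact sg_eq_zero.1 h5
  · exact h5

theorem borel_sq_eq_one (hF : Fintype.card F = 2 ^ (2 * m + 1)) {a b : F} {k : Fˣ}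
    (h : (tauG hF a b * hG hF k) * (tauG hF a b * hG hF k) = 1) : k = 1 := by
  have e : (tauG hF a b * hG hF k) * (tauG hF a b * hG hF k) =
      tauG hF a b * (hG hF k * tauG hF a b) * hG hF k := by group
  rw [e, hG_mul_tauG, ← mul_assoc, tauG_mul, mul_assoc, ← hG_mul] at h
  have h1 : hG hF (k * k) = (tauG hF (a + (k : F) * a) (b + sg m (k : F) * k * b + sg m a * ((k : F) * a)))⁻¹ :=
    eq_inv_of_mul_eq_one_right h
  have h2 : hG hF (k * k) ∈ Uz hF := by
    rw [h1]
    exact inv_mem (tauG_mem_Uz hF _ _)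
  have h3 : hG hF (k * k) = 1 :=
    Uz_fix_aff hF h2 (p := oAff m 0 0) (Ne.symm (oInf_ne_oAff 0 0)) (hG_smul_zero hF _)
  have h4 : k * k = 1 := hG_eq_one hF h3
  have h5 : (k : F) * k = 1 := by
    have := congrArg Units.val h4
    simpa using this
  have h6 := two_eq_zero' hF
  have h7 : ((k : F) - 1) ^ 2 = 0 := by linear_combination h5 + (1 - (k : F)) * h6
  have h8 : (k : F) - 1 = 0 := pow_eq_zero_iff (two_ne_zero) |>.1 h7
  exact Units.ext (by simpa using sub_eq_zero.1 h8)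

theorem normalizer_Zz (hm : 1 ≤ m) (hF : Fintype.card F = 2 ^ (2 * m + 1)) :
    Subgroup.normalizer ((Zz (m := m) hF : Subgroup ↥(Cfsg.Sz F m)) : Set ↥(Cfsg.Sz F m)) =
      MulAction.stabilizer ↥(Cfsg.Sz F m) (oInf F m) := by
  ext x
  constructor
  · intro hx
    rw [Subgroup.mem_normalizer_iff] at hx
    have h1 := (hx (tauG hF 0 1)).1 ⟨1, rfl⟩
    obtain ⟨b, hab⟩ := h1
    have hne : tauG hF 0 b ≠ 1 := by
      rw [← hab]
      intro h
      have : tauG hF (0 : F) 1 = 1 := by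
        have := congrArg (fun t => x⁻¹ * t * x) h
        simpa [mul_assoc] using this
      rw [← tauG_zero hF] at this
      exact one_ne_zero (tauG_injective hF this).2
    have hfix : tauG hF 0 b • (x • oInf F m) = x • oInf F m := by
      rw [← hab, mul_smul, mul_smul, inv_smul_smul, tauG_smul_oInf]
    exact tauG_fix hF hne hfix
  · intro hx
    have key : ∀ y ∈ MulAction.stabilizer ↥(Cfsg.Sz F m) (oInf F m), ∀ z ∈ Zz (m := m) hF,
        y * z * y⁻¹ ∈ Zz (m := m) hF := by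
      rintro y hy _ ⟨b, rfl⟩
      obtain ⟨c, d, k, rfl⟩ := (mem_stab_inf_iff hm hF y).1 hy
      rw [borel_conj_tauG]
      refine ⟨sg m (k : F) * k * b + sg m c * ((k : F) * 0) + sg m ((k : F) * 0) * c, ?_⟩
      rw [mul_zero]
    rw [Subgroup.mem_normalizer_iff]
    intro h
    constructor
    · intro hh
      exact key x hx h hh
    · intro hh
      have := key x⁻¹ (inv_mem hx) _ hh
      have e : x⁻¹ * (x * h * x⁻¹) * x⁻¹⁻¹ = h := by group
      rw [e] at this
      exact this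

theorem good_Zz (hm : 1 ≤ m) (hF : Fintype.card F = 2 ^ (2 * m + 1)) :
    Good 2 (Zz (m := m) hF) := by
  refine ⟨?_, ?_⟩
  · rw [normalizer_Zz hm hF]
    intro htop
    have : wG hF ∈ MulAction.stabilizer ↥(Cfsg.Sz F m) (oInf F m) := by rw [htop]; trivial
    rw [MulAction.mem_stabilizer_iff, wG_smul_oInf] at this
    exact oInf_ne_oAff 0 0 this.symm
  · intro W hW hnorm hea hne
    rw [normalizer_Zz hm hF] at hW hnorm
    obtain ⟨hcomm, hexp⟩ := hea
    have hWZ : W ≤ Zz (m := m) hF := by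
      intro w hw
      obtain ⟨a, b, k, rfl⟩ := (mem_stab_inf_iff hm hF w).1 (hW hw)
      have h2 := hexp _ hw
      rw [pow_two] at h2
      have hk : k = 1 := borel_sq_eq_one hF h2
      subst hk
      rw [hG_one, mul_one] at h2 ⊢
      have ha : a = 0 := tauG_sq_eq_one hF h2
      subst ha
      exact ⟨b, rfl⟩
    apply le_antisymm hWZ
    -- a nonidentity element of `W`
    obtain ⟨w₀, hw₀, hw₀1⟩ : ∃ w₀ ∈ W, w₀ ≠ 1 := by
      by_contra hcon
      push Not at hcon
      apply hne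
      rw [eq_bot_iff]
      intro w hw
      rw [Subgroup.mem_bot]
      exact hcon w hw
    obtain ⟨b₀, rfl⟩ := hWZ hw₀
    have hb₀ : b₀ ≠ 0 := by
      intro h
      apply hw₀1
      rw [h, tauG_zero]
    rintro _ ⟨b, rfl⟩
    by_cases hb : b = 0
    · rw [hb, tauG_zero]; exact one_mem _
    · obtain ⟨a, ha⟩ := sgmul_surjective (m := m) hF (b / b₀)
      have ha0 : a ≠ 0 := by
        intro h
        rw [h, sg_zero, zero_mul] at ha
        exact (div_ne_zero hb hb₀) ha.symm
      have hmem := hnorm (hG hF (Units.mk0 a ha0))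
        (by rw [MulAction.mem_stabilizer_iff, hG_smul_oInf]) _ hw₀
      rw [hG_conj_central'] at hmem
      have e : sg m ((Units.mk0 a ha0 : Fˣ) : F) * ((Units.mk0 a ha0 : Fˣ) : F) * b₀ = b := by
        rw [Units.val_mk0, ha, div_mul_cancel₀ _ hb₀]
      rw [e] at hmem
      exact hmem

/-- every elementary abelian subgroup of order `q` of the Suzuki group (ovoid model) is good -/
theorem good_model (hm : 1 ≤ m) (hF : Fintype.card F = 2 ^ (2 * m + 1))
    (U : Subgroup ↥(Cfsg.Sz F m)) (hUe : Cfsg.IsElementaryAbelian 2 U)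
    (hU : Nat.card U = Fintype.card F) : Good 2 U := by
  have : Fact (Nat.Prime 2) := ⟨Nat.prime_two⟩
  have hUp : IsPGroup 2 U := by
    intro g
    refine ⟨1, ?_⟩
    apply Subtype.ext
    rw [pow_one]
    exact hUe.2 g.1 g.2
  obtain ⟨Q, hQ⟩ := hUp.exists_le_sylow
  obtain ⟨x, hx⟩ := sylow_eq_smul hm hF Q
  -- `U ≤ x Uz x⁻¹`
  have hU1 : ∀ u ∈ U, x⁻¹ * u * x ∈ Uz hF := by
    intro u hu
    have h1 : u ∈ (Q : Subgroup ↥(Cfsg.Sz F m)) := hQ hu
    rw [← hx] at h1
    have h2 : u ∈ MulAut.conj x • (Uz (m := m) hF) := h1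
    rw [Subgroup.mem_pointwise_smul_iff_inv_smul_mem] at h2
    have e : (MulAut.conj x)⁻¹ • u = x⁻¹ * u * x := by
      rw [← map_inv, MulAut.smul_def, MulAut.conj_apply, inv_inv]
    rw [e] at h2
    exact h2
  -- `x⁻¹ U x ≤ Zz`
  have hU2 : ∀ u ∈ U, x⁻¹ * u * x ∈ Zz (m := m) hF := by
    intro u hu
    obtain ⟨a, b, hab⟩ := (mem_Uz hF _).1 (hU1 u hu)
    have h2 : tauG hF a b * tauG hF a b = 1 := by
      rw [← hab]
      have := hUe.2 u hu
      rw [pow_two] at this
      calc x⁻¹ * u * x * (x⁻¹ * u * x) = x⁻¹ * (u * u) * x := by group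
        _ = 1 := by rw [this]; group
    have ha : a = 0 := tauG_sq_eq_one hF h2
    subst ha
    exact ⟨b, hab⟩
  have hmap : U.map (MulAut.conj x⁻¹).toMonoidHom = Zz (m := m) hF := by
    have hle : U.map (MulAut.conj x⁻¹).toMonoidHom ≤ Zz (m := m) hF := by
      rintro _ ⟨u, hu, rfl⟩
      have := hU2 u hu
      simpa [MulAut.conj_apply] using this
    have hfin : Finite ↥(Cfsg.Sz F m) := inferInstance
    apply Subgroup.eq_of_le_of_card_ge hle
    rw [card_Zz, ← hU]
    exact le_of_eq (Nat.card_congr (U.equivMapOfInjective _ (MulAut.conj x⁻¹).injective).toEquiv)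
  have hgood := (good_Zz hm hF).map (MulAut.conj x)
  rw [← hmap] at hgood
  have e : (U.map (MulAut.conj x⁻¹).toMonoidHom).map (MulAut.conj x).toMonoidHom = U := by
    ext u
    constructor
    · rintro ⟨_, ⟨u', hu', rfl⟩, rfl⟩
      simpa [MulAut.conj_apply, mul_assoc] using hu'
    · intro hu
      refine ⟨x⁻¹ * u * x, ⟨u, hu, by simp [MulAut.conj_apply]⟩, ?_⟩
      simp [MulAut.conj_apply, mul_assoc]
  rw [e] at hgood
  exact hgood

/-- the Suzuki case in the matrix model of the definitions -/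
theorem good_lie (hm : 1 ≤ m) (hF : Fintype.card F = 2 ^ (2 * m + 1))
    (U : Subgroup ↥(Cfsg.Lie.Sz F (2 ^ (m + 1)))) (hUe : Cfsg.IsElementaryAbelian 2 U)
    (hU : Nat.card U = Fintype.card F) : Good 2 U := by
  set e := lieEquiv hm hF with he
  have hUe' : Cfsg.IsElementaryAbelian 2 (U.map e.symm.toMonoidHom) := isElementaryAbelian_map _ hUe
  have hU' : Nat.card (U.map e.symm.toMonoidHom) = Fintype.card F := by
    rw [← hU]
    exact (Nat.card_congr (U.equivMapOfInjective _ e.symm.injective).toEquiv).symm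
  have hgood := (good_model hm hF _ hUe' hU').map e
  have e2 : (U.map e.symm.toMonoidHom).map e.toMonoidHom = U := by
    ext u
    constructor
    · rintro ⟨_, ⟨u', hu', rfl⟩, rfl⟩
      simpa using hu'
    · intro hu
      exact ⟨e.symm u, ⟨u, hu, rfl⟩, by simp⟩
  rw [e2] at hgood
  exact hgood

end Cfsg.Agent.Lib.Helper09.L2861
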