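import Mathlib
import Cfsg.Prelude.Def_Transfer
import Cfsg.Agent.Lib.Helper09.L2861A

/-!
# S2861: the abstract assembly

`core`: given `Y ≤ L`, `A ≤ L` normalizing `Y`, a surjection `π : L → X` with kernel `A` and the uniqueness
statement inside `π (N_L(Y))`, the four conclusions of S2861 about `N_L(Y) / A`.
-/

set_option autoImplicit false

namespace Cfsg.Agent.Lib.Helper09.L2861

open Subgroup

/-- the proper-overgroup condition, moved into the subgroup `L` -/
theorem hmax_subgroupOf {G : Type*} [Group G] (L Y NL : Subgroup G) (hYL : Y ≤ L)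
    (h : ∀ X : Subgroup G, Y ≤ X → X < L → X ≤ NL) :
    ∀ Z : Subgroup ↥L, Y.subgroupOf L ≤ Z → Z ≠ ⊤ → Z ≤ NL.subgroupOf L := by
  intro Z hYZ hZ z hz
  have h1 : Y ≤ Z.map L.subtype := by
    intro y hy
    exact ⟨⟨y, hYL hy⟩, hYZ (by rw [mem_subgroupOf]; exact hy), rfl⟩
  have h2 : Z.map L.subtype < L := by
    refine lt_of_le_of_ne (Subgroup.map_subtype_le Z) ?_
    intro heq
    apply hZ
    rw [eq_top_iff]
    intro l _
    have : (l : G) ∈ Z.map L.subtype := by rw [heq]; exact l.2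
    obtain ⟨z', hz', hzl⟩ := this
    have : z' = l := Subtype.ext hzl
    rw [← this]; exact hz'
  have h3 := h _ h1 h2
  rw [mem_subgroupOf]
  exact h3 ⟨z, hz, rfl⟩

/-- `N_L(Y)` normalizes `Y`, inside `L` -/
theorem subgroupOf_le_normalizer {G : Type*} [Group G] (L Y NL : Subgroup G)
    (hN : NL ≤ normalizer (Y : Set G)) :
    NL.subgroupOf L ≤ normalizer ((Y.subgroupOf L : Subgroup ↥L) : Set ↥L) := by
  intro x hx
  rw [mem_subgroupOf] at hx
  have hx' := hN hx
  rw [Subgroup.mem_normalizer_iff] at hx' ⊢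
  intro h
  rw [mem_subgroupOf, mem_subgroupOf]
  exact hx' h

/-- the order of the image of `Y` -/
theorem card_map_eq_relIndex {G : Type*} [Group G] (L Y A : Subgroup G) (hYL : Y ≤ L)
    {X : Type*} [Group X] (π : ↥L →* X) (hker : π.ker = A.subgroupOf L) :
    Nat.card ((Y.subgroupOf L).map π) = (Y ⊓ A).relIndex Y := by
  rw [← Subgroup.relIndex_ker, hker, Subgroup.relIndex_subgroupOf hYL, Subgroup.inf_relIndex_left]

/-- from `Good` to the uniqueness statement inside the image of `N'` -/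
theorem h_of_good {L' X : Type*} [Group L'] [Group X] (p : ℕ) (π : L' →* X)
    (hπ : Function.Surjective π) (Y' N' : Subgroup L')
    (hN : N' ≤ normalizer (Y' : Set L'))
    (hmax : ∀ Z : Subgroup L', Y' ≤ Z → Z ≠ ⊤ → Z ≤ N')
    (hgood : Good p (Y'.map π)) :
    ∀ W : Subgroup X, W ≤ N'.map π → (∀ b ∈ N'.map π, ∀ w ∈ W, b * w * b⁻¹ ∈ W) →
      Cfsg.IsElementaryAbelian p W → W ≠ ⊥ → W = Y'.map π := by
  have hNeq := map_eq_normalizer π hπ Y' N' hN hmax hgood.1
  rw [hNeq]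
  exact hgood.2

/-- the dihedral case -/
theorem h_of_dihedral {L' X : Type*} [Group L'] [Group X] [Finite X] (r : ℕ) (hr : r.Prime)
    (hcard : Nat.card X = 2 * r) (π : L' →* X) (_hπ : Function.Surjective π)
    (Y' N' : Subgroup L') (hYN : Y' ≤ N') (hker : π.ker ≤ N') (hNtop : N' ≠ ⊤)
    (hU2 : IsPGroup 2 (Y'.map π)) (hU1 : Y'.map π ≠ ⊥) :
    ∀ W : Subgroup X, W ≤ N'.map π → Cfsg.IsElementaryAbelian 2 W → W ≠ ⊥ → W = Y'.map π := by
  have : Fact (Nat.Prime 2) := ⟨Nat.prime_two⟩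
  have hRtop : N'.map π ≠ ⊤ := by
    intro h
    apply hNtop
    rw [eq_top_iff]
    intro l _
    have : π l ∈ N'.map π := by rw [h]; trivial
    obtain ⟨n, hn, hnl⟩ := this
    have h1 : n⁻¹ * l ∈ π.ker := by
      rw [MonoidHom.mem_ker, map_mul, map_inv, hnl, inv_mul_cancel]
    have h2 := N'.mul_mem hn (hker h1)
    rwa [mul_inv_cancel_left] at h2
  -- orders
  have hdiv : Nat.card (N'.map π) ∣ 2 * r := hcard ▸ Subgroup.card_subgroup_dvd_card _
  have hlt : Nat.card (N'.map π) ≠ 2 * r := by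
    intro h
    apply hRtop
    exact Subgroup.card_eq_iff_eq_top _ |>.1 (h.trans hcard.symm)
  have hUle : Y'.map π ≤ N'.map π := Subgroup.map_mono hYN
  have two_dvd : ∀ W : Subgroup X, IsPGroup 2 W → W ≠ ⊥ → 2 ∣ Nat.card W := by
    intro W hW hW1
    obtain ⟨k, hk⟩ := hW.exists_card_eq
    rcases Nat.eq_zero_or_pos k with rfl | hkpos
    · exfalso; apply hW1
      rw [pow_zero] at hk
      exact Subgroup.card_eq_one.1 hk
    · rw [hk]; exact dvd_pow_self 2 hkpos.ne'
  have h2R : 2 ∣ Nat.card (N'.map π) :=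
    (two_dvd _ hU2 hU1).trans (Subgroup.card_dvd_of_le hUle)
  have hR2 : Nat.card (N'.map π) = 2 := by
    obtain ⟨k, hk⟩ := h2R
    rw [hk] at hdiv hlt ⊢
    have hkr : k ∣ r := Nat.dvd_of_mul_dvd_mul_left (by norm_num) hdiv
    rcases (Nat.dvd_prime hr).1 hkr with h1 | h1
    · rw [h1]
    · exact absurd (by rw [h1]) hlt
  have key : ∀ W : Subgroup X, W ≤ N'.map π → IsPGroup 2 W → W ≠ ⊥ → W = N'.map π := by
    intro W hWR hW hW1
    have h1 : 2 ∣ Nat.card W := two_dvd W hW hW1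
    have h2 : Nat.card W ∣ 2 := hR2 ▸ Subgroup.card_dvd_of_le hWR
    have h3 : Nat.card W = Nat.card (N'.map π) := by rw [hR2]; exact Nat.dvd_antisymm h2 h1
    exact Subgroup.eq_of_le_of_card_ge hWR h3.ge
  intro W hWR hWe hW1
  have hW2 : IsPGroup 2 W := by
    intro w
    refine ⟨1, ?_⟩
    rw [pow_one]
    apply Subtype.ext
    have := hWe.2 w.1 w.2
    simpa using this
  rw [key W hWR hW2 hW1, key _ hUle hU2 hU1]

/-- a subgroup of an elementary abelian group, seen inside another subgroup -/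
theorem isElementaryAbelian_subgroupOf {G : Type*} [Group G] {p : ℕ} {Y : Subgroup G}
    (hYe : Cfsg.IsElementaryAbelian p Y) (K : Subgroup G) :
    Cfsg.IsElementaryAbelian p (Y.subgroupOf K) := by
  obtain ⟨h1, h2⟩ := hYe
  refine ⟨⟨⟨?_⟩⟩, ?_⟩
  · rintro ⟨a, ha⟩ ⟨b, hb⟩
    rw [mem_subgroupOf] at ha hb
    apply Subtype.ext
    apply Subtype.ext
    show (a : G) * (b : G) = (b : G) * (a : G)
    exact congrArg Subtype.val (h1.is_comm.comm ⟨a.1, ha⟩ ⟨b.1, hb⟩)
  · intro a ha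
    rw [mem_subgroupOf] at ha
    apply Subtype.ext
    have := h2 _ ha
    simpa using this

/-- the abstract assembly -/
theorem core {G : Type*} [Group G] {p : ℕ} (L Y A : Subgroup G) (hYL : Y ≤ L)
    {X : Type*} [Group X] (π : ↥L →* X) (hker : π.ker = A.subgroupOf L)
    [hn : (A.subgroupOf (L ⊓ normalizer (Y : Set G))).Normal]
    (hYe : Cfsg.IsElementaryAbelian p Y)
    (hU1 : (Y.subgroupOf L).map π ≠ ⊥)
    (h : ∀ W : Subgroup X, W ≤ ((L ⊓ normalizer (Y : Set G)).subgroupOf L).map π →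
      (∀ b ∈ ((L ⊓ normalizer (Y : Set G)).subgroupOf L).map π, ∀ w ∈ W, b * w * b⁻¹ ∈ W) →
      Cfsg.IsElementaryAbelian p W → W ≠ ⊥ → W = (Y.subgroupOf L).map π) :
    ((Y.subgroupOf (L ⊓ normalizer (Y : Set G))).map
        (QuotientGroup.mk' (A.subgroupOf (L ⊓ normalizer (Y : Set G)))) ≠ ⊥) ∧
    ((Y.subgroupOf (L ⊓ normalizer (Y : Set G))).map
        (QuotientGroup.mk' (A.subgroupOf (L ⊓ normalizer (Y : Set G))))).Normal ∧
    Cfsg.IsElementaryAbelian p ((Y.subgroupOf (L ⊓ normalizer (Y : Set G))).map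
        (QuotientGroup.mk' (A.subgroupOf (L ⊓ normalizer (Y : Set G))))) ∧
    ∀ V : Subgroup (↥(L ⊓ normalizer (Y : Set G)) ⧸ A.subgroupOf (L ⊓ normalizer (Y : Set G))),
      V.Normal → Cfsg.IsElementaryAbelian p V → V ≠ ⊥ →
      V = (Y.subgroupOf (L ⊓ normalizer (Y : Set G))).map
        (QuotientGroup.mk' (A.subgroupOf (L ⊓ normalizer (Y : Set G)))) := by
  set NL : Subgroup G := L ⊓ normalizer (Y : Set G) with hNL
  have hNLL : NL ≤ L := inf_le_left
  have hYNL : Y ≤ NL := le_inf hYL Subgroup.le_normalizer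
  set ψ : ↥NL →* X := π.comp (Subgroup.inclusion hNLL) with hψ
  have hψker : ψ.ker = A.subgroupOf NL := by
    ext x
    rw [MonoidHom.mem_ker, hψ, MonoidHom.comp_apply, ← MonoidHom.mem_ker, hker, mem_subgroupOf,
      mem_subgroupOf]
    rfl
  have hψrange : ψ.range = (NL.subgroupOf L).map π := by
    rw [hψ, MonoidHom.range_comp, Subgroup.inclusion_range]
  have hψY : (Y.subgroupOf NL).map ψ = (Y.subgroupOf L).map π := by
    ext x
    constructor
    · rintro ⟨y, hy, rfl⟩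
      have hy' : y ∈ Y.subgroupOf NL := hy
      rw [mem_subgroupOf] at hy'
      exact ⟨Subgroup.inclusion hNLL y, by
        show Subgroup.inclusion hNLL y ∈ Y.subgroupOf L
        rw [mem_subgroupOf]; exact hy', rfl⟩
    · rintro ⟨y, hy, rfl⟩
      have hy' : y ∈ Y.subgroupOf L := hy
      rw [mem_subgroupOf] at hy'
      exact ⟨⟨y.1, hYNL hy'⟩, by
        show (⟨y.1, hYNL hy'⟩ : ↥NL) ∈ Y.subgroupOf NL
        rw [mem_subgroupOf]; exact hy', by
        rw [hψ, MonoidHom.comp_apply]; rfl⟩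
  have hYe' : Cfsg.IsElementaryAbelian p (Y.subgroupOf NL) := isElementaryAbelian_subgroupOf hYe NL
  refine ⟨?_, ?_, ?_, ?_⟩
  · intro h0
    apply hU1
    rw [← hψY, eq_bot_iff]
    rintro _ ⟨y, hy, rfl⟩
    have h1 : QuotientGroup.mk' (A.subgroupOf NL) y ∈
        (Y.subgroupOf NL).map (QuotientGroup.mk' (A.subgroupOf NL)) := ⟨y, hy, rfl⟩
    rw [h0, mem_bot, QuotientGroup.mk'_apply, QuotientGroup.eq_one_iff, ← hψker,
      MonoidHom.mem_ker] at h1
    rw [mem_bot]; exact h1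
  · have : (Y.subgroupOf NL).Normal :=
      Subgroup.normal_subgroupOf_of_le_normalizer inf_le_right
    exact Subgroup.Normal.map inferInstance _ (QuotientGroup.mk'_surjective _)
  · exact isElementaryAbelian_map _ hYe'
  · intro V hVn hVe hV1
    refine quotient_unique p ψ (A.subgroupOf NL) hψker (Y.subgroupOf NL) ?_ V hVn hVe hV1
    rw [hψrange, hψY]
    exact h

end Cfsg.Agent.Lib.Helper09.L2861
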