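import Mathlib
import Cfsg.Prelude.Def_Transfer
import Cfsg.Prelude.Def_Sz
import Cfsg.Agent.Lib.Helper18.L2861D

/-!
# S2861: the case `Sz(2)`

In the matrix group `Cfsg.Lie.Sz F 2` over the field with two elements there is no Klein four-group, so a subgroup of
order two is the only nontrivial elementary abelian `2`-subgroup of its normalizer.
-/

set_option autoImplicit false

namespace Cfsg.Agent.Lib.Helper09.L2861

open Subgroup
open Cfsg.Agent.Lib.Helper18.L2861

/-- the case `Sz(2)` of the uniqueness statement -/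
theorem h_of_sz2 {L' : Type*} [Group L'] {F : Type*} [Field F] [Fintype F]
    (hF : Fintype.card F = 2) (θ : ℕ) (hθ : θ = 2) (π : L' →* ↥(Cfsg.Lie.Sz F θ))
    (Y' N' : Subgroup L') (hN : N' ≤ normalizer (Y' : Set L'))
    (hU : Nat.card (Y'.map π) = 2) :
    ∀ W : Subgroup ↥(Cfsg.Lie.Sz F θ), W ≤ N'.map π →
      Cfsg.IsElementaryAbelian 2 W → W ≠ ⊥ → W = Y'.map π := by
  subst hθ
  set U := Y'.map π with hUdef
  obtain ⟨⟨u, huU⟩, hu1, huniq⟩ := (Nat.card_eq_two_iff' (1 : ↥U)).1 hU
  have hu1' : u ≠ 1 := fun h => hu1 (Subtype.ext h)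
  have hUmem : ∀ x ∈ U, x = 1 ∨ x = u := by
    intro x hx
    by_cases hx1 : x = 1
    · exact Or.inl hx1
    · right
      have := huniq ⟨x, hx⟩ (fun h => hx1 (congrArg Subtype.val h))
      exact congrArg Subtype.val this
  have huu : u * u = 1 := by
    rcases hUmem _ (U.mul_mem huU huU) with h | h
    · exact h
    · exact absurd (by simpa using h) hu1'
  have hRN : N'.map π ≤ normalizer (U : Set ↥(Cfsg.Lie.Sz F 2)) :=
    (Subgroup.map_mono hN).trans (Subgroup.le_normalizer_map π)
  intro W hWR hWe hW1
  have hWmem : ∀ w ∈ W, w = 1 ∨ w = u := by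
    intro w hw
    have hwn := hRN (hWR hw)
    have h1 : w * u * w⁻¹ ∈ U := (Subgroup.mem_normalizer_iff.1 hwn u).1 huU
    have hcomm : w * u = u * w := by
      rcases hUmem _ h1 with h | h
      · exfalso; apply hu1'
        have : w * u = w := by rw [mul_inv_eq_one] at h; exact h
        simpa using this
      · rw [mul_inv_eq_iff_eq_mul] at h; exact h
    have hww : w * w = 1 := by
      have := hWe.2 w hw
      rwa [pow_two] at this
    have := sz_two_no_klein_four hF (w : GL (Fin 4) F) (u : GL (Fin 4) F) w.2 u.2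
      (by rw [← Subgroup.coe_mul, hww]; rfl) (by rw [← Subgroup.coe_mul, huu]; rfl)
      (by rw [← Subgroup.coe_mul, ← Subgroup.coe_mul, hcomm])
    rcases this with h | h | h
    · left; exact Subtype.ext h
    · exact absurd (Subtype.ext h) hu1'
    · right; exact Subtype.ext h
  apply le_antisymm
  · intro w hw
    rcases hWmem w hw with h | h
    · rw [h]; exact one_mem _
    · rw [h]; exact huU
  · have : ∃ w ∈ W, w ≠ 1 := by
      by_contra hcon
      simp only [not_exists, not_and, not_not] at hcon
      apply hW1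
      rw [eq_bot_iff]
      intro w hw
      rw [mem_bot]; exact hcon w hw
    obtain ⟨w, hw, hw1⟩ := this
    have hwu : w = u := (hWmem w hw).resolve_left hw1
    intro x hx
    rcases hUmem x hx with h | h
    · rw [h]; exact one_mem _
    · rw [h, ← hwu]; exact hw

end Cfsg.Agent.Lib.Helper09.L2861
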