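import Cfsg.Agent.Lib.Helper09.O12X4S34e
import Cfsg.Agent.Lib.Helper85.O12S34a
import Cfsg.Agent.Lib.Helper02.O12S34b

/-!
# Keystone 587111 (K-O12-X4S34): `O₃ ⊗ O₄⁺ ∩ Ω₁₂⁺(q) ≤ Sp₂ ⊗ Sp₆`, `q` odd

Assembly of `O12X4S34a`–`e` (helper9) with the sub-leaves 587121 (helper85) and 587122 (helper2).
-/

set_option autoImplicit false

namespace Cfsg.Agent.Lib.Helper09.O12

open Cfsg Cfsg.Geo
open scoped Matrix Kronecker MatrixGroups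

variable {F : Type*} [Field F] [Fintype F]

theorem hypSimJJ (h2 : (2 : F) ≠ 0) : HypSimJJ F :=
  fun b lam hlam hb => Cfsg.Agent.Lib.Helper85.O12.similarity_J_kron_J h2 (J2 F) rfl b lam hlam hb

/-- **K-O12-X4S34** (587111). -/
theorem tensor_symm_three_four_le_sympl (Q : (Fin 12 → F) → F) (hQ : IsNondegenerateQuadraticForm Q)
    (hplus : IsPlusTypeOn Q ⊤) (h2 : (2 : F) ≠ 0) (e : Fin 12 ≃ Fin 3 × Fin 4) (P : GL (Fin 12) F)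
    (f₁ : (Fin 3 → F) → (Fin 3 → F) → F) (f₂ : (Fin 4 → F) → (Fin 4 → F) → F)
    (hf₁ : IsSymmetricForm f₁) (hf₂ : IsSymmetricForm f₂)
    (hT : IsTensorFormStructure id (QuadraticMap.polar Q) f₁ f₂ e P) :
    ∃ (e' : Fin 12 ≃ Fin 2 × Fin 6) (P' : GL (Fin 12) F)
      (a₁ : (Fin 2 → F) → (Fin 2 → F) → F) (a₂ : (Fin 6 → F) → (Fin 6 → F) → F),
      IsSymplecticForm a₁ ∧ IsSymplecticForm a₂ ∧
      IsTensorFormStructure id (QuadraticMap.polar Q) a₁ a₂ e' P' ∧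
      (∀ (x₁ : Fin 2 → F) (x₂ : Fin 6 → F),
        Q ((P' : Matrix (Fin 12) (Fin 12) F) *ᵥ ((fun a : Fin 2 × Fin 6 => x₁ a.1 * x₂ a.2) ∘ e')) = 0) ∧
      tensorProductSubgroup 3 4 e P ⊓ omegaGL Q ≤ tensorProductSubgroup 2 6 e' P' :=
  tensor_symm_three_four_le_sympl_core (hypSimJJ h2) Q hQ h2 e P f₁ f₂ hf₁ hf₂
    (Cfsg.Agent.Lib.Helper02.O12.plus_four_of_tensor_three_four Q hQ hplus h2 e P f₁ f₂ hf₁ hf₂ hT) hT

end Cfsg.Agent.Lib.Helper09.O12
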