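import Mathlib
import Cfsg.Prelude.Def_GeometricClasses
import Cfsg.Agent.Lib.Helper46.AschEDefs

/-!
# Row S5871 (maximal subgroups of `Ω₁₂⁺(q)`): hypotheses (= keystones) of the row glue, architect helper9

`HypA` is the even-dimensional orthogonal Aschbacher theorem of helper46, `HypN*` the non-containment block,
`HypX*` the exclusion block.  Everything is stated for a non-degenerate quadratic form `Q` on `Fin n → F`
(general `n` wherever the leaf makes sense for the other even-dimensional rows as well).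
-/

set_option autoImplicit false

namespace Cfsg.Agent.Lib.Helper09.O12

open Cfsg Cfsg.Geo Cfsg.Agent.Lib.Helper46.AschE
open scoped Matrix Kronecker MatrixGroups

variable {F : Type*} [Field F] [Fintype F] {n : ℕ}

/-- the even-dimensional orthogonal Aschbacher theorem (helper46, `aschbacher_orth_even`) -/
def HypA (Q : (Fin n → F) → F) : Prop :=
  ∀ H : Subgroup (GL (Fin n) F), H ≤ isometryGroup F Q →
    EGeom Q (H ⊔ scalars (Fin n) F) ∨ InOrthogonalResidualClass H

/-! ## Block N: `Ω(Q)` is contained in no member -/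

def HypN1 (Q : (Fin n → F) → F) : Prop :=
  ∀ W : Submodule F (Fin n → F), W ≠ ⊥ → W ≠ ⊤ → ¬ omegaGL Q ≤ subspaceStabilizer W

def HypN2o (Q : (Fin n → F) → F) : Prop :=
  ∀ {t k : ℕ} (D : Fin t → Submodule F (Fin n → F)), IsOrthogonalMDecomposition Q k D →
    ¬ omegaGL Q ≤ decompositionStabilizer D

def HypN2p (Q : (Fin n → F) → F) : Prop :=
  ∀ {k : ℕ} (D : Fin 2 → Submodule F (Fin n → F)), IsMDecomposition k D →
    ((∀ i, IsTotallySingularQuad Q (D i)) ∨ IsNondegenerateMDecomposition (QuadraticMap.polar Q) k D) →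
    ¬ omegaGL Q ≤ decompositionStabilizer D

def HypN3 (Q : (Fin n → F) → F) : Prop :=
  ∀ {r : ℕ}, 2 ≤ r → ∀ K : Subalgebra F (Matrix (Fin n) (Fin n) F), IsFieldSubalgebra r K →
    ¬ omegaGL Q ≤ subalgebraNormalizer K

def HypN4 (Q : (Fin n → F) → F) : Prop :=
  ∀ {n₁ n₂ : ℕ}, 2 ≤ n₁ → 2 ≤ n₂ → ∀ (e : Fin n ≃ Fin n₁ × Fin n₂) (P : GL (Fin n) F),
    ¬ omegaGL Q ≤ tensorProductSubgroup n₁ n₂ e P

def HypN5 (Q : (Fin n → F) → F) : Prop :=
  ∀ (F₀ : Subfield F) (r : ℕ), r.Prime → Fintype.card F = Nat.card F₀ ^ r →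
    ∀ P : GL (Fin n) F, ¬ omegaGL Q ≤ subfieldSubgroup F₀ P

/-! ## Block X: shapes that are not listed lie in listed ones -/

/-- X-perp: the stabilisers of a non-degenerate subspace and of its perpendicular space agree in the isometry group. -/
def HypXperp (Q : (Fin n → F) → F) : Prop :=
  ∀ W : Submodule F (Fin n → F), IsNondegenerateOn (QuadraticMap.polar Q) W →
    ∃ W' : Submodule F (Fin n → F), IsNondegenerateOn (QuadraticMap.polar Q) W' ∧
      Module.finrank F W + Module.finrank F W' = n ∧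
      subspaceStabilizer W ⊓ isometryGroup F Q = subspaceStabilizer W' ⊓ isometryGroup F Q

/-- X-odd: a non-degenerate subspace of odd dimension exists only in odd characteristic. -/
def HypXodd (Q : (Fin n → F) → F) : Prop :=
  ∀ W : Submodule F (Fin n → F), IsNondegenerateOn (QuadraticMap.polar Q) W →
    Odd (Module.finrank F W) → Odd (Fintype.card F)

/-- X-P (= K-OEvenX-X3): over `F₂`, `F₃` the stabiliser of a plus-type plane is not maximal. -/
def HypXP (Q : (Fin n → F) → F) : Prop :=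
  Fintype.card F ≤ 3 → ∀ W : Submodule F (Fin n → F), Module.finrank F W = 2 →
    IsNondegenerateOn (QuadraticMap.polar Q) W → IsPlusTypeOn Q W →
    ∃ K : Subgroup (GL (Fin n) F), subspaceStabilizer W ⊓ omegaGL Q < K ∧ K < omegaGL Q

/-- X-half: in a plus-type space a non-degenerate subspace of half the dimension, that dimension being even, is isometric to its
perpendicular space. -/
def HypXhalf (Q : (Fin n → F) → F) : Prop :=
  IsPlusTypeOn Q ⊤ → ∀ W : Submodule F (Fin n → F), 2 * Module.finrank F W = n →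
    Even (Module.finrank F W) → IsNondegenerateOn (QuadraticMap.polar Q) W →
    ∃ D : Fin 2 → Submodule F (Fin n → F), IsOrthogonalMDecomposition Q (Module.finrank F W) D ∧
      subspaceStabilizer W ⊓ isometryGroup F Q ≤ decompositionStabilizer D

/-- X-22: `q = 2`, plus-type planes: the sum of the non-singular vectors of the planes is fixed. -/
def HypX22 (Q : (Fin n → F) → F) : Prop :=
  Fintype.card F = 2 → ∀ {t : ℕ} (D : Fin t → Submodule F (Fin n → F)),
    IsOrthogonalMDecomposition Q 2 D → (∀ i, IsPlusTypeOn Q (D i)) →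
    ∃ v : Fin n → F, v ≠ 0 ∧ Q v = (t : F) ∧
      decompositionStabilizer D ⊓ isometryGroup F Q ≤ subspaceStabilizer (Submodule.span F {v})

/-- X-23: `q = 3`, plus-type planes: the span of the vectors of norm `1` of the planes is non-degenerate of dimension `t`. -/
def HypX23 (Q : (Fin n → F) → F) : Prop :=
  Fintype.card F = 3 → ∀ {t : ℕ} (D : Fin t → Submodule F (Fin n → F)),
    IsOrthogonalMDecomposition Q 2 D → (∀ i, IsPlusTypeOn Q (D i)) →
    ∃ W : Submodule F (Fin n → F), Module.finrank F W = t ∧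
      IsNondegenerateOn (QuadraticMap.polar Q) W ∧
      decompositionStabilizer D ⊓ isometryGroup F Q ≤ subspaceStabilizer W

/-- X-24: `q = 4`, plus-type planes: `O₂⁺(4) = O₂⁻(2)`, a subfield group. -/
def HypX24 (Q : (Fin n → F) → F) : Prop :=
  Fintype.card F = 4 → ∀ {t : ℕ} (D : Fin t → Submodule F (Fin n → F)),
    IsOrthogonalMDecomposition Q 2 D → (∀ i, IsPlusTypeOn Q (D i)) →
    ∃ (F₀ : Subfield F) (P : GL (Fin n) F), Fintype.card F = Nat.card F₀ ^ 2 ∧
      IsQuadFormRationalStructure Q F₀ P ∧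
      decompositionStabilizer D ⊓ isometryGroup F Q ≤ subfieldSubgroup F₀ P

/-- X-25: `q = 5`, plus-type planes: each plane has exactly two lines of square norm, orthogonal to each other. -/
def HypX25 (Q : (Fin n → F) → F) : Prop :=
  Fintype.card F = 5 → ∀ {t : ℕ} (D : Fin t → Submodule F (Fin n → F)),
    IsOrthogonalMDecomposition Q 2 D → (∀ i, IsPlusTypeOn Q (D i)) →
    ∃ D' : Fin (2 * t) → Submodule F (Fin n → F), IsOrthogonalMDecomposition Q 1 D' ∧
      decompositionStabilizer D ⊓ isometryGroup F Q ≤ decompositionStabilizer D'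

/-- X-2m3: `q = 3`, minus-type planes: each plane has exactly two lines of norm `1`, orthogonal to each other. -/
def HypX2m3 (Q : (Fin n → F) → F) : Prop :=
  Fintype.card F = 3 → ∀ {t : ℕ} (D : Fin t → Submodule F (Fin n → F)),
    IsOrthogonalMDecomposition Q 2 D → (∀ i, ¬ IsPlusTypeOn Q (D i)) →
    ∃ D' : Fin (2 * t) → Submodule F (Fin n → F), IsOrthogonalMDecomposition Q 1 D' ∧
      decompositionStabilizer D ⊓ isometryGroup F Q ≤ decompositionStabilizer D'

/-- X-33: `q = 3`, non-degenerate 3-spaces: each has a unique orthogonal frame of isometric lines. -/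
def HypX33 (Q : (Fin n → F) → F) : Prop :=
  Fintype.card F = 3 → ∀ {t : ℕ} (D : Fin t → Submodule F (Fin n → F)),
    IsOrthogonalMDecomposition Q 3 D →
    ∃ D' : Fin (3 * t) → Submodule F (Fin n → F), IsOrthogonalMDecomposition Q 1 D' ∧
      decompositionStabilizer D ⊓ isometryGroup F Q ≤ decompositionStabilizer D'

/-- X-42: `q = 2`, plus-type 4-spaces: each is in a unique way the orthogonal sum of two minus-type planes. -/
def HypX42 (Q : (Fin n → F) → F) : Prop :=
  Fintype.card F = 2 → ∀ {t : ℕ} (D : Fin t → Submodule F (Fin n → F)),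
    IsOrthogonalMDecomposition Q 4 D → (∀ i, IsPlusTypeOn Q (D i)) →
    ∃ D' : Fin (2 * t) → Submodule F (Fin n → F), IsOrthogonalMDecomposition Q 2 D' ∧
      (∀ i, ¬ IsPlusTypeOn Q (D' i)) ∧
      decompositionStabilizer D ⊓ isometryGroup F Q ≤ decompositionStabilizer D'

/-- X-T43: characteristic 2: an orthogonal sum of three isometric 4-spaces of minus type is not of plus type. -/
def HypXT43 (Q : (Fin n → F) → F) : Prop :=
  (2 : F) = 0 → IsPlusTypeOn Q ⊤ → ∀ D : Fin 3 → Submodule F (Fin n → F), IsOrthogonalMDecomposition Q 4 D →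
    ∀ i, IsPlusTypeOn Q (D i)

/-- X-4S2: a tensor decomposition `2 × n₂` of symmetric forms (`q` odd) lies in a pair of totally singular subspaces (isotropic
plane) or in the normaliser of a quadratic field of unitary type (anisotropic plane). -/
def HypX4S2 (Q : (Fin n → F) → F) : Prop :=
  (2 : F) ≠ 0 → ∀ (n₂ : ℕ) (e : Fin n ≃ Fin 2 × Fin n₂) (P : GL (Fin n) F)
    (f₁ : (Fin 2 → F) → (Fin 2 → F) → F) (f₂ : (Fin n₂ → F) → (Fin n₂ → F) → F),
    IsSymmetricForm f₁ → IsSymmetricForm f₂ → IsTensorFormStructure id (QuadraticMap.polar Q) f₁ f₂ e P →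
    (∃ D : Fin 2 → Submodule F (Fin n → F), IsMDecomposition n₂ D ∧ (∀ i, IsTotallySingularQuad Q (D i)) ∧
      tensorProductSubgroup 2 n₂ e P ⊓ isometryGroup F Q ≤ decompositionStabilizer D) ∨
    (∃ K : Subalgebra F (Matrix (Fin n) (Fin n) F), IsFieldSubalgebra 2 K ∧
      IsAdjointClosedFor (QuadraticMap.polar Q) K ∧ ¬ IsSelfAdjointFor (QuadraticMap.polar Q) K ∧
      (∀ k ∈ K, ∃ c : F, ∀ v : Fin n → F, Q (k *ᵥ v) = c * Q v) ∧
      tensorProductSubgroup 2 n₂ e P ⊓ isometryGroup F Q ≤ subalgebraNormalizer K)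

/-- X-4S34: in `Ω₁₂⁺` a tensor decomposition `3 × 4` of symmetric forms lies in a tensor decomposition `2 × 6` of symplectic
forms (the 4-space is of plus type, hence a tensor product of two symplectic planes, and elements of determinant one do not
interchange the two planes). -/
def HypX4S34 (Q : (Fin 12 → F) → F) : Prop :=
  IsPlusTypeOn Q ⊤ → (2 : F) ≠ 0 → ∀ (e : Fin 12 ≃ Fin 3 × Fin 4) (P : GL (Fin 12) F)
    (f₁ : (Fin 3 → F) → (Fin 3 → F) → F) (f₂ : (Fin 4 → F) → (Fin 4 → F) → F),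
    IsSymmetricForm f₁ → IsSymmetricForm f₂ → IsTensorFormStructure id (QuadraticMap.polar Q) f₁ f₂ e P →
    ∃ (e' : Fin 12 ≃ Fin 2 × Fin 6) (P' : GL (Fin 12) F)
      (a₁ : (Fin 2 → F) → (Fin 2 → F) → F) (a₂ : (Fin 6 → F) → (Fin 6 → F) → F),
      IsSymplecticForm a₁ ∧ IsSymplecticForm a₂ ∧
      IsTensorFormStructure id (QuadraticMap.polar Q) a₁ a₂ e' P' ∧
      (∀ (x₁ : Fin 2 → F) (x₂ : Fin 6 → F),
        Q ((P' : Matrix (Fin 12) (Fin 12) F) *ᵥ ((fun a : Fin 2 × Fin 6 => x₁ a.1 * x₂ a.2) ∘ e')) = 0) ∧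
      tensorProductSubgroup 3 4 e P ⊓ omegaGL Q ≤ tensorProductSubgroup 2 6 e' P'

/-- X-4P2: over `F₂` the whole group `GL₂(2) ⊗ GL_{n₂}(2)` normalises the field `F₄ ⊗ 1`. -/
def HypX4P2 (F : Type*) [Field F] [Fintype F] (n : ℕ) : Prop :=
  Fintype.card F = 2 → ∀ (n₂ : ℕ) (e : Fin n ≃ Fin 2 × Fin n₂) (P : GL (Fin n) F),
    ∃ K : Subalgebra F (Matrix (Fin n) (Fin n) F), IsFieldSubalgebra 2 K ∧
      tensorProductSubgroup 2 n₂ e P ≤ subalgebraNormalizer K

/-- X-Sp (= K-OEvenX-X12): a non-degenerate alternating form lives in even dimension. -/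
def HypXSp (F : Type*) [Field F] : Prop :=
  ∀ {k : ℕ}, Odd k → ∀ f : (Fin k → F) → (Fin k → F) → F, ¬ IsSymplecticForm f

end Cfsg.Agent.Lib.Helper09.O12
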