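import Cfsg.Agent.Lib.Helper09.O12PlusGlue
import Cfsg.Agent.Lib.Helper09.O12X4S34
import Cfsg.Agent.Lib.Helper46.AschEMain
import Cfsg.Agent.Lib.Helper46.OEvenXLeaves
import Cfsg.Agent.Lib.Helper51.OEvenN5
import Cfsg.Agent.Lib.Helper20.O12Xhalf
import Cfsg.Agent.Lib.Helper64.O12X22
import Cfsg.Agent.Lib.Helper27.O12X23
import Cfsg.Agent.Lib.Helper19.O12X24
import Cfsg.Agent.Lib.Helper20.O12X25
import Cfsg.Agent.Lib.Helper46.O12X2m3
import Cfsg.Agent.Lib.Helper03.O12X33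
import Cfsg.Agent.Lib.Helper19.O12X42
import Cfsg.Agent.Lib.Helper19.O12XT43
import Cfsg.Agent.Lib.Helper61.O12X4S2
import Cfsg.Agent.Lib.Helper80.O12X4P2

/-!
# Row S5871 (maximal subgroups of `Ω₁₂⁺(q)`): all hypotheses of the row glue, and the row

helper46's even-dimensional orthogonal Aschbacher theorem, the non-containment block (helper51, helper43, helper34, helper48),
the shared exclusion pack `OEvenX` and the row pack `O12` (helper20, helper64, helper27, helper19, helper46, helper3, helper61,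
helper80, helper85, helper2, helper9).
-/

set_option autoImplicit false

namespace Cfsg.Agent.Lib.Helper09.O12

open Cfsg Cfsg.Geo Cfsg.Agent.Lib.Helper46.AschE
open scoped Matrix Kronecker MatrixGroups

variable {F : Type*} [Field F] [Fintype F]

theorem hyps (Q : (Fin 12 → F) → F) (hQ : IsNondegenerateQuadraticForm Q) : Hyps Q where
  A := fun H hH => aschbacher_orth_even (by norm_num) Q hQ H hH
  N1 := fun W h0 h1 => Cfsg.Agent.Lib.Helper51.OEvenN.omegaGL_not_le_subspaceStabilizer (by norm_num) Q hQ W h0 h1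
  N2o := fun D hD =>
    Cfsg.Agent.Lib.Helper46.OEvenXL.omegaGL_not_le_decompositionStabilizer_orth (by norm_num) Q hQ D hD
  N2p := fun D hD h =>
    Cfsg.Agent.Lib.Helper46.OEvenXL.omegaGL_not_le_decompositionStabilizer_pair (by norm_num) Q hQ D hD h
  N3 := fun hr K hK => Cfsg.Agent.Lib.Helper51.OEvenN.omegaGL_not_le_subalgebraNormalizer (by norm_num) Q hQ hr K hK
  N4 := fun h₁ h₂ e P =>
    Cfsg.Agent.Lib.Helper46.OEvenXL.omegaGL_not_le_tensorProductSubgroup (by norm_num) Q hQ h₁ h₂ e P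
  N5 := fun F₀ r hr hF P =>
    Cfsg.Agent.Lib.Helper51.OEvenN.omegaGL_not_le_subfieldSubgroup (by norm_num) Q hQ F₀ r hr hF P
  Xperp := fun W hW => Cfsg.Agent.Lib.Helper46.OEvenXL.exists_perp_of_isNondegenerateOn Q hQ W hW
  Xodd := fun W hW hodd => Cfsg.Agent.Lib.Helper46.OEvenXL.odd_card_of_odd_finrank Q hQ W hW hodd
  XP := fun hq W hd hW hp =>
    Cfsg.Agent.Lib.Helper46.OEvenXL.nonmax_plusPlane_small (by norm_num) Q hQ hq W hd hW hp
  Xhalf := fun hplus W hdim he hW =>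
    Cfsg.Agent.Lib.Helper20.O12.exists_isometric_pair_of_half Q hQ hplus W hdim he hW
  X22 := fun hq _ D hD hp => Cfsg.Agent.Lib.Helper64.O12.planes_plus_card_two Q hQ hq D hD hp
  X23 := fun hq _ D hD hp => Cfsg.Agent.Lib.Helper27.O12.planes_plus_card_three Q hQ hq D hD hp
  X24 := fun hq _ D hD hp => Cfsg.Agent.Lib.Helper19.O12.planes_plus_card_four Q hQ hq D hD hp
  X25 := fun hq _ D hD hp => Cfsg.Agent.Lib.Helper20.O12.planes_plus_card_five Q hQ hq D hD hp
  X2m3 := fun hq _ D hD hm => Cfsg.Agent.Lib.Helper46.O12.planes_minus_card_three Q hQ hq D hD hm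
  X33 := fun hq _ D hD => Cfsg.Agent.Lib.Helper03.O12.three_spaces_card_three Q hQ hq D hD
  X42 := fun hq _ D hD hp => Cfsg.Agent.Lib.Helper19.O12.four_spaces_plus_card_two Q hQ hq D hD hp
  XT43 := fun h2 hplus D hD => Cfsg.Agent.Lib.Helper19.O12.plus_of_three_four_spaces_char_two Q hQ h2 hplus D hD
  X4S2 := fun h2 n₂ e P f₁ f₂ h₁ h₂ hT =>
    Cfsg.Agent.Lib.Helper61.O12.tensor_symm_two_le Q hQ (by norm_num) h2 n₂ e P f₁ f₂ h₁ h₂ hT
  X4S34 := fun hplus h2 e P f₁ f₂ h₁ h₂ hT => tensor_symm_three_four_le_sympl Q hQ hplus h2 e P f₁ f₂ h₁ h₂ hT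
  X4P2 := Cfsg.Agent.Lib.Helper80.O12.hypX4P2_twelve
  XSp := fun hk f => Cfsg.Agent.Lib.Helper46.OEvenXL.not_isSymplecticForm_of_odd hk f

/-- Row S5871. -/
theorem row_all (Q : (Fin 12 → F) → F) (hQ : IsNondegenerateQuadraticForm Q) (hplus : IsPlusTypeOn Q ⊤)
    (H : Subgroup (GL (Fin 12) F)) (hH : IsMaximalIn (omegaGL Q) H) : Concl Q H :=
  row hQ hplus (hyps Q hQ) hH

end Cfsg.Agent.Lib.Helper09.O12
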