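import Cfsg.Agent.Lib.Helper43.MaxSingularGroup
import Cfsg.Agent.Lib.Helper43.OmegaNonsingGeo
import Cfsg.Agent.Lib.Helper43.OmegaParabolic
import Cfsg.Agent.Lib.Helper50.GeoBridge

set_option autoImplicit false
set_option linter.unusedSectionVars false

/-! The two families of maximal totally singular subspaces of an even-dimensional quadratic space
of plus type, in the function-level vocabulary `Cfsg.Geo`: elements of `omegaGL Q` preserve each
family (`even_finrank_inf_map_of_mem_omegaGL`), hence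
* the stabiliser in `omegaGL Q` of a totally singular subspace of dimension `m - 1` stabilises a
  totally singular subspace of dimension `m` (`exists_maxTS_stabilizer_le`), and
* for `m` odd the stabiliser in `omegaGL Q` of a pair of complementary totally singular subspaces
  of dimension `m` stabilises each of them (`tsPair_stabilizer_le`).
All of this rests on the Dickson-invariant library of Helper43. -/

namespace Cfsg.Agent.Lib.Helper09.OFam

open Module Matrix Cfsg.Geo Cfsg.Agent.Lib.Helper43 Cfsg.Agent.Lib.Helper50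

variable {F : Type*} [Field F] [Fintype F] {ι : Type} [Fintype ι] [DecidableEq ι]

/-- a totally singular subspace of half the dimension, in the vocabulary of Helper43 -/
theorem isMaxTS_geoQF (Q : (ι → F) → F) (hQ : IsNondegenerateQuadraticForm Q)
    (W : Submodule F (ι → F)) (hW : IsTotallySingularQuad Q W)
    (hdim : 2 * finrank F W = Fintype.card ι) : IsMaxTS (geoQF Q hQ) W :=
  ⟨hW, by rw [hdim, Module.finrank_fintype_fun_eq_card]⟩

/-- **Family preservation.** For `g ∈ Ω(Q)` and `W` totally singular of half the dimension,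
`dim W + dim (W ∩ gW)` is even, i.e. `dim (W / W ∩ gW)` is even. -/
theorem even_finrank_inf_map_of_mem_omegaGL (Q : (ι → F) → F)
    (hQ : IsNondegenerateQuadraticForm Q)
    (h24 : Fintype.card F ≠ 2 ∨ Fintype.card ι ≠ 4)
    (W : Submodule F (ι → F)) (hW : IsTotallySingularQuad Q W)
    (hdim : 2 * finrank F W = Fintype.card ι)
    (g : GL ι F) (hg : g ∈ omegaGL Q) :
    Even (finrank F W + finrank F ↥(W ⊓ W.map (Matrix.toLin' (g : Matrix ι ι F)))) := by
  obtain ⟨h, hmem⟩ := (mem_omegaGL_iff Q g).1 hg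
  have hQ' := geoQF_nondegenerate Q hQ
  have hgen : ReflGenerated (geoQF Q hQ) := reflGenerated_finite (geoQF Q hQ) hQ' h24
  have hR : IsMaxTS (geoQF Q hQ) W := isMaxTS_geoQF Q hQ W hW hdim
  have hker : (⟨g, h⟩ : ↥(Cfsg.isometryGroup F ⇑(geoQF Q hQ))) ∈
      (dickson (geoQF Q hQ) hQ' hgen).ker :=
    commutator_le_ker_dickson (geoQF Q hQ) hQ' hgen hmem
  have hrank := (mem_ker_dickson_iff (geoQF Q hQ) hQ' hgen ⟨g, h⟩).1 hker
  exact (parity_inf_map_linOf (geoQF Q hQ) hQ' hgen hR ⟨g, h⟩).2 hrank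

/-- The same with subtraction. -/
theorem even_finrank_sub_of_mem_omegaGL (Q : (ι → F) → F)
    (hQ : IsNondegenerateQuadraticForm Q)
    (h24 : Fintype.card F ≠ 2 ∨ Fintype.card ι ≠ 4)
    (W : Submodule F (ι → F)) (hW : IsTotallySingularQuad Q W)
    (hdim : 2 * finrank F W = Fintype.card ι)
    (g : GL ι F) (hg : g ∈ omegaGL Q) :
    Even (finrank F W - finrank F ↥(W ⊓ W.map (Matrix.toLin' (g : Matrix ι ι F)))) := by
  have h := even_finrank_inf_map_of_mem_omegaGL Q hQ h24 W hW hdim g hg
  have hle : finrank F ↥(W ⊓ W.map (Matrix.toLin' (g : Matrix ι ι F))) ≤ finrank F W :=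
    Submodule.finrank_mono inf_le_left
  rw [Nat.even_add] at h
  rw [Nat.even_sub hle]
  exact h

/-- stabilising a subspace, phrased with `toLin'` -/
theorem map_toLin'_eq_iff (W : Submodule F (ι → F)) (g : GL ι F) :
    g ∈ subspaceStabilizer W ↔ W.map (Matrix.toLin' (g : Matrix ι ι F)) = W := by
  rw [mem_subspaceStabilizer_iff_map, Matrix.toLin'_apply']

/-- **Extension.** In a quadratic space of plus type and dimension `2m`, a totally singular
subspace of dimension `m - 1` lies in a totally singular subspace of dimension `m`. -/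
theorem exists_maxTS_ge (Q : (ι → F) → F) (hQ : IsNondegenerateQuadraticForm Q)
    (U : Submodule F (ι → F)) (hU : IsTotallySingularQuad Q U)
    (hdimU : 2 * finrank F U + 2 = Fintype.card ι) (hplus : IsPlusTypeOn Q ⊤) :
    ∃ W : Submodule F (ι → F), U ≤ W ∧ IsTotallySingularQuad Q W ∧
      2 * finrank F W = Fintype.card ι := by
  obtain ⟨W0, -, hW0, hd0⟩ := hplus
  rw [finrank_top, Module.finrank_fintype_fun_eq_card] at hd0
  have hQ' := geoQF_nondegenerate Q hQ
  have hR0 : IsMaxTS (geoQF Q hQ) W0 := isMaxTS_geoQF Q hQ W0 hW0 hd0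
  set B := QuadraticMap.polarBilin (geoQF Q hQ) with hB
  set P := LinearMap.BilinForm.orthogonal B U with hP
  have hUP : U ≤ P := by
    intro y hy
    rw [hP, LinearMap.BilinForm.mem_orthogonal_iff]
    intro n hn
    have h := Q_add (geoQF Q hQ) n y
    have h1 : (geoQF Q hQ) n = 0 := hU n hn
    have h2 : (geoQF Q hQ) y = 0 := hU y hy
    have h3 : (geoQF Q hQ) (n + y) = 0 := hU _ (U.add_mem hn hy)
    rw [h1, h2, h3] at h
    show B n y = 0
    rw [hB]
    linear_combination -h
  -- the candidate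
  refine ⟨(W0 ⊓ P) ⊔ U, le_sup_right, ?_, ?_⟩
  · intro t ht
    obtain ⟨a, ha, b, hb, rfl⟩ := Submodule.mem_sup.1 ht
    have hab : B b a = 0 := by
      have := (Submodule.mem_inf.1 ha).2
      rw [hP, LinearMap.BilinForm.mem_orthogonal_iff] at this
      exact this b hb
    have h := Q_add (geoQF Q hQ) b a
    have h1 : (geoQF Q hQ) a = 0 := hW0 a (Submodule.mem_inf.1 ha).1
    have h2 : (geoQF Q hQ) b = 0 := hU b hb
    have h3 : (geoQF Q hQ) (b + a) = 0 := by
      rw [h, h1, h2, ← hB, hab]; ring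
    rw [add_comm] at h3
    exact h3
  · have h1 := LinearMap.BilinForm.finrank_orthogonal hQ' (W0 ⊔ U)
    have h2 : LinearMap.BilinForm.orthogonal B (W0 ⊔ U) = W0 ⊓ P := by
      ext x
      rw [LinearMap.BilinForm.mem_orthogonal_iff, Submodule.mem_inf, hP,
        LinearMap.BilinForm.mem_orthogonal_iff]
      constructor
      · intro h
        refine ⟨hR0.mem_of_perp hQ' x (fun y hy => h y (Submodule.mem_sup_left hy)), ?_⟩
        intro n hn
        exact h n (Submodule.mem_sup_right hn)
      · rintro ⟨hx0, hxP⟩ n hn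
        obtain ⟨a, ha, b, hb, rfl⟩ := Submodule.mem_sup.1 hn
        have e1 : B a x = 0 := hR0.polar_eq_zero a x ha hx0
        have e2 : B b x = 0 := hxP b hb
        show B (a + b) x = 0
        rw [map_add, LinearMap.add_apply, e1, e2, add_zero]
    rw [h2, Module.finrank_fintype_fun_eq_card] at h1
    have h3 := Submodule.finrank_sup_add_finrank_inf_eq W0 U
    have h4 := Submodule.finrank_sup_add_finrank_inf_eq (W0 ⊓ P) U
    have h5 : (W0 ⊓ P) ⊓ U = W0 ⊓ U := by
      rw [inf_assoc, inf_eq_right.2 hUP]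
    rw [h5] at h4
    have h6 : finrank F ↥(W0 ⊔ U) ≤ Fintype.card ι := by
      have := Submodule.finrank_le (W0 ⊔ U)
      rwa [Module.finrank_fintype_fun_eq_card] at this
    have h7 : finrank F ↥(W0 ⊓ U) ≤ finrank F U := Submodule.finrank_mono inf_le_right
    omega

/-- **Totally singular subspaces of dimension `m - 1`.** In a quadratic space of plus type and
dimension `2m`, the stabiliser in `Ω(Q)` of a totally singular subspace `U` of dimension `m - 1`
stabilises a totally singular subspace `W ≥ U` of dimension `m`. -/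
theorem exists_maxTS_stabilizer_le (Q : (ι → F) → F) (hQ : IsNondegenerateQuadraticForm Q)
    (h24 : Fintype.card F ≠ 2 ∨ Fintype.card ι ≠ 4)
    (U : Submodule F (ι → F)) (hU : IsTotallySingularQuad Q U)
    (hdimU : 2 * finrank F U + 2 = Fintype.card ι) (hplus : IsPlusTypeOn Q ⊤) :
    ∃ W : Submodule F (ι → F), U ≤ W ∧ IsTotallySingularQuad Q W ∧
      2 * finrank F W = Fintype.card ι ∧
      subspaceStabilizer U ⊓ omegaGL Q ≤ subspaceStabilizer W := by
  obtain ⟨W, hUW, hW, hdimW⟩ := exists_maxTS_ge Q hQ U hU hdimU hplus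
  refine ⟨W, hUW, hW, hdimW, ?_⟩
  intro g hg
  obtain ⟨hgU, hgΩ⟩ := Subgroup.mem_inf.1 hg
  rw [map_toLin'_eq_iff] at hgU ⊢
  have hev := even_finrank_inf_map_of_mem_omegaGL Q hQ h24 W hW hdimW g hgΩ
  set gW := W.map (Matrix.toLin' (g : Matrix ι ι F)) with hgW
  have hUle : U ≤ W ⊓ gW := by
    refine le_inf hUW ?_
    rw [← hgU, hgW]
    exact Submodule.map_mono hUW
  have h1 : finrank F U ≤ finrank F ↥(W ⊓ gW) := Submodule.finrank_mono hUle
  have h2 : finrank F ↥(W ⊓ gW) ≤ finrank F W := Submodule.finrank_mono inf_le_left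
  have h3 : finrank F ↥(W ⊓ gW) = finrank F W := by
    rcases hev with ⟨r, hr⟩
    omega
  have h4 : W ⊓ gW = W := Submodule.eq_of_le_of_finrank_eq inf_le_left h3
  have h5 : W ≤ gW := inf_eq_left.1 h4
  have h6 : finrank F gW ≤ finrank F W := by
    rw [hgW]
    exact Submodule.finrank_map_le _ W
  exact (Submodule.eq_of_le_of_finrank_le h5 h6).symm

/-- **Pairs of complementary totally singular subspaces, `m` odd.** The stabiliser in `Ω(Q)` of
a decomposition into two totally singular subspaces of odd dimension `m` stabilises each. -/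
theorem tsPair_stabilizer_le (Q : (ι → F) → F) (hQ : IsNondegenerateQuadraticForm Q)
    (h24 : Fintype.card F ≠ 2 ∨ Fintype.card ι ≠ 4)
    (m : ℕ) (hm : Odd m) (D : Fin 2 → Submodule F (ι → F)) (hD : IsMDecomposition m D)
    (hts : ∀ i, IsTotallySingularQuad Q (D i)) :
    decompositionStabilizer D ⊓ omegaGL Q ≤ subspaceStabilizer (D 0) := by
  have hsup : D 0 ⊔ D 1 = ⊤ := by
    rw [← hD.iSup_eq_top]
    apply le_antisymm
    · exact sup_le (le_iSup D 0) (le_iSup D 1)
    · refine iSup_le (fun i => ?_)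
      fin_cases i
      · exact le_sup_left
      · exact le_sup_right
  have hdisj : D 0 ⊓ D 1 = ⊥ := by
    have := hD.indep.pairwiseDisjoint (show (0 : Fin 2) ≠ 1 by decide)
    exact disjoint_iff.1 this
  have hcard : 2 * finrank F (D 0) = Fintype.card ι := by
    have h := Submodule.finrank_sup_add_finrank_inf_eq (D 0) (D 1)
    rw [hsup, hdisj, finrank_top, Module.finrank_fintype_fun_eq_card, finrank_bot, hD.finrank_eq,
      hD.finrank_eq] at h
    rw [hD.finrank_eq]
    omega
  intro g hg
  obtain ⟨⟨σ, hσ⟩, hgΩ⟩ := Subgroup.mem_inf.1 hg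
  rw [map_toLin'_eq_iff]
  by_cases h0 : σ 0 = 0
  · rw [hσ 0, h0]
  · exfalso
    have h1 : σ 0 = 1 := by
      have : ∀ x : Fin 2, x ≠ 0 → x = 1 := by decide
      exact this _ h0
    have hev := even_finrank_inf_map_of_mem_omegaGL Q hQ h24 (D 0) (hts 0) hcard g hgΩ
    rw [hσ 0, h1, hdisj, finrank_bot, add_zero, hD.finrank_eq] at hev
    exact (Nat.not_even_iff_odd.2 hm) hev

/-- `Ω(Q)` does not stabilise a non-zero totally singular subspace (dimension at least 7). -/
theorem omegaGL_not_le_stabilizer_ts (Q : (ι → F) → F) (hQ : IsNondegenerateQuadraticForm Q)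
    (hn : 7 ≤ Fintype.card ι) (W : Submodule F (ι → F)) (hW0 : W ≠ ⊥)
    (hW : IsTotallySingularQuad Q W) : ¬ omegaGL Q ≤ subspaceStabilizer W := by
  intro hle
  obtain ⟨g, hg⟩ := subStab_ne_top (geoQF Q hQ) (geoQF_nondegenerate Q hQ) hn W hW0 hW
  apply hg
  show ((g : ↥(Cfsg.isometryGroup F ⇑(geoQF Q hQ))) : GL ι F) ∈ subspaceStabilizer W
  exact hle ((mem_omegaGL_iff Q _).2 ⟨g.1.2, g.2⟩)

/-- A maximal subgroup of `Ω(Q)` lying in the stabiliser of a non-zero totally singular
subspace `W` is the full stabiliser of `W` in `Ω(Q)`. -/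
theorem eq_stabilizer_of_maximal_of_le (Q : (ι → F) → F) (hQ : IsNondegenerateQuadraticForm Q)
    (hn : 7 ≤ Fintype.card ι) (H : Subgroup (GL ι F)) (hH : IsMaximalIn (omegaGL Q) H)
    (W : Submodule F (ι → F)) (hW0 : W ≠ ⊥) (hW : IsTotallySingularQuad Q W)
    (hle : H ≤ subspaceStabilizer W) : H = subspaceStabilizer W ⊓ omegaGL Q := by
  rcases hH.2 (subspaceStabilizer W ⊓ omegaGL Q) (le_inf hle hH.1.le) inf_le_right with h | h
  · exact h.symm
  · exfalso
    apply omegaGL_not_le_stabilizer_ts Q hQ hn W hW0 hW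
    rw [← h]
    exact inf_le_left

/-- **Row form, totally singular subspaces of dimension `m - 1`.** A maximal subgroup of `Ω(Q)`
(plus type, dimension `2m ≥ 8`) which is the stabiliser of a totally singular subspace of
dimension `m - 1` is also the stabiliser of a totally singular subspace of dimension `m`. -/
theorem maximal_ts_codim_one (Q : (ι → F) → F) (hQ : IsNondegenerateQuadraticForm Q)
    (hn : 7 ≤ Fintype.card ι) (hplus : IsPlusTypeOn Q ⊤)
    (H : Subgroup (GL ι F)) (hH : IsMaximalIn (omegaGL Q) H)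
    (U : Submodule F (ι → F)) (hU : IsTotallySingularQuad Q U)
    (hdimU : 2 * finrank F U + 2 = Fintype.card ι)
    (hHU : H = subspaceStabilizer U ⊓ omegaGL Q) :
    ∃ W : Submodule F (ι → F), W ≠ ⊥ ∧ IsTotallySingularQuad Q W ∧
      2 * finrank F W = Fintype.card ι ∧ H = subspaceStabilizer W ⊓ omegaGL Q := by
  have h24 : Fintype.card F ≠ 2 ∨ Fintype.card ι ≠ 4 := Or.inr (by omega)
  obtain ⟨W, -, hW, hdimW, hle⟩ := exists_maxTS_stabilizer_le Q hQ h24 U hU hdimU hplus
  have hW0 : W ≠ ⊥ := by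
    rintro rfl
    rw [finrank_bot] at hdimW
    omega
  refine ⟨W, hW0, hW, hdimW, ?_⟩
  exact eq_stabilizer_of_maximal_of_le Q hQ hn H hH W hW0 hW (by rw [hHU]; exact hle)

/-- **Row form, pairs of totally singular subspaces of odd dimension `m`.** A maximal subgroup
of `Ω(Q)` (dimension `2m ≥ 8`, `m` odd) which is the stabiliser of a decomposition into two
totally singular `m`-spaces is the stabiliser of a totally singular `m`-space. -/
theorem maximal_tsPair_odd (Q : (ι → F) → F) (hQ : IsNondegenerateQuadraticForm Q)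
    (hn : 7 ≤ Fintype.card ι)
    (H : Subgroup (GL ι F)) (hH : IsMaximalIn (omegaGL Q) H)
    (m : ℕ) (hm : Odd m) (D : Fin 2 → Submodule F (ι → F)) (hD : IsMDecomposition m D)
    (hts : ∀ i, IsTotallySingularQuad Q (D i))
    (hHD : H = decompositionStabilizer D ⊓ omegaGL Q) :
    D 0 ≠ ⊥ ∧ IsTotallySingularQuad Q (D 0) ∧ finrank F (D 0) = m ∧
      H = subspaceStabilizer (D 0) ⊓ omegaGL Q := by
  have h24 : Fintype.card F ≠ 2 ∨ Fintype.card ι ≠ 4 := Or.inr (by omega)
  have hle := tsPair_stabilizer_le Q hQ h24 m hm D hD hts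
  have hD0 : D 0 ≠ ⊥ := by
    intro h
    have := hD.finrank_eq 0
    rw [h, finrank_bot] at this
    have := hD.pos
    omega
  refine ⟨hD0, hts 0, hD.finrank_eq 0, ?_⟩
  exact eq_stabilizer_of_maximal_of_le Q hQ hn H hH (D 0) hD0 (hts 0) (by rw [hHD]; exact hle)

end Cfsg.Agent.Lib.Helper09.OFam
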