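import Mathlib
import Cfsg.Prelude.Def_GeometricClasses
import Cfsg.Agent.Lib.Helper46.AschEDefs
import Cfsg.Agent.Lib.Helper08.OOddMaxGlue
import Cfsg.Agent.Lib.Helper36.SLMaxD2
import Cfsg.Agent.Lib.Helper63.SLMaxD3
import Cfsg.Agent.Lib.Helper09.OFamilies
import Cfsg.Agent.Lib.Helper09.O12PlusDefs

/-!
# Row S5871 (maximal subgroups of `Ω₁₂⁺(q)`) from its keystones, architect helper9
-/

set_option autoImplicit false
set_option linter.unusedSectionVars false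
set_option linter.unusedVariables false
set_option linter.style.haveILetI false
set_option linter.unnecessarySeqFocus false

namespace Cfsg.Agent.Lib.Helper09.O12

open Cfsg Cfsg.Geo Cfsg.Agent.Lib.Helper46.AschE
open scoped Matrix Kronecker MatrixGroups

variable {F : Type*} [Field F] [Fintype F]

/-- the conclusion of S5871 -/
def Concl (Q : (Fin 12 → F) → F) (H : Subgroup (GL (Fin 12) F)) : Prop :=
    (∃ W : Submodule F (Fin 12 → F), W ≠ ⊥ ∧ Cfsg.Geo.IsTotallySingularQuad Q W ∧ Module.finrank F W ≠ 5 ∧ H = Cfsg.Geo.subspaceStabilizer W ⊓ Cfsg.Geo.omegaGL Q) ∨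
    (Odd (Fintype.card F) ∧ ∃ W : Submodule F (Fin 12 → F), W ≠ ⊥ ∧ W ≠ ⊤ ∧ Odd (Module.finrank F W) ∧ 2 * Module.finrank F W ≠ 12 ∧ Cfsg.Geo.IsNondegenerateOn (QuadraticMap.polar Q) W ∧ H = Cfsg.Geo.subspaceStabilizer W ⊓ Cfsg.Geo.omegaGL Q) ∨
    (∃ W : Submodule F (Fin 12 → F), Module.finrank F W = 2 ∧ Cfsg.Geo.IsNondegenerateOn (QuadraticMap.polar Q) W ∧ ¬ Cfsg.Geo.IsPlusTypeOn Q W ∧ H = Cfsg.Geo.subspaceStabilizer W ⊓ Cfsg.Geo.omegaGL Q) ∨
    (4 ≤ Fintype.card F ∧ ∃ W : Submodule F (Fin 12 → F), Module.finrank F W = 2 ∧ Cfsg.Geo.IsNondegenerateOn (QuadraticMap.polar Q) W ∧ Cfsg.Geo.IsPlusTypeOn Q W ∧ H = Cfsg.Geo.subspaceStabilizer W ⊓ Cfsg.Geo.omegaGL Q) ∨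
    (∃ W : Submodule F (Fin 12 → F), Module.finrank F W = 4 ∧ Cfsg.Geo.IsNondegenerateOn (QuadraticMap.polar Q) W ∧ H = Cfsg.Geo.subspaceStabilizer W ⊓ Cfsg.Geo.omegaGL Q) ∨
    (¬ Odd (Fintype.card F) ∧ ∃ v : (Fin 12 → F), Q v ≠ 0 ∧ H = Cfsg.Geo.subspaceStabilizer (Submodule.span F {v}) ⊓ Cfsg.Geo.omegaGL Q) ∨
    ((∃ p : ℕ, p.Prime ∧ Odd p ∧ Fintype.card F = p) ∧ ∃ D : Fin 12 → Submodule F (Fin 12 → F), Cfsg.Geo.IsOrthogonalMDecomposition Q 1 D ∧ H = Cfsg.Geo.decompositionStabilizer D ⊓ Cfsg.Geo.omegaGL Q) ∨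
    (7 ≤ Fintype.card F ∧ ∃ D : Fin 6 → Submodule F (Fin 12 → F), Cfsg.Geo.IsOrthogonalMDecomposition Q 2 D ∧ (∀ i, Cfsg.Geo.IsPlusTypeOn Q (D i)) ∧ H = Cfsg.Geo.decompositionStabilizer D ⊓ Cfsg.Geo.omegaGL Q) ∨
    (Fintype.card F ≠ 3 ∧ ∃ D : Fin 6 → Submodule F (Fin 12 → F), Cfsg.Geo.IsOrthogonalMDecomposition Q 2 D ∧ (∀ i, ¬ Cfsg.Geo.IsPlusTypeOn Q (D i)) ∧ H = Cfsg.Geo.decompositionStabilizer D ⊓ Cfsg.Geo.omegaGL Q) ∨
    (Odd (Fintype.card F) ∧ 5 ≤ Fintype.card F ∧ ∃ D : Fin 4 → Submodule F (Fin 12 → F), Cfsg.Geo.IsOrthogonalMDecomposition Q 3 D ∧ H = Cfsg.Geo.decompositionStabilizer D ⊓ Cfsg.Geo.omegaGL Q) ∨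
    (3 ≤ Fintype.card F ∧ ∃ D : Fin 3 → Submodule F (Fin 12 → F), Cfsg.Geo.IsOrthogonalMDecomposition Q 4 D ∧ H = Cfsg.Geo.decompositionStabilizer D ⊓ Cfsg.Geo.omegaGL Q) ∨
    (∃ D : Fin 2 → Submodule F (Fin 12 → F), Cfsg.Geo.IsOrthogonalMDecomposition Q 6 D ∧ H = Cfsg.Geo.decompositionStabilizer D ⊓ Cfsg.Geo.omegaGL Q) ∨
    (∃ D : Fin 2 → Submodule F (Fin 12 → F), Cfsg.Geo.IsMDecomposition 6 D ∧ (∀ i, Cfsg.Geo.IsTotallySingularQuad Q (D i)) ∧ H = Cfsg.Geo.decompositionStabilizer D ⊓ Cfsg.Geo.omegaGL Q) ∨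
    (∃ K : Subalgebra F (Matrix (Fin 12) (Fin 12) F), Cfsg.Geo.IsFieldSubalgebra 2 K ∧ H = Cfsg.Geo.subalgebraNormalizer K ⊓ Cfsg.Geo.omegaGL Q) ∨
    (∃ K : Subalgebra F (Matrix (Fin 12) (Fin 12) F), Cfsg.Geo.IsFieldSubalgebra 3 K ∧ H = Cfsg.Geo.subalgebraNormalizer K ⊓ Cfsg.Geo.omegaGL Q) ∨
    (∃ K : Subalgebra F (Matrix (Fin 12) (Fin 12) F), Cfsg.Geo.IsFieldSubalgebra 2 K ∧ Cfsg.Geo.IsAdjointClosedFor (QuadraticMap.polar Q) K ∧ ¬ Cfsg.Geo.IsSelfAdjointFor (QuadraticMap.polar Q) K ∧ (∀ k ∈ K, ∃ c : F, ∀ v : (Fin 12 → F), Q (Matrix.mulVec k v) = c * Q v) ∧ H = Cfsg.Geo.subalgebraNormalizer K ⊓ Cfsg.Geo.omegaGL Q) ∨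
    (3 ≤ Fintype.card F ∧ ∃ (e : Fin 12 ≃ Fin 2 × Fin 6) (P : Matrix.GeneralLinearGroup (Fin 12) F) (f₁ : (Fin 2 → F) → (Fin 2 → F) → F) (f₂ : (Fin 6 → F) → (Fin 6 → F) → F), Cfsg.Geo.IsSymplecticForm f₁ ∧ Cfsg.Geo.IsSymplecticForm f₂ ∧ Cfsg.Geo.IsTensorFormStructure id (QuadraticMap.polar Q) f₁ f₂ e P ∧ (∀ (x₁ : Fin 2 → F) (x₂ : Fin 6 → F), Q (Matrix.mulVec (P : Matrix (Fin 12) (Fin 12) F) ((fun a : Fin 2 × Fin 6 => x₁ a.1 * x₂ a.2) ∘ e)) = 0) ∧ H = Cfsg.Geo.tensorProductSubgroup 2 6 e P ⊓ Cfsg.Geo.omegaGL Q) ∨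
    (∃ (F₀ : Subfield F) (r : ℕ) (P : Matrix.GeneralLinearGroup (Fin 12) F) (ζ : F), r.Prime ∧ Fintype.card F = Nat.card F₀ ^ r ∧ ζ ≠ 0 ∧ Cfsg.Geo.IsQuadFormRationalStructure (fun v : Fin 12 → F => ζ * Q v) F₀ P ∧ H = Cfsg.Geo.subfieldSubgroup F₀ P ⊓ Cfsg.Geo.omegaGL Q) ∨
    Cfsg.Geo.InOrthogonalResidualClass H

theorem Concl.alt1 {Q : (Fin 12 → F) → F} {H : Subgroup (GL (Fin 12) F)}
    (h : (∃ W : Submodule F (Fin 12 → F), W ≠ ⊥ ∧ Cfsg.Geo.IsTotallySingularQuad Q W ∧ Module.finrank F W ≠ 5 ∧ H = Cfsg.Geo.subspaceStabilizer W ⊓ Cfsg.Geo.omegaGL Q)) : Concl Q H :=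
  Or.inl h

theorem Concl.alt2 {Q : (Fin 12 → F) → F} {H : Subgroup (GL (Fin 12) F)}
    (h : (Odd (Fintype.card F) ∧ ∃ W : Submodule F (Fin 12 → F), W ≠ ⊥ ∧ W ≠ ⊤ ∧ Odd (Module.finrank F W) ∧ 2 * Module.finrank F W ≠ 12 ∧ Cfsg.Geo.IsNondegenerateOn (QuadraticMap.polar Q) W ∧ H = Cfsg.Geo.subspaceStabilizer W ⊓ Cfsg.Geo.omegaGL Q)) : Concl Q H :=
  Or.inr (Or.inl h)

theorem Concl.alt3 {Q : (Fin 12 → F) → F} {H : Subgroup (GL (Fin 12) F)}
    (h : (∃ W : Submodule F (Fin 12 → F), Module.finrank F W = 2 ∧ Cfsg.Geo.IsNondegenerateOn (QuadraticMap.polar Q) W ∧ ¬ Cfsg.Geo.IsPlusTypeOn Q W ∧ H = Cfsg.Geo.subspaceStabilizer W ⊓ Cfsg.Geo.omegaGL Q)) : Concl Q H :=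
  Or.inr (Or.inr (Or.inl h))

theorem Concl.alt4 {Q : (Fin 12 → F) → F} {H : Subgroup (GL (Fin 12) F)}
    (h : (4 ≤ Fintype.card F ∧ ∃ W : Submodule F (Fin 12 → F), Module.finrank F W = 2 ∧ Cfsg.Geo.IsNondegenerateOn (QuadraticMap.polar Q) W ∧ Cfsg.Geo.IsPlusTypeOn Q W ∧ H = Cfsg.Geo.subspaceStabilizer W ⊓ Cfsg.Geo.omegaGL Q)) : Concl Q H :=
  Or.inr (Or.inr (Or.inr (Or.inl h)))

theorem Concl.alt5 {Q : (Fin 12 → F) → F} {H : Subgroup (GL (Fin 12) F)}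
    (h : (∃ W : Submodule F (Fin 12 → F), Module.finrank F W = 4 ∧ Cfsg.Geo.IsNondegenerateOn (QuadraticMap.polar Q) W ∧ H = Cfsg.Geo.subspaceStabilizer W ⊓ Cfsg.Geo.omegaGL Q)) : Concl Q H :=
  Or.inr (Or.inr (Or.inr (Or.inr (Or.inl h))))

theorem Concl.alt6 {Q : (Fin 12 → F) → F} {H : Subgroup (GL (Fin 12) F)}
    (h : (¬ Odd (Fintype.card F) ∧ ∃ v : (Fin 12 → F), Q v ≠ 0 ∧ H = Cfsg.Geo.subspaceStabilizer (Submodule.span F {v}) ⊓ Cfsg.Geo.omegaGL Q)) : Concl Q H :=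
  Or.inr (Or.inr (Or.inr (Or.inr (Or.inr (Or.inl h)))))

theorem Concl.alt7 {Q : (Fin 12 → F) → F} {H : Subgroup (GL (Fin 12) F)}
    (h : ((∃ p : ℕ, p.Prime ∧ Odd p ∧ Fintype.card F = p) ∧ ∃ D : Fin 12 → Submodule F (Fin 12 → F), Cfsg.Geo.IsOrthogonalMDecomposition Q 1 D ∧ H = Cfsg.Geo.decompositionStabilizer D ⊓ Cfsg.Geo.omegaGL Q)) : Concl Q H :=
  Or.inr (Or.inr (Or.inr (Or.inr (Or.inr (Or.inr (Or.inl h))))))

theorem Concl.alt8 {Q : (Fin 12 → F) → F} {H : Subgroup (GL (Fin 12) F)}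
    (h : (7 ≤ Fintype.card F ∧ ∃ D : Fin 6 → Submodule F (Fin 12 → F), Cfsg.Geo.IsOrthogonalMDecomposition Q 2 D ∧ (∀ i, Cfsg.Geo.IsPlusTypeOn Q (D i)) ∧ H = Cfsg.Geo.decompositionStabilizer D ⊓ Cfsg.Geo.omegaGL Q)) : Concl Q H :=
  Or.inr (Or.inr (Or.inr (Or.inr (Or.inr (Or.inr (Or.inr (Or.inl h)))))))

theorem Concl.alt9 {Q : (Fin 12 → F) → F} {H : Subgroup (GL (Fin 12) F)}
    (h : (Fintype.card F ≠ 3 ∧ ∃ D : Fin 6 → Submodule F (Fin 12 → F), Cfsg.Geo.IsOrthogonalMDecomposition Q 2 D ∧ (∀ i, ¬ Cfsg.Geo.IsPlusTypeOn Q (D i)) ∧ H = Cfsg.Geo.decompositionStabilizer D ⊓ Cfsg.Geo.omegaGL Q)) : Concl Q H :=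
  Or.inr (Or.inr (Or.inr (Or.inr (Or.inr (Or.inr (Or.inr (Or.inr (Or.inl h))))))))

theorem Concl.alt10 {Q : (Fin 12 → F) → F} {H : Subgroup (GL (Fin 12) F)}
    (h : (Odd (Fintype.card F) ∧ 5 ≤ Fintype.card F ∧ ∃ D : Fin 4 → Submodule F (Fin 12 → F), Cfsg.Geo.IsOrthogonalMDecomposition Q 3 D ∧ H = Cfsg.Geo.decompositionStabilizer D ⊓ Cfsg.Geo.omegaGL Q)) : Concl Q H :=
  Or.inr (Or.inr (Or.inr (Or.inr (Or.inr (Or.inr (Or.inr (Or.inr (Or.inr (Or.inl h)))))))))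

theorem Concl.alt11 {Q : (Fin 12 → F) → F} {H : Subgroup (GL (Fin 12) F)}
    (h : (3 ≤ Fintype.card F ∧ ∃ D : Fin 3 → Submodule F (Fin 12 → F), Cfsg.Geo.IsOrthogonalMDecomposition Q 4 D ∧ H = Cfsg.Geo.decompositionStabilizer D ⊓ Cfsg.Geo.omegaGL Q)) : Concl Q H :=
  Or.inr (Or.inr (Or.inr (Or.inr (Or.inr (Or.inr (Or.inr (Or.inr (Or.inr (Or.inr (Or.inl h))))))))))

theorem Concl.alt12 {Q : (Fin 12 → F) → F} {H : Subgroup (GL (Fin 12) F)}
    (h : (∃ D : Fin 2 → Submodule F (Fin 12 → F), Cfsg.Geo.IsOrthogonalMDecomposition Q 6 D ∧ H = Cfsg.Geo.decompositionStabilizer D ⊓ Cfsg.Geo.omegaGL Q)) : Concl Q H :=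
  Or.inr (Or.inr (Or.inr (Or.inr (Or.inr (Or.inr (Or.inr (Or.inr (Or.inr (Or.inr (Or.inr (Or.inl h)))))))))))

theorem Concl.alt13 {Q : (Fin 12 → F) → F} {H : Subgroup (GL (Fin 12) F)}
    (h : (∃ D : Fin 2 → Submodule F (Fin 12 → F), Cfsg.Geo.IsMDecomposition 6 D ∧ (∀ i, Cfsg.Geo.IsTotallySingularQuad Q (D i)) ∧ H = Cfsg.Geo.decompositionStabilizer D ⊓ Cfsg.Geo.omegaGL Q)) : Concl Q H :=
  Or.inr (Or.inr (Or.inr (Or.inr (Or.inr (Or.inr (Or.inr (Or.inr (Or.inr (Or.inr (Or.inr (Or.inr (Or.inl h))))))))))))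

theorem Concl.alt14 {Q : (Fin 12 → F) → F} {H : Subgroup (GL (Fin 12) F)}
    (h : (∃ K : Subalgebra F (Matrix (Fin 12) (Fin 12) F), Cfsg.Geo.IsFieldSubalgebra 2 K ∧ H = Cfsg.Geo.subalgebraNormalizer K ⊓ Cfsg.Geo.omegaGL Q)) : Concl Q H :=
  Or.inr (Or.inr (Or.inr (Or.inr (Or.inr (Or.inr (Or.inr (Or.inr (Or.inr (Or.inr (Or.inr (Or.inr (Or.inr (Or.inl h)))))))))))))

theorem Concl.alt15 {Q : (Fin 12 → F) → F} {H : Subgroup (GL (Fin 12) F)}
    (h : (∃ K : Subalgebra F (Matrix (Fin 12) (Fin 12) F), Cfsg.Geo.IsFieldSubalgebra 3 K ∧ H = Cfsg.Geo.subalgebraNormalizer K ⊓ Cfsg.Geo.omegaGL Q)) : Concl Q H :=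
  Or.inr (Or.inr (Or.inr (Or.inr (Or.inr (Or.inr (Or.inr (Or.inr (Or.inr (Or.inr (Or.inr (Or.inr (Or.inr (Or.inr (Or.inl h))))))))))))))

theorem Concl.alt16 {Q : (Fin 12 → F) → F} {H : Subgroup (GL (Fin 12) F)}
    (h : (∃ K : Subalgebra F (Matrix (Fin 12) (Fin 12) F), Cfsg.Geo.IsFieldSubalgebra 2 K ∧ Cfsg.Geo.IsAdjointClosedFor (QuadraticMap.polar Q) K ∧ ¬ Cfsg.Geo.IsSelfAdjointFor (QuadraticMap.polar Q) K ∧ (∀ k ∈ K, ∃ c : F, ∀ v : (Fin 12 → F), Q (Matrix.mulVec k v) = c * Q v) ∧ H = Cfsg.Geo.subalgebraNormalizer K ⊓ Cfsg.Geo.omegaGL Q)) : Concl Q H :=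
  Or.inr (Or.inr (Or.inr (Or.inr (Or.inr (Or.inr (Or.inr (Or.inr (Or.inr (Or.inr (Or.inr (Or.inr (Or.inr (Or.inr (Or.inr (Or.inl h)))))))))))))))

theorem Concl.alt17 {Q : (Fin 12 → F) → F} {H : Subgroup (GL (Fin 12) F)}
    (h : (3 ≤ Fintype.card F ∧ ∃ (e : Fin 12 ≃ Fin 2 × Fin 6) (P : Matrix.GeneralLinearGroup (Fin 12) F) (f₁ : (Fin 2 → F) → (Fin 2 → F) → F) (f₂ : (Fin 6 → F) → (Fin 6 → F) → F), Cfsg.Geo.IsSymplecticForm f₁ ∧ Cfsg.Geo.IsSymplecticForm f₂ ∧ Cfsg.Geo.IsTensorFormStructure id (QuadraticMap.polar Q) f₁ f₂ e P ∧ (∀ (x₁ : Fin 2 → F) (x₂ : Fin 6 → F), Q (Matrix.mulVec (P : Matrix (Fin 12) (Fin 12) F) ((fun a : Fin 2 × Fin 6 => x₁ a.1 * x₂ a.2) ∘ e)) = 0) ∧ H = Cfsg.Geo.tensorProductSubgroup 2 6 e P ⊓ Cfsg.Geo.omegaGL Q)) : Concl Q H :=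
  Or.inr (Or.inr (Or.inr (Or.inr (Or.inr (Or.inr (Or.inr (Or.inr (Or.inr (Or.inr (Or.inr (Or.inr (Or.inr (Or.inr (Or.inr (Or.inr (Or.inl h))))))))))))))))

theorem Concl.alt18 {Q : (Fin 12 → F) → F} {H : Subgroup (GL (Fin 12) F)}
    (h : (∃ (F₀ : Subfield F) (r : ℕ) (P : Matrix.GeneralLinearGroup (Fin 12) F) (ζ : F), r.Prime ∧ Fintype.card F = Nat.card F₀ ^ r ∧ ζ ≠ 0 ∧ Cfsg.Geo.IsQuadFormRationalStructure (fun v : Fin 12 → F => ζ * Q v) F₀ P ∧ H = Cfsg.Geo.subfieldSubgroup F₀ P ⊓ Cfsg.Geo.omegaGL Q)) : Concl Q H :=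
  Or.inr (Or.inr (Or.inr (Or.inr (Or.inr (Or.inr (Or.inr (Or.inr (Or.inr (Or.inr (Or.inr (Or.inr (Or.inr (Or.inr (Or.inr (Or.inr (Or.inr (Or.inl h)))))))))))))))))

theorem Concl.alt19 {Q : (Fin 12 → F) → F} {H : Subgroup (GL (Fin 12) F)}
    (h : Cfsg.Geo.InOrthogonalResidualClass H) : Concl Q H :=
  Or.inr (Or.inr (Or.inr (Or.inr (Or.inr (Or.inr (Or.inr (Or.inr (Or.inr (Or.inr (Or.inr (Or.inr (Or.inr (Or.inr (Or.inr (Or.inr (Or.inr (Or.inr h)))))))))))))))))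

/-- all keystones of the row -/
structure Hyps (Q : (Fin 12 → F) → F) : Prop where
  A : HypA Q
  N1 : HypN1 Q
  N2o : HypN2o Q
  N2p : HypN2p Q
  N3 : HypN3 Q
  N4 : HypN4 Q
  N5 : HypN5 Q
  Xperp : HypXperp Q
  Xodd : HypXodd Q
  XP : HypXP Q
  Xhalf : HypXhalf Q
  X22 : HypX22 Q
  X23 : HypX23 Q
  X24 : HypX24 Q
  X25 : HypX25 Q
  X2m3 : HypX2m3 Q
  X33 : HypX33 Q
  X42 : HypX42 Q
  XT43 : HypXT43 Q
  X4S2 : HypX4S2 Q
  X4S34 : HypX4S34 Q
  X4P2 : HypX4P2 F 12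
  XSp : HypXSp F

section helpers

variable {Q : (Fin 12 → F) → F} {H : Subgroup (GL (Fin 12) F)}

theorem le_isom (hH : IsMaximalIn (omegaGL Q) H) : H ≤ isometryGroup F Q :=
  hH.1.le.trans (Cfsg.Agent.Lib.Helper08.OOddMax.omegaGL_le_isometryGroup Q)

theorem fin' {X : Subgroup (GL (Fin 12) F)} (hH : IsMaximalIn (omegaGL Q) H) (hHX : H ≤ X)
    (hX : ¬ omegaGL Q ≤ X) : H = X ⊓ omegaGL Q :=
  Cfsg.Agent.Lib.Helper08.OOddMax.eq_inf_of_le hH hHX hX

theorem le_of_inf_le {X X' : Subgroup (GL (Fin 12) F)} (hH : IsMaximalIn (omegaGL Q) H) (hHX : H ≤ X)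
    (hXX' : X ⊓ isometryGroup F Q ≤ X') : H ≤ X' :=
  (le_inf hHX (le_isom hH)).trans hXX'

theorem finrank_V : Module.finrank F (Fin 12 → F) = 12 := Module.finrank_fin_fun F

theorem ne_bot_of_finrank {W : Submodule F (Fin 12 → F)} (h : 0 < Module.finrank F W) : W ≠ ⊥ := by
  rintro rfl
  rw [finrank_bot] at h
  exact lt_irrefl _ h

theorem ne_top_of_finrank {W : Submodule F (Fin 12 → F)} (h : Module.finrank F W < 12) : W ≠ ⊤ := by
  rintro rfl
  rw [finrank_top, finrank_V] at h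
  exact lt_irrefl _ h

theorem finrank_pos_of_ne_bot {W : Submodule F (Fin 12 → F)} (h : W ≠ ⊥) : 0 < Module.finrank F W := by
  rcases Nat.eq_zero_or_pos (Module.finrank F W) with h0 | h0
  · exact absurd (Submodule.finrank_eq_zero.1 h0) h
  · exact h0

theorem finrank_lt_of_ne_top {W : Submodule F (Fin 12 → F)} (h : W ≠ ⊤) : Module.finrank F W < 12 := by
  have := Submodule.finrank_lt h
  rwa [finrank_V] at this

theorem Q_zero (hQ : IsNondegenerateQuadraticForm Q) : Q 0 = 0 := by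
  have := hQ.smul 0 0
  simpa using this

theorem two_le_card : 2 ≤ Fintype.card F := Fintype.one_lt_card

end helpers

section subspaces

variable {Q : (Fin 12 → F) → F} {H : Subgroup (GL (Fin 12) F)}

/-- a non-singular point -/
theorem of_nonsingular_point (hQ : IsNondegenerateQuadraticForm Q) (h : Hyps Q)
    (hH : IsMaximalIn (omegaGL Q) H) (hodd : ¬ Odd (Fintype.card F)) (v : Fin 12 → F) (hv : Q v ≠ 0)
    (hle : H ≤ subspaceStabilizer (Submodule.span F {v})) : Concl Q H := by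
  have hv0 : v ≠ 0 := by
    rintro rfl
    exact hv (Q_zero hQ)
  have hd : Module.finrank F (Submodule.span F {v}) = 1 := finrank_span_singleton hv0
  refine Concl.alt6 ⟨hodd, v, hv, fin' hH hle (h.N1 _ (ne_bot_of_finrank (by omega)) (ne_top_of_finrank (by omega)))⟩

/-- a non-degenerate subspace of odd dimension -/
theorem of_nondeg_odd (h : Hyps Q) (hH : IsMaximalIn (omegaGL Q) H)
    (W : Submodule F (Fin 12 → F)) (hW0 : W ≠ ⊥) (hWt : W ≠ ⊤)
    (hW : IsNondegenerateOn (QuadraticMap.polar Q) W) (hd : Odd (Module.finrank F W))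
    (hle : H ≤ subspaceStabilizer W) : Concl Q H := by
  refine Concl.alt2 ⟨h.Xodd W hW hd, W, hW0, hWt, hd, ?_, hW, fin' hH hle (h.N1 W hW0 hWt)⟩
  intro h12
  rcases hd with ⟨r, hr⟩
  omega

/-- a non-degenerate subspace of dimension 2, 4 or 6 -/
theorem of_nondeg_small (hQ : IsNondegenerateQuadraticForm Q) (hplus : IsPlusTypeOn Q ⊤) (h : Hyps Q)
    (hH : IsMaximalIn (omegaGL Q) H)
    (W : Submodule F (Fin 12 → F)) (hW : IsNondegenerateOn (QuadraticMap.polar Q) W)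
    (hd : Module.finrank F W = 2 ∨ Module.finrank F W = 4 ∨ Module.finrank F W = 6)
    (hle : H ≤ subspaceStabilizer W) : Concl Q H := by
  have hW0 : W ≠ ⊥ := ne_bot_of_finrank (by omega)
  have hWt : W ≠ ⊤ := ne_top_of_finrank (by omega)
  rcases hd with hd | hd | hd
  · by_cases hty : IsPlusTypeOn Q W
    · by_cases hq : 4 ≤ Fintype.card F
      · exact Concl.alt4 ⟨hq, W, hd, hW, hty, fin' hH hle (h.N1 W hW0 hWt)⟩
      · exfalso
        exact Cfsg.Agent.Lib.Helper08.OOddMax.false_of_le_nonmax hH (le_inf hle hH.1.le)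
          (h.XP (by omega) W hd hW hty)
    · exact Concl.alt3 ⟨W, hd, hW, hty, fin' hH hle (h.N1 W hW0 hWt)⟩
  · exact Concl.alt5 ⟨W, hd, hW, fin' hH hle (h.N1 W hW0 hWt)⟩
  · obtain ⟨D, hD, hDle⟩ := h.Xhalf hplus W (by omega) (by rw [hd]; decide) hW
    rw [hd] at hD
    exact Concl.alt12 ⟨D, hD, fin' hH (le_of_inf_le hH hle hDle) (h.N2o D hD)⟩

/-- a non-degenerate proper subspace -/
theorem of_nondeg (hQ : IsNondegenerateQuadraticForm Q) (hplus : IsPlusTypeOn Q ⊤) (h : Hyps Q)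
    (hH : IsMaximalIn (omegaGL Q) H)
    (W : Submodule F (Fin 12 → F)) (hW0 : W ≠ ⊥) (hWt : W ≠ ⊤)
    (hW : IsNondegenerateOn (QuadraticMap.polar Q) W)
    (hle : H ≤ subspaceStabilizer W) : Concl Q H := by
  have h1 := finrank_pos_of_ne_bot hW0
  have h2 := finrank_lt_of_ne_top hWt
  rcases Nat.even_or_odd (Module.finrank F W) with he | ho
  · by_cases hsmall : Module.finrank F W ≤ 6
    · refine of_nondeg_small hQ hplus h hH W hW ?_ hle
      rcases he with ⟨r, hr⟩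
      omega
    · obtain ⟨W', hW', hsum, heq⟩ := h.Xperp W hW
      have hle' : H ≤ subspaceStabilizer W' := by
        have : H ≤ subspaceStabilizer W ⊓ isometryGroup F Q := le_inf hle (le_isom hH)
        rw [heq] at this
        exact this.trans inf_le_left
      refine of_nondeg_small hQ hplus h hH W' hW' ?_ hle'
      rcases he with ⟨r, hr⟩
      omega
  · exact of_nondeg_odd h hH W hW0 hWt hW ho hle

end subspaces

section decompositions

variable {Q : (Fin 12 → F) → F} {H : Subgroup (GL (Fin 12) F)}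

theorem mul_eq {t k : ℕ} (D : Fin t → Submodule F (Fin 12 → F)) (hD : IsMDecomposition k D) :
    t * k = 12 := by
  have h := Cfsg.Agent.Lib.Helper36.SLMax.finrank_eq_sum_of_indep D hD.indep hD.iSup_eq_top
  rw [finrank_V] at h
  rw [h]
  simp [hD.finrank_eq]

theorem card_ne_six : Fintype.card F ≠ 6 := by
  intro h6
  have hpp : IsPrimePow (Fintype.card F) := Fintype.isPrimePow_card_of_field
  rw [h6, isPrimePow_iff_unique_prime_dvd] at hpp
  obtain ⟨p, -, hp⟩ := hpp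
  have h2 := hp 2 ⟨Nat.prime_two, by decide⟩
  have h3 := hp 3 ⟨Nat.prime_three, by decide⟩
  omega

/-- plus type is invariant under isometries -/
theorem plusType_of_isometric {W W' : Submodule F (Fin 12 → F)} (hiso : AreIsometricFor Q W W')
    (hp : IsPlusTypeOn Q W) : IsPlusTypeOn Q W' := by
  obtain ⟨e, he⟩ := hiso
  obtain ⟨U, hUW, hU, hdim⟩ := hp
  refine ⟨((U.comap W.subtype).map (e : W →ₗ[F] W')).map W'.subtype, Submodule.map_subtype_le _ _, ?_, ?_⟩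
  · rintro _ ⟨y, ⟨x, hx, rfl⟩, rfl⟩
    have hxU : (x : Fin 12 → F) ∈ U := hx
    show Q ((e x : W') : Fin 12 → F) = 0
    rw [he x]
    exact hU _ hxU
  · have h1 : Module.finrank F ↥(((U.comap W.subtype).map (e : W →ₗ[F] W')).map W'.subtype) =
        Module.finrank F ↥((U.comap W.subtype).map (e : W →ₗ[F] W')) :=
      (Submodule.equivMapOfInjective W'.subtype (Submodule.injective_subtype W') _).finrank_eq.symm
    have h2 : Module.finrank F ↥((U.comap W.subtype).map (e : W →ₗ[F] W')) =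
        Module.finrank F ↥(U.comap W.subtype) :=
      (Submodule.equivMapOfInjective (e : W →ₗ[F] W') e.injective _).finrank_eq.symm
    have h3 : Module.finrank F ↥(U.comap W.subtype) = Module.finrank F U :=
      (Submodule.comapSubtypeEquivOfLe hUW).finrank_eq
    rw [h1, h2, h3, hdim, e.finrank_eq]

/-- a decomposition into isometric non-degenerate lines -/
theorem of_frame (h : Hyps Q) (hH : IsMaximalIn (omegaGL Q) H) {t : ℕ}
    (D : Fin t → Submodule F (Fin 12 → F)) (hD : IsOrthogonalMDecomposition Q 1 D)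
    (hp : (Fintype.card F).Prime) (hle : H ≤ decompositionStabilizer D) : Concl Q H := by
  have ht : t = 12 := by
    have := mul_eq D hD.decomp.decomp
    omega
  subst ht
  have hodd : Odd (Fintype.card F) := h.Xodd (D 0) (hD.decomp.nondegenerate 0)
    (by rw [hD.decomp.decomp.finrank_eq]; decide)
  exact Concl.alt7 ⟨⟨_, hp, hodd, rfl⟩, D, hD, fin' hH hle (h.N2o D hD)⟩

/-- a decomposition into isometric planes of minus type -/
theorem of_minus_planes (h : Hyps Q) (hH : IsMaximalIn (omegaGL Q) H) {t : ℕ}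
    (D : Fin t → Submodule F (Fin 12 → F)) (hD : IsOrthogonalMDecomposition Q 2 D)
    (hall : ∀ i, ¬ IsPlusTypeOn Q (D i))
    (hle : H ≤ decompositionStabilizer D) : Concl Q H := by
  have ht : t = 6 := by
    have := mul_eq D hD.decomp.decomp
    omega
  subst ht
  by_cases hq : Fintype.card F = 3
  · obtain ⟨D', hD', hle'⟩ := h.X2m3 hq D hD hall
    exact of_frame h hH D' hD' (by rw [hq]; norm_num) (le_of_inf_le hH hle hle')
  · exact Concl.alt9 ⟨hq, D, hD, hall, fin' hH hle (h.N2o D hD)⟩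

/-- a singular point -/
theorem of_singular_point (hQ : IsNondegenerateQuadraticForm Q) (h : Hyps Q)
    (hH : IsMaximalIn (omegaGL Q) H) (v : Fin 12 → F) (hv0 : v ≠ 0) (hv : Q v = 0)
    (hle : H ≤ subspaceStabilizer (Submodule.span F {v})) : Concl Q H := by
  have hd : Module.finrank F (Submodule.span F {v}) = 1 := finrank_span_singleton hv0
  refine Concl.alt1 ⟨Submodule.span F {v}, ne_bot_of_finrank (by omega), ?_, by omega,
    fin' hH hle (h.N1 _ (ne_bot_of_finrank (by omega)) (ne_top_of_finrank (by omega)))⟩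
  intro w hw
  obtain ⟨c, rfl⟩ := Submodule.mem_span_singleton.1 hw
  rw [hQ.smul, hv, mul_zero]

/-- shape (2a) -/
theorem of_decomp (hQ : IsNondegenerateQuadraticForm Q) (hplus : IsPlusTypeOn Q ⊤) (h : Hyps Q)
    (hH : IsMaximalIn (omegaGL Q) H) {t k : ℕ} (D : Fin t → Submodule F (Fin 12 → F)) (ht : 2 ≤ t)
    (hk1 : k = 1 → (Fintype.card F).Prime) (hD : IsOrthogonalMDecomposition Q k D)
    (hle : H ≤ decompositionStabilizer D) : Concl Q H := by
  have hmul := mul_eq D hD.decomp.decomp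
  have hN := h.N2o D hD
  have hk : k = 1 ∨ k = 2 ∨ k = 3 ∨ k = 4 ∨ k = 6 := by
    have hk6 : k ≤ 6 := by nlinarith
    interval_cases k <;> omega
  rcases hk with rfl | rfl | rfl | rfl | rfl
  · exact of_frame h hH D hD (hk1 rfl) hle
  · have ht6 : t = 6 := by omega
    subst ht6
    by_cases hty : IsPlusTypeOn Q (D 0)
    · have hall : ∀ i, IsPlusTypeOn Q (D i) := fun i => plusType_of_isometric (hD.isometric 0 i) hty
      by_cases hq : 7 ≤ Fintype.card F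
      · exact Concl.alt8 ⟨hq, D, hD, hall, fin' hH hle hN⟩
      · have h2 := two_le_card (F := F)
        have h6 := card_ne_six (F := F)
        have hq' : Fintype.card F = 2 ∨ Fintype.card F = 3 ∨ Fintype.card F = 4 ∨ Fintype.card F = 5 := by
          omega
        rcases hq' with hq' | hq' | hq' | hq'
        · obtain ⟨v, hv0, hQv, hvle⟩ := h.X22 hq' D hD hall
          have h2F : ((2 : ℕ) : F) = 0 := by
            rw [← hq']
            exact Nat.cast_card_eq_zero F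
          have hQv0 : Q v = 0 := by
            rw [hQv, show (6 : ℕ) = 3 * 2 from rfl, Nat.cast_mul, h2F, mul_zero]
          exact of_singular_point hQ h hH v hv0 hQv0 (le_of_inf_le hH hle hvle)
        · obtain ⟨W, hdW, hW, hWle⟩ := h.X23 hq' D hD hall
          exact of_nondeg_small hQ hplus h hH W hW (Or.inr (Or.inr hdW)) (le_of_inf_le hH hle hWle)
        · obtain ⟨F₀, P, hcard, hrat, hsub⟩ := h.X24 hq' D hD hall
          refine Concl.alt18 ⟨F₀, 2, P, 1, Nat.prime_two, hcard, one_ne_zero, ?_,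
            fin' hH (le_of_inf_le hH hle hsub) (h.N5 F₀ 2 Nat.prime_two hcard P)⟩
          intro u hu
          show 1 * Q _ ∈ F₀
          rw [one_mul]
          exact hrat u hu
        · obtain ⟨D', hD', hle'⟩ := h.X25 hq' D hD hall
          exact of_frame h hH D' hD' (by rw [hq']; norm_num) (le_of_inf_le hH hle hle')
    · have hall : ∀ i, ¬ IsPlusTypeOn Q (D i) :=
        fun i hi => hty (plusType_of_isometric (hD.isometric i 0) hi)
      exact of_minus_planes h hH D hD hall hle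
  · have ht4 : t = 4 := by omega
    subst ht4
    have hodd : Odd (Fintype.card F) := h.Xodd (D 0) (hD.decomp.nondegenerate 0)
      (by rw [hD.decomp.decomp.finrank_eq]; decide)
    by_cases hq : 5 ≤ Fintype.card F
    · exact Concl.alt10 ⟨hodd, hq, D, hD, fin' hH hle hN⟩
    · have h2 := two_le_card (F := F)
      have hq3 : Fintype.card F = 3 := by
        obtain ⟨r, hr⟩ := hodd
        omega
      obtain ⟨D', hD', hle'⟩ := h.X33 hq3 D hD
      exact of_frame h hH D' hD' (by rw [hq3]; norm_num) (le_of_inf_le hH hle hle')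
  · have ht3 : t = 3 := by omega
    subst ht3
    by_cases hq : 3 ≤ Fintype.card F
    · exact Concl.alt11 ⟨hq, D, hD, fin' hH hle hN⟩
    · have h2 := two_le_card (F := F)
      have hq2 : Fintype.card F = 2 := by omega
      have h2F : (2 : F) = 0 := by
        have := Nat.cast_card_eq_zero F
        rw [hq2] at this
        exact_mod_cast this
      have hall := h.XT43 h2F hplus D hD
      obtain ⟨D', hD', hmin, hle'⟩ := h.X42 hq2 D hD hall
      exact of_minus_planes h hH D' hD' hmin (le_of_inf_le hH hle hle')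
  · have ht2 : t = 2 := by omega
    subst ht2
    exact Concl.alt12 ⟨D, hD, fin' hH hle hN⟩

end decompositions

section rest

variable {Q : (Fin 12 → F) → F} {H : Subgroup (GL (Fin 12) F)}

theorem not_odd_card_of_two_eq_zero (h2 : (2 : F) = 0) : ¬ Odd (Fintype.card F) := by
  intro hodd
  haveI : CharP F 2 := CharTwo.of_one_ne_zero_of_two_eq_zero one_ne_zero h2
  have h1 : ringChar F = 2 := ringChar.eq F 2
  have h3 := FiniteField.even_card_iff_char_two.1 h1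
  rcases hodd with ⟨r, hr⟩
  omega

theorem three_le_card_of_two_ne_zero (h2 : (2 : F) ≠ 0) : 3 ≤ Fintype.card F := by
  have h := two_le_card (F := F)
  by_contra hcon
  have hq : Fintype.card F = 2 := by omega
  apply h2
  have := Nat.cast_card_eq_zero F
  rw [hq] at this
  exact_mod_cast this

/-- the degree of a subfield of the matrix algebra divides the dimension -/
theorem dvd_of_isFieldSubalgebra {r : ℕ} (K : Subalgebra F (Matrix (Fin 12) (Fin 12) F))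
    (hK : IsFieldSubalgebra r K) : r ∣ 12 := by
  have hnt : Nontrivial K := ⟨⟨0, 1, fun h => zero_ne_one (congrArg Subtype.val h)⟩⟩
  have hfield : IsField K :=
    { exists_pair_ne := ⟨0, 1, zero_ne_one⟩
      mul_comm := fun x y => Subtype.ext (hK.comm x x.2 y y.2)
      mul_inv_cancel := fun {a} ha => by
        obtain ⟨y, hy, hxy⟩ := hK.inv a a.2 (fun h => ha (Subtype.ext h))
        exact ⟨⟨y, hy⟩, Subtype.ext hxy⟩ }
  letI : Field K := hfield.toField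
  have h1 := Cfsg.Agent.Lib.Helper63.SLMax.finrank_dvd_of_algHom (F := F) (L := K)
    (V := Fin 12 → F)
    ((Matrix.toLinAlgEquiv' : Matrix (Fin 12) (Fin 12) F ≃ₐ[F]
      Module.End F (Fin 12 → F)).toAlgHom.comp K.val)
  rw [hK.finrank_eq, finrank_V] at h1
  exact h1

theorem prime_dvd_twelve {r : ℕ} (hr : r.Prime) (hd : r ∣ 12) : r = 2 ∨ r = 3 := by
  have h12 : (12 : ℕ) = 2 ^ 2 * 3 := by norm_num
  rw [h12] at hd
  rcases (Nat.Prime.dvd_mul hr).1 hd with h | h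
  · left
    exact (Nat.prime_dvd_prime_iff_eq hr Nat.prime_two).1 (hr.dvd_of_dvd_pow h)
  · right
    exact (Nat.prime_dvd_prime_iff_eq hr Nat.prime_three).1 h

theorem twelve_ne_prime_pow {r m : ℕ} (hr : r.Prime) (hm : 1 ≤ m) (h : 12 = r ^ m) : False := by
  have hd : r ∣ 12 := by
    rw [h]
    exact dvd_pow_self r (by omega)
  rcases prime_dvd_twelve hr hd with rfl | rfl
  · have hm3 : m ≤ 3 := by
      by_contra hcon
      push Not at hcon
      have : 2 ^ 4 ≤ 2 ^ m := Nat.pow_le_pow_right (by norm_num) hcon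
      omega
    interval_cases m <;> omega
  · have hm3 : m ≤ 2 := by
      by_contra hcon
      push Not at hcon
      have : 3 ^ 3 ≤ 3 ^ m := Nat.pow_le_pow_right (by norm_num) hcon
      omega
    interval_cases m <;> omega

theorem twelve_ne_pow {m t : ℕ} (hm : 2 ≤ m) (ht : 2 ≤ t) (h : 12 = m ^ t) : False := by
  have ht3 : t ≤ 3 := by
    by_contra hcon
    push Not at hcon
    have h1 : 2 ^ 4 ≤ 2 ^ t := Nat.pow_le_pow_right (by norm_num) hcon
    have h2 : 2 ^ t ≤ m ^ t := Nat.pow_le_pow_left hm t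
    omega
  interval_cases t
  · have hm3 : m ≤ 3 := by nlinarith
    interval_cases m <;> omega
  · have hm2 : m ≤ 2 := by
      by_contra hcon
      push Not at hcon
      have : 3 ^ 3 ≤ m ^ 3 := Nat.pow_le_pow_left hcon 3
      omega
    interval_cases m <;> omega

/-- **Row S5871 from its keystones.** -/
theorem row (hQ : IsNondegenerateQuadraticForm Q) (hplus : IsPlusTypeOn Q ⊤) (h : Hyps Q)
    (hH : IsMaximalIn (omegaGL Q) H) : Concl Q H := by
  rcases h.A H (le_isom hH) with hgeo | hres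
  · obtain ⟨X, hX, hHZ⟩ := hgeo
    have hle : H ≤ X := le_sup_left.trans hHZ
    have h7 : 7 ≤ Fintype.card (Fin 12) := by rw [Fintype.card_fin]; norm_num
    rcases hX with h1a | h1b | h1c | h2a | h2b | h3a | h3b | h4 | h5 | h6 | h7'
    · -- (1a)
      obtain ⟨W, hW0, hW, rfl⟩ := h1a
      have hEq := fin' hH hle
        (Cfsg.Agent.Lib.Helper09.OFam.omegaGL_not_le_stabilizer_ts Q hQ h7 W hW0 hW)
      by_cases h5 : Module.finrank F W = 5
      · obtain ⟨W', hW'0, hW', hdim', hEq'⟩ :=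
          Cfsg.Agent.Lib.Helper09.OFam.maximal_ts_codim_one Q hQ h7 hplus H hH W hW
            (by rw [h5, Fintype.card_fin]) hEq
        rw [Fintype.card_fin] at hdim'
        exact Concl.alt1 ⟨W', hW'0, hW', by omega, hEq'⟩
      · exact Concl.alt1 ⟨W, hW0, hW, h5, hEq⟩
    · -- (1b)
      obtain ⟨W, hW0, hWt, hW, rfl⟩ := h1b
      exact of_nondeg hQ hplus h hH W hW0 hWt hW hle
    · -- (1c)
      obtain ⟨v, h2, hv, rfl⟩ := h1c
      exact of_nonsingular_point hQ h hH (not_odd_card_of_two_eq_zero h2) v hv hle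
    · -- (2a)
      obtain ⟨t, k, D, ht, hk1, hD, rfl⟩ := h2a
      exact of_decomp hQ hplus h hH D ht hk1 hD hle
    · -- (2b)
      obtain ⟨k, D, hD, hts, rfl⟩ := h2b
      have hk : k = 6 := by
        have := mul_eq D hD
        omega
      subst hk
      exact Concl.alt13 ⟨D, hD, hts, fin' hH hle (h.N2p D hD (Or.inl hts))⟩
    · -- (3a)
      obtain ⟨r, E, hr, hE, hself, rfl⟩ := h3a
      rcases prime_dvd_twelve hr (dvd_of_isFieldSubalgebra E hE) with rfl | rfl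
      · exact Concl.alt14 ⟨E, hE, fin' hH hle (h.N3 le_rfl E hE)⟩
      · exact Concl.alt15 ⟨E, hE, fin' hH hle (h.N3 (by norm_num) E hE)⟩
    · -- (3b)
      obtain ⟨E, hE, hadj, hnself, hsim, rfl⟩ := h3b
      exact Concl.alt16 ⟨E, hE, hadj, hnself, hsim, fin' hH hle (h.N3 le_rfl E hE)⟩
    · -- (4)
      obtain ⟨n₁, n₂, e, P, f₁, f₂, hn1, hn12, hforms, hT, rfl⟩ := h4
      have hcard : n₁ * n₂ = 12 := by
        have := Fintype.card_congr e
        rw [Fintype.card_fin, Fintype.card_prod, Fintype.card_fin, Fintype.card_fin] at this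
        exact this.symm
      have hn : (n₁ = 2 ∧ n₂ = 6) ∨ (n₁ = 3 ∧ n₂ = 4) := by
        have h3 : n₁ ≤ 3 := by nlinarith
        interval_cases n₁ <;> omega
      rcases hforms with ⟨hs1, hs2, h2⟩ | ⟨hs1, hs2, hpure⟩
      · rcases hn with ⟨rfl, rfl⟩ | ⟨rfl, rfl⟩
        · rcases h.X4S2 h2 6 e P f₁ f₂ hs1 hs2 hT with ⟨D, hD, hts, hDle⟩ | ⟨K, hK, hadj, hnself, hsim, hKle⟩
          · exact Concl.alt13 ⟨D, hD, hts, fin' hH (le_of_inf_le hH hle hDle) (h.N2p D hD (Or.inl hts))⟩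
          · exact Concl.alt16 ⟨K, hK, hadj, hnself, hsim,
              fin' hH (le_of_inf_le hH hle hKle) (h.N3 le_rfl K hK)⟩
        · obtain ⟨e', P', a₁, a₂, ha1, ha2, hT', hpure', hle'⟩ := h.X4S34 hplus h2 e P f₁ f₂ hs1 hs2 hT
          have hle'' : H ≤ tensorProductSubgroup 2 6 e' P' := (le_inf hle hH.1.le).trans hle'
          exact Concl.alt17 ⟨three_le_card_of_two_ne_zero h2, e', P', a₁, a₂, ha1, ha2, hT', hpure',
            fin' hH hle'' (h.N4 le_rfl (by norm_num) e' P')⟩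
      · rcases hn with ⟨rfl, rfl⟩ | ⟨rfl, rfl⟩
        · by_cases hq : 3 ≤ Fintype.card F
          · exact Concl.alt17 ⟨hq, e, P, f₁, f₂, hs1, hs2, hT, hpure,
              fin' hH hle (h.N4 le_rfl (by norm_num) e P)⟩
          · have h2 := two_le_card (F := F)
            obtain ⟨K, hK, hKle⟩ := h.X4P2 (by omega) 6 e P
            exact Concl.alt14 ⟨K, hK, fin' hH (hle.trans hKle) (h.N3 le_rfl K hK)⟩
        · exfalso
          exact h.XSp (by decide : Odd 3) f₁ hs1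
    · -- (5)
      obtain ⟨F₀, r, P, ζ, hr, hcard, hζ, hrat, rfl⟩ := h5
      exact Concl.alt18 ⟨F₀, r, P, ζ, hr, hcard, hζ, hrat, fin' hH hle (h.N5 F₀ r hr hcard P)⟩
    · -- (6)
      obtain ⟨R, r, m, -, -, hsymp, -, -, -, hm, hn, -⟩ := h6
      exact (twelve_ne_prime_pow hsymp.prime hm hn).elim
    · -- (7)
      obtain ⟨m, t, e, P, hm, ht, -, -⟩ := h7'
      have hcard : 12 = m ^ t := by
        have := Fintype.card_congr e
        rw [Fintype.card_fin, Fintype.card_fun, Fintype.card_fin, Fintype.card_fin] at this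
        exact this
      exact (twelve_ne_pow hm ht hcard).elim
  · exact Concl.alt19 hres

end rest

end Cfsg.Agent.Lib.Helper09.O12
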