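import Mathlib
import Cfsg.Prelude.Def_GeometricClasses
import Cfsg.Agent.Lib.Helper38.SpMaxY3a
import Cfsg.Agent.Lib.Helper50.TensorAct2
import Cfsg.Agent.Lib.Helper63.AschB6
import Cfsg.Agent.Lib.Helper93.SpAschS4d1
import Cfsg.Agent.Lib.Helper91.SpAschS4b1
import Cfsg.Agent.Lib.Helper08.OOddMaxGlue

/-!
# Keystone 587111 (K-O12-X4S34), part A: plumbing

`O₃ ⊗ O₄⁺ ≤ Sp₂ ⊗ Sp₆` inside `Ω₁₂⁺(q)`, `q` odd.  This file: the standard form `J ⊗ J` of a plus-type symmetric form on `F⁴`,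
the similarity of the tensor factors of an isometry, and the regrouping `F³ ⊗ (F² ⊗ F²) = F² ⊗ (F³ ⊗ F²)`.
-/

set_option autoImplicit false

namespace Cfsg.Agent.Lib.Helper09.O12

open Cfsg Cfsg.Geo
open scoped Matrix Kronecker MatrixGroups

variable {F : Type*} [Field F]

/-- the standard alternating Gram matrix on `F²` -/
def J2 (F : Type*) [Field F] : Matrix (Fin 2) (Fin 2) F := !![0, 1; -1, 0]

theorem J2_transpose : (J2 F)ᵀ = - J2 F := by
  ext i j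
  fin_cases i <;> fin_cases j <;> simp [J2]

theorem J2_det : (J2 F).det = 1 := by
  simp [J2, Matrix.det_fin_two]

/-- the index bijection `Fin 4 ≃ Fin 2 × Fin 2` adapted to `Helper38.SpMax.hypGram4` -/
def eps4 : Fin 4 ≃ Fin 2 × Fin 2 where
  toFun m := ![(0, 0), (0, 1), (1, 1), (1, 0)] m
  invFun p := if p = (0, 0) then 0 else if p = (0, 1) then 1 else if p = (1, 1) then 2 else 3
  left_inv := by decide
  right_inv := by decide

/-- the sign change `diag(1,1,1,-1)` -/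
def sgn4 (F : Type*) [Field F] : Matrix (Fin 4) (Fin 4) F := Matrix.diagonal ![1, 1, 1, -1]

theorem sgn4_mul_self : sgn4 F * sgn4 F = 1 := by
  unfold sgn4
  rw [Matrix.diagonal_mul_diagonal, ← Matrix.diagonal_one]
  congr 1
  ext i
  fin_cases i <;> simp

/-- `diag(1,1,1,-1) · H · diag(1,1,1,-1) = J ⊗ J` read through `eps4` -/
theorem sgn4_hyp_sgn4 :
    (sgn4 F)ᵀ * Cfsg.Agent.Lib.Helper38.SpMax.hypGram4 F * sgn4 F = (J2 F ⊗ₖ J2 F).submatrix eps4 eps4 := by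
  unfold sgn4
  rw [Matrix.diagonal_transpose]
  ext m m'
  rw [Matrix.mul_diagonal, Matrix.diagonal_mul]
  fin_cases m <;> fin_cases m' <;>
    simp [Cfsg.Agent.Lib.Helper38.SpMax.hypGram4, J2, eps4, Matrix.kroneckerMap_apply]

/-- SL-b: a plus-type symmetric form on `F⁴` (`2 ≠ 0`) has Gram matrix `J ⊗ J` in a suitable basis. -/
theorem exists_J_kron_J (h2 : (2 : F) ≠ 0) (f₂ : (Fin 4 → F) → (Fin 4 → F) → F)
    (h₂ : IsSymmetricForm f₂) (hplus : IsPlusTypeOn (fun v : Fin 4 → F => f₂ v v) ⊤) :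
    ∃ S : GL (Fin 4) F,
      (S : Matrix (Fin 4) (Fin 4) F)ᵀ * gramMatrix f₂ * (S : Matrix (Fin 4) (Fin 4) F) =
        (J2 F ⊗ₖ J2 F).submatrix eps4 eps4 := by
  obtain ⟨C, hC⟩ := Cfsg.Agent.Lib.Helper38.SpMax.exists_hyperbolic_gram h2 f₂ h₂ hplus
  let D : GL (Fin 4) F := ⟨sgn4 F, sgn4 F, sgn4_mul_self, sgn4_mul_self⟩
  refine ⟨C * D, ?_⟩
  rw [Units.val_mul, Matrix.transpose_mul]
  show (sgn4 F)ᵀ * (C : Matrix (Fin 4) (Fin 4) F)ᵀ * gramMatrix f₂ * ((C : Matrix (Fin 4) (Fin 4) F) * sgn4 F) = _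
  rw [← sgn4_hyp_sgn4, ← hC]
  simp only [Matrix.mul_assoc]

end Cfsg.Agent.Lib.Helper09.O12
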