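import Cfsg.Agent.Lib.Helper09.O12X4S34a

/-!
# Keystone 587111 (K-O12-X4S34), part B: similarity of the tensor factors, determinants
-/

set_option autoImplicit false

namespace Cfsg.Agent.Lib.Helper09.O12

open Cfsg Cfsg.Geo
open scoped Matrix Kronecker MatrixGroups
open Cfsg.Agent.Lib.Helper93.SpAsch (formOfGram_id_eq matrix_eq_of_form transpose_mul_mul_of_form
  prop_of_kronecker_eq exists_ne_zero_of_isUnit)

variable {F : Type*} [Field F] {n : ℕ}

/-- the action of `P (k) P⁻¹` in the coordinates `(e, P)` -/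
theorem tensor_act {a b : ℕ} (e : Fin n ≃ Fin a × Fin b) (P g : GL (Fin n) F) (k : GL (Fin a × Fin b) F)
    (hg : g = P * glReindex e.symm k * P⁻¹) (x : Fin a × Fin b → F) :
    (g : Matrix (Fin n) (Fin n) F) *ᵥ ((P : Matrix (Fin n) (Fin n) F) *ᵥ (x ∘ e)) =
      (P : Matrix (Fin n) (Fin n) F) *ᵥ (((k : Matrix (Fin a × Fin b) (Fin a × Fin b) F) *ᵥ x) ∘ e) := by
  have h1 : (g : Matrix (Fin n) (Fin n) F) * (P : Matrix (Fin n) (Fin n) F) =
      (P : Matrix (Fin n) (Fin n) F) * ((glReindex e.symm k : GL (Fin n) F) : Matrix (Fin n) (Fin n) F) := by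
    rw [hg, ← Units.val_mul, ← Units.val_mul]
    congr 1
    group
  rw [Matrix.mulVec_mulVec, h1, ← Matrix.mulVec_mulVec]
  congr 1
  rw [Cfsg.Agent.Lib.Helper63.Asch.coe_glReindex]
  have : e.symm.symm = e := rfl
  rw [this, Matrix.submatrix_mulVec_equiv]
  congr 2
  ext p
  simp

/-- the tensor factors of an isometry are similarities of the Gram factors, with inverse multipliers -/
theorem factor_similarity {a b : ℕ} (f : (Fin n → F) → (Fin n → F) → F) (e : Fin n ≃ Fin a × Fin b)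
    (P : GL (Fin n) F) (G₁ : Matrix (Fin a) (Fin a) F) (G₂ : Matrix (Fin b) (Fin b) F)
    (hG₁ : ∃ i i', G₁ i i' ≠ 0) (hG₂ : ∃ j j', G₂ j j' ≠ 0) (c : F) (hc : c ≠ 0)
    (hform : ∀ x y : Fin a × Fin b → F,
      f ((P : Matrix (Fin n) (Fin n) F) *ᵥ (x ∘ e)) ((P : Matrix (Fin n) (Fin n) F) *ᵥ (y ∘ e)) =
        c * formOfGram id (G₁ ⊗ₖ G₂) x y)
    (g : GL (Fin n) F)
    (hiso : ∀ u v, f ((g : Matrix (Fin n) (Fin n) F) *ᵥ u) ((g : Matrix (Fin n) (Fin n) F) *ᵥ v) = f u v)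
    (k : GL (Fin a × Fin b) F) (k₁ : Matrix (Fin a) (Fin a) F) (k₂ : Matrix (Fin b) (Fin b) F)
    (hk : (k : Matrix (Fin a × Fin b) (Fin a × Fin b) F) = k₁ ⊗ₖ k₂)
    (hg : g = P * glReindex e.symm k * P⁻¹) :
    ∃ c₁ c₂ : F, k₁ᵀ * G₁ * k₁ = c₁ • G₁ ∧ k₂ᵀ * G₂ * k₂ = c₂ • G₂ ∧ c₁ * c₂ = 1 := by
  have hsim : ∀ x y : Fin a × Fin b → F,
      formOfGram id (G₁ ⊗ₖ G₂) ((k : Matrix (Fin a × Fin b) (Fin a × Fin b) F) *ᵥ x)
        ((k : Matrix (Fin a × Fin b) (Fin a × Fin b) F) *ᵥ y) =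
      (1 : F) * formOfGram id (G₁ ⊗ₖ G₂) x y := by
    intro x y
    have h1 := hiso ((P : Matrix (Fin n) (Fin n) F) *ᵥ (x ∘ e)) ((P : Matrix (Fin n) (Fin n) F) *ᵥ (y ∘ e))
    rw [tensor_act e P g k hg, tensor_act e P g k hg, hform, hform] at h1
    rw [one_mul]
    exact mul_left_cancel₀ hc h1
  have hmat := transpose_mul_mul_of_form (G₁ ⊗ₖ G₂)
    (k : Matrix (Fin a × Fin b) (Fin a × Fin b) F) (1 : F) hsim
  rw [hk] at hmat
  have hkron : (k₁ᵀ * G₁ * k₁) ⊗ₖ (k₂ᵀ * G₂ * k₂) = (1 : F) • (G₁ ⊗ₖ G₂) := by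
    rw [← hmat, Matrix.mul_kronecker_mul, Matrix.mul_kronecker_mul]
    congr 2
  have hentry : ∀ i i' j j',
      (k₁ᵀ * G₁ * k₁) i i' * (k₂ᵀ * G₂ * k₂) j j' = (1 : F) * (G₁ i i' * G₂ j j') := by
    intro i i' j j'
    have := congrFun (congrFun hkron (i, j)) (i', j')
    simpa [Matrix.kroneckerMap_apply] using this
  obtain ⟨⟨c₁, h₁⟩, ⟨c₂, h₂⟩⟩ := prop_of_kronecker_eq _ G₁ _ G₂ (1 : F) one_ne_zero hentry hG₁ hG₂
  refine ⟨c₁, c₂, h₁, h₂, ?_⟩
  obtain ⟨i, i', hi⟩ := hG₁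
  obtain ⟨j, j', hj⟩ := hG₂
  have h3 := hentry i i' j j'
  rw [h₁, h₂, Matrix.smul_apply, Matrix.smul_apply, smul_eq_mul, smul_eq_mul, one_mul] at h3
  have h4 : (c₁ * c₂ - 1) * (G₁ i i' * G₂ j j') = 0 := by linear_combination h3
  rcases mul_eq_zero.mp h4 with h5 | h5
  · linear_combination h5
  · exact absurd h5 (mul_ne_zero hi hj)

/-- a similarity of a non-degenerate Gram matrix on `F³`: `(det a)² = c³` -/
theorem det_sq_of_similarity_three (a G : Matrix (Fin 3) (Fin 3) F) (c : F) (hG : G.det ≠ 0)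
    (h : aᵀ * G * a = c • G) : a.det ^ 2 = c ^ 3 := by
  have h1 := congrArg Matrix.det h
  rw [Matrix.det_mul, Matrix.det_mul, Matrix.det_transpose, Matrix.det_smul, Fintype.card_fin] at h1
  have h2 : (a.det ^ 2 - c ^ 3) * G.det = 0 := by linear_combination h1
  rcases mul_eq_zero.mp h2 with h3 | h3
  · linear_combination h3
  · exact absurd h3 hG

/-- determinant of a conjugate of a reindexed matrix -/
theorem det_tensor_conj {κ : Type} [Fintype κ] [DecidableEq κ] (e : Fin n ≃ κ) (P g : GL (Fin n) F) (k : GL κ F)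
    (hg : g = P * glReindex e.symm k * P⁻¹) :
    (g : Matrix (Fin n) (Fin n) F).det = (k : Matrix κ κ F).det := by
  rw [hg, Units.val_mul, Units.val_mul, Matrix.det_mul, Matrix.det_mul,
    Cfsg.Agent.Lib.Helper63.Asch.coe_glReindex, Matrix.det_submatrix_equiv_self]
  have h1 : (P : Matrix (Fin n) (Fin n) F).det * ((P⁻¹ : GL (Fin n) F) : Matrix (Fin n) (Fin n) F).det = 1 := by
    rw [← Matrix.det_mul, ← Units.val_mul, mul_inv_cancel, Units.val_one, Matrix.det_one]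
  linear_combination (k : Matrix κ κ F).det * h1

end Cfsg.Agent.Lib.Helper09.O12
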