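import Cfsg.Agent.Lib.Helper09.O12X4S34b

/-!
# Keystone 587111 (K-O12-X4S34), part C: regrouping `F³ ⊗ (F² ⊗ F²) = F² ⊗ (F³ ⊗ F²)`
-/

set_option autoImplicit false

namespace Cfsg.Agent.Lib.Helper09.O12

open Cfsg Cfsg.Geo
open scoped Matrix Kronecker MatrixGroups
open Cfsg.Agent.Lib.Helper93.SpAsch (formOfGram_id_eq exists_ne_zero_of_isUnit)
open Cfsg.Agent.Lib.Helper97.AschO (gForm gramMatrix_gForm)
open Cfsg.Agent.Lib.Helper50 (kronGL kronGL_val kronGL_mem bilin_eq_gram)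
open Cfsg.Agent.Lib.Helper63.Asch (coe_glReindex mem_tensorProductSubgroup)

variable {F : Type*} [Field F]

theorem det_gram_ne_zero' {k : ℕ} (f : (Fin k → F) → (Fin k → F) → F) (hf : IsSymmetricForm f) :
    (gramMatrix f).det ≠ 0 := by
  intro h0
  obtain ⟨v, hv, hGv⟩ := Matrix.exists_mulVec_eq_zero_iff.mpr h0
  obtain ⟨x, hx⟩ := (hf.nondegenerate v hv).1
  apply hx
  rw [bilin_eq_gram f hf.bilinear, hGv, dotProduct_zero]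

theorem dot_transpose_mul_mul {κ : Type} [Fintype κ] (K G : Matrix κ κ F) (X Y : κ → F) :
    (K *ᵥ X) ⬝ᵥ (G *ᵥ (K *ᵥ Y)) = X ⬝ᵥ ((Kᵀ * G * K) *ᵥ Y) := by
  conv_rhs => rw [← Matrix.mulVec_mulVec, ← Matrix.mulVec_mulVec, Matrix.dotProduct_mulVec,
    Matrix.vecMul_transpose]

/-- the regrouping bijection `(a, (j, k)) ↦ (j, (a, k))` read through `ε` and `δ` -/
def regroup (ε : Fin 4 ≃ Fin 2 × Fin 2) (δ : Fin 6 ≃ Fin 3 × Fin 2) : Fin 3 × Fin 4 ≃ Fin 2 × Fin 6 where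
  toFun p := ((ε p.2).1, δ.symm (p.1, (ε p.2).2))
  invFun r := ((δ r.2).1, ε.symm (r.1, (δ r.2).2))
  left_inv := by rintro ⟨a, m⟩; simp
  right_inv := by rintro ⟨j, t⟩; simp

theorem regroup_apply (ε : Fin 4 ≃ Fin 2 × Fin 2) (δ : Fin 6 ≃ Fin 3 × Fin 2) (a : Fin 3) (m : Fin 4) :
    regroup ε δ (a, m) = ((ε m).1, δ.symm (a, (ε m).2)) := rfl

/-- SL-c (keystone 587121) as a hypothesis -/
def HypSimJJ (F : Type*) [Field F] : Prop :=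
  ∀ (b : Matrix (Fin 2 × Fin 2) (Fin 2 × Fin 2) F) (lam : F), lam ≠ 0 →
    bᵀ * (J2 F ⊗ₖ J2 F) * b = lam • (J2 F ⊗ₖ J2 F) →
    (∃ A B : Matrix (Fin 2) (Fin 2) F, b = A ⊗ₖ B) ∨ b.det = - lam ^ 2

/-- the new change of basis -/
noncomputable def newP (e : Fin 12 ≃ Fin 3 × Fin 4) (P : GL (Fin 12) F) (S : GL (Fin 4) F) : GL (Fin 12) F :=
  P * glReindex e.symm (kronGL (1 : GL (Fin 3) F) S)

/-- the Gram matrix on `F⁶ = F³ ⊗ F²` -/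
def gram6 (G₁ : Matrix (Fin 3) (Fin 3) F) (δ : Fin 6 ≃ Fin 3 × Fin 2) : Matrix (Fin 6) (Fin 6) F :=
  (G₁ ⊗ₖ J2 F).submatrix δ δ

theorem gram6_transpose (G₁ : Matrix (Fin 3) (Fin 3) F) (hG₁ : G₁ᵀ = G₁) (δ : Fin 6 ≃ Fin 3 × Fin 2) :
    (gram6 G₁ δ)ᵀ = - gram6 G₁ δ := by
  unfold gram6
  rw [Matrix.transpose_submatrix, ← Matrix.kroneckerMap_transpose, hG₁, J2_transpose]
  ext t t'
  simp [Matrix.kroneckerMap_apply]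

theorem gram6_isUnit (G₁ : Matrix (Fin 3) (Fin 3) F) (hd : G₁.det ≠ 0) (δ : Fin 6 ≃ Fin 3 × Fin 2) :
    IsUnit (gram6 G₁ δ) := by
  rw [Matrix.isUnit_iff_isUnit_det]
  unfold gram6
  rw [Matrix.det_submatrix_equiv_self, Matrix.det_kronecker, J2_det, one_pow, mul_one]
  exact (IsUnit.mk0 _ hd).pow _

theorem J2_isUnit : IsUnit (J2 F) := by
  rw [Matrix.isUnit_iff_isUnit_det, J2_det]
  exact isUnit_one

/-- the action of the new change of basis -/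
theorem newP_mulVec (e : Fin 12 ≃ Fin 3 × Fin 4) (P : GL (Fin 12) F) (S : GL (Fin 4) F)
    (ρ : Fin 3 × Fin 4 ≃ Fin 2 × Fin 6) (x : Fin 2 × Fin 6 → F) :
    ((newP e P S : GL (Fin 12) F) : Matrix (Fin 12) (Fin 12) F) *ᵥ (x ∘ (e.trans ρ)) =
      (P : Matrix (Fin 12) (Fin 12) F) *ᵥ
        ((((1 : Matrix (Fin 3) (Fin 3) F) ⊗ₖ (S : Matrix (Fin 4) (Fin 4) F)) *ᵥ (x ∘ ρ)) ∘ e) := by
  unfold newP
  rw [Units.val_mul, ← Matrix.mulVec_mulVec, coe_glReindex, kronGL_val, Units.val_one]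
  congr 1
  have : e.symm.symm = e := rfl
  rw [this, Matrix.submatrix_mulVec_equiv]
  congr 2
  ext p
  simp

/-- the Gram matrix in the new coordinates -/
theorem gram_regroup (G₁ : Matrix (Fin 3) (Fin 3) F) (G₂ : Matrix (Fin 4) (Fin 4) F)
    (ε : Fin 4 ≃ Fin 2 × Fin 2) (δ : Fin 6 ≃ Fin 3 × Fin 2) (s : Matrix (Fin 4) (Fin 4) F)
    (hS : sᵀ * G₂ * s = (J2 F ⊗ₖ J2 F).submatrix ε ε) :
    ((1 : Matrix (Fin 3) (Fin 3) F) ⊗ₖ s)ᵀ * (G₁ ⊗ₖ G₂) * ((1 : Matrix (Fin 3) (Fin 3) F) ⊗ₖ s) =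
      (J2 F ⊗ₖ gram6 G₁ δ).submatrix (regroup ε δ) (regroup ε δ) := by
  rw [← Matrix.kroneckerMap_transpose, Matrix.transpose_one, ← Matrix.mul_kronecker_mul,
    ← Matrix.mul_kronecker_mul, Matrix.one_mul, Matrix.mul_one, hS]
  ext ⟨a, m⟩ ⟨a', m'⟩
  simp only [Matrix.kroneckerMap_apply, Matrix.submatrix_apply, regroup_apply, gram6,
    Equiv.apply_symm_apply]
  ring

/-- the polar form in the new coordinates -/
theorem form_regroup (Q : (Fin 12 → F) → F) (e : Fin 12 ≃ Fin 3 × Fin 4) (P : GL (Fin 12) F)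
    (G₁ : Matrix (Fin 3) (Fin 3) F) (G₂ : Matrix (Fin 4) (Fin 4) F) (c : F)
    (hform : ∀ x y : Fin 3 × Fin 4 → F,
      QuadraticMap.polar Q ((P : Matrix (Fin 12) (Fin 12) F) *ᵥ (x ∘ e))
        ((P : Matrix (Fin 12) (Fin 12) F) *ᵥ (y ∘ e)) = c * formOfGram id (G₁ ⊗ₖ G₂) x y)
    (ε : Fin 4 ≃ Fin 2 × Fin 2) (δ : Fin 6 ≃ Fin 3 × Fin 2) (S : GL (Fin 4) F)
    (hS : (S : Matrix (Fin 4) (Fin 4) F)ᵀ * G₂ * (S : Matrix (Fin 4) (Fin 4) F) =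
      (J2 F ⊗ₖ J2 F).submatrix ε ε) (x y : Fin 2 × Fin 6 → F) :
    QuadraticMap.polar Q
        (((newP e P S : GL (Fin 12) F) : Matrix (Fin 12) (Fin 12) F) *ᵥ (x ∘ (e.trans (regroup ε δ))))
        (((newP e P S : GL (Fin 12) F) : Matrix (Fin 12) (Fin 12) F) *ᵥ (y ∘ (e.trans (regroup ε δ)))) =
      c * formOfGram id (J2 F ⊗ₖ gram6 G₁ δ) x y := by
  rw [newP_mulVec, newP_mulVec, hform, formOfGram_id_eq, formOfGram_id_eq]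
  congr 1
  set K₀ : Matrix (Fin 3 × Fin 4) (Fin 3 × Fin 4) F :=
    (1 : Matrix (Fin 3) (Fin 3) F) ⊗ₖ (S : Matrix (Fin 4) (Fin 4) F) with hK₀
  set ρ := regroup ε δ with hρ
  calc (K₀ *ᵥ (x ∘ ρ)) ⬝ᵥ ((G₁ ⊗ₖ G₂) *ᵥ (K₀ *ᵥ (y ∘ ρ)))
      = (x ∘ ρ) ⬝ᵥ ((K₀ᵀ * (G₁ ⊗ₖ G₂) * K₀) *ᵥ (y ∘ ρ)) := by
        rw [dot_transpose_mul_mul]
    _ = (x ∘ ρ) ⬝ᵥ (((J2 F ⊗ₖ gram6 G₁ δ).submatrix ρ ρ) *ᵥ (y ∘ ρ)) := by
        rw [hK₀, gram_regroup G₁ G₂ ε δ _ hS]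
    _ = x ⬝ᵥ ((J2 F ⊗ₖ gram6 G₁ δ) *ᵥ y) := by
        rw [Matrix.submatrix_mulVec_equiv]
        have h1 : (y ∘ ρ) ∘ ρ.symm = y := by
          ext p; simp
        rw [h1]
        unfold dotProduct
        exact Equiv.sum_comp ρ (fun p => x p * ((J2 F ⊗ₖ gram6 G₁ δ) *ᵥ y) p)

end Cfsg.Agent.Lib.Helper09.O12
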