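import Cfsg.Agent.Lib.Helper09.O12X4S34c

/-!
# Keystone 587111 (K-O12-X4S34), part D: the containment `O₃ ⊗ O₄⁺ ∩ Ω ≤ Sp₂ ⊗ Sp₆` and the core theorem
-/

set_option autoImplicit false

namespace Cfsg.Agent.Lib.Helper09.O12

open Cfsg Cfsg.Geo
open scoped Matrix Kronecker MatrixGroups
open Cfsg.Agent.Lib.Helper93.SpAsch (formOfGram_id_eq exists_ne_zero_of_isUnit)
open Cfsg.Agent.Lib.Helper97.AschO (gForm gramMatrix_gForm)
open Cfsg.Agent.Lib.Helper50 (kronGL kronGL_val kronGL_mem bilin_eq_gram)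
open Cfsg.Agent.Lib.Helper63.Asch (coe_glReindex mem_tensorProductSubgroup)

variable {F : Type*} [Field F]

theorem exists_ne_zero_of_det_ne_zero {k : ℕ} [NeZero k] (G : Matrix (Fin k) (Fin k) F) (hd : G.det ≠ 0) :
    ∃ i i', G i i' ≠ 0 := by
  by_contra h
  push_neg at h
  have : G = 0 := by
    ext i i'
    exact h i i'
  apply hd
  rw [this, Matrix.det_zero]

/-- reindexing in two steps -/
theorem glReindex_trans {κ κ' : Type} [Fintype κ] [DecidableEq κ] [Fintype κ'] [DecidableEq κ'] {n : ℕ}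
    (e : Fin n ≃ κ) (ρ : κ ≃ κ') (k' : GL κ' F) :
    glReindex (e.trans ρ).symm k' = glReindex e.symm (glReindex ρ.symm k') := by
  apply Units.ext
  rw [coe_glReindex, coe_glReindex, coe_glReindex]
  ext i j
  simp

/-- the containment -/
theorem sympl_containment [Fintype F] (hsim : HypSimJJ F) (h2 : (2 : F) ≠ 0) (Q : (Fin 12 → F) → F)
    (e : Fin 12 ≃ Fin 3 × Fin 4) (P : GL (Fin 12) F)
    (G₁ : Matrix (Fin 3) (Fin 3) F) (G₂ : Matrix (Fin 4) (Fin 4) F) (hd₁ : G₁.det ≠ 0) (hd₂ : G₂.det ≠ 0)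
    (c : F) (hc : c ≠ 0)
    (hform : ∀ x y : Fin 3 × Fin 4 → F,
      QuadraticMap.polar Q ((P : Matrix (Fin 12) (Fin 12) F) *ᵥ (x ∘ e))
        ((P : Matrix (Fin 12) (Fin 12) F) *ᵥ (y ∘ e)) = c * formOfGram id (G₁ ⊗ₖ G₂) x y)
    (ε : Fin 4 ≃ Fin 2 × Fin 2) (δ : Fin 6 ≃ Fin 3 × Fin 2) (S : GL (Fin 4) F)
    (hS : (S : Matrix (Fin 4) (Fin 4) F)ᵀ * G₂ * (S : Matrix (Fin 4) (Fin 4) F) =
      (J2 F ⊗ₖ J2 F).submatrix ε ε) :
    tensorProductSubgroup 3 4 e P ⊓ omegaGL Q ≤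
      tensorProductSubgroup 2 6 (e.trans (regroup ε δ)) (newP e P S) := by
  rintro g ⟨hg1, hg2⟩
  obtain ⟨k, ⟨a, b, hk⟩, hgk⟩ := (mem_tensorProductSubgroup e P g).mp hg1
  have hiso : ∀ u v, QuadraticMap.polar Q ((g : Matrix (Fin 12) (Fin 12) F) *ᵥ u)
      ((g : Matrix (Fin 12) (Fin 12) F) *ᵥ v) = QuadraticMap.polar Q u v := by
    have hI := Cfsg.Agent.Lib.Helper08.OOddMax.omegaGL_le_isometryGroup Q hg2
    intro u v
    have h : ∀ x, Q ((g : Matrix (Fin 12) (Fin 12) F) *ᵥ x) = Q x := fun x => hI x 0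
    unfold QuadraticMap.polar
    rw [← Matrix.mulVec_add, h, h, h]
  obtain ⟨c₁, c₂, h₁, h₂, h12⟩ := factor_similarity (QuadraticMap.polar Q) e P G₁ G₂
    (exists_ne_zero_of_det_ne_zero G₁ hd₁) (exists_ne_zero_of_det_ne_zero G₂ hd₂) c hc hform g hiso k
    (a : Matrix (Fin 3) (Fin 3) F) (b : Matrix (Fin 4) (Fin 4) F) hk hgk
  have hc₂ : c₂ ≠ 0 := right_ne_zero_of_mul_eq_one h12
  -- the second factor in the new basis
  set s : Matrix (Fin 4) (Fin 4) F := (S : Matrix (Fin 4) (Fin 4) F) with hs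
  set s' : Matrix (Fin 4) (Fin 4) F := ((S⁻¹ : GL (Fin 4) F) : Matrix (Fin 4) (Fin 4) F) with hs'
  have hss' : s * s' = 1 := by rw [hs, hs', ← Units.val_mul, mul_inv_cancel, Units.val_one]
  have hs's : s' * s = 1 := by rw [hs, hs', ← Units.val_mul, inv_mul_cancel, Units.val_one]
  set β : Matrix (Fin 4) (Fin 4) F := (b : Matrix (Fin 4) (Fin 4) F) with hβ
  set b' : Matrix (Fin 4) (Fin 4) F := s' * β * s with hb'
  have hsb' : s * b' = β * s := by
    rw [hb', ← Matrix.mul_assoc, ← Matrix.mul_assoc, hss', Matrix.one_mul]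
  set K₄ : Matrix (Fin 4) (Fin 4) F := (J2 F ⊗ₖ J2 F).submatrix ε ε with hK₄
  have hb'K : b'ᵀ * K₄ * b' = c₂ • K₄ := by
    rw [← hS]
    calc b'ᵀ * (sᵀ * G₂ * s) * b' = sᵀ * (βᵀ * ((s * s')ᵀ * G₂ * (s * s')) * β) * s := by
          rw [hb']
          simp only [Matrix.transpose_mul, Matrix.mul_assoc]
      _ = sᵀ * (βᵀ * G₂ * β) * s := by
          rw [hss', Matrix.transpose_one, Matrix.one_mul, Matrix.mul_one]
      _ = c₂ • (sᵀ * G₂ * s) := by
          rw [h₂, Matrix.mul_smul, Matrix.smul_mul, Matrix.mul_assoc]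
  set M : Matrix (Fin 2 × Fin 2) (Fin 2 × Fin 2) F := b'.submatrix ε.symm ε.symm with hM
  have hMK : Mᵀ * (J2 F ⊗ₖ J2 F) * M = c₂ • (J2 F ⊗ₖ J2 F) := by
    have h3 : (J2 F ⊗ₖ J2 F) = K₄.submatrix ε.symm ε.symm := by
      rw [hK₄]
      ext p p'
      simp
    have h4 : (b'ᵀ * K₄ * b').submatrix ε.symm ε.symm = (c₂ • K₄).submatrix ε.symm ε.symm := by
      rw [hb'K]
    have h5 : (c₂ • K₄).submatrix ε.symm ε.symm = c₂ • (K₄.submatrix ε.symm ε.symm) := rfl
    rw [h5, ← Matrix.submatrix_mul_equiv _ _ _ ε.symm, ← Matrix.submatrix_mul_equiv _ _ _ ε.symm,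
      ← Matrix.transpose_submatrix, ← h3] at h4
    exact h4
  have hdetM : M.det = β.det := by
    rw [hM, Matrix.det_submatrix_equiv_self, hb', Matrix.det_mul, Matrix.det_mul]
    have h5 : s'.det * s.det = 1 := by rw [← Matrix.det_mul, hs's, Matrix.det_one]
    linear_combination β.det * h5
  rcases hsim M c₂ hc₂ hMK with ⟨A', B', hAB⟩ | hdet
  · -- the proper case
    have hβ0 : β.det ≠ 0 := by
      have := Matrix.isUnits_det_units b
      exact this.ne_zero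
    have hdAB : A'.det ^ 2 * B'.det ^ 2 = β.det := by
      rw [← hdetM, hAB, Matrix.det_kronecker, Fintype.card_fin]
    have hA0 : A'.det ≠ 0 := by
      intro h0
      apply hβ0
      rw [← hdAB, h0]
      ring
    have hB0 : B'.det ≠ 0 := by
      intro h0
      apply hβ0
      rw [← hdAB, h0]
      ring
    let A'' : GL (Fin 2) F := Matrix.GeneralLinearGroup.mkOfDetNeZero A' hA0
    let B'' : GL (Fin 2) F := Matrix.GeneralLinearGroup.mkOfDetNeZero B' hB0
    let k' : GL (Fin 2 × Fin 6) F := kronGL A'' (glReindex δ.symm (kronGL a B''))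
    have hk'val : (k' : Matrix (Fin 2 × Fin 6) (Fin 2 × Fin 6) F) =
        A' ⊗ₖ ((a : Matrix (Fin 3) (Fin 3) F) ⊗ₖ B').submatrix δ δ := by
      show (kronGL A'' (glReindex δ.symm (kronGL a B'')) : Matrix (Fin 2 × Fin 6) (Fin 2 × Fin 6) F) = _
      rw [kronGL_val, coe_glReindex, kronGL_val]
      rfl
    set ρ := regroup ε δ with hρ
    set K₀ : GL (Fin 3 × Fin 4) F := kronGL (1 : GL (Fin 3) F) S with hK₀
    set Y' : GL (Fin 3 × Fin 4) F := glReindex ρ.symm k' with hY'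
    have hb'entry : ∀ m m', b' m m' = A' (ε m).1 (ε m').1 * B' (ε m).2 (ε m').2 := by
      intro m m'
      have h6 := congrFun (congrFun hAB (ε m)) (ε m')
      rw [hM, Matrix.submatrix_apply, Equiv.symm_apply_apply, Equiv.symm_apply_apply,
        Matrix.kroneckerMap_apply] at h6
      exact h6
    have hY'val : (Y' : Matrix (Fin 3 × Fin 4) (Fin 3 × Fin 4) F) =
        (a : Matrix (Fin 3) (Fin 3) F) ⊗ₖ b' := by
      rw [hY', coe_glReindex, hk'val]
      ext ⟨x, m⟩ ⟨x', m'⟩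
      simp only [Matrix.submatrix_apply, Equiv.symm_symm, hρ, regroup_apply, Matrix.kroneckerMap_apply,
        Equiv.apply_symm_apply, hb'entry]
      ring
    have hkK : k * K₀ = K₀ * Y' := by
      apply Units.ext
      rw [Units.val_mul, Units.val_mul, hk, hY'val, hK₀, kronGL_val, Units.val_one,
        ← Matrix.mul_kronecker_mul, ← Matrix.mul_kronecker_mul, Matrix.mul_one, Matrix.one_mul, hsb']
    have hkeq : k = K₀ * Y' * K₀⁻¹ := by
      rw [← hkK]
      group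
    rw [mem_tensorProductSubgroup]
    refine ⟨k', kronGL_mem _ _, ?_⟩
    rw [glReindex_trans, hgk, hkeq, map_mul, map_mul, map_inv]
    unfold newP
    rw [← hK₀, ← hY']
    group
  · -- the improper case: determinant `-1`
    exfalso
    have hdg : (g : Matrix (Fin 12) (Fin 12) F).det = 1 :=
      Cfsg.Agent.Lib.Helper08.OOddMax.det_eq_one_of_mem_omegaGL Q g hg2
    have hdk := det_tensor_conj e P g k hgk
    rw [hk, Matrix.det_kronecker, Fintype.card_fin, Fintype.card_fin, hdg] at hdk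
    have hda := det_sq_of_similarity_three (a : Matrix (Fin 3) (Fin 3) F) G₁ c₁ hd₁ h₁
    rw [hdetM] at hdet
    have h7 : (1 : F) = -1 := by
      calc (1 : F) = ((a : Matrix (Fin 3) (Fin 3) F).det ^ 2) ^ 2 * β.det ^ 3 := by
            rw [hdk]; ring
        _ = (c₁ ^ 3) ^ 2 * (- c₂ ^ 2) ^ 3 := by rw [hda, hdet]
        _ = - (c₁ * c₂) ^ 6 := by ring
        _ = -1 := by rw [h12]; ring
    apply h2
    linear_combination h7

end Cfsg.Agent.Lib.Helper09.O12
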