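import Cfsg.Agent.Lib.Helper09.O12X4S34d

/-!
# Keystone 587111 (K-O12-X4S34), part E: the core theorem (modulo the two sub-leaves 587121, 587122)
-/

set_option autoImplicit false

namespace Cfsg.Agent.Lib.Helper09.O12

open Cfsg Cfsg.Geo
open scoped Matrix Kronecker MatrixGroups
open Cfsg.Agent.Lib.Helper97.AschO (gForm gramMatrix_gForm)
open Cfsg.Agent.Lib.Helper91.SpAsch (isSymplecticForm_gForm)
open Cfsg.Agent.Lib.Helper50 (bilin_eq_gram)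

variable {F : Type*} [Field F] [Fintype F]

/-- `O₃ ⊗ O₄⁺ ∩ Ω ≤ Sp₂ ⊗ Sp₆`, given the classification of the similarities of `J ⊗ J` and the plus type of `f₂`. -/
theorem tensor_symm_three_four_le_sympl_core (hsim : HypSimJJ F) (Q : (Fin 12 → F) → F)
    (hQ : IsNondegenerateQuadraticForm Q) (h2 : (2 : F) ≠ 0) (e : Fin 12 ≃ Fin 3 × Fin 4) (P : GL (Fin 12) F)
    (f₁ : (Fin 3 → F) → (Fin 3 → F) → F) (f₂ : (Fin 4 → F) → (Fin 4 → F) → F)
    (hf₁ : IsSymmetricForm f₁) (hf₂ : IsSymmetricForm f₂)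
    (hplus₂ : IsPlusTypeOn (fun v : Fin 4 → F => f₂ v v) ⊤)
    (hT : IsTensorFormStructure id (QuadraticMap.polar Q) f₁ f₂ e P) :
    ∃ (e' : Fin 12 ≃ Fin 2 × Fin 6) (P' : GL (Fin 12) F)
      (a₁ : (Fin 2 → F) → (Fin 2 → F) → F) (a₂ : (Fin 6 → F) → (Fin 6 → F) → F),
      IsSymplecticForm a₁ ∧ IsSymplecticForm a₂ ∧
      IsTensorFormStructure id (QuadraticMap.polar Q) a₁ a₂ e' P' ∧
      (∀ (x₁ : Fin 2 → F) (x₂ : Fin 6 → F),
        Q ((P' : Matrix (Fin 12) (Fin 12) F) *ᵥ ((fun a : Fin 2 × Fin 6 => x₁ a.1 * x₂ a.2) ∘ e')) = 0) ∧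
      tensorProductSubgroup 3 4 e P ⊓ omegaGL Q ≤ tensorProductSubgroup 2 6 e' P' := by
  classical
  obtain ⟨c, hc, hform⟩ := hT
  obtain ⟨S, hS⟩ := exists_J_kron_J h2 f₂ hf₂ hplus₂
  let δ : Fin 6 ≃ Fin 3 × Fin 2 := (finProdFinEquiv : Fin 3 × Fin 2 ≃ Fin (3 * 2)).symm
  have hd₁ := det_gram_ne_zero' f₁ hf₁
  have hd₂ := det_gram_ne_zero' f₂ hf₂
  have hG₁t : (gramMatrix f₁)ᵀ = gramMatrix f₁ := by
    ext i j
    exact hf₁.symm _ _
  have ha₁ : IsSymplecticForm (gForm (J2 F)) := isSymplecticForm_gForm (J2 F) J2_transpose J2_isUnit h2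
  have ha₂ : IsSymplecticForm (gForm (gram6 (gramMatrix f₁) δ)) :=
    isSymplecticForm_gForm _ (gram6_transpose _ hG₁t δ) (gram6_isUnit _ hd₁ δ) h2
  have hT' : IsTensorFormStructure id (QuadraticMap.polar Q) (gForm (J2 F))
      (gForm (gram6 (gramMatrix f₁) δ)) (e.trans (regroup eps4 δ)) (newP e P S) :=
    ⟨c, hc, fun x y => by
      rw [gramMatrix_gForm, gramMatrix_gForm]
      exact form_regroup Q e P _ _ c hform eps4 δ S hS x y⟩
  refine ⟨e.trans (regroup eps4 δ), newP e P S, gForm (J2 F), gForm (gram6 (gramMatrix f₁) δ), ha₁, ha₂, hT',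
    ?_, sympl_containment hsim h2 Q e P _ _ hd₁ hd₂ c hc hform eps4 δ S hS⟩
  intro x₁ x₂
  obtain ⟨c', -, hpure⟩ := Cfsg.Agent.Lib.Helper50.form_pureT (QuadraticMap.polar Q) _ _ _ _ hT'
  have h3 := hpure x₁ x₁ x₂ x₂
  have h4 : x₁ ⬝ᵥ (gramMatrix (gForm (J2 F)) *ᵥ x₁) = 0 := by
    rw [← bilin_eq_gram _ ha₁.bilinear]
    exact ha₁.alternating x₁
  rw [h4, mul_zero, zero_mul] at h3
  set v : Fin 12 → F := ((newP e P S : GL (Fin 12) F) : Matrix (Fin 12) (Fin 12) F) *ᵥ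
    ((fun a : Fin 2 × Fin 6 => x₁ a.1 * x₂ a.2) ∘ (e.trans (regroup eps4 δ))) with hv
  have h5 : QuadraticMap.polar Q v v = 0 := h3
  have h6 : QuadraticMap.polar Q v v = 2 * Q v := by
    unfold QuadraticMap.polar
    rw [← two_smul F v, hQ.smul]
    ring
  rw [h6] at h5
  rcases mul_eq_zero.mp h5 with h7 | h7
  · exact absurd h7 h2
  · exact h7

end Cfsg.Agent.Lib.Helper09.O12
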