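import Cfsg.Agent.Lib.Helper21.OTsC1a
import Cfsg.Agent.Lib.Helper50.MinusLang
import Cfsg.Agent.Lib.Helper50.TypeCriteria
import Cfsg.Agent.Lib.Helper79.OTsO3
import Cfsg.Agent.Lib.Helper63.OTsO6

/-!
# K-OTs-C2 (keystone 597321, S5973/S5987 pack, architect helper99): the number of totally singular `m`-spaces of
the standard minus type space, all characteristics.  Instantiation of helper21's abstract count
`Helper21.OTs.card_ts_mul_q` with the minus half of leaf O3 (`Helper79.OTs.card_singular`) and leaf O6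
(`Helper63.OTs.plusOn_cancel`).
-/

set_option autoImplicit false
set_option linter.unusedSectionVars false
set_option linter.unusedVariables false

namespace Cfsg.Agent.Lib.Helper09.OTs

open Module Cfsg.Agent.Lib.Helper98.Elus Cfsg.Agent.Lib.Helper98.Sy Cfsg.Agent.Lib.Helper99.OTs
open scoped Matrix MatrixGroups

universe u
variable {F : Type u} [Field F]

theorem nonDeg_QMinus [Fintype F] (k : ℕ) (a b : F)
    (hab : ∀ x y : F, x ^ 2 + a * x * y + b * y ^ 2 = 0 → x = 0 ∧ y = 0) :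
    NonDeg (QuadraticMap.polarBilin (Cfsg.Agent.Lib.Helper50.QMinus k F a b)) ⊤ := by
  have h : (QuadraticMap.polarBilin (Cfsg.Agent.Lib.Helper50.QMinus k F a b)).Nondegenerate :=
    Cfsg.Agent.Lib.Helper50.QMinus_nondeg_of_anis k a b hab
  intro u _ hu
  exact h.1 u (fun w => hu w Submodule.mem_top)

theorem finrank_minus_space (k : ℕ) : finrank F ((Fin k ⊕ Fin k) ⊕ Fin 2 → F) = 2 * (k + 1) := by
  rw [Module.finrank_pi, Fintype.card_sum, Fintype.card_sum, Fintype.card_fin, Fintype.card_fin]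
  omega

theorem not_plusOn_QMinus [Fintype F] (k : ℕ) (a b : F)
    (hab : ∀ x y : F, x ^ 2 + a * x * y + b * y ^ 2 = 0 → x = 0 ∧ y = 0) :
    ¬ PlusOn (Cfsg.Agent.Lib.Helper50.QMinus k F a b) ⊤ := by
  rintro ⟨Z, -, hZts, hZd⟩
  rw [finrank_top, finrank_minus_space] at hZd
  have hQ : Cfsg.Agent.Lib.Helper50.QND (Cfsg.Agent.Lib.Helper50.QMinus k F a b) :=
    Cfsg.Agent.Lib.Helper50.QND_of_nondegenerate _
      (Cfsg.Agent.Lib.Helper50.QMinus_nondeg_of_anis k a b hab)
  have hp := Cfsg.Agent.Lib.Helper50.plusType_of_totally_singular (k + 1)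
    (Cfsg.Agent.Lib.Helper50.QMinus k F a b) hQ (finrank_minus_space k) Z (by omega) hZts
  exact Cfsg.Agent.Lib.Helper50.not_plus_of_anis a b (Cfsg.Agent.Lib.Helper50.QMinus k F a b) k
    (LinearEquiv.refl F _) (fun v => rfl) hab hp

/-- the count for the quadratic form `Helper50.QMinus k F a b` on a space of dimension `2 (k + 1)` -/
theorem card_ts_QMinus [Fintype F] (k m : ℕ) (hmk : m ≤ k + 1) (a b : F)
    (hab : ∀ x y : F, x ^ 2 + a * x * y + b * y ^ 2 = 0 → x = 0 ∧ y = 0) :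
    Nat.card {W : Submodule F ((Fin k ⊕ Fin k) ⊕ Fin 2 → F) // Module.finrank F ↥W = m ∧
        TS (Cfsg.Agent.Lib.Helper50.QMinus k F a b) W} *
      ∏ j ∈ Finset.range m, (Fintype.card F ^ (j + 1) - 1) =
    ∏ j ∈ Finset.range m,
      ((Fintype.card F ^ (k + 1 - j) + 1) * (Fintype.card F ^ (k + 1 - j - 1) - 1)) := by
  have hnp := not_plusOn_QMinus (F := F) k a b hab
  exact Cfsg.Agent.Lib.Helper21.OTs.card_ts_mul_q (Cfsg.Agent.Lib.Helper50.QMinus k F a b)
    (nonDeg_QMinus k a b hab) (k + 1) (finrank_minus_space k)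
    (fun e => (Fintype.card F ^ e + 1) * (Fintype.card F ^ (e - 1) - 1))
    (fun U hU e hUd htype =>
      (Cfsg.Agent.Lib.Helper79.OTs.card_singular (Cfsg.Agent.Lib.Helper50.QMinus k F a b) U hU e
        hUd).2 (fun h => hnp (htype.mp h)))
    (fun U0 U1 h0 h1 hort hsup hp1 hp =>
      Cfsg.Agent.Lib.Helper63.OTs.plusOn_cancel (Cfsg.Agent.Lib.Helper50.QMinus k F a b)
        (nonDeg_QMinus k a b hab) U0 U1 h0 h1 hort hsup hp1 hp) m hmk

/-- **C2 (597321)**: the number of totally singular `m`-spaces of the minus-type space -/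
theorem card_ts_minus [Fintype F] (d m : ℕ) (hd : 4 ≤ d) (hm : 1 ≤ m) (hmd : m + 1 ≤ d) (a b : F)
    (hab : ∀ x y : F, x ^ 2 + a * x * y + b * y ^ 2 = 0 → x = 0 ∧ y = 0) :
    Nat.card {W : Submodule F ((Fin (d - 1) ⊕ Fin (d - 1)) ⊕ Fin 2 → F) // Module.finrank F ↥W = m ∧
        Cfsg.Geo.IsTotallySingularQuad (Cfsg.quadFormMinus (d - 1) F a b) W} *
      ∏ j ∈ Finset.range m, (Fintype.card F ^ (j + 1) - 1) =
    ∏ j ∈ Finset.range m, ((Fintype.card F ^ (d - j) + 1) * (Fintype.card F ^ (d - j - 1) - 1)) := by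
  have h := card_ts_QMinus (F := F) (d - 1) m (by omega) a b hab
  have hd1 : d - 1 + 1 = d := by omega
  rw [hd1] at h
  exact h

end Cfsg.Agent.Lib.Helper09.OTs
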