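import Mathlib
import Cfsg.Agent.Lib.Helper49.RSU3Defs

set_option autoImplicit false

namespace Cfsg.Agent.Lib.Helper09.RSU3

open Matrix

theorem l19_T1 {F : Type*} [Field F] (μ : F) (h2 : (2 : F) = 0) (hr : μ ^ 6 + μ ^ 3 + 1 = 0) :
    (!![1, 1, μ + μ ^ 2 + μ ^ 3 + μ ^ 4; 0, 1, 1; 0, 0, 1] : Matrix (Fin 3) (Fin 3) F) * !![μ, 0, 0; 0, μ + μ ^ 4, 0; 0, 0, μ] =
      !![μ, μ + μ ^ 4, μ ^ 2 + μ ^ 3 + μ ^ 4 + μ ^ 5; 0, μ + μ ^ 4, μ; 0, 0, μ] := by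
  rw [Matrix.mul_fin_three]
  ext i j
  fin_cases i <;> fin_cases j <;> simp only [Matrix.of_apply, Matrix.cons_val, Fin.isValue, Fin.zero_eta, Fin.mk_one, Fin.reduceFinMk]
  · linear_combination (0 : F) * hr + (0 : F) * h2
  · linear_combination (0 : F) * hr + (0 : F) * h2
  · linear_combination (0 : F) * hr + (0 : F) * h2
  · linear_combination (0 : F) * hr + (0 : F) * h2
  · linear_combination (0 : F) * hr + (0 : F) * h2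
  · linear_combination (0 : F) * hr + (0 : F) * h2
  · linear_combination (0 : F) * hr + (0 : F) * h2
  · linear_combination (0 : F) * hr + (0 : F) * h2
  · linear_combination (0 : F) * hr + (0 : F) * h2

theorem l19_V {F : Type*} [Field F] (μ : F) (h2 : (2 : F) = 0) (hr : μ ^ 6 + μ ^ 3 + 1 = 0) :
    (!![μ, μ + μ ^ 4, μ ^ 2 + μ ^ 3 + μ ^ 4 + μ ^ 5; 0, μ + μ ^ 4, μ; 0, 0, μ] : Matrix (Fin 3) (Fin 3) F) * !![1, 0, 0; 0, 1, 0; 1 + μ + μ ^ 2 + μ ^ 5, 0, 1] =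
      !![1 + μ ^ 4, μ + μ ^ 4, μ ^ 2 + μ ^ 3 + μ ^ 4 + μ ^ 5; 1 + μ + μ ^ 2, μ + μ ^ 4, μ; 1 + μ + μ ^ 2, 0, μ] := by
  rw [Matrix.mul_fin_three]
  ext i j
  fin_cases i <;> fin_cases j <;> simp only [Matrix.of_apply, Matrix.cons_val, Fin.isValue, Fin.zero_eta, Fin.mk_one, Fin.reduceFinMk]
  · linear_combination ((1 : F) + μ + μ ^ 2 + μ ^ 3 + μ ^ 4) * hr + ((-1 : F) + μ ^ 5) * h2
  · linear_combination (0 : F) * hr + (0 : F) * h2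
  · linear_combination (0 : F) * hr + (0 : F) * h2
  · linear_combination ((1 : F)) * hr + ((-1 : F)) * h2
  · linear_combination (0 : F) * hr + (0 : F) * h2
  · linear_combination (0 : F) * hr + (0 : F) * h2
  · linear_combination ((1 : F)) * hr + ((-1 : F)) * h2
  · linear_combination (0 : F) * hr + (0 : F) * h2
  · linear_combination (0 : F) * hr + (0 : F) * h2

theorem l19_VVI {F : Type*} [Field F] (μ : F) (h2 : (2 : F) = 0) (hr : μ ^ 6 + μ ^ 3 + 1 = 0) :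
    (!![1 + μ ^ 4, μ + μ ^ 4, μ ^ 2 + μ ^ 3 + μ ^ 4 + μ ^ 5; 1 + μ + μ ^ 2, μ + μ ^ 4, μ; 1 + μ + μ ^ 2, 0, μ] : Matrix (Fin 3) (Fin 3) F) * !![μ ^ 2 + μ ^ 5, μ ^ 2 + μ ^ 5, 1 + μ + μ ^ 3 + μ ^ 5; 0, μ ^ 2, μ ^ 2; 1 + μ + μ ^ 2 + μ ^ 4 + μ ^ 5, 1 + μ + μ ^ 2 + μ ^ 4 + μ ^ 5, 1 + μ ^ 5] =
      !![1, 0, 0; 0, 1, 0; 0, 0, 1] := by
  rw [Matrix.mul_fin_three]
  ext i j
  fin_cases i <;> fin_cases j <;> simp only [Matrix.of_apply, Matrix.cons_val, Fin.isValue, Fin.zero_eta, Fin.mk_one, Fin.reduceFinMk]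
  · linear_combination ((1 : F) + (2 : F) * μ + (2 : F) * μ ^ 2 + (3 : F) * μ ^ 3 + μ ^ 4) * hr + ((-1 : F) + ((-1 : F) * μ) + ((-1 : F) * μ ^ 3) + μ ^ 5) * h2
  · linear_combination ((2 : F) + (2 : F) * μ + (2 : F) * μ ^ 2 + (3 : F) * μ ^ 3 + μ ^ 4) * hr + ((-1 : F) + ((-1 : F) * μ) + ((-1 : F) * μ ^ 3) + μ ^ 5) * h2
  · linear_combination ((-1 : F) + μ + μ ^ 2 + (2 : F) * μ ^ 3 + μ ^ 4) * hr + ((1 : F) + μ ^ 3 + μ ^ 5) * h2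
  · linear_combination ((2 : F) + μ) * hr + ((-1 : F) + μ ^ 2 + μ ^ 5) * h2
  · linear_combination ((3 : F) + μ) * hr + ((-2 : F) + μ ^ 2 + μ ^ 5) * h2
  · linear_combination ((3 : F) + μ) * hr + ((-1 : F) + μ + μ ^ 2 + μ ^ 5) * h2
  · linear_combination ((2 : F) + μ) * hr + ((-1 : F) + μ ^ 2 + μ ^ 5) * h2
  · linear_combination ((2 : F) + μ) * hr + ((-1 : F) + μ ^ 2 + μ ^ 5) * h2
  · linear_combination ((2 : F) + μ) * hr + ((-1 : F) + μ + μ ^ 2 + μ ^ 5) * h2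

theorem l19_T2 {F : Type*} [Field F] (μ : F) (h2 : (2 : F) = 0) (hr : μ ^ 6 + μ ^ 3 + 1 = 0) :
    (!![1, 1, μ + μ ^ 2 + μ ^ 3 + μ ^ 4; 0, 1, 1; 0, 0, 1] : Matrix (Fin 3) (Fin 3) F) * !![μ ^ 2 + μ ^ 5, μ ^ 2 + μ ^ 5, 1 + μ + μ ^ 3 + μ ^ 5; 0, μ ^ 2, μ ^ 2; 1 + μ + μ ^ 2 + μ ^ 4 + μ ^ 5, 1 + μ + μ ^ 2 + μ ^ 4 + μ ^ 5, 1 + μ ^ 5] =
      !![μ + μ ^ 2 + μ ^ 4, μ + μ ^ 4, 1 + μ + μ ^ 2 + μ ^ 3; 1 + μ + μ ^ 2 + μ ^ 4 + μ ^ 5, 1 + μ + μ ^ 4 + μ ^ 5, 1 + μ ^ 2 + μ ^ 5; 1 + μ + μ ^ 2 + μ ^ 4 + μ ^ 5, 1 + μ + μ ^ 2 + μ ^ 4 + μ ^ 5, 1 + μ ^ 5] := by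
  rw [Matrix.mul_fin_three]
  ext i j
  fin_cases i <;> fin_cases j <;> simp only [Matrix.of_apply, Matrix.cons_val, Fin.isValue, Fin.zero_eta, Fin.mk_one, Fin.reduceFinMk]
  · linear_combination ((2 : F) + (2 : F) * μ + (2 : F) * μ ^ 2 + μ ^ 3) * hr + ((-1 : F) + ((-1 : F) * μ) + μ ^ 5) * h2
  · linear_combination ((2 : F) + (2 : F) * μ + (2 : F) * μ ^ 2 + μ ^ 3) * hr + ((-1 : F) + ((-1 : F) * μ) + μ ^ 2 + μ ^ 5) * h2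
  · linear_combination (μ + μ ^ 2 + μ ^ 3) * hr + (0 : F) * h2
  · linear_combination (0 : F) * hr + (0 : F) * h2
  · linear_combination (0 : F) * hr + (μ ^ 2) * h2
  · linear_combination (0 : F) * hr + (0 : F) * h2
  · linear_combination (0 : F) * hr + (0 : F) * h2
  · linear_combination (0 : F) * hr + (0 : F) * h2
  · linear_combination (0 : F) * hr + (0 : F) * h2

theorem l19_T3 {F : Type*} [Field F] (μ : F) (h2 : (2 : F) = 0) (hr : μ ^ 6 + μ ^ 3 + 1 = 0) :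
    (!![μ + μ ^ 2 + μ ^ 4, μ + μ ^ 4, 1 + μ + μ ^ 2 + μ ^ 3; 1 + μ + μ ^ 2 + μ ^ 4 + μ ^ 5, 1 + μ + μ ^ 4 + μ ^ 5, 1 + μ ^ 2 + μ ^ 5; 1 + μ + μ ^ 2 + μ ^ 4 + μ ^ 5, 1 + μ + μ ^ 2 + μ ^ 4 + μ ^ 5, 1 + μ ^ 5] : Matrix (Fin 3) (Fin 3) F) * !![μ, 0, 0; 0, μ + μ ^ 4, 0; 0, 0, μ] =
      !![μ ^ 2 + μ ^ 3 + μ ^ 5, μ ^ 5, μ + μ ^ 2 + μ ^ 3 + μ ^ 4; 1 + μ + μ ^ 2 + μ ^ 5, μ + μ ^ 3 + μ ^ 4 + μ ^ 5, 1 + μ; 1 + μ + μ ^ 2 + μ ^ 5, 1 + μ + μ ^ 3 + μ ^ 4 + μ ^ 5, 1 + μ + μ ^ 3] := by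
  rw [Matrix.mul_fin_three]
  ext i j
  fin_cases i <;> fin_cases j <;> simp only [Matrix.of_apply, Matrix.cons_val, Fin.isValue, Fin.zero_eta, Fin.mk_one, Fin.reduceFinMk]
  · linear_combination (0 : F) * hr + (0 : F) * h2
  · linear_combination (μ ^ 2) * hr + (0 : F) * h2
  · linear_combination (0 : F) * hr + (0 : F) * h2
  · linear_combination ((1 : F)) * hr + ((-1 : F)) * h2
  · linear_combination (μ ^ 2 + μ ^ 3) * hr + (((-1 : F) * μ ^ 3)) * h2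
  · linear_combination ((1 : F)) * hr + ((-1 : F)) * h2
  · linear_combination ((1 : F)) * hr + ((-1 : F)) * h2
  · linear_combination ((1 : F) + μ ^ 2 + μ ^ 3) * hr + ((-1 : F) + ((-1 : F) * μ ^ 3)) * h2
  · linear_combination ((1 : F)) * hr + ((-1 : F) + ((-1 : F) * μ ^ 3)) * h2

theorem l19_A {F : Type*} [Field F] (μ : F) (h2 : (2 : F) = 0) (hr : μ ^ 6 + μ ^ 3 + 1 = 0) :
    (!![μ ^ 2 + μ ^ 3 + μ ^ 5, μ ^ 5, μ + μ ^ 2 + μ ^ 3 + μ ^ 4; 1 + μ + μ ^ 2 + μ ^ 5, μ + μ ^ 3 + μ ^ 4 + μ ^ 5, 1 + μ; 1 + μ + μ ^ 2 + μ ^ 5, 1 + μ + μ ^ 3 + μ ^ 4 + μ ^ 5, 1 + μ + μ ^ 3] : Matrix (Fin 3) (Fin 3) F) * !![1 + μ ^ 4, μ + μ ^ 4, μ ^ 2 + μ ^ 3 + μ ^ 4 + μ ^ 5; 1 + μ + μ ^ 2, μ + μ ^ 4, μ; 1 + μ + μ ^ 2, 0, μ] =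
      !![μ + μ ^ 2 + μ ^ 3 + μ ^ 4, 1 + μ, μ ^ 2 + μ ^ 4 + μ ^ 5; μ + μ ^ 5, 1 + μ ^ 2 + μ ^ 4, μ ^ 3 + μ ^ 5; 1 + μ ^ 2 + μ ^ 3 + μ ^ 4, 1 + μ + μ ^ 2, μ + μ ^ 3 + μ ^ 4 + μ ^ 5] := by
  rw [Matrix.mul_fin_three]
  ext i j
  fin_cases i <;> fin_cases j <;> simp only [Matrix.of_apply, Matrix.cons_val, Fin.isValue, Fin.zero_eta, Fin.mk_one, Fin.reduceFinMk]
  · linear_combination ((2 : F) + (2 : F) * μ + μ ^ 3) * hr + ((-1 : F) + ((-1 : F) * μ) + μ ^ 2 + (2 : F) * μ ^ 5) * h2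
  · linear_combination ((1 : F) + μ + (2 : F) * μ ^ 3) * hr + ((-1 : F) + ((-1 : F) * μ) + ((-1 : F) * μ ^ 3)) * h2
  · linear_combination ((2 : F) + (2 : F) * μ + (2 : F) * μ ^ 2 + μ ^ 3 + μ ^ 4) * hr + ((-1 : F) + ((-1 : F) * μ) + ((-1 : F) * μ ^ 2) + ((-1 : F) * μ ^ 3) + ((-1 : F) * μ ^ 4)) * h2
  · linear_combination ((2 : F) + μ + μ ^ 3) * hr + (μ + (2 : F) * μ ^ 2 + μ ^ 4 + (2 : F) * μ ^ 5) * h2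
  · linear_combination ((1 : F) + μ + μ ^ 2 + (2 : F) * μ ^ 3) * hr + ((-1 : F) + ((-1 : F) * μ ^ 3) + μ ^ 5) * h2
  · linear_combination ((2 : F) + μ + μ ^ 2 + μ ^ 3 + μ ^ 4) * hr + ((-1 : F) + μ ^ 2 + ((-1 : F) * μ ^ 3) + μ ^ 4 + μ ^ 5) * h2
  · linear_combination ((2 : F) + μ + μ ^ 3) * hr + ((2 : F) * μ + (2 : F) * μ ^ 2 + μ ^ 4 + (3 : F) * μ ^ 5) * h2
  · linear_combination ((1 : F) + μ + μ ^ 2 + (2 : F) * μ ^ 3) * hr + ((-1 : F) + ((-1 : F) * μ ^ 3) + μ ^ 4 + μ ^ 5) * h2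
  · linear_combination ((2 : F) + μ + μ ^ 2 + μ ^ 3 + μ ^ 4) * hr + ((-1 : F) + μ ^ 2 + ((-1 : F) * μ ^ 3) + μ ^ 4 + μ ^ 5) * h2

theorem l19_AAI {F : Type*} [Field F] (μ : F) (h2 : (2 : F) = 0) (hr : μ ^ 6 + μ ^ 3 + 1 = 0) :
    (!![μ + μ ^ 2 + μ ^ 3 + μ ^ 4, 1 + μ, μ ^ 2 + μ ^ 4 + μ ^ 5; μ + μ ^ 5, 1 + μ ^ 2 + μ ^ 4, μ ^ 3 + μ ^ 5; 1 + μ ^ 2 + μ ^ 3 + μ ^ 4, 1 + μ + μ ^ 2, μ + μ ^ 3 + μ ^ 4 + μ ^ 5] : Matrix (Fin 3) (Fin 3) F) * !![1 + μ ^ 2 + μ ^ 3 + μ ^ 4, 1 + μ ^ 3 + μ ^ 4, μ + μ ^ 5; 1 + μ + μ ^ 2 + μ ^ 4 + μ ^ 5, 1 + μ + μ ^ 4 + μ ^ 5, 1 + μ ^ 2 + μ ^ 5; μ + μ ^ 3 + μ ^ 4 + μ ^ 5, μ ^ 2 + μ ^ 4 + μ ^ 5, 1 + μ + μ ^ 2 + μ ^ 3 + μ ^ 4] =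
      !![1, 0, 0; 0, 1, 0; 0, 0, 1] := by
  rw [Matrix.mul_fin_three]
  ext i j
  fin_cases i <;> fin_cases j <;> simp only [Matrix.of_apply, Matrix.cons_val, Fin.isValue, Fin.zero_eta, Fin.mk_one, Fin.reduceFinMk]
  · linear_combination ((4 : F) + (3 : F) * μ + (3 : F) * μ ^ 2 + (2 : F) * μ ^ 3 + μ ^ 4) * hr + ((-2 : F) + ((-1 : F) * μ ^ 3) + (2 : F) * μ ^ 5) * h2
  · linear_combination ((3 : F) + (3 : F) * μ + (2 : F) * μ ^ 2 + (2 : F) * μ ^ 3 + μ ^ 4) * hr + ((-1 : F) + ((-2 : F) * μ ^ 3) + μ ^ 5) * h2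
  · linear_combination ((3 : F) + (3 : F) * μ + (3 : F) * μ ^ 2 + (2 : F) * μ ^ 3) * hr + ((-1 : F) + ((-1 : F) * μ) + ((-1 : F) * μ ^ 3) + μ ^ 5) * h2
  · linear_combination ((1 : F) + (2 : F) * μ + (4 : F) * μ ^ 2 + (3 : F) * μ ^ 3 + μ ^ 4) * hr + (((-1 : F) * μ ^ 2) + ((-1 : F) * μ ^ 3) + μ ^ 4) * h2
  · linear_combination ((-2 : F) + (2 : F) * μ + (3 : F) * μ ^ 2 + (3 : F) * μ ^ 3 + μ ^ 4) * hr + ((1 : F) + ((-1 : F) * μ ^ 2) + μ ^ 5) * h2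
  · linear_combination ((3 : F) + (2 : F) * μ + μ ^ 2 + (2 : F) * μ ^ 3 + μ ^ 4) * hr + ((-1 : F) + ((-1 : F) * μ) + μ ^ 2 + ((-2 : F) * μ ^ 3) + μ ^ 5) * h2
  · linear_combination ((6 : F) + (4 : F) * μ + (4 : F) * μ ^ 2 + (2 : F) * μ ^ 3 + μ ^ 4) * hr + ((-2 : F) + ((-1 : F) * μ) + μ ^ 2 + ((-2 : F) * μ ^ 3) + μ ^ 4 + μ ^ 5) * h2
  · linear_combination ((4 : F) + (4 : F) * μ + (3 : F) * μ ^ 2 + (2 : F) * μ ^ 3 + μ ^ 4) * hr + ((-1 : F) + ((-1 : F) * μ) + ((-1 : F) * μ ^ 3) + ((-1 : F) * μ ^ 4) + μ ^ 5) * h2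
  · linear_combination ((2 : F) + (5 : F) * μ + (3 : F) * μ ^ 2 + (2 : F) * μ ^ 3) * hr + ((-1 : F) + ((-1 : F) * μ) + (2 : F) * μ ^ 5) * h2

theorem l19_T4 {F : Type*} [Field F] (μ : F) (h2 : (2 : F) = 0) (hr : μ ^ 6 + μ ^ 3 + 1 = 0) :
    (!![μ ^ 2 + μ ^ 5, μ ^ 2 + μ ^ 5, 1 + μ + μ ^ 3 + μ ^ 5; 0, μ ^ 2, μ ^ 2; 1 + μ + μ ^ 2 + μ ^ 4 + μ ^ 5, 1 + μ + μ ^ 2 + μ ^ 4 + μ ^ 5, 1 + μ ^ 5] : Matrix (Fin 3) (Fin 3) F) * !![μ, 0, 0; 0, μ + μ ^ 4, 0; 0, 0, μ] =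
      !![1, 1 + μ ^ 3, 1 + μ + μ ^ 2 + μ ^ 3 + μ ^ 4; 0, 1, μ ^ 3; 1 + μ + μ ^ 2 + μ ^ 5, 1 + μ + μ ^ 3 + μ ^ 4 + μ ^ 5, 1 + μ + μ ^ 3] := by
  rw [Matrix.mul_fin_three]
  ext i j
  fin_cases i <;> fin_cases j <;> simp only [Matrix.of_apply, Matrix.cons_val, Fin.isValue, Fin.zero_eta, Fin.mk_one, Fin.reduceFinMk]
  · linear_combination ((1 : F)) * hr + ((-1 : F)) * h2
  · linear_combination ((1 : F) + μ ^ 3) * hr + ((-1 : F) + ((-1 : F) * μ ^ 3)) * h2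
  · linear_combination ((1 : F)) * hr + ((-1 : F) + ((-1 : F) * μ ^ 3)) * h2
  · linear_combination (0 : F) * hr + (0 : F) * h2
  · linear_combination ((1 : F)) * hr + ((-1 : F)) * h2
  · linear_combination (0 : F) * hr + (0 : F) * h2
  · linear_combination ((1 : F)) * hr + ((-1 : F)) * h2
  · linear_combination ((1 : F) + μ ^ 2 + μ ^ 3) * hr + ((-1 : F) + ((-1 : F) * μ ^ 3)) * h2
  · linear_combination ((1 : F)) * hr + ((-1 : F) + ((-1 : F) * μ ^ 3)) * h2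

theorem l19_T5 {F : Type*} [Field F] (μ : F) (h2 : (2 : F) = 0) (hr : μ ^ 6 + μ ^ 3 + 1 = 0) :
    (!![1, 1 + μ ^ 3, 1 + μ + μ ^ 2 + μ ^ 3 + μ ^ 4; 0, 1, μ ^ 3; 1 + μ + μ ^ 2 + μ ^ 5, 1 + μ + μ ^ 3 + μ ^ 4 + μ ^ 5, 1 + μ + μ ^ 3] : Matrix (Fin 3) (Fin 3) F) * !![μ ^ 2 + μ ^ 5, μ ^ 2 + μ ^ 5, 1 + μ + μ ^ 3 + μ ^ 5; 0, μ ^ 2, μ ^ 2; 1 + μ + μ ^ 2 + μ ^ 4 + μ ^ 5, 1 + μ + μ ^ 2 + μ ^ 4 + μ ^ 5, 1 + μ ^ 5] =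
      !![1 + μ ^ 5, 1 + μ ^ 2, μ + μ ^ 2 + μ ^ 3; μ + μ ^ 2 + μ ^ 3, μ + μ ^ 3, μ ^ 3 + μ ^ 5; 1 + μ ^ 3 + μ ^ 5, μ + μ ^ 2 + μ ^ 3 + μ ^ 4, μ ^ 2 + μ ^ 4 + μ ^ 5] := by
  rw [Matrix.mul_fin_three]
  ext i j
  fin_cases i <;> fin_cases j <;> simp only [Matrix.of_apply, Matrix.cons_val, Fin.isValue, Fin.zero_eta, Fin.mk_one, Fin.reduceFinMk]
  · linear_combination ((2 : F) + (2 : F) * μ + (2 : F) * μ ^ 2 + μ ^ 3) * hr + ((-1 : F) + μ ^ 2 + μ ^ 4 + μ ^ 5) * h2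
  · linear_combination ((2 : F) + (2 : F) * μ + (2 : F) * μ ^ 2 + μ ^ 3) * hr + ((-1 : F) + μ ^ 2 + μ ^ 4 + (2 : F) * μ ^ 5) * h2
  · linear_combination (μ + μ ^ 2 + μ ^ 3) * hr + ((1 : F) + μ ^ 5) * h2
  · linear_combination (μ + μ ^ 2) * hr + (((-1 : F) * μ) + ((-1 : F) * μ ^ 2)) * h2
  · linear_combination (μ + μ ^ 2) * hr + (((-1 : F) * μ)) * h2
  · linear_combination (μ ^ 2) * hr + (((-1 : F) * μ ^ 5)) * h2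
  · linear_combination ((2 : F) + (2 : F) * μ + μ ^ 2 + μ ^ 4) * hr + ((-1 : F) + μ ^ 2 + μ ^ 5) * h2
  · linear_combination ((3 : F) + (3 : F) * μ + μ ^ 2 + μ ^ 4) * hr + ((-1 : F) + ((-1 : F) * μ) + μ ^ 2 + ((-1 : F) * μ ^ 4) + (2 : F) * μ ^ 5) * h2
  · linear_combination ((4 : F) + μ + (2 : F) * μ ^ 2 + μ ^ 4) * hr + ((-1 : F) + μ + ((-1 : F) * μ ^ 4) + μ ^ 5) * h2

theorem l19_T6 {F : Type*} [Field F] (μ : F) (h2 : (2 : F) = 0) (hr : μ ^ 6 + μ ^ 3 + 1 = 0) :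
    (!![1 + μ ^ 5, 1 + μ ^ 2, μ + μ ^ 2 + μ ^ 3; μ + μ ^ 2 + μ ^ 3, μ + μ ^ 3, μ ^ 3 + μ ^ 5; 1 + μ ^ 3 + μ ^ 5, μ + μ ^ 2 + μ ^ 3 + μ ^ 4, μ ^ 2 + μ ^ 4 + μ ^ 5] : Matrix (Fin 3) (Fin 3) F) * !![μ, 0, 0; 0, μ + μ ^ 4, 0; 0, 0, μ] =
      !![1 + μ + μ ^ 3, 1 + μ + μ ^ 4, μ ^ 2 + μ ^ 3 + μ ^ 4; μ ^ 2 + μ ^ 3 + μ ^ 4, μ + μ ^ 2 + μ ^ 5, 1 + μ ^ 3 + μ ^ 4; 1 + μ + μ ^ 3 + μ ^ 4, 1 + μ + μ ^ 5, 1 + μ ^ 5] := by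
  rw [Matrix.mul_fin_three]
  ext i j
  fin_cases i <;> fin_cases j <;> simp only [Matrix.of_apply, Matrix.cons_val, Fin.isValue, Fin.zero_eta, Fin.mk_one, Fin.reduceFinMk]
  · linear_combination ((1 : F)) * hr + ((-1 : F) + ((-1 : F) * μ ^ 3)) * h2
  · linear_combination ((1 : F)) * hr + ((-1 : F)) * h2
  · linear_combination (0 : F) * hr + (0 : F) * h2
  · linear_combination (0 : F) * hr + (0 : F) * h2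
  · linear_combination (μ) * hr + (((-1 : F) * μ)) * h2
  · linear_combination ((1 : F)) * hr + ((-1 : F) + ((-1 : F) * μ ^ 3)) * h2
  · linear_combination ((1 : F)) * hr + ((-1 : F) + ((-1 : F) * μ ^ 3)) * h2
  · linear_combination ((1 : F) + μ + μ ^ 2) * hr + ((-1 : F) + ((-1 : F) * μ)) * h2
  · linear_combination ((1 : F)) * hr + ((-1 : F)) * h2

theorem l19_B {F : Type*} [Field F] (μ : F) (h2 : (2 : F) = 0) (hr : μ ^ 6 + μ ^ 3 + 1 = 0) :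
    (!![1 + μ + μ ^ 3, 1 + μ + μ ^ 4, μ ^ 2 + μ ^ 3 + μ ^ 4; μ ^ 2 + μ ^ 3 + μ ^ 4, μ + μ ^ 2 + μ ^ 5, 1 + μ ^ 3 + μ ^ 4; 1 + μ + μ ^ 3 + μ ^ 4, 1 + μ + μ ^ 5, 1 + μ ^ 5] : Matrix (Fin 3) (Fin 3) F) * !![1 + μ ^ 4, μ + μ ^ 4, μ ^ 2 + μ ^ 3 + μ ^ 4 + μ ^ 5; 1 + μ + μ ^ 2, μ + μ ^ 4, μ; 1 + μ + μ ^ 2, 0, μ] =
      !![μ ^ 2, μ + μ ^ 2, μ ^ 2 + μ ^ 3; μ ^ 2 + μ ^ 3, μ + μ ^ 3 + μ ^ 5, 1 + μ ^ 2 + μ ^ 3 + μ ^ 4 + μ ^ 5; 1 + μ + μ ^ 4, μ + μ ^ 2 + μ ^ 3, μ ^ 3 + μ ^ 5] := by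
  rw [Matrix.mul_fin_three]
  ext i j
  fin_cases i <;> fin_cases j <;> simp only [Matrix.of_apply, Matrix.cons_val, Fin.isValue, Fin.zero_eta, Fin.mk_one, Fin.reduceFinMk]
  · linear_combination ((2 : F) + μ) * hr + (μ + μ ^ 2 + μ ^ 3 + (2 : F) * μ ^ 4 + (2 : F) * μ ^ 5) * h2
  · linear_combination (μ + μ ^ 2) * hr + (μ ^ 4 + μ ^ 5) * h2
  · linear_combination ((2 : F) + μ + μ ^ 2) * hr + ((-1 : F) + μ ^ 4 + (2 : F) * μ ^ 5) * h2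
  · linear_combination ((3 : F) + (2 : F) * μ + μ ^ 2) * hr + ((-1 : F) + μ ^ 2 + μ ^ 4 + μ ^ 5) * h2
  · linear_combination ((2 : F) + μ + μ ^ 2 + μ ^ 3) * hr + ((-1 : F) + ((-1 : F) * μ) + ((-1 : F) * μ ^ 3)) * h2
  · linear_combination ((3 : F) + (3 : F) * μ + (2 : F) * μ ^ 2 + μ ^ 3) * hr + ((-2 : F) + ((-1 : F) * μ) + ((-1 : F) * μ ^ 2) + ((-2 : F) * μ ^ 3) + ((-1 : F) * μ ^ 4)) * h2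
  · linear_combination ((2 : F) + (3 : F) * μ + μ ^ 2) * hr + (μ ^ 2 + ((-1 : F) * μ ^ 4) + μ ^ 5) * h2
  · linear_combination (μ + μ ^ 2 + μ ^ 3) * hr + (((-1 : F) * μ ^ 3) + μ ^ 4 + μ ^ 5) * h2
  · linear_combination ((4 : F) + (2 : F) * μ + (2 : F) * μ ^ 2 + μ ^ 3) * hr + ((-2 : F) + ((-2 : F) * μ ^ 3)) * h2

theorem l19_W {F : Type*} [Field F] (μ : F) (h2 : (2 : F) = 0) (hr : μ ^ 6 + μ ^ 3 + 1 = 0) :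
    (!![1 + μ ^ 2 + μ ^ 3 + μ ^ 4, 1 + μ ^ 3 + μ ^ 4, μ + μ ^ 5; 1 + μ + μ ^ 2 + μ ^ 4 + μ ^ 5, 1 + μ + μ ^ 4 + μ ^ 5, 1 + μ ^ 2 + μ ^ 5; μ + μ ^ 3 + μ ^ 4 + μ ^ 5, μ ^ 2 + μ ^ 4 + μ ^ 5, 1 + μ + μ ^ 2 + μ ^ 3 + μ ^ 4] : Matrix (Fin 3) (Fin 3) F) * !![μ ^ 2, μ + μ ^ 2, μ ^ 2 + μ ^ 3; μ ^ 2 + μ ^ 3, μ + μ ^ 3 + μ ^ 5, 1 + μ ^ 2 + μ ^ 3 + μ ^ 4 + μ ^ 5; 1 + μ + μ ^ 4, μ + μ ^ 2 + μ ^ 3, μ ^ 3 + μ ^ 5] =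
      !![1 + μ ^ 2 + μ ^ 3, 0, 1 + μ ^ 2 + μ ^ 4 + μ ^ 5; 0, μ, 0; 0, 0, 1 + μ ^ 2 + μ ^ 4 + μ ^ 5] := by
  rw [Matrix.mul_fin_three]
  ext i j
  fin_cases i <;> fin_cases j <;> simp only [Matrix.of_apply, Matrix.cons_val, Fin.isValue, Fin.zero_eta, Fin.mk_one, Fin.reduceFinMk]
  · linear_combination ((3 : F) + μ + μ ^ 3) * hr + ((-2 : F) + μ ^ 2 + ((-2 : F) * μ ^ 3) + (2 : F) * μ ^ 5) * h2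
  · linear_combination ((2 : F) + (2 : F) * μ + (2 : F) * μ ^ 2 + μ ^ 3) * hr + ((-1 : F) + μ ^ 4 + μ ^ 5) * h2
  · linear_combination ((4 : F) + (2 : F) * μ + (3 : F) * μ ^ 2 + μ ^ 3 + μ ^ 4) * hr + ((-2 : F) + ((-1 : F) * μ) + ((-1 : F) * μ ^ 2) + ((-1 : F) * μ ^ 3)) * h2
  · linear_combination ((3 : F) + (3 : F) * μ + μ ^ 2 + μ ^ 3) * hr + ((-1 : F) + ((-1 : F) * μ) + μ ^ 2) * h2
  · linear_combination ((4 : F) + (2 : F) * μ + (2 : F) * μ ^ 2 + μ ^ 3 + μ ^ 4) * hr + ((-2 : F) + μ ^ 2 + μ ^ 5) * h2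
  · linear_combination ((1 : F) + (3 : F) * μ + (4 : F) * μ ^ 2 + (2 : F) * μ ^ 3 + (2 : F) * μ ^ 4) * hr + (((-1 : F) * μ) + ((-1 : F) * μ ^ 2) + μ ^ 3 + μ ^ 5) * h2
  · linear_combination ((3 : F) + (4 : F) * μ + (2 : F) * μ ^ 2) * hr + ((-1 : F) + ((-1 : F) * μ) + μ ^ 5) * h2
  · linear_combination ((4 : F) + (3 : F) * μ + μ ^ 2 + μ ^ 3 + μ ^ 4) * hr + ((-2 : F) + ((-1 : F) * μ) + μ ^ 2 + (3 : F) * μ ^ 5) * h2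
  · linear_combination ((3 : F) + (6 : F) * μ + (4 : F) * μ ^ 2 + (3 : F) * μ ^ 3 + μ ^ 4) * hr + ((-2 : F) + ((-3 : F) * μ) + ((-2 : F) * μ ^ 2) + ((-2 : F) * μ ^ 3) + ((-2 : F) * μ ^ 4)) * h2

end Cfsg.Agent.Lib.Helper09.RSU3
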