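import Mathlib
import Cfsg.Agent.Lib.Helper49.RSU3Defs
import Cfsg.Agent.Lib.Helper09.RSU3L19a

set_option autoImplicit false
set_option linter.unusedSectionVars false
set_option linter.unusedVariables false

/-! Leaf L19 of the pack K-RSU3 (S2283, architect helper49): the explicit word for `q = 8`. -/

namespace Cfsg.Agent.Lib.Helper09.RSU3

open Matrix Cfsg.Agent.Lib.Helper49.StSU Cfsg.Agent.Lib.Helper49.RSU3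

variable {F : Type*} [Field F] [Fintype F] {q : ℕ}

theorem l19_inv_eq (g : GJ 3 F q) (B : Matrix (Fin 3) (Fin 3) F) (h : mat g * B = 1) : mat g⁻¹ = B := by
  rw [mat_inv]
  exact Matrix.inv_eq_right_inv h

/-- L19 -/
theorem word_eight (hq8 : q = 8) (hF : Fintype.card F = q ^ 2) (μ : F) (hμ : orderOf μ = q + 1)
    (u hh zz : GJ 3 F q) (hu : mat u = xM q 1 (bet μ)) (hhm : mat hh = hM q μ)
    (hz : mat zz = yM q 0 (bz μ))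
    (hhH : hh ∈ Subgroup.closure ({u, u * hh * zz} : Set (GJ 3 F q))) :
    ∃ W : GJ 3 F q, W ∈ Subgroup.closure ({u, u * hh * zz} : Set (GJ 3 F q)) ∧
      mat W 1 0 = 0 ∧ mat W 2 0 = 0 ∧ mat W 2 1 = 0 ∧
      (mat W 0 0 / mat W 1 1) ^ 4 ≠ mat W 0 0 / mat W 1 1 := by
  subst hq8
  have h64 : ((64 : ℕ) : F) = 0 := by
    have := Nat.cast_card_eq_zero F
    rw [hF] at this
    exact this
  have h2 : (2 : F) = 0 := by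
    have h6 : (2 : F) ^ 6 = 0 := by
      have : ((64 : ℕ) : F) = (2 : F) ^ 6 := by norm_num
      rw [← this]; exact h64
    exact pow_eq_zero_iff (by norm_num) |>.1 h6
  have h9 : μ ^ 9 = 1 := by
    have := pow_orderOf_eq_one μ
    rw [hμ] at this
    exact this
  have hμ3 : μ ^ 3 ≠ 1 := by
    intro h
    have := orderOf_dvd_of_pow_eq_one h
    rw [hμ] at this
    omega
  have hr : μ ^ 6 + μ ^ 3 + 1 = 0 := by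
    have : (μ ^ 3 - 1) * (μ ^ 6 + μ ^ 3 + 1) = 0 := by linear_combination h9
    rcases mul_eq_zero.1 this with h | h
    · exact absurd (sub_eq_zero.1 h) hμ3
    · exact h
  have hμ0 : μ ≠ 0 := by
    rintro rfl
    simp at h9
  have hμ1 : μ ≠ 1 := by
    rintro rfl
    simp at hμ3
  -- the three matrices
  have hb : bet μ = μ + μ ^ 2 + μ ^ 3 + μ ^ 4 := by
    unfold bet
    have hm1 : μ - 1 ≠ 0 := sub_ne_zero.2 hμ1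
    have hp1 : μ + 1 ≠ 0 := by
      intro h
      apply hm1
      linear_combination h - h2
    have hden : (μ - 1) * (μ + 1) ^ 3 ≠ 0 := mul_ne_zero hm1 (pow_ne_zero _ hp1)
    rw [div_eq_iff hden]
    linear_combination ((-3 : F) + ((-3 : F) * μ) + ((-1 : F) * μ ^ 2)) * hr + ((2 : F) + (3 : F) * μ + (2 : F) * μ ^ 2 + (3 : F) * μ ^ 3 + (2 : F) * μ ^ 4) * h2
  have hneg : -((1 : F) ^ 8) = 1 := by linear_combination (-1 : F) * h2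
  have hU : mat u = !![1, 1, μ + μ ^ 2 + μ ^ 3 + μ ^ 4; 0, 1, 1; 0, 0, 1] := by
    rw [hu]
    unfold xM
    rw [hb, hneg]
  have e1 : μ ^ 8 / μ = μ + μ ^ 4 := by
    rw [div_eq_iff hμ0]
    linear_combination (μ ^ 2) * hr + (((-1 : F) * μ ^ 2) + ((-1 : F) * μ ^ 5)) * h2
  have e2 : 1 / μ ^ 8 = μ := by
    rw [div_eq_iff (pow_ne_zero 8 hμ0)]
    linear_combination (-1 : F) * h9
  have hH : mat hh = !![μ, 0, 0; 0, μ + μ ^ 4, 0; 0, 0, μ] := by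
    rw [hhm]
    unfold hM
    rw [e1, e2]
  have hinv : μ⁻¹ = μ ^ 8 := (eq_inv_of_mul_eq_one_left (by linear_combination h9 : μ ^ 8 * μ = 1)).symm
  have hbz : bz μ = 1 + μ + μ ^ 2 + μ ^ 5 := by
    unfold bz
    rw [hinv]
    linear_combination ((1 : F) + ((-3 : F) * μ) + ((-3 : F) * μ ^ 2) + (3 : F) * μ ^ 4 + ((-1 : F) * μ ^ 6) + (3 : F) * μ ^ 8 + μ ^ 9 + ((-3 : F) * μ ^ 11) + ((-1 : F) * μ ^ 15) + μ ^ 18) * hr + ((-1 : F) + μ + μ ^ 2 + ((-1 : F) * μ ^ 3) + μ ^ 5) * h2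
  have hz0 : -((0 : F) ^ 8) = 0 := by norm_num
  have hZ : mat zz = !![1, 0, 0; 0, 1, 0; 1 + μ + μ ^ 2 + μ ^ 5, 0, 1] := by
    rw [hz]
    unfold yM
    rw [hbz, hz0]
  -- the word
  set S : Set (GJ 3 F 8) := {u, u * hh * zz} with hS
  have huS : u ∈ Subgroup.closure S := Subgroup.subset_closure (by simp [hS])
  have hvS : u * hh * zz ∈ Subgroup.closure S := Subgroup.subset_closure (by simp [hS])
  set v : GJ 3 F 8 := u * hh * zz with hv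
  have hV : mat v = !![1 + μ ^ 4, μ + μ ^ 4, μ ^ 2 + μ ^ 3 + μ ^ 4 + μ ^ 5; 1 + μ + μ ^ 2, μ + μ ^ 4, μ; 1 + μ + μ ^ 2, 0, μ] := by
    rw [hv, mat_mul, mat_mul, hU, hH, hZ, l19_T1 μ h2 hr, l19_V μ h2 hr]
  have hVI : mat v⁻¹ = !![μ ^ 2 + μ ^ 5, μ ^ 2 + μ ^ 5, 1 + μ + μ ^ 3 + μ ^ 5; 0, μ ^ 2, μ ^ 2; 1 + μ + μ ^ 2 + μ ^ 4 + μ ^ 5, 1 + μ + μ ^ 2 + μ ^ 4 + μ ^ 5, 1 + μ ^ 5] := by
    apply l19_inv_eq
    rw [hV, l19_VVI μ h2 hr, Matrix.one_fin_three]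
  set a : GJ 3 F 8 := u * v⁻¹ * hh * v with ha
  have hA : mat a = !![μ + μ ^ 2 + μ ^ 3 + μ ^ 4, 1 + μ, μ ^ 2 + μ ^ 4 + μ ^ 5; μ + μ ^ 5, 1 + μ ^ 2 + μ ^ 4, μ ^ 3 + μ ^ 5; 1 + μ ^ 2 + μ ^ 3 + μ ^ 4, 1 + μ + μ ^ 2, μ + μ ^ 3 + μ ^ 4 + μ ^ 5] := by
    rw [ha, mat_mul, mat_mul, mat_mul, hU, hVI, hH, hV, l19_T2 μ h2 hr, l19_T3 μ h2 hr, l19_A μ h2 hr]
  have hAI : mat a⁻¹ = !![1 + μ ^ 2 + μ ^ 3 + μ ^ 4, 1 + μ ^ 3 + μ ^ 4, μ + μ ^ 5; 1 + μ + μ ^ 2 + μ ^ 4 + μ ^ 5, 1 + μ + μ ^ 4 + μ ^ 5, 1 + μ ^ 2 + μ ^ 5; μ + μ ^ 3 + μ ^ 4 + μ ^ 5, μ ^ 2 + μ ^ 4 + μ ^ 5, 1 + μ + μ ^ 2 + μ ^ 3 + μ ^ 4] := by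
    apply l19_inv_eq
    rw [hA, l19_AAI μ h2 hr, Matrix.one_fin_three]
  set b : GJ 3 F 8 := v⁻¹ * hh * v⁻¹ * hh * v with hb'
  have hB : mat b = !![μ ^ 2, μ + μ ^ 2, μ ^ 2 + μ ^ 3; μ ^ 2 + μ ^ 3, μ + μ ^ 3 + μ ^ 5, 1 + μ ^ 2 + μ ^ 3 + μ ^ 4 + μ ^ 5; 1 + μ + μ ^ 4, μ + μ ^ 2 + μ ^ 3, μ ^ 3 + μ ^ 5] := by
    rw [hb', mat_mul, mat_mul, mat_mul, mat_mul, hVI, hH, hV, l19_T4 μ h2 hr, l19_T5 μ h2 hr,
      l19_T6 μ h2 hr, l19_B μ h2 hr]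
  have hW : mat (a⁻¹ * b) = !![1 + μ ^ 2 + μ ^ 3, 0, 1 + μ ^ 2 + μ ^ 4 + μ ^ 5; 0, μ, 0; 0, 0, 1 + μ ^ 2 + μ ^ 4 + μ ^ 5] := by
    rw [mat_mul, hAI, hB, l19_W μ h2 hr]
  have haS : a ∈ Subgroup.closure S :=
    Subgroup.mul_mem _ (Subgroup.mul_mem _ (Subgroup.mul_mem _ huS (Subgroup.inv_mem _ hvS)) hhH) hvS
  have hbS : b ∈ Subgroup.closure S :=
    Subgroup.mul_mem _ (Subgroup.mul_mem _ (Subgroup.mul_mem _ (Subgroup.mul_mem _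
      (Subgroup.inv_mem _ hvS) hhH) (Subgroup.inv_mem _ hvS)) hhH) hvS
  refine ⟨a⁻¹ * b, Subgroup.mul_mem _ (Subgroup.inv_mem _ haS) hbS, ?_, ?_, ?_, ?_⟩
  · rw [hW]; rfl
  · rw [hW]; rfl
  · rw [hW]; rfl
  · have h00 : mat (a⁻¹ * b) 0 0 = 1 + μ ^ 2 + μ ^ 3 := by rw [hW]; rfl
    have h11 : mat (a⁻¹ * b) 1 1 = μ := by rw [hW]; rfl
    have hc : (1 + μ ^ 2 + μ ^ 3) / μ = μ + μ ^ 5 := by
      rw [div_eq_iff hμ0]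
      linear_combination ((-1 : F)) * hr + ((1 : F) + μ ^ 3) * h2
    rw [h00, h11, hc]
    intro h
    have ht : μ + μ ^ 2 + μ ^ 4 + μ ^ 5 = 0 := by
      linear_combination h - ((4 : F) * μ + (3 : F) * μ ^ 2 + ((-6 : F) * μ ^ 3) + μ ^ 5 + (6 : F) * μ ^ 6 + ((-4 : F) * μ ^ 7) + (4 : F) * μ ^ 10 + ((-1 : F) * μ ^ 11) + μ ^ 14) * hr - (((-3 : F) * μ) + ((-2 : F) * μ ^ 2) + (3 : F) * μ ^ 3 + ((-2 : F) * μ ^ 4) + ((-3 : F) * μ ^ 5)) * h2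
    have h10 : (1 : F) = 0 := by
      linear_combination ((1 : F) + μ + μ ^ 3 + μ ^ 4 + μ ^ 5) * ht + ((1 : F) + μ + μ ^ 4) * hr - (μ + μ ^ 2 + μ ^ 3 + (2 : F) * μ ^ 4 + (2 : F) * μ ^ 5 + (2 : F) * μ ^ 6 + (2 : F) * μ ^ 7 + μ ^ 8 + μ ^ 9 + μ ^ 10) * h2
    exact one_ne_zero h10

end Cfsg.Agent.Lib.Helper09.RSU3
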