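import Mathlib

/-!
# K-SN (S4073): a non-abelian, non-self-normalizing subgroup of the Borel subgroup of `SL₂(F)`
when `|F| - 1` is an odd composite number.
-/

set_option autoImplicit false

namespace Cfsg.Agent.Lib.Helper09.SN

open Matrix

variable {F : Type*} [Field F]

/-- upper triangular matrices of `SL₂(F)` whose `(0,0)` entry is an `m`-th root of unity -/
def borelSub (m : ℕ) : Subgroup (SpecialLinearGroup (Fin 2) F) where
  carrier := {g | (g : Matrix (Fin 2) (Fin 2) F) 1 0 = 0 ∧ ((g : Matrix (Fin 2) (Fin 2) F) 0 0) ^ m = 1}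
  mul_mem' := by
    rintro g h ⟨hg1, hg2⟩ ⟨hh1, hh2⟩
    refine ⟨?_, ?_⟩
    · simp [SpecialLinearGroup.coe_mul, Matrix.mul_apply, Fin.sum_univ_two, hg1, hh1]
    · have : ((g * h : SpecialLinearGroup (Fin 2) F) : Matrix (Fin 2) (Fin 2) F) 0 0 = (g : Matrix (Fin 2) (Fin 2) F) 0 0 * (h : Matrix (Fin 2) (Fin 2) F) 0 0 := by
        simp [SpecialLinearGroup.coe_mul, Matrix.mul_apply, Fin.sum_univ_two, hh1]
      rw [this, mul_pow, hg2, hh2, one_mul]
  one_mem' := by
    refine ⟨?_, ?_⟩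
    · simp
    · simp
  inv_mem' := by
    rintro g ⟨hg1, hg2⟩
    have hdet : (g : Matrix (Fin 2) (Fin 2) F) 0 0 * (g : Matrix (Fin 2) (Fin 2) F) 1 1 = 1 := by
      have := g.det_coe
      rw [Matrix.det_fin_two, hg1, mul_zero, sub_zero] at this
      exact this
    refine ⟨?_, ?_⟩
    · simp [SpecialLinearGroup.coe_inv, Matrix.adjugate_fin_two, hg1]
    · have : ((g⁻¹ : SpecialLinearGroup (Fin 2) F) : Matrix (Fin 2) (Fin 2) F) 0 0 = (g : Matrix (Fin 2) (Fin 2) F) 1 1 := by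
        simp [SpecialLinearGroup.coe_inv, Matrix.adjugate_fin_two]
      rw [this]
      have h2 : ((g : Matrix (Fin 2) (Fin 2) F) 0 0 * (g : Matrix (Fin 2) (Fin 2) F) 1 1) ^ m = 1 := by rw [hdet, one_pow]
      rw [mul_pow, hg2, one_mul] at h2
      exact h2

theorem mem_borelSub {m : ℕ} {g : SpecialLinearGroup (Fin 2) F} :
    g ∈ borelSub (F := F) m ↔ (g : Matrix (Fin 2) (Fin 2) F) 1 0 = 0 ∧ ((g : Matrix (Fin 2) (Fin 2) F) 0 0) ^ m = 1 := Iff.rfl

/-- the diagonal matrix `diag(u, u⁻¹)` -/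
def dg (u : Fˣ) : SpecialLinearGroup (Fin 2) F :=
  ⟨!![(u : F), 0; 0, ((u⁻¹ : Fˣ) : F)], by simp [Matrix.det_fin_two]⟩

/-- the transvection `[[1,1],[0,1]]` -/
def tv : SpecialLinearGroup (Fin 2) F :=
  ⟨!![1, 1; 0, 1], by simp [Matrix.det_fin_two]⟩

theorem dg_coe (u : Fˣ) : ((dg u : SpecialLinearGroup (Fin 2) F) : Matrix (Fin 2) (Fin 2) F) =
    !![(u : F), 0; 0, ((u⁻¹ : Fˣ) : F)] := rfl

theorem tv_coe : ((tv : SpecialLinearGroup (Fin 2) F) : Matrix (Fin 2) (Fin 2) F) = !![1, 1; 0, 1] := rfl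

theorem dg_inv (u : Fˣ) : (dg u : SpecialLinearGroup (Fin 2) F)⁻¹ = dg u⁻¹ := by
  apply inv_eq_of_mul_eq_one_right
  ext i j
  fin_cases i <;> fin_cases j <;> simp [SpecialLinearGroup.coe_mul, dg_coe, Matrix.mul_apply, Fin.sum_univ_two]

theorem dg_mem_normalizer (m : ℕ) (u : Fˣ) :
    dg u ∈ Subgroup.normalizer ((borelSub (F := F) m : Subgroup _) : Set (SpecialLinearGroup (Fin 2) F)) := by
  rw [Subgroup.mem_normalizer_iff]
  intro h
  have e1 : ((dg u * h * (dg u)⁻¹ : SpecialLinearGroup (Fin 2) F) : Matrix (Fin 2) (Fin 2) F) 1 0 = ((u⁻¹ : Fˣ) : F) * (h : Matrix (Fin 2) (Fin 2) F) 1 0 * ((u⁻¹ : Fˣ) : F) := by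
    rw [dg_inv]
    simp [SpecialLinearGroup.coe_mul, dg_coe, Matrix.mul_apply, Fin.sum_univ_two, Matrix.vecMul, dotProduct]
  have e2 : ((dg u * h * (dg u)⁻¹ : SpecialLinearGroup (Fin 2) F) : Matrix (Fin 2) (Fin 2) F) 0 0 = (u : F) * (h : Matrix (Fin 2) (Fin 2) F) 0 0 * ((u⁻¹ : Fˣ) : F) := by
    rw [dg_inv]
    simp [SpecialLinearGroup.coe_mul, dg_coe, Matrix.mul_apply, Fin.sum_univ_two, Matrix.vecMul, dotProduct]
  have hu : ((u⁻¹ : Fˣ) : F) ≠ 0 := Units.ne_zero _
  have e3 : (u : F) * (h : Matrix (Fin 2) (Fin 2) F) 0 0 * ((u⁻¹ : Fˣ) : F) = (h : Matrix (Fin 2) (Fin 2) F) 0 0 := by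
    rw [mul_comm (u : F), mul_assoc, Units.mul_inv, mul_one]
  rw [mem_borelSub, mem_borelSub, e1, e2, e3]
  constructor
  · rintro ⟨h1, h2⟩
    exact ⟨by rw [h1]; simp, h2⟩
  · rintro ⟨h1, h2⟩
    refine ⟨?_, h2⟩
    rcases mul_eq_zero.1 h1 with h | h
    · rcases mul_eq_zero.1 h with h | h
      · exact absurd h hu
      · exact h
    · exact absurd h hu

theorem exists_not_selfnormalizing [Fintype F] (N m k : ℕ) (hcard : Fintype.card F = N + 1)
    (hN : N = m * k) (hm1 : 1 < m) (hk1 : 1 < k) (hodd : Odd N) :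
    ∃ H : Subgroup (SpecialLinearGroup (Fin 2) F), ¬ IsMulCommutative H ∧
      Subgroup.normalizer (H : Set (SpecialLinearGroup (Fin 2) F)) ≠ H := by
  classical
  obtain ⟨g, hg⟩ := IsCyclic.exists_generator (α := Fˣ)
  have hord : orderOf g = N := by
    rw [orderOf_eq_card_of_forall_mem_zpowers hg, Nat.card_eq_fintype_card, Fintype.card_units, hcard]
    rfl
  have hNpos : 0 < N := by rw [hN]; positivity
  refine ⟨borelSub m, ?_, ?_⟩
  · intro hcomm
    have hx : dg (g ^ k) ∈ borelSub (F := F) m := by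
      rw [mem_borelSub]
      refine ⟨by simp [dg_coe], ?_⟩
      have : ((dg (g ^ k) : SpecialLinearGroup (Fin 2) F) : Matrix (Fin 2) (Fin 2) F) 0 0 = ((g ^ k : Fˣ) : F) := by simp [dg_coe]
      rw [this, ← Units.val_pow_eq_pow_val, ← pow_mul, mul_comm, ← hN, ← hord, pow_orderOf_eq_one]
      rfl
    have hy : (tv : SpecialLinearGroup (Fin 2) F) ∈ borelSub (F := F) m := by
      rw [mem_borelSub]
      refine ⟨by simp [tv_coe], by simp [tv_coe]⟩
    have hc := hcomm.is_comm.comm (⟨dg (g ^ k), hx⟩ : borelSub (F := F) m) ⟨tv, hy⟩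
    have hc' : dg (g ^ k) * tv = tv * dg (g ^ k) := congrArg Subtype.val hc
    have h01 := congrArg (fun A : SpecialLinearGroup (Fin 2) F => (A : Matrix (Fin 2) (Fin 2) F) 0 1) hc'
    simp [SpecialLinearGroup.coe_mul, dg_coe, tv_coe, Matrix.mul_apply, Fin.sum_univ_two] at h01
    -- h01 : g^k = (g^k)⁻¹ in F
    have h2 : (g ^ k) * (g ^ k) = 1 := by
      apply Units.ext
      rw [Units.val_mul, Units.val_one]
      have hne : ((g ^ k : Fˣ) : F) ≠ 0 := Units.ne_zero _
      have h01' : ((g ^ k : Fˣ) : F) = ((g ^ k : Fˣ) : F)⁻¹ := by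
        simpa using h01
      calc ((g ^ k : Fˣ) : F) * ((g ^ k : Fˣ) : F)
          = ((g ^ k : Fˣ) : F) * ((g ^ k : Fˣ) : F)⁻¹ := by rw [← h01']
        _ = 1 := mul_inv_cancel₀ hne
    rw [← pow_add] at h2
    have hdvd : N ∣ k + k := by
      rw [← hord]; exact orderOf_dvd_of_pow_eq_one h2
    rw [hN] at hdvd
    have hk0 : 0 < k := by omega
    have hm2 : m ∣ 2 := by
      have : m * k ∣ 2 * k := by rw [two_mul]; exact hdvd
      exact Nat.dvd_of_mul_dvd_mul_right hk0 this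
    have hm2' : m = 2 := by
      have := Nat.le_of_dvd (by norm_num) hm2
      omega
    rw [hN, hm2'] at hodd
    exact (Nat.not_even_iff_odd.2 hodd) (even_two_mul k)
  · intro heq
    have hn : dg g ∈ borelSub (F := F) m := by
      rw [← heq]
      exact dg_mem_normalizer m g
    rw [mem_borelSub] at hn
    have h1 : ((g : Fˣ) : F) ^ m = 1 := by
      have : ((dg g : SpecialLinearGroup (Fin 2) F) : Matrix (Fin 2) (Fin 2) F) 0 0 = ((g : Fˣ) : F) := by simp [dg_coe]
      rw [← this]; exact hn.2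
    have h2 : g ^ m = 1 := by
      apply Units.ext
      rw [Units.val_pow_eq_pow_val, h1]; rfl
    have hdvd : N ∣ m := by rw [← hord]; exact orderOf_dvd_of_pow_eq_one h2
    have := Nat.le_of_dvd (by omega) hdvd
    rw [hN] at this
    nlinarith

/-- the self-normalizing property of non-abelian subgroups is invariant under isomorphism -/
theorem sn_of_mulEquiv {G G' : Type*} [Group G] [Group G'] (e : G ≃* G')
    (h : ∀ H' : Subgroup G', ¬ IsMulCommutative H' → Subgroup.normalizer (H' : Set G') = H') :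
    ∀ H : Subgroup G, ¬ IsMulCommutative H → Subgroup.normalizer (H : Set G) = H := by
  intro H hH
  have h1 : ¬ IsMulCommutative (H.map e.toMonoidHom) := by
    intro hc
    apply hH
    refine ⟨⟨fun a b => ?_⟩⟩
    have := hc.is_comm.comm (⟨e a, Subgroup.mem_map_of_mem _ a.2⟩ : H.map e.toMonoidHom)
      ⟨e b, Subgroup.mem_map_of_mem _ b.2⟩
    have h' : e (a * b : G) = e (b * a : G) := by
      have h3 := congrArg Subtype.val this
      rw [Subgroup.coe_mul, Subgroup.coe_mul] at h3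
      rw [map_mul, map_mul]
      exact h3
    exact Subtype.ext (e.injective h')
  have h2 := h _ h1
  rw [← Subgroup.map_equiv_normalizer_eq] at h2
  exact Subgroup.map_injective e.injective h2

theorem two_eq_zero_of_card {F : Type*} [Field F] [Fintype F] (f : ℕ) (hF : Fintype.card F = 2 ^ f) :
    (2 : F) = 0 := by
  have h := Nat.cast_card_eq_zero F
  rw [hF] at h
  push_cast at h
  exact pow_eq_zero_iff (n := f) (by
    rintro rfl
    have : 1 < Fintype.card F := Fintype.one_lt_card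
    rw [hF] at this
    simp at this) |>.1 h

theorem center_sl2_eq_bot {F : Type*} [Field F] (h2 : (2 : F) = 0) :
    Subgroup.center (SpecialLinearGroup (Fin 2) F) = ⊥ := by
  rw [Subgroup.eq_bot_iff_forall]
  intro A hA
  obtain ⟨r, hr, hrA⟩ := Matrix.SpecialLinearGroup.mem_center_iff.1 hA
  have hr1 : r = 1 := by
    rw [Fintype.card_fin] at hr
    have h0 : (r - 1) * (r - 1) = 0 := by linear_combination hr - r * h2 + h2
    have h1 : r - 1 = 0 := by
      rcases mul_eq_zero.1 h0 with h | h <;> exact h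
    linear_combination h1
  ext i j
  rw [← hrA, hr1]
  simp

/-- `SL₂(F) ≃* PSL₂(F)` in characteristic two -/
noncomputable def slEquivPsl {F : Type*} [Field F] (h2 : (2 : F) = 0) :
    SpecialLinearGroup (Fin 2) F ≃* Matrix.ProjectiveSpecialLinearGroup (Fin 2) F :=
  (QuotientGroup.quotientBot (G := SpecialLinearGroup (Fin 2) F)).symm.trans
    (QuotientGroup.quotientMulEquivOfEq (center_sl2_eq_bot h2).symm)

/-- In `SL₂(2^f)`, `f ≥ 2`: if all non-abelian subgroups are self-normalizing then `2^f - 1` is prime. -/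
theorem prime_of_sn_sl {F : Type*} [Field F] [Fintype F] (f : ℕ) (hf : 2 ≤ f)
    (hF : Fintype.card F = 2 ^ f)
    (hSN : ∀ H : Subgroup (SpecialLinearGroup (Fin 2) F), ¬ IsMulCommutative H →
      Subgroup.normalizer (H : Set (SpecialLinearGroup (Fin 2) F)) = H) :
    (2 ^ f - 1).Prime := by
  by_contra hnp
  have h4 : 4 ≤ 2 ^ f := by
    calc 4 = 2 ^ 2 := rfl
      _ ≤ 2 ^ f := Nat.pow_le_pow_right (by norm_num) hf
  obtain ⟨m, hmd, hm2, hmlt⟩ := Nat.exists_dvd_of_not_prime2 (by omega : 2 ≤ 2 ^ f - 1) hnp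
  obtain ⟨k, hk⟩ := hmd
  have hk1 : 1 < k := by
    by_contra hle
    have : k = 0 ∨ k = 1 := by omega
    rcases this with rfl | rfl
    · omega
    · omega
  have hodd : Odd (2 ^ f - 1) := by
    have he : Even (2 ^ f) := (Nat.even_pow' (by omega)).2 even_two
    obtain ⟨c, hc⟩ := he
    exact ⟨c - 1, by omega⟩
  obtain ⟨H, hH, hN⟩ := exists_not_selfnormalizing (F := F) (2 ^ f - 1) m k (by omega) hk (by omega) hk1 hodd
  exact hN (hSN H hH)

/-- the same in `PSL₂(2^f)` -/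
theorem prime_of_sn_psl {F : Type*} [Field F] [Fintype F] (f : ℕ) (hf : 2 ≤ f)
    (hF : Fintype.card F = 2 ^ f)
    (hSN : ∀ H : Subgroup (Matrix.ProjectiveSpecialLinearGroup (Fin 2) F), ¬ IsMulCommutative H →
      Subgroup.normalizer (H : Set (Matrix.ProjectiveSpecialLinearGroup (Fin 2) F)) = H) :
    (2 ^ f - 1).Prime :=
  prime_of_sn_sl f hf hF (sn_of_mulEquiv (slEquivPsl (two_eq_zero_of_card f hF)) hSN)

/-- the same for any group isomorphic to `PSL₂(2^f)` -/
theorem prime_of_sn_of_equiv {G : Type*} [Group G] {F : Type*} [Field F] [Fintype F] (f : ℕ) (hf : 2 ≤ f)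
    (hF : Fintype.card F = 2 ^ f) (e : G ≃* Matrix.ProjectiveSpecialLinearGroup (Fin 2) F)
    (hSN : ∀ H : Subgroup G, ¬ IsMulCommutative H → Subgroup.normalizer (H : Set G) = H) :
    (2 ^ f - 1).Prime :=
  prime_of_sn_psl f hf hF (sn_of_mulEquiv e.symm hSN)

end Cfsg.Agent.Lib.Helper09.SN
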