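import Mathlib
import Cfsg.Agent.Lib.Helper98.SL2Borel
import Cfsg.Agent.Lib.Helper09.SNBorel

/-!
# K-SNC-9 (407309, S4073): in `PSL₂(F)`, char 2, for a Sylow 2-subgroup `P` and `K ≤ N(P)`,
`[K : K ∩ P]` divides `|F| - 1`.
-/

set_option autoImplicit false

namespace Cfsg.Agent.Lib.Helper09.SNC

open Matrix

/-- abstract orbit count: `P` abelian with `C(v) ≤ P` for all `1 ≠ v ∈ P`, `K ≤ N(P)`:
all `K`-orbits on `P∖1` have size `[K : K ∩ P]`. -/
theorem index_dvd_card_sub_one {G : Type*} [Group G] [Finite G] (P K : Subgroup G)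
    (hcomm : ∀ a ∈ P, ∀ b ∈ P, a * b = b * a)
    (hcent : ∀ v ∈ P, v ≠ 1 → ∀ g : G, g * v = v * g → g ∈ P)
    (hK : K ≤ Subgroup.normalizer (P : Set G)) :
    (P.subgroupOf K).index ∣ Nat.card P - 1 := by
  classical
  let X : Type _ := ↥((P : Set G) \ {1})
  letI : MulAction K X :=
    { smul := fun k v => ⟨k.1 * v.1 * k.1⁻¹, by
        refine ⟨?_, ?_⟩
        · exact (Subgroup.mem_normalizer_iff.mp (hK k.2) v.1).mp v.2.1
        · intro h
          apply v.2.2
          have h' : k.1 * v.1 * k.1⁻¹ = 1 := h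
          have : v.1 = k.1⁻¹ * (k.1 * v.1 * k.1⁻¹) * k.1 := by group
          rw [this, h']; simp⟩
      one_smul := fun v => Subtype.ext (by
        show ((1 : K) : G) * v.1 * ((1 : K) : G)⁻¹ = v.1
        simp)
      mul_smul := fun a b v => Subtype.ext (by
        show ((a * b : K) : G) * v.1 * ((a * b : K) : G)⁻¹ = a.1 * (b.1 * v.1 * b.1⁻¹) * a.1⁻¹
        simp [mul_assoc]) }
  have hsmul : ∀ (k : K) (v : X), (k • v).1 = k.1 * v.1 * k.1⁻¹ := fun _ _ => rfl
  have hstab : ∀ v : X, MulAction.stabilizer K v = P.subgroupOf K := by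
    intro v
    ext k
    rw [MulAction.mem_stabilizer_iff, Subgroup.mem_subgroupOf]
    constructor
    · intro h
      have h1 : k.1 * v.1 * k.1⁻¹ = v.1 := by rw [← hsmul, h]
      apply hcent v.1 v.2.1 (fun h0 => v.2.2 h0)
      calc k.1 * v.1 = k.1 * v.1 * k.1⁻¹ * k.1 := by group
        _ = v.1 * k.1 := by rw [h1]
    · intro h
      apply Subtype.ext
      rw [hsmul, hcomm k.1 h v.1 v.2.1]
      group
  have e := MulAction.selfEquivSigmaOrbitsQuotientStabilizer K X
  letI : Fintype (MulAction.orbitRel.Quotient K X) := Fintype.ofFinite _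
  have hX : Nat.card X = Nat.card P - 1 := by
    show Nat.card ↥((P : Set G) \ {1}) = Nat.card P - 1
    rw [_root_.Nat.card_coe_set_eq, Set.ncard_diff_singleton_of_mem (Subgroup.one_mem P),
      ← _root_.Nat.card_coe_set_eq]
    rfl
  rw [← hX, Nat.card_congr e, Nat.card_sigma]
  have : ∀ ω : MulAction.orbitRel.Quotient K X,
      Nat.card (K ⧸ MulAction.stabilizer K ω.out) = (P.subgroupOf K).index := by
    intro ω
    rw [← Subgroup.index_eq_card, hstab]
  rw [Finset.sum_congr rfl (fun ω _ => this ω), Finset.sum_const, smul_eq_mul]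
  exact Dvd.intro_left _ rfl

open Cfsg.Agent.Lib.Helper98.SL2Borel

theorem mk_injective {F : Type*} [Field F] (h2 : (2 : F) = 0)
    {A B : Matrix.SpecialLinearGroup (Fin 2) F}
    (h : (QuotientGroup.mk A : Matrix.ProjectiveSpecialLinearGroup (Fin 2) F) = QuotientGroup.mk B) :
    A = B := by
  rw [QuotientGroup.eq, Cfsg.Agent.Lib.Helper09.SN.center_sl2_eq_bot h2, Subgroup.mem_bot] at h
  exact (inv_mul_eq_one.mp h)

theorem index_subgroupOf_sylow_dvd {F : Type} [Field F] [Fintype F] [CharP F 2]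
    (P : Sylow 2 (Matrix.ProjectiveSpecialLinearGroup (Fin 2) F))
    (K : Subgroup (Matrix.ProjectiveSpecialLinearGroup (Fin 2) F))
    (hK : K ≤ Subgroup.normalizer ((P : Subgroup (Matrix.ProjectiveSpecialLinearGroup (Fin 2) F)) :
      Set (Matrix.ProjectiveSpecialLinearGroup (Fin 2) F))) :
    ((P : Subgroup (Matrix.ProjectiveSpecialLinearGroup (Fin 2) F)).subgroupOf K).index ∣ Fintype.card F - 1 := by
  classical
  have h2 : (2 : F) = 0 := by
    have := CharP.cast_eq_zero F 2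
    exact_mod_cast this
  obtain ⟨X, hX⟩ := exists_conj_uMat_of_isPGroup (F := F) 2
    (P : Subgroup (Matrix.ProjectiveSpecialLinearGroup (Fin 2) F)) P.isPGroup'
  -- the conjugate of the unipotent subgroup
  let c : Matrix.ProjectiveSpecialLinearGroup (Fin 2) F := QuotientGroup.mk X
  let Q : Subgroup (Matrix.ProjectiveSpecialLinearGroup (Fin 2) F) :=
    ((uBarHom : Multiplicative F →* Matrix.ProjectiveSpecialLinearGroup (Fin 2) F).range).map
      (MulAut.conj c).toMonoidHom
  have hmemQ : ∀ y, y ∈ Q ↔ ∃ x : F, y = QuotientGroup.mk (X * uMat x * X⁻¹) := by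
    intro y
    constructor
    · rintro ⟨u, hu, rfl⟩
      obtain ⟨x, rfl⟩ := (mem_uBar_range u).mp hu
      exact ⟨x, rfl⟩
    · rintro ⟨x, rfl⟩
      exact ⟨QuotientGroup.mk (uMat x), (mem_uBar_range _).mpr ⟨x, rfl⟩, rfl⟩
  have hPQ : (P : Subgroup (Matrix.ProjectiveSpecialLinearGroup (Fin 2) F)) ≤ Q := by
    intro y hy
    exact (hmemQ y).mpr (hX y hy)
  have hQp : IsPGroup 2 Q := (isPGroup_uBar (F := F) 2).map _
  have hQP : Q = (P : Subgroup (Matrix.ProjectiveSpecialLinearGroup (Fin 2) F)) :=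
    P.is_maximal' hQp hPQ
  have hcard : Nat.card (P : Subgroup (Matrix.ProjectiveSpecialLinearGroup (Fin 2) F)) =
      Fintype.card F := by
    rw [← hQP, Subgroup.card_map_of_injective (MulAut.conj c).injective, card_uBar]
  have hmemP : ∀ y, y ∈ (P : Subgroup (Matrix.ProjectiveSpecialLinearGroup (Fin 2) F)) ↔
      ∃ x : F, y = QuotientGroup.mk (X * uMat x * X⁻¹) := by
    intro y; rw [← hQP]; exact hmemQ y
  rw [← hcard]
  apply index_dvd_card_sub_one _ K _ _ hK
  · -- commutative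
    intro a ha b hb
    obtain ⟨x, rfl⟩ := (hmemP a).mp ha
    obtain ⟨x', rfl⟩ := (hmemP b).mp hb
    rw [← QuotientGroup.mk_mul, ← QuotientGroup.mk_mul]
    congr 1
    have e1 : X * uMat x * X⁻¹ * (X * uMat x' * X⁻¹) = X * (uMat x * uMat x') * X⁻¹ := by group
    have e2 : X * uMat x' * X⁻¹ * (X * uMat x * X⁻¹) = X * (uMat x' * uMat x) * X⁻¹ := by group
    rw [e1, e2, uMat_mul, uMat_mul, add_comm]
  · -- centralizers
    intro v hv hv1 g hg
    obtain ⟨x, rfl⟩ := (hmemP v).mp hv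
    have hx : x ≠ 0 := by
      rintro rfl
      apply hv1
      rw [uMat_zero, mul_one, mul_inv_cancel]
      rfl
    obtain ⟨B, rfl⟩ := QuotientGroup.mk_surjective g
    rw [← QuotientGroup.mk_mul, ← QuotientGroup.mk_mul] at hg
    have hBV := mk_injective h2 hg
    -- B' = X⁻¹ B X commutes with uMat x
    have hB' : (X⁻¹ * B * X) * uMat x = uMat x * (X⁻¹ * B * X) := by
      have e1 : (X⁻¹ * B * X) * uMat x = X⁻¹ * (B * (X * uMat x * X⁻¹)) * X := by group
      have e2 : uMat x * (X⁻¹ * B * X) = X⁻¹ * ((X * uMat x * X⁻¹) * B) * X := by group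
      rw [e1, e2, hBV]
    obtain ⟨h10, h0011⟩ := (commute_uMat_iff _ x hx).mp hB'
    have hdet := det_eq (X⁻¹ * B * X)
    rw [h10, mul_zero, sub_zero, ← h0011] at hdet
    have h00 : (X⁻¹ * B * X).1 0 0 = 1 := by
      have h0 : ((X⁻¹ * B * X).1 0 0 - 1) * ((X⁻¹ * B * X).1 0 0 - 1) = 0 := by
        linear_combination hdet - (X⁻¹ * B * X).1 0 0 * h2 + h2
      have h1 : (X⁻¹ * B * X).1 0 0 - 1 = 0 := by
        rcases mul_eq_zero.1 h0 with h | h <;> exact h
      linear_combination h1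
    have hBu : X⁻¹ * B * X = uMat ((X⁻¹ * B * X).1 0 1) := by
      apply ext_entries
      · rw [h00]; simp
      · simp
      · rw [h10]; simp
      · rw [← h0011, h00]; simp
    rw [hmemP]
    refine ⟨(X⁻¹ * B * X).1 0 1, ?_⟩
    congr 1
    rw [← hBu]
    group

end Cfsg.Agent.Lib.Helper09.SNC
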