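import Mathlib
import Cfsg.Prelude.Def_KGroupFacts

/-!
Generic tools for showing that stem extensions are trivial.  The transfer lemma, the
Sylow reduction and the transport lemma follow the corresponding lemmas of
`Cfsg.Agent.Lib.Helper07.SchurRed` (copied here so that this library only depends on files of
its own seat); the rest is new: a vanishing criterion for biadditive maps on a field and a
calculus of commutators of lifts in a central extension.
-/

set_option autoImplicit false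

namespace Cfsg.Agent.Lib.Helper09

open scoped commutatorElement

universe u v

section transfer
variable {Γ : Type*} [Group Γ] [Finite Γ]

/-- a central element of the commutator subgroup lying in a subgroup `M` of index prime to
its order lies in the commutator subgroup of `M`. -/
theorem mem_commutator_of_central_coprime (M : Subgroup Γ) (z : Γ)
    (hzc : z ∈ Subgroup.center Γ) (hzd : z ∈ commutator Γ) (hzM : z ∈ M)
    (hcop : (M.index).Coprime (orderOf z)) : (⟨z, hzM⟩ : M) ∈ commutator M := by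
  classical
  let ϕ : M →* Abelianization M := Abelianization.of
  have hT : MonoidHom.transfer ϕ z = ϕ ⟨z ^ M.index, M.pow_mem hzM _⟩ := by
    apply MonoidHom.transfer_eq_pow
    intro k g₀ _
    have : z ^ k ∈ Subgroup.center Γ := Subgroup.pow_mem _ hzc k
    rw [Subgroup.mem_center_iff] at this
    rw [mul_assoc, ← this g₀, inv_mul_cancel_left]
  have h1 : MonoidHom.transfer ϕ z = 1 :=
    Abelianization.commutator_subset_ker (MonoidHom.transfer ϕ) hzd
  rw [hT] at h1
  have h2 : (⟨z ^ M.index, M.pow_mem hzM _⟩ : M) ∈ commutator M := by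
    rw [← Abelianization.ker_of]
    exact h1
  obtain ⟨k, hk⟩ := exists_pow_eq_self_of_coprime hcop
  have h3 : (⟨z, hzM⟩ : M) = (⟨z ^ M.index, M.pow_mem hzM _⟩ : M) ^ k := by
    apply Subtype.ext
    simp [hk]
  rw [h3]
  exact Subgroup.pow_mem _ h2 k

/-- the same, stated inside the big group -/
theorem mem_commutator_of_central_coprime' (M : Subgroup Γ) (z : Γ)
    (hzc : z ∈ Subgroup.center Γ) (hzd : z ∈ commutator Γ) (hzM : z ∈ M)
    (hcop : (M.index).Coprime (orderOf z)) : z ∈ ⁅M, M⁆ := by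
  have h := mem_commutator_of_central_coprime M z hzc hzd hzM hcop
  rw [← Subgroup.map_subtype_commutator]
  exact ⟨⟨z, hzM⟩, h, rfl⟩

end transfer

section stem

/-- all finite stem extensions of `R` (in the universe of `R`) have trivial kernel -/
def StemTriv (R : Type u) [Group R] : Prop :=
  ∀ (Γ' : Type u) [Group Γ'] [Finite Γ'] (τ : Γ' →* R), Cfsg.IsStemExtension τ → τ.ker = ⊥

theorem stemTriv_of_isCyclic (R : Type u) [Group R] [IsCyclic R] : StemTriv R := by
  intro Γ _ _ σ hσ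
  obtain ⟨hsurj, hcen, hcomm⟩ := hσ
  have hab : IsMulCommutative Γ := σ.isMulCommutative_of_isCyclic_of_ker_le_center hcen
  have hc : commutator Γ = ⊥ := by
    rw [commutator_def, Subgroup.commutator_eq_bot_iff_le_centralizer]
    intro x _
    rw [Subgroup.mem_centralizer_iff]
    intro y _
    exact hab.is_comm.comm y x
  rw [hc] at hcomm
  exact le_bot_iff.mp hcomm

theorem hasCyclicSchurMultiplier_one_of_stemTriv {R : Type u} [Group R] [Finite R]
    (h : StemTriv R) : Cfsg.HasCyclicSchurMultiplier R 1 := by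
  refine ⟨⟨R, inferInstance, inferInstance, MonoidHom.id R, ?_, ?_⟩, ?_⟩
  · refine ⟨Function.surjective_id, ?_, ?_⟩
    · rw [MonoidHom.ker_id]; exact bot_le
    · rw [MonoidHom.ker_id]; exact bot_le
  · rw [MonoidHom.ker_id]
    exact ⟨MulEquiv.ofUnique⟩
  · intro Γ _ _ σ hσ
    have hker := h Γ σ hσ
    refine ⟨1, ?_⟩
    intro y
    refine ⟨1, ?_⟩
    have : (y : Γ) ∈ (⊥ : Subgroup Γ) := hker ▸ y.2
    rw [Subgroup.mem_bot] at this
    ext
    simp [this]

/-- a copy of `Fin n` in an arbitrary universe -/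
structure FinCp (n : ℕ) : Type v where
  /-- the underlying element -/
  val : Fin n

/-- `FinCp n` is equivalent to `Fin n`. -/
def FinCp.equiv (n : ℕ) : FinCp.{v} n ≃ Fin n where
  toFun := FinCp.val
  invFun := FinCp.mk
  left_inv _ := rfl
  right_inv _ := rfl

/-- transport of triviality of stem extensions along an isomorphism, across universes. -/
theorem stemTriv_of_mulEquiv {R : Type u} [Group R] {Q : Type v} [Group Q] (e : R ≃* Q)
    (h : StemTriv Q) : StemTriv R := by
  intro Γ' _ _ τ hτ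
  obtain ⟨hsurj, hcen, hcomm⟩ := hτ
  let f : FinCp.{v} (Nat.card Γ') ≃ Γ' := (FinCp.equiv _).trans (Finite.equivFin Γ').symm
  let _ : Group (FinCp.{v} (Nat.card Γ')) := f.group
  let g : FinCp.{v} (Nat.card Γ') ≃* Γ' := f.mulEquiv
  let τ'' : FinCp.{v} (Nat.card Γ') →* Q := e.toMonoidHom.comp (τ.comp g.toMonoidHom)
  have hker : ∀ x, x ∈ τ''.ker ↔ g x ∈ τ.ker := by
    intro x
    rw [MonoidHom.mem_ker, MonoidHom.mem_ker]
    show e (τ (g x)) = 1 ↔ τ (g x) = 1
    exact e.map_eq_one_iff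
  have hstem : Cfsg.IsStemExtension τ'' := by
    refine ⟨?_, ?_, ?_⟩
    · exact e.surjective.comp (hsurj.comp g.surjective)
    · intro x hx
      have h1 := hcen ((hker x).mp hx)
      rw [Subgroup.mem_center_iff] at h1 ⊢
      intro y
      apply g.injective
      rw [map_mul, map_mul]
      exact h1 (g y)
    · intro x hx
      have h1 : g x ∈ commutator Γ' := hcomm ((hker x).mp hx)
      have h2 : g.symm (g x) ∈ (commutator Γ').map g.symm.toMonoidHom := ⟨g x, h1, rfl⟩
      rw [commutator_def, Subgroup.map_commutator] at h2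
      rw [g.symm_apply_apply] at h2
      rw [commutator_def]
      exact Subgroup.commutator_mono le_top le_top h2
  have : Finite (FinCp.{v} (Nat.card Γ')) := Finite.of_equiv _ f.symm
  have h3 := h _ τ'' hstem
  rw [eq_bot_iff]
  intro y hy
  have h4 : g.symm y ∈ τ''.ker := by
    rw [hker, g.apply_symm_apply]; exact hy
  rw [h3, Subgroup.mem_bot] at h4
  rw [Subgroup.mem_bot]
  have := congrArg g h4
  rwa [g.apply_symm_apply, map_one] at this

end stem

section reduction
variable {Γ : Type u} {G : Type u} [Group Γ] [Finite Γ] [Group G] [Finite G]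

/-- if a Sylow `r`-subgroup of `G` has only trivial stem extensions, the kernel of a finite stem
extension of `G` has no element of order `r`. -/
theorem no_order_of_sylow_stemTriv (σ : Γ →* G) (hσ : Cfsg.IsStemExtension σ) (r : ℕ)
    [Fact r.Prime] (R : Sylow r G) (hR : StemTriv (R : Subgroup G)) (z : Γ) (hz : z ∈ σ.ker)
    (hzr : orderOf z = r) : False := by
  classical
  obtain ⟨hsurj, hcen, hcomm⟩ := hσ
  have hrp : r.Prime := Fact.out
  have hzp : IsPGroup r (Subgroup.zpowers z) := by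
    apply IsPGroup.of_card (n := 1)
    rw [Nat.card_zpowers, hzr, pow_one]
  obtain ⟨Rt, hRt⟩ := hzp.exists_le_sylow
  have hzR : z ∈ (Rt : Subgroup Γ) := hRt (Subgroup.mem_zpowers z)
  let R₁ : Sylow r G := Rt.mapSurjective hsurj
  have hR₁ : (R₁ : Subgroup G) = (Rt : Subgroup Γ).map σ := Sylow.coe_mapSurjective hsurj Rt
  let e : (R₁ : Subgroup G) ≃* (R : Subgroup G) := Sylow.equiv R₁ R
  let e' : ((Rt : Subgroup Γ).map σ) ≃* (R : Subgroup G) :=
    (MulEquiv.subgroupCongr hR₁.symm).trans e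
  let τ : (Rt : Subgroup Γ) →* (R : Subgroup G) :=
    e'.toMonoidHom.comp (σ.subgroupMap (Rt : Subgroup Γ))
  have hker : ∀ x : (Rt : Subgroup Γ), x ∈ τ.ker ↔ (x : Γ) ∈ σ.ker := by
    intro x
    rw [MonoidHom.mem_ker, MonoidHom.mem_ker]
    show e' (σ.subgroupMap (Rt : Subgroup Γ) x) = 1 ↔ _
    rw [e'.map_eq_one_iff]
    constructor
    · intro h
      have := congrArg Subtype.val h
      exact this
    · intro h
      exact Subtype.ext h
  have hstem : Cfsg.IsStemExtension τ := by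
    refine ⟨?_, ?_, ?_⟩
    · exact e'.surjective.comp (σ.subgroupMap_surjective _)
    · intro x hx
      have h1 := hcen ((hker x).mp hx)
      rw [Subgroup.mem_center_iff] at h1 ⊢
      intro y
      apply Subtype.ext
      exact h1 y
    · intro x hx
      have h1 := (hker x).mp hx
      have hxo : ∃ k, orderOf (x : Γ) = r ^ k := by
        obtain ⟨k, hk⟩ := (IsPGroup.iff_orderOf.mp Rt.2) x
        exact ⟨k, by rw [← hk, Subgroup.orderOf_coe]⟩
      obtain ⟨k, hk⟩ := hxo
      have hcop : ((Rt : Subgroup Γ).index).Coprime (orderOf (x : Γ)) := by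
        rw [hk]
        apply Nat.Coprime.pow_right
        rw [Nat.coprime_comm, Nat.Prime.coprime_iff_not_dvd hrp]
        exact Rt.not_dvd_index
      exact mem_commutator_of_central_coprime (Rt : Subgroup Γ) (x : Γ) (hcen h1)
        (hcomm h1) x.2 hcop
  have h3 := hR _ τ hstem
  have h4 : (⟨z, hzR⟩ : (Rt : Subgroup Γ)) ∈ τ.ker := (hker _).mpr hz
  rw [h3, Subgroup.mem_bot] at h4
  have h5 : z = 1 := congrArg Subtype.val h4
  rw [h5, orderOf_one] at hzr
  exact hrp.one_lt.ne hzr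

end reduction

section biadd
variable {F A : Type*} [Field F] [Group A]

/-- a biadditive map on a field for which the scalars `a` and `a + 1` can be moved from the
right to the left argument, becoming `r₁` and `r₂` with `r₂ ≠ r₁ + 1`, vanishes. -/
theorem biadd_trivial (B : F → F → A)
    (hl : ∀ u u' v, B (u + u') v = B u v * B u' v)
    (hr : ∀ u v v', B u (v + v') = B u v * B u v')
    (a r₁ r₂ : F) (h₁ : ∀ u v, B u (a * v) = B (r₁ * u) v)
    (h₂ : ∀ u v, B u ((a + 1) * v) = B (r₂ * u) v) (hne : r₂ - r₁ - 1 ≠ 0) :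
    ∀ u v, B u v = 1 := by
  have hlsub : ∀ u u' v, B (u - u') v = B u v * (B u' v)⁻¹ := by
    intro u u' v
    have := hl (u - u') u' v
    rw [sub_add_cancel] at this
    rw [this, mul_inv_cancel_right]
  have key : ∀ u v, B ((r₂ - r₁ - 1) * u) v = 1 := by
    intro u v
    have e1 : B (r₂ * u) v = B (r₁ * u + u) v := by
      rw [← h₂, add_mul, one_mul, hr, h₁, hl]
    have e2 : (r₂ - r₁ - 1) * u = r₂ * u - (r₁ * u + u) := by ring
    rw [e2, hlsub, e1, mul_inv_cancel]
  intro u v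
  have := key ((r₂ - r₁ - 1)⁻¹ * u) v
  rwa [mul_inv_cancel_left₀ hne] at this

end biadd

section lifts
variable {Γ G : Type*} [Group Γ] [Group G]

theorem comm_mul_central_left (a b z : Γ) (hz : z ∈ Subgroup.center Γ) :
    ⁅a * z, b⁆ = ⁅a, b⁆ := by
  rw [Subgroup.mem_center_iff] at hz
  rw [commutatorElement_def, commutatorElement_def, mul_inv_rev]
  calc a * z * b * (z⁻¹ * a⁻¹) * b⁻¹ = a * (z * b) * z⁻¹ * a⁻¹ * b⁻¹ := by group
    _ = a * (b * z) * z⁻¹ * a⁻¹ * b⁻¹ := by rw [hz b]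
    _ = a * b * a⁻¹ * b⁻¹ := by group

theorem comm_mul_central_right (a b z : Γ) (hz : z ∈ Subgroup.center Γ) :
    ⁅a, b * z⁆ = ⁅a, b⁆ := by
  rw [Subgroup.mem_center_iff] at hz
  rw [commutatorElement_def, commutatorElement_def, mul_inv_rev]
  calc a * (b * z) * a⁻¹ * (z⁻¹ * b⁻¹) = a * b * (z * a⁻¹) * z⁻¹ * b⁻¹ := by group
    _ = a * b * (a⁻¹ * z) * z⁻¹ * b⁻¹ := by rw [hz a⁻¹]
    _ = a * b * a⁻¹ * b⁻¹ := by group

/-- the commutator of lifts of two elements of the base of a central extension -/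
noncomputable def cm (σ : Γ →* G) (hsurj : Function.Surjective σ) (g₁ g₂ : G) : Γ :=
  ⁅Function.surjInv hsurj g₁, Function.surjInv hsurj g₂⁆

variable {σ : Γ →* G} (hsurj : Function.Surjective σ) (hcen : σ.ker ≤ Subgroup.center Γ)

include hcen in
theorem commutator_congr_of_central {a a' b b' : Γ} (h1 : σ a = σ a') (h2 : σ b = σ b') :
    ⁅a, b⁆ = ⁅a', b'⁆ := by
  have hz1 : a⁻¹ * a' ∈ Subgroup.center Γ := hcen (by
    rw [MonoidHom.mem_ker, map_mul, map_inv, h1, inv_mul_cancel])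
  have hz2 : b⁻¹ * b' ∈ Subgroup.center Γ := hcen (by
    rw [MonoidHom.mem_ker, map_mul, map_inv, h2, inv_mul_cancel])
  have e1 : a' = a * (a⁻¹ * a') := by group
  have e2 : b' = b * (b⁻¹ * b') := by group
  rw [e1, e2, comm_mul_central_left _ _ _ hz1, comm_mul_central_right _ _ _ hz2]

include hcen in
/-- commutators of lifts only depend on the images -/
theorem cm_eq {a b : Γ} {g₁ g₂ : G} (h1 : σ a = g₁) (h2 : σ b = g₂) :
    ⁅a, b⁆ = cm σ hsurj g₁ g₂ := by
  apply commutator_congr_of_central hcen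
  · rw [h1, Function.surjInv_eq hsurj]
  · rw [h2, Function.surjInv_eq hsurj]

theorem map_cm (g₁ g₂ : G) : σ (cm σ hsurj g₁ g₂) = ⁅g₁, g₂⁆ := by
  rw [cm, map_commutatorElement, Function.surjInv_eq hsurj, Function.surjInv_eq hsurj]

include hcen in
theorem cm_mem_center {g₁ g₂ : G} (h : g₁ * g₂ = g₂ * g₁) :
    cm σ hsurj g₁ g₂ ∈ Subgroup.center Γ := by
  apply hcen
  rw [MonoidHom.mem_ker, map_cm, commutatorElement_eq_one_iff_mul_comm]
  exact h

include hcen in
/-- conjugating a commutator of lifts -/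
theorem conj_cm (t : Γ) (g g₁ g₂ : G) (ht : σ t = g) :
    t * cm σ hsurj g₁ g₂ * t⁻¹ = cm σ hsurj (g * g₁ * g⁻¹) (g * g₂ * g⁻¹) := by
  have h : t * cm σ hsurj g₁ g₂ * t⁻¹ = ⁅t * Function.surjInv hsurj g₁ * t⁻¹,
      t * Function.surjInv hsurj g₂ * t⁻¹⁆ := by
    rw [cm]; simp only [commutatorElement_def]; group
  rw [h]
  apply cm_eq hsurj hcen
  · rw [map_mul, map_mul, map_inv, ht, Function.surjInv_eq hsurj]
  · rw [map_mul, map_mul, map_inv, ht, Function.surjInv_eq hsurj]

include hcen in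
theorem cm_mul_left (g₁ g₁' g₂ : G) :
    cm σ hsurj (g₁ * g₁') g₂ =
      cm σ hsurj (g₁ * g₁' * g₁⁻¹) (g₁ * g₂ * g₁⁻¹) * cm σ hsurj g₁ g₂ := by
  set a := Function.surjInv hsurj g₁ with ha
  set a' := Function.surjInv hsurj g₁' with ha'
  set b := Function.surjInv hsurj g₂ with hb
  have e1 : σ a = g₁ := Function.surjInv_eq hsurj _
  have e1' : σ a' = g₁' := Function.surjInv_eq hsurj _
  have e2 : σ b = g₂ := Function.surjInv_eq hsurj _
  have h1 : cm σ hsurj (g₁ * g₁') g₂ = ⁅a * a', b⁆ := by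
    symm; apply cm_eq hsurj hcen
    · rw [map_mul, e1, e1']
    · exact e2
  have h2 : ⁅a * a', b⁆ = a * ⁅a', b⁆ * a⁻¹ * ⁅a, b⁆ := by
    simp only [commutatorElement_def]; group
  have h3 : a * ⁅a', b⁆ * a⁻¹ = cm σ hsurj (g₁ * g₁' * g₁⁻¹) (g₁ * g₂ * g₁⁻¹) := by
    have : ⁅a', b⁆ = cm σ hsurj g₁' g₂ := cm_eq hsurj hcen e1' e2
    rw [this]
    exact conj_cm hsurj hcen a g₁ g₁' g₂ e1
  rw [h1, h2, h3]
  rfl

include hcen in
theorem cm_mul_right (g₁ g₂ g₂' : G) :
    cm σ hsurj g₁ (g₂ * g₂') =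
      cm σ hsurj g₁ g₂ * cm σ hsurj (g₂ * g₁ * g₂⁻¹) (g₂ * g₂' * g₂⁻¹) := by
  set a := Function.surjInv hsurj g₁ with ha
  set b := Function.surjInv hsurj g₂ with hb
  set b' := Function.surjInv hsurj g₂' with hb'
  have e1 : σ a = g₁ := Function.surjInv_eq hsurj _
  have e2 : σ b = g₂ := Function.surjInv_eq hsurj _
  have e2' : σ b' = g₂' := Function.surjInv_eq hsurj _
  have h1 : cm σ hsurj g₁ (g₂ * g₂') = ⁅a, b * b'⁆ := by
    symm; apply cm_eq hsurj hcen
    · exact e1
    · rw [map_mul, e2, e2']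
  have h2 : ⁅a, b * b'⁆ = ⁅a, b⁆ * (b * ⁅a, b'⁆ * b⁻¹) := by
    simp only [commutatorElement_def]; group
  have h3 : b * ⁅a, b'⁆ * b⁻¹ = cm σ hsurj (g₂ * g₁ * g₂⁻¹) (g₂ * g₂' * g₂⁻¹) := by
    have : ⁅a, b'⁆ = cm σ hsurj g₁ g₂' := cm_eq hsurj hcen e1 e2'
    rw [this]
    exact conj_cm hsurj hcen b g₂ g₁ g₂' e2
  rw [h1, h2, h3]
  rfl

theorem cm_symm (g₁ g₂ : G) : cm σ hsurj g₁ g₂ = (cm σ hsurj g₂ g₁)⁻¹ := by
  rw [cm, cm, commutatorElement_inv]

include hcen in
theorem cm_mul_left' (t : Γ) (g₁ g₁' g₂ : G) (ht : σ t = g₁) :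
    cm σ hsurj (g₁ * g₁') g₂ = t * cm σ hsurj g₁' g₂ * t⁻¹ * cm σ hsurj g₁ g₂ := by
  rw [cm_mul_left hsurj hcen, conj_cm hsurj hcen t g₁ g₁' g₂ ht]

include hcen in
theorem cm_mul_right' (t : Γ) (g₁ g₂ g₂' : G) (ht : σ t = g₂) :
    cm σ hsurj g₁ (g₂ * g₂') = cm σ hsurj g₁ g₂ * (t * cm σ hsurj g₁ g₂' * t⁻¹) := by
  rw [cm_mul_right hsurj hcen, conj_cm hsurj hcen t g₂ g₁ g₂' ht]

end lifts

end Cfsg.Agent.Lib.Helper09
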