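import Mathlib

set_option autoImplicit false

/-! Leaf G2 of the pack K-Sp2G (S2411, architect helper48): fields with two elements; generators. -/

namespace Cfsg.Agent.Lib.Helper09.Sp2G

theorem eq_zero_or_one_of_card_two {F : Type*} [Field F] [Fintype F] (h : Fintype.card F = 2) (a : F) :
    a = 0 ∨ a = 1 := by
  classical
  by_contra hcon
  rw [not_or] at hcon
  have h3 : ({0, 1, a} : Finset F).card = 3 := by
    rw [Finset.card_insert_of_notMem, Finset.card_insert_of_notMem, Finset.card_singleton]
    · simpa using (Ne.symm hcon.2)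
    · simp only [Finset.mem_insert, Finset.mem_singleton, not_or]
      exact ⟨zero_ne_one, Ne.symm hcon.1⟩
  have hle : ({0, 1, a} : Finset F).card ≤ Fintype.card F := Finset.card_le_univ _
  omega

theorem two_eq_zero_of_card_two {F : Type*} [Field F] [Fintype F] (h : Fintype.card F = 2) :
    (2 : F) = 0 := by
  have := Nat.cast_card_eq_zero F
  rw [h] at this
  exact_mod_cast this

/-- a generator `k ≠ 1` of `Fˣ` when `|F| ≥ 3` -/
theorem exists_gen_ne_one (F : Type*) [Field F] [Fintype F] (h3 : 3 ≤ Fintype.card F) :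
    ∃ k : F, k ≠ 0 ∧ k ≠ 1 ∧ ∀ x : F, x ≠ 0 → ∃ j : ℕ, x = k ^ (j + 1) := by
  classical
  obtain ⟨g, hg⟩ := IsCyclic.exists_generator (α := Fˣ)
  have hgen : ∀ x : F, x ≠ 0 → ∃ j : ℕ, x = (g : F) ^ (j + 1) := by
    intro x hx
    have hmem : Units.mk0 x hx ∈ Subgroup.zpowers g := hg _
    rw [← mem_powers_iff_mem_zpowers] at hmem
    obtain ⟨n, hn⟩ := hmem
    have hn' : (g : F) ^ n = x := by
      have := congrArg (fun u : Fˣ => (u : F)) hn
      simpa using this
    rcases Nat.eq_zero_or_pos n with h0 | hpos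
    · subst h0
      have hord : 0 < orderOf g := orderOf_pos g
      obtain ⟨k, hk⟩ := Nat.exists_eq_succ_of_ne_zero hord.ne'
      refine ⟨k, ?_⟩
      have h1 : (g : F) ^ (k + 1) = 1 := by
        have : g ^ orderOf g = 1 := pow_orderOf_eq_one g
        rw [hk] at this
        have := congrArg (fun u : Fˣ => (u : F)) this
        simpa using this
      rw [h1, ← hn', pow_zero]
    · obtain ⟨k, hk⟩ := Nat.exists_eq_succ_of_ne_zero hpos.ne'
      exact ⟨k, by rw [← hn', hk]⟩
  refine ⟨(g : F), g.ne_zero, ?_, hgen⟩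
  intro h1
  -- every nonzero element is `1`, so `|F| ≤ 2`
  have hall : ∀ x : F, x = 0 ∨ x = 1 := by
    intro x
    by_cases hx : x = 0
    · exact Or.inl hx
    · obtain ⟨j, hj⟩ := hgen x hx
      right
      rw [hj, h1, one_pow]
  have hsub : (Finset.univ : Finset F) ⊆ {0, 1} := by
    intro x _
    rcases hall x with h | h <;> simp [h]
  have hle : Fintype.card F ≤ 2 := by
    have := Finset.card_le_card hsub
    rw [Finset.card_univ] at this
    exact this.trans (Finset.card_le_two)
  omega

end Cfsg.Agent.Lib.Helper09.Sp2G
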