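import Cfsg.Agent.Lib.Helper30.SpUG0

/-!
# K-SpF-J1 (keystone 597513, architect helper38, row S5975)

In `Sp_4(q)`, `q` odd, the elements with `x² = 1`, `x ≠ ± 1` form one conjugacy class.
Adapted from helper30's `SpUG0` (`invol_pos`): such an `x` is `Sp`-conjugate to a doubled `± 1` diagonal matrix.
-/

set_option autoImplicit false

namespace Cfsg.Agent.Lib.Helper09.SpF

open Cfsg Cfsg.Geo Cfsg.Agent.Lib.Helper49 Cfsg.Agent.Lib.Helper30.SpU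
open scoped Matrix MatrixGroups

variable {F : Type*} [Field F]

/-- an element of `Sp_{2d}(q)`, `q` odd, with `x² = 1` is `Sp`-conjugate to a doubled `± 1` diagonal matrix -/
theorem exists_isConj_dbl [Fintype F] (hodd : Odd (Fintype.card F)) (d : ℕ) (hd : 1 ≤ d)
    (A : Matrix.symplecticGroup (Fin d) F)
    (hx2 : (A : Matrix (Fin d ⊕ Fin d) (Fin d ⊕ Fin d) F) * (A : Matrix (Fin d ⊕ Fin d) (Fin d ⊕ Fin d) F) = 1) :
    ∃ (ε' : Fin d → F) (hε' : ∀ j, ε' j = 1 ∨ ε' j = -1),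
      IsConj (⟨dbl d ε', dbl_mem_symplectic d ε' hε'⟩ : Matrix.symplecticGroup (Fin d) F) A := by
  classical
  have hchar : ringChar F ≠ 2 := by
    intro h
    have := FiniteField.even_card_of_char_two h
    rcases hodd with ⟨k, hk⟩
    omega
  have h2 : (2 : F) ≠ 0 := Ring.two_ne_zero hchar
  have h1ne : (1 : F) ≠ -1 := by
    intro h
    apply h2
    have : (1 : F) + 1 = 0 := by nth_rewrite 1 [h]; simp
    rw [← this]; norm_num
  obtain ⟨X, hX⟩ : ∃ X : Matrix (Fin d ⊕ Fin d) (Fin d ⊕ Fin d) F,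
    X = (A : Matrix (Fin d ⊕ Fin d) (Fin d ⊕ Fin d) F) := ⟨_, rfl⟩
  have hAX : (A : Matrix (Fin d ⊕ Fin d) (Fin d ⊕ Fin d) F) = X := hX.symm
  rw [← hX] at hx2
  -- reindex to `Fin (2 * d)`
  let e : (Fin d ⊕ Fin d) ≃ Fin (2 * d) := finSumFinEquiv.trans (finCongr (two_mul d).symm)
  obtain ⟨s, hs_def⟩ : ∃ s : Matrix (Fin (2 * d)) (Fin (2 * d)) F, s = Matrix.reindex e e X :=
    ⟨_, rfl⟩
  have hs : s * s = 1 := by
    rw [hs_def, Matrix.reindex_apply, Matrix.submatrix_mul_equiv, hx2, Matrix.submatrix_one_equiv]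
  have hXs : X = s.submatrix e e := by
    rw [hs_def, Matrix.reindex_apply, Matrix.submatrix_submatrix, Equiv.symm_comp_self,
      Matrix.submatrix_id_id]
  have hsdet : s.det = 1 := by
    rw [hs_def, Matrix.det_reindex_self, ← hAX]
    exact det_eq_one_of_mem_symplecticGroup A
  have hn0 : 0 < 2 * d := by omega
  obtain ⟨P, ε, hPdet, hε, hsP⟩ := exists_sl_conj_diag h2 hn0 s hs
  have hPP : P * P⁻¹ = 1 := Matrix.mul_nonsing_inv P (by rw [hPdet]; exact isUnit_one)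
  have hprodε : ∏ i, ε i = 1 := by
    have h := congrArg Matrix.det hsP
    rw [Matrix.det_mul, Matrix.det_mul, hsdet, hPdet, Matrix.det_diagonal, one_mul, one_mul] at h
    exact h.symm
  have hprod : ∏ i, ε i = (-1 : F) ^ (Finset.univ.filter (fun i => ε i = -1)).card := by
    have h1 : ∀ i, ε i = if ε i = -1 then (-1 : F) else 1 := by
      intro i
      rcases hε i with h | h
      · rw [h]
        rw [if_neg h1ne]
      · rw [h]; simp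
    rw [Finset.prod_congr rfl (fun i _ => h1 i), Finset.prod_ite, Finset.prod_const,
      Finset.prod_const_one, mul_one]
  have hbeven : Even (Finset.univ.filter (fun i => ε i = -1)).card := by
    by_contra hnodd
    rw [Nat.not_even_iff_odd] at hnodd
    rw [hnodd.neg_one_pow, hprodε] at hprod
    exact h1ne hprod
  obtain ⟨σ, ε', hσ⟩ := diagonal_pm_eq_reindex h2 d rfl ε hε hbeven
  have hε' : ∀ j, ε' j = 1 ∨ ε' j = -1 := by
    intro j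
    have h := congrFun (congrFun hσ (σ.symm (Sum.inl j))) (σ.symm (Sum.inl j))
    rw [Matrix.diagonal_apply_eq, Matrix.reindex_apply, Matrix.submatrix_apply, Equiv.symm_symm,
      Equiv.apply_symm_apply, Matrix.fromBlocks_apply₁₁, Matrix.diagonal_apply_eq] at h
    rw [← h]
    exact hε _
  have hYε : dbl d ε' = (Matrix.diagonal ε).submatrix σ.symm σ.symm := by
    rw [hσ, Matrix.reindex_apply, Matrix.submatrix_submatrix, Equiv.symm_symm,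
      Equiv.self_comp_symm, Matrix.submatrix_id_id, dbl]
  -- the conjugating matrix
  have hP1 : P.submatrix e σ.symm * P⁻¹.submatrix σ.symm e = 1 := by
    rw [Matrix.submatrix_mul_equiv, hPP, Matrix.submatrix_one_equiv]
  have hunit : IsUnit (P.submatrix e σ.symm).det := Matrix.isUnit_det_of_right_inverse hP1
  have hconj : P.submatrix e σ.symm * dbl d ε' = X * P.submatrix e σ.symm := by
    rw [hYε, hXs, Matrix.submatrix_mul_equiv, Matrix.submatrix_mul_equiv, hsP]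
  refine ⟨ε', hε', ?_⟩
  have hYS2 : (⟨dbl d ε', dbl_mem_symplectic d ε' hε'⟩ : Matrix.symplecticGroup (Fin d) F) ^ 2 = 1 := by
    apply Subtype.ext
    rw [pow_two]
    exact dbl_mul_self d ε' hε'
  have hk : ((2 : ℕ) : F) ≠ 0 := by
    rw [Nat.cast_ofNat]; exact h2
  apply sp_conj_of_matrix_conj _ A 2 hk hYS2 (P.submatrix e σ.symm) hunit
  rw [hAX]
  exact hconj

/-- the swap of the two hyperbolic pairs -/
def swp (F : Type*) [Field F] : Matrix (Fin 2 ⊕ Fin 2) (Fin 2 ⊕ Fin 2) F :=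
  Matrix.fromBlocks !![0, 1; 1, 0] 0 0 !![0, 1; 1, 0]

theorem swp_mem : swp F ∈ Matrix.symplecticGroup (Fin 2) F := by
  rw [SymplecticGroup.mem_iff]
  unfold swp Matrix.J
  rw [Matrix.fromBlocks_transpose, Matrix.fromBlocks_multiply, Matrix.fromBlocks_multiply]
  have h1 : (!![0, 1; 1, 0] : Matrix (Fin 2) (Fin 2) F) * (!![0, 1; 1, 0] : Matrix (Fin 2) (Fin 2) F)ᵀ = 1 := by
    ext i j
    fin_cases i <;> fin_cases j <;> simp [Matrix.mul_apply, Fin.sum_univ_two]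
  simp only [Matrix.mul_zero, Matrix.zero_mul, Matrix.mul_one, add_zero, zero_add,
    Matrix.mul_neg, Matrix.neg_mul, neg_zero, Matrix.transpose_zero, h1]

theorem swp_conj : swp F * dbl 2 ![-1, 1] = dbl 2 ![1, -1] * swp F := by
  unfold swp dbl
  rw [Matrix.fromBlocks_multiply, Matrix.fromBlocks_multiply]
  have h1 : (!![0, 1; 1, 0] : Matrix (Fin 2) (Fin 2) F) * Matrix.diagonal ![-1, 1] =
      Matrix.diagonal ![1, -1] * (!![0, 1; 1, 0] : Matrix (Fin 2) (Fin 2) F) := by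
    ext i j
    fin_cases i <;> fin_cases j <;> simp [Matrix.mul_apply, Matrix.diagonal]
  simp only [Matrix.mul_zero, Matrix.zero_mul, add_zero, zero_add, h1]

theorem pm_std : ∀ j, (![1, -1] : Fin 2 → F) j = 1 ∨ (![1, -1] : Fin 2 → F) j = -1 := by
  intro j
  fin_cases j
  · left; rfl
  · right; rfl

theorem pm_std' : ∀ j, (![-1, 1] : Fin 2 → F) j = 1 ∨ (![-1, 1] : Fin 2 → F) j = -1 := by
  intro j
  fin_cases j
  · right; rfl
  · left; rfl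

theorem eq_vec2 (ε' : Fin 2 → F) (a b : F) (h0 : ε' 0 = a) (h1 : ε' 1 = b) : ε' = ![a, b] := by
  funext j
  fin_cases j
  · exact h0
  · exact h1

/-- the standard involution of `Sp_4` -/
def stdInv (F : Type*) [Field F] : Matrix.symplecticGroup (Fin 2) F :=
  ⟨dbl 2 ![1, -1], dbl_mem_symplectic 2 _ pm_std⟩

/-- every non-central involution of `Sp_4(q)`, `q` odd, is conjugate to the standard one -/
theorem isConj_stdInv [Fintype F] (hodd : Odd (Fintype.card F)) (A : Matrix.symplecticGroup (Fin 2) F)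
    (hA2 : (A : Matrix (Fin 2 ⊕ Fin 2) (Fin 2 ⊕ Fin 2) F) * (A : Matrix (Fin 2 ⊕ Fin 2) (Fin 2 ⊕ Fin 2) F) = 1)
    (hA1 : (A : Matrix (Fin 2 ⊕ Fin 2) (Fin 2 ⊕ Fin 2) F) ≠ 1)
    (hA1' : (A : Matrix (Fin 2 ⊕ Fin 2) (Fin 2 ⊕ Fin 2) F) ≠ -1) : IsConj (stdInv F) A := by
  obtain ⟨ε', hε', hc⟩ := exists_isConj_dbl hodd 2 (by norm_num) A hA2
  obtain ⟨c, hcc⟩ := isConj_iff.mp hc
  have hcv : (c : Matrix (Fin 2 ⊕ Fin 2) (Fin 2 ⊕ Fin 2) F) * dbl 2 ε' *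
      ((c⁻¹ : Matrix.symplecticGroup (Fin 2) F) : Matrix (Fin 2 ⊕ Fin 2) (Fin 2 ⊕ Fin 2) F) =
      (A : Matrix (Fin 2 ⊕ Fin 2) (Fin 2 ⊕ Fin 2) F) := congrArg Subtype.val hcc
  have hcc1 : (c : Matrix (Fin 2 ⊕ Fin 2) (Fin 2 ⊕ Fin 2) F) *
      ((c⁻¹ : Matrix.symplecticGroup (Fin 2) F) : Matrix (Fin 2 ⊕ Fin 2) (Fin 2 ⊕ Fin 2) F) = 1 := by
    show ((c * c⁻¹ : Matrix.symplecticGroup (Fin 2) F) : Matrix (Fin 2 ⊕ Fin 2) (Fin 2 ⊕ Fin 2) F) = 1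
    rw [mul_inv_cancel]
    rfl
  rcases hε' 0 with h0 | h0 <;> rcases hε' 1 with h1 | h1
  · -- `(1, 1)`: `A = 1`
    exfalso
    apply hA1
    have h3 : dbl 2 ε' = 1 := by
      rw [eq_vec2 ε' 1 1 h0 h1]
      unfold dbl
      rw [← Matrix.fromBlocks_one]
      congr 1 <;> (ext i j; fin_cases i <;> fin_cases j <;> simp [Matrix.diagonal])
    rw [← hcv, h3, Matrix.mul_one, hcc1]
  · -- `(1, -1)`
    have h3 : (⟨dbl 2 ε', dbl_mem_symplectic 2 ε' hε'⟩ : Matrix.symplecticGroup (Fin 2) F) = stdInv F := by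
      apply Subtype.ext
      show dbl 2 ε' = dbl 2 ![1, -1]
      rw [eq_vec2 ε' 1 (-1) h0 h1]
    rw [← h3]
    exact hc
  · -- `(-1, 1)`
    have h3 : (⟨dbl 2 ε', dbl_mem_symplectic 2 ε' hε'⟩ : Matrix.symplecticGroup (Fin 2) F) =
        ⟨dbl 2 ![-1, 1], dbl_mem_symplectic 2 _ pm_std'⟩ := by
      apply Subtype.ext
      show dbl 2 ε' = dbl 2 ![-1, 1]
      rw [eq_vec2 ε' (-1) 1 h0 h1]
    rw [h3] at hc
    refine IsConj.trans ?_ hc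
    apply IsConj.symm
    rw [isConj_iff]
    refine ⟨⟨swp F, swp_mem⟩, ?_⟩
    rw [mul_inv_eq_iff_eq_mul]
    apply Subtype.ext
    exact swp_conj
  · -- `(-1, -1)`: `A = -1`
    exfalso
    apply hA1'
    have h3 : dbl 2 ε' = -1 := by
      rw [eq_vec2 ε' (-1) (-1) h0 h1]
      unfold dbl
      rw [← Matrix.fromBlocks_one, Matrix.fromBlocks_neg]
      congr 1 <;> (ext i j; fin_cases i <;> fin_cases j <;> simp [Matrix.diagonal])
    rw [← hcv, h3, Matrix.mul_neg, Matrix.mul_one, Matrix.neg_mul, hcc1]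

/-- **K-SpF-J1 (597513).** -/
theorem sp4_invol_conj_pos [Fintype F] (hodd : Odd (Fintype.card F)) (x y : GL (Fin 2 ⊕ Fin 2) F) (hx : x ∈ spGL 2 F) (hy : y ∈ spGL 2 F)
    (hx2 : (x : Matrix (Fin 2 ⊕ Fin 2) (Fin 2 ⊕ Fin 2) F) * (x : Matrix (Fin 2 ⊕ Fin 2) (Fin 2 ⊕ Fin 2) F) = 1)
    (hx1 : (x : Matrix (Fin 2 ⊕ Fin 2) (Fin 2 ⊕ Fin 2) F) ≠ 1) (hx1' : (x : Matrix (Fin 2 ⊕ Fin 2) (Fin 2 ⊕ Fin 2) F) ≠ -1)
    (hy2 : (y : Matrix (Fin 2 ⊕ Fin 2) (Fin 2 ⊕ Fin 2) F) * (y : Matrix (Fin 2 ⊕ Fin 2) (Fin 2 ⊕ Fin 2) F) = 1)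
    (hy1 : (y : Matrix (Fin 2 ⊕ Fin 2) (Fin 2 ⊕ Fin 2) F) ≠ 1) (hy1' : (y : Matrix (Fin 2 ⊕ Fin 2) (Fin 2 ⊕ Fin 2) F) ≠ -1) :
    ∃ g ∈ spGL 2 F, g⁻¹ * x * g = y := by
  obtain ⟨A, hA⟩ : ∃ A : Matrix.symplecticGroup (Fin 2) F,
      Cfsg.Agent.Lib.Helper50.spEquiv 2 A = ⟨x, hx⟩ :=
    ⟨(Cfsg.Agent.Lib.Helper50.spEquiv 2).symm ⟨x, hx⟩, MulEquiv.apply_symm_apply _ _⟩
  obtain ⟨B, hB⟩ : ∃ B : Matrix.symplecticGroup (Fin 2) F,
      Cfsg.Agent.Lib.Helper50.spEquiv 2 B = ⟨y, hy⟩ :=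
    ⟨(Cfsg.Agent.Lib.Helper50.spEquiv 2).symm ⟨y, hy⟩, MulEquiv.apply_symm_apply _ _⟩
  have hAX : (A : Matrix (Fin 2 ⊕ Fin 2) (Fin 2 ⊕ Fin 2) F) = (x : Matrix (Fin 2 ⊕ Fin 2) (Fin 2 ⊕ Fin 2) F) := by
    have h : (A : Matrix (Fin 2 ⊕ Fin 2) (Fin 2 ⊕ Fin 2) F) =
      (((Cfsg.Agent.Lib.Helper50.spEquiv 2 A : ↥(spGL 2 F)) : GL (Fin 2 ⊕ Fin 2) F) :
        Matrix (Fin 2 ⊕ Fin 2) (Fin 2 ⊕ Fin 2) F) := rfl
    rw [h, hA]
  have hBY : (B : Matrix (Fin 2 ⊕ Fin 2) (Fin 2 ⊕ Fin 2) F) = (y : Matrix (Fin 2 ⊕ Fin 2) (Fin 2 ⊕ Fin 2) F) := by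
    have h : (B : Matrix (Fin 2 ⊕ Fin 2) (Fin 2 ⊕ Fin 2) F) =
      (((Cfsg.Agent.Lib.Helper50.spEquiv 2 B : ↥(spGL 2 F)) : GL (Fin 2 ⊕ Fin 2) F) :
        Matrix (Fin 2 ⊕ Fin 2) (Fin 2 ⊕ Fin 2) F) := rfl
    rw [h, hB]
  have hcA := isConj_stdInv hodd A (by rw [hAX]; exact hx2) (by rw [hAX]; exact hx1) (by rw [hAX]; exact hx1')
  have hcB := isConj_stdInv hodd B (by rw [hBY]; exact hy2) (by rw [hBY]; exact hy1) (by rw [hBY]; exact hy1')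
  obtain ⟨c, hc⟩ := isConj_iff.mp (hcA.symm.trans hcB)
  refine ⟨((Cfsg.Agent.Lib.Helper50.spEquiv 2 c : ↥(spGL 2 F)) : GL (Fin 2 ⊕ Fin 2) F)⁻¹,
    Subgroup.inv_mem _ (Cfsg.Agent.Lib.Helper50.spEquiv 2 c).2, ?_⟩
  have hxA : x = ((Cfsg.Agent.Lib.Helper50.spEquiv 2 A : ↥(spGL 2 F)) : GL (Fin 2 ⊕ Fin 2) F) := by
    rw [hA]
  have hyB : y = ((Cfsg.Agent.Lib.Helper50.spEquiv 2 B : ↥(spGL 2 F)) : GL (Fin 2 ⊕ Fin 2) F) := by
    rw [hB]
  rw [inv_inv, hxA, hyB, ← Subgroup.coe_inv, ← Subgroup.coe_mul, ← Subgroup.coe_mul, ← map_inv, ← map_mul,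
    ← map_mul, hc]

end Cfsg.Agent.Lib.Helper09.SpF
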