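import Cfsg.Agent.Lib.Helper01.SpUH0

/-!
# K-SpF-J2 (keystone 597514, architect helper38, row S5975)

In `Sp_{2d}(q)`, `q` odd, the elements with `x² = -1` form one conjugacy class (stated for `d = 2`).
Built on helper1's `SpUH0`: the characteristic polynomial is `(X² + 1)^d`, `X² + 1` is squarefree, so the two matrices are
`GL`-conjugate, hence `Sp`-conjugate (`Helper49.sp_conj_of_matrix_conj`).
-/

set_option autoImplicit false

namespace Cfsg.Agent.Lib.Helper09.SpF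

open Cfsg Cfsg.Geo Cfsg.Agent.Lib.Helper01.SpU Polynomial
open scoped Matrix MatrixGroups

variable {F : Type*} [Field F]

/-- general `d` -/
theorem sp_conj_of_sq_neg_one [Fintype F] (hodd : Odd (Fintype.card F)) (d : ℕ) (x y : GL (Fin d ⊕ Fin d) F)
    (hx : x ∈ spGL d F) (hy : y ∈ spGL d F)
    (hx2 : (x : Matrix (Fin d ⊕ Fin d) (Fin d ⊕ Fin d) F) * (x : Matrix (Fin d ⊕ Fin d) (Fin d ⊕ Fin d) F) = -1)
    (hy2 : (y : Matrix (Fin d ⊕ Fin d) (Fin d ⊕ Fin d) F) * (y : Matrix (Fin d ⊕ Fin d) (Fin d ⊕ Fin d) F) = -1) :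
    ∃ g ∈ spGL d F, g⁻¹ * x * g = y := by
  classical
  have h2 : (2 : F) ≠ 0 := by
    intro h
    have hchar : ringChar F = 2 := by
      have : ringChar F ∣ 2 := by
        apply (ringChar.spec F 2).mp
        exact_mod_cast h
      rcases (Nat.dvd_prime Nat.prime_two).mp this with h1 | h1
      · exfalso
        have := CharP.ringChar_ne_one (R := F)
        exact this h1
      · exact h1
    have := FiniteField.even_card_of_char_two hchar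
    exact (Nat.not_even_iff_odd.mpr hodd) (Nat.even_iff.mpr this)
  have hxJ := eq_of_mem_spGL x hx
  have hyJ := eq_of_mem_spGL y hy
  have hcx := charpoly_of_sq_neg_one h2 (x : Matrix (Fin d ⊕ Fin d) (Fin d ⊕ Fin d) F) hxJ hx2
  have hcy := charpoly_of_sq_neg_one h2 (y : Matrix (Fin d ⊕ Fin d) (Fin d ⊕ Fin d) F) hyJ hy2
  have hax : aeval (x : Matrix (Fin d ⊕ Fin d) (Fin d ⊕ Fin d) F) ((X : F[X]) ^ 2 + 1) = 0 := by
    rw [map_add, map_pow, aeval_X, map_one, pow_two, hx2]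
    simp
  have hay : aeval (y : Matrix (Fin d ⊕ Fin d) (Fin d ⊕ Fin d) F) ((X : F[X]) ^ 2 + 1) = 0 := by
    rw [map_add, map_pow, aeval_X, map_one, pow_two, hy2]
    simp
  obtain ⟨P, hP⟩ := Cfsg.Agent.Lib.Helper49.exists_GL_conj_of_charpoly_eq
    (x : Matrix (Fin d ⊕ Fin d) (Fin d ⊕ Fin d) F) (y : Matrix (Fin d ⊕ Fin d) (Fin d ⊕ Fin d) F) _
    (squarefree_X_sq_add_one h2) hax hay (hcx.trans hcy.symm)
  let A : Matrix.symplecticGroup (Fin d) F :=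
    ⟨(x : Matrix (Fin d ⊕ Fin d) (Fin d ⊕ Fin d) F), SymplecticGroup.mem_iff'.mpr hxJ⟩
  let B : Matrix.symplecticGroup (Fin d) F :=
    ⟨(y : Matrix (Fin d ⊕ Fin d) (Fin d ⊕ Fin d) F), SymplecticGroup.mem_iff'.mpr hyJ⟩
  have h4 : ((4 : ℕ) : F) ≠ 0 := by
    have : ((4 : ℕ) : F) = 2 * 2 := by norm_num
    rw [this]
    exact mul_ne_zero h2 h2
  have hA4 : A ^ 4 = 1 := by
    apply Subtype.ext
    show (x : Matrix (Fin d ⊕ Fin d) (Fin d ⊕ Fin d) F) ^ 4 = 1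
    have : (x : Matrix (Fin d ⊕ Fin d) (Fin d ⊕ Fin d) F) ^ 4 =
        ((x : Matrix (Fin d ⊕ Fin d) (Fin d ⊕ Fin d) F) * (x : Matrix (Fin d ⊕ Fin d) (Fin d ⊕ Fin d) F)) *
        ((x : Matrix (Fin d ⊕ Fin d) (Fin d ⊕ Fin d) F) * (x : Matrix (Fin d ⊕ Fin d) (Fin d ⊕ Fin d) F)) := by
      noncomm_ring
    rw [this, hx2]
    simp
  have hconj : IsConj A B :=
    Cfsg.Agent.Lib.Helper49.sp_conj_of_matrix_conj A B 4 h4 hA4 (P : Matrix _ _ F)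
      ((Matrix.isUnit_iff_isUnit_det _).mp P.isUnit) hP
  obtain ⟨c, hc⟩ := isConj_iff.mp hconj
  have hcc1 : c.1 * (c⁻¹ : Matrix.symplecticGroup (Fin d) F).1 = 1 := by
    show (c * c⁻¹).1 = 1
    rw [mul_inv_cancel]
    rfl
  have hcc2 : (c⁻¹ : Matrix.symplecticGroup (Fin d) F).1 * c.1 = 1 := by
    show (c⁻¹ * c).1 = 1
    rw [inv_mul_cancel]
    rfl
  let gC : GL (Fin d ⊕ Fin d) F := ⟨c.1, (c⁻¹ : Matrix.symplecticGroup (Fin d) F).1, hcc1, hcc2⟩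
  have hgC : gC ∈ spGL d F := mem_spGL_of_eq gC (SymplecticGroup.mem_iff'.mp c.2)
  refine ⟨gC⁻¹, Subgroup.inv_mem _ hgC, ?_⟩
  rw [inv_inv]
  apply Units.ext
  show c.1 * (x : Matrix (Fin d ⊕ Fin d) (Fin d ⊕ Fin d) F) *
    (c⁻¹ : Matrix.symplecticGroup (Fin d) F).1 = (y : Matrix (Fin d ⊕ Fin d) (Fin d ⊕ Fin d) F)
  exact congrArg Subtype.val hc

/-- **K-SpF-J2 (597514).** -/
theorem sp4_invol_conj_neg [Fintype F] (hodd : Odd (Fintype.card F)) (x y : GL (Fin 2 ⊕ Fin 2) F) (hx : x ∈ spGL 2 F) (hy : y ∈ spGL 2 F)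
    (hx2 : (x : Matrix (Fin 2 ⊕ Fin 2) (Fin 2 ⊕ Fin 2) F) * (x : Matrix (Fin 2 ⊕ Fin 2) (Fin 2 ⊕ Fin 2) F) = -1)
    (hy2 : (y : Matrix (Fin 2 ⊕ Fin 2) (Fin 2 ⊕ Fin 2) F) * (y : Matrix (Fin 2 ⊕ Fin 2) (Fin 2 ⊕ Fin 2) F) = -1) :
    ∃ g ∈ spGL 2 F, g⁻¹ * x * g = y :=
  sp_conj_of_sq_neg_one hodd 2 x y hx hy hx2 hy2

end Cfsg.Agent.Lib.Helper09.SpF
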