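import Mathlib
import Cfsg.Agent.Lib.Helper49.StOpDefs

set_option autoImplicit false

/-!
# Leaf EX2 of the pack K-StOp (S2548): the centre of `Ω⁺_4(2)` is trivial

A central element commutes with the three commutators
`⁅s, x⁆`, `⁅r, xp⁆`, `⁅rf, s⁆` (explicit isometries of `Q = x_0 y_0 + x_1 y_1`); the matrices commuting
with the three are `a + b E` with `E` a singular idempotent; invertibility forces the identity.
-/

namespace Cfsg.Agent.Lib.Helper09.StOp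

open Matrix Cfsg Cfsg.Agent.Lib.Helper49.StOp
open scoped commutatorElement

variable {F : Type*} [Field F]

/-- `e_0 ↔ e_1`, `f_0 ↔ f_1` -/
def ex2S : Matrix (OI 2) (OI 2) F := fromBlocks !![0,1;1,0] 0 0 !![0,1;1,0]
/-- `e_1 ↦ e_1 + e_0`, `f_0 ↦ f_0 - f_1` -/
def ex2X : Matrix (OI 2) (OI 2) F := fromBlocks !![1,1;0,1] 0 0 !![1,0;-1,1]
/-- the inverse of `ex2X` -/
def ex2Xi : Matrix (OI 2) (OI 2) F := fromBlocks !![1,-1;0,1] 0 0 !![1,0;1,1]
/-- `e_0 ↔ f_1`, `e_1 ↔ f_0` -/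
def ex2R : Matrix (OI 2) (OI 2) F := fromBlocks 0 !![0,1;1,0] !![0,1;1,0] 0
/-- `f_1 ↦ f_1 + e_0`, `f_0 ↦ f_0 - e_1` -/
def ex2XP : Matrix (OI 2) (OI 2) F := fromBlocks 1 !![0,1;-1,0] 0 1
/-- the inverse of `ex2XP` -/
def ex2XPi : Matrix (OI 2) (OI 2) F := fromBlocks 1 !![0,-1;1,0] 0 1
/-- `e_1 ↔ f_1` -/
def ex2RF : Matrix (OI 2) (OI 2) F := fromBlocks !![1,0;0,0] !![0,0;0,1] !![0,0;0,1] !![1,0;0,0]
/-- the commutator of `ex2S` and `ex2X` -/
def ex2K1 : Matrix (OI 2) (OI 2) F := fromBlocks !![1,-1;1,0] 0 0 !![0,-1;1,1]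
/-- the commutator of `ex2R` and `ex2XP` -/
def ex2K2 : Matrix (OI 2) (OI 2) F := fromBlocks 1 !![0,-1;1,0] !![0,-1;1,0] 0
/-- the commutator of `ex2RF` and `ex2S`: `e_i ↔ f_i` -/
def ex2D : Matrix (OI 2) (OI 2) F := fromBlocks 0 1 1 0

theorem mul_apply4 (A B : Matrix (OI 2) (OI 2) F) (a b : OI 2) :
    (A * B) a b = A a (Sum.inl 0) * B (Sum.inl 0) b + A a (Sum.inl 1) * B (Sum.inl 1) b
      + A a (Sum.inr 0) * B (Sum.inr 0) b + A a (Sum.inr 1) * B (Sum.inr 1) b := by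
  rw [Matrix.mul_apply, Fintype.sum_sum_type, Fin.sum_univ_two, Fin.sum_univ_two]
  ring

theorem ex2S_sq : ex2S * ex2S = (1 : Matrix (OI 2) (OI 2) F) := by
  unfold ex2S
  rw [Matrix.fromBlocks_multiply, ← Matrix.fromBlocks_one]
  congr 1 <;> ext i j <;> fin_cases i <;> fin_cases j <;> simp

theorem ex2X_mul : ex2X * ex2Xi = (1 : Matrix (OI 2) (OI 2) F) := by
  unfold ex2X ex2Xi
  rw [Matrix.fromBlocks_multiply, ← Matrix.fromBlocks_one]
  congr 1 <;> ext i j <;> fin_cases i <;> fin_cases j <;> simp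

theorem ex2Xi_mul : ex2Xi * ex2X = (1 : Matrix (OI 2) (OI 2) F) := by
  unfold ex2X ex2Xi
  rw [Matrix.fromBlocks_multiply, ← Matrix.fromBlocks_one]
  congr 1 <;> ext i j <;> fin_cases i <;> fin_cases j <;> simp

theorem ex2R_sq : ex2R * ex2R = (1 : Matrix (OI 2) (OI 2) F) := by
  unfold ex2R
  rw [Matrix.fromBlocks_multiply, ← Matrix.fromBlocks_one]
  congr 1 <;> ext i j <;> fin_cases i <;> fin_cases j <;> simp

theorem ex2XP_mul : ex2XP * ex2XPi = (1 : Matrix (OI 2) (OI 2) F) := by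
  unfold ex2XP ex2XPi
  rw [Matrix.fromBlocks_multiply, ← Matrix.fromBlocks_one]
  congr 1 <;> ext i j <;> fin_cases i <;> fin_cases j <;> simp

theorem ex2XPi_mul : ex2XPi * ex2XP = (1 : Matrix (OI 2) (OI 2) F) := by
  unfold ex2XP ex2XPi
  rw [Matrix.fromBlocks_multiply, ← Matrix.fromBlocks_one]
  congr 1 <;> ext i j <;> fin_cases i <;> fin_cases j <;> simp

theorem ex2RF_sq : ex2RF * ex2RF = (1 : Matrix (OI 2) (OI 2) F) := by
  unfold ex2RF
  rw [Matrix.fromBlocks_multiply, ← Matrix.fromBlocks_one]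
  congr 1 <;> ext i j <;> fin_cases i <;> fin_cases j <;> simp

theorem ex2_comm1 : ex2S * ex2X * ex2S * ex2Xi = (ex2K1 : Matrix (OI 2) (OI 2) F) := by
  unfold ex2S ex2X ex2Xi ex2K1
  simp only [Matrix.fromBlocks_multiply]
  congr 1 <;> ext i j <;> fin_cases i <;> fin_cases j <;> simp

theorem ex2_comm2 : ex2R * ex2XP * ex2R * ex2XPi = (ex2K2 : Matrix (OI 2) (OI 2) F) := by
  unfold ex2R ex2XP ex2XPi ex2K2
  simp only [Matrix.fromBlocks_multiply]
  congr 1 <;> ext i j <;> fin_cases i <;> fin_cases j <;> simp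

theorem ex2_comm3 : ex2RF * ex2S * ex2RF * ex2S = (ex2D : Matrix (OI 2) (OI 2) F) := by
  unfold ex2RF ex2S ex2D
  simp only [Matrix.fromBlocks_multiply]
  congr 1 <;> ext i j <;> fin_cases i <;> fin_cases j <;> simp

theorem ex2S_isom (u : OI 2 → F) : quadFormPlus 2 F (ex2S *ᵥ u) = quadFormPlus 2 F u := by
  unfold quadFormPlus
  simp [ex2S, Matrix.mulVec, dotProduct, Fintype.sum_sum_type, Fin.sum_univ_two]
  ring

theorem ex2X_isom (u : OI 2 → F) : quadFormPlus 2 F (ex2X *ᵥ u) = quadFormPlus 2 F u := by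
  unfold quadFormPlus
  simp [ex2X, Matrix.mulVec, dotProduct, Fintype.sum_sum_type, Fin.sum_univ_two]
  ring

theorem ex2R_isom (u : OI 2 → F) : quadFormPlus 2 F (ex2R *ᵥ u) = quadFormPlus 2 F u := by
  unfold quadFormPlus
  simp [ex2R, Matrix.mulVec, dotProduct, Fintype.sum_sum_type, Fin.sum_univ_two]
  ring

theorem ex2XP_isom (u : OI 2 → F) : quadFormPlus 2 F (ex2XP *ᵥ u) = quadFormPlus 2 F u := by
  unfold quadFormPlus
  simp [ex2XP, Matrix.mulVec, dotProduct, Fintype.sum_sum_type, Fin.sum_univ_two]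
  ring

theorem ex2RF_isom (u : OI 2 → F) : quadFormPlus 2 F (ex2RF *ᵥ u) = quadFormPlus 2 F u := by
  unfold quadFormPlus
  simp [ex2RF, Matrix.mulVec, dotProduct, Fintype.sum_sum_type, Fin.sum_univ_two]
  ring

theorem ex2_eq_one_of_ne_zero [Fintype F] (hq : Fintype.card F = 2) (a : F) (ha : a ≠ 0) : a = 1 := by
  classical
  have h1 : Fintype.card Fˣ = 1 := by rw [Fintype.card_units, hq]
  have hsub : Subsingleton Fˣ := Fintype.card_le_one_iff_subsingleton.mp (le_of_eq h1)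
  have := hsub.elim (Units.mk0 a ha) 1
  simpa using congrArg Units.val this

theorem ex2_zero_or_one [Fintype F] (hq : Fintype.card F = 2) (a : F) : a = 0 ∨ a = 1 := by
  by_cases ha : a = 0
  · exact Or.inl ha
  · exact Or.inr (ex2_eq_one_of_ne_zero hq a ha)

theorem ex2_two_eq_zero [Fintype F] (hq : Fintype.card F = 2) : (2 : F) = 0 := by
  by_contra h
  have h1 := ex2_eq_one_of_ne_zero hq _ h
  have h0 : (1 : F) = 0 := by linear_combination h1
  exact one_ne_zero h0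

theorem ex2_col_contra (M N : Matrix (OI 2) (OI 2) F) (hNM : N * M = 1) (j j' : OI 2) (hne : j ≠ j')
    (hcol : ∀ c, M c j = M c j') : False := by
  have h1 : (N * M) j j = (N * M) j j' := by
    simp only [Matrix.mul_apply]
    exact Finset.sum_congr rfl (fun c _ => by rw [hcol c])
  rw [hNM, Matrix.one_apply_eq, Matrix.one_apply_ne hne] at h1
  exact one_ne_zero h1

set_option maxHeartbeats 1600000 in
theorem ex2_commutant [Fintype F] (hF : Fintype.card F = 2) (M N : Matrix (OI 2) (OI 2) F)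
    (hNM : N * M = 1) (h1 : ex2K1 * M = M * ex2K1) (h2 : ex2K2 * M = M * ex2K2)
    (h3 : ex2D * M = M * ex2D) : M = 1 := by
  have h20 : (2 : F) = 0 := ex2_two_eq_zero hF
  have e0 : -M (Sum.inl 0) (Sum.inl 1) - M (Sum.inl 1) (Sum.inl 0) = 0 := by
    have q := congrFun (congrFun h1 (Sum.inl 0)) (Sum.inl 0)
    rw [mul_apply4, mul_apply4] at q
    simp [ex2K1] at q
    linear_combination q
  have e1 : M (Sum.inl 0) (Sum.inl 0) + M (Sum.inl 0) (Sum.inl 1) - M (Sum.inl 1) (Sum.inl 1) = 0 := by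
    have q := congrFun (congrFun h1 (Sum.inl 0)) (Sum.inl 1)
    rw [mul_apply4, mul_apply4] at q
    simp [ex2K1] at q
    linear_combination q
  have e2 : M (Sum.inl 0) (Sum.inr 0) - M (Sum.inl 0) (Sum.inr 1) - M (Sum.inl 1) (Sum.inr 0) = 0 := by
    have q := congrFun (congrFun h1 (Sum.inl 0)) (Sum.inr 0)
    rw [mul_apply4, mul_apply4] at q
    simp [ex2K1] at q
    linear_combination q
  have e3 : M (Sum.inl 0) (Sum.inr 0) - M (Sum.inl 1) (Sum.inr 1) = 0 := by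
    have q := congrFun (congrFun h1 (Sum.inl 0)) (Sum.inr 1)
    rw [mul_apply4, mul_apply4] at q
    simp [ex2K1] at q
    linear_combination q
  have e8 : -M (Sum.inr 0) (Sum.inl 0) - M (Sum.inr 0) (Sum.inl 1) - M (Sum.inr 1) (Sum.inl 0) = 0 := by
    have q := congrFun (congrFun h1 (Sum.inr 0)) (Sum.inl 0)
    rw [mul_apply4, mul_apply4] at q
    simp [ex2K1] at q
    linear_combination q
  have e9 : M (Sum.inr 0) (Sum.inl 0) - M (Sum.inr 1) (Sum.inl 1) = 0 := by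
    have q := congrFun (congrFun h1 (Sum.inr 0)) (Sum.inl 1)
    rw [mul_apply4, mul_apply4] at q
    simp [ex2K1] at q
    linear_combination -q
  have e10 : -M (Sum.inr 0) (Sum.inr 1) - M (Sum.inr 1) (Sum.inr 0) = 0 := by
    have q := congrFun (congrFun h1 (Sum.inr 0)) (Sum.inr 0)
    rw [mul_apply4, mul_apply4] at q
    simp [ex2K1] at q
    linear_combination q
  have e11 : M (Sum.inr 0) (Sum.inr 0) - M (Sum.inr 0) (Sum.inr 1) - M (Sum.inr 1) (Sum.inr 1) = 0 := by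
    have q := congrFun (congrFun h1 (Sum.inr 0)) (Sum.inr 1)
    rw [mul_apply4, mul_apply4] at q
    simp [ex2K1] at q
    linear_combination q
  have e16 : -M (Sum.inl 0) (Sum.inr 1) - M (Sum.inr 1) (Sum.inl 0) = 0 := by
    have q := congrFun (congrFun h2 (Sum.inl 0)) (Sum.inl 0)
    rw [mul_apply4, mul_apply4] at q
    simp [ex2K2] at q
    linear_combination q
  have e17 : M (Sum.inl 0) (Sum.inr 0) - M (Sum.inr 1) (Sum.inl 1) = 0 := by
    have q := congrFun (congrFun h2 (Sum.inl 0)) (Sum.inl 1)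
    rw [mul_apply4, mul_apply4] at q
    simp [ex2K2] at q
    linear_combination -q
  have e18 : -M (Sum.inl 0) (Sum.inl 1) + M (Sum.inl 0) (Sum.inr 0) - M (Sum.inr 1) (Sum.inr 0) = 0 := by
    have q := congrFun (congrFun h2 (Sum.inl 0)) (Sum.inr 0)
    rw [mul_apply4, mul_apply4] at q
    simp [ex2K2] at q
    linear_combination q
  have e19 : M (Sum.inl 0) (Sum.inl 0) + M (Sum.inl 0) (Sum.inr 1) - M (Sum.inr 1) (Sum.inr 1) = 0 := by
    have q := congrFun (congrFun h2 (Sum.inl 0)) (Sum.inr 1)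
    rw [mul_apply4, mul_apply4] at q
    simp [ex2K2] at q
    linear_combination q
  have e33 : -M (Sum.inl 0) (Sum.inr 1) + M (Sum.inr 0) (Sum.inl 1) = 0 := by
    have q := congrFun (congrFun h3 (Sum.inl 0)) (Sum.inl 1)
    rw [mul_apply4, mul_apply4] at q
    simp [ex2D] at q
    linear_combination q
  have e34 : -M (Sum.inl 0) (Sum.inl 0) + M (Sum.inr 0) (Sum.inr 0) = 0 := by
    have q := congrFun (congrFun h3 (Sum.inl 0)) (Sum.inr 0)
    rw [mul_apply4, mul_apply4] at q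
    simp [ex2D] at q
    linear_combination q
  have t02 : M (Sum.inl 0) (Sum.inr 0) = 0 := by
    linear_combination e8 + e9 + e16 + e17 + e33 + (M (Sum.inl 0) (Sum.inr 1) + M (Sum.inr 1) (Sum.inl 0) + M (Sum.inr 1) (Sum.inl 1)) * h20
  have t03 : M (Sum.inl 0) (Sum.inr 1) = M (Sum.inl 0) (Sum.inl 1) := by
    linear_combination e8 + e9 + e10 + e11 + e16 + e17 + e18 + e19 + e33 + e34 + (-M (Sum.inl 0) (Sum.inr 0) + M (Sum.inl 0) (Sum.inr 1) - M (Sum.inr 0) (Sum.inr 0) + M (Sum.inr 0) (Sum.inr 1) + M (Sum.inr 1) (Sum.inl 0) + M (Sum.inr 1) (Sum.inl 1) + M (Sum.inr 1) (Sum.inr 0) + M (Sum.inr 1) (Sum.inr 1)) * h20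
  have t10 : M (Sum.inl 1) (Sum.inl 0) = M (Sum.inl 0) (Sum.inl 1) := by
    linear_combination e0 + (M (Sum.inl 1) (Sum.inl 0)) * h20
  have t11 : M (Sum.inl 1) (Sum.inl 1) = M (Sum.inl 0) (Sum.inl 0) + M (Sum.inl 0) (Sum.inl 1) := by
    linear_combination e1 + (-M (Sum.inl 0) (Sum.inl 0) - M (Sum.inl 0) (Sum.inl 1) + M (Sum.inl 1) (Sum.inl 1)) * h20
  have t12 : M (Sum.inl 1) (Sum.inr 0) = M (Sum.inl 0) (Sum.inl 1) := by
    linear_combination e2 + e10 + e11 + e18 + e19 + e34 + (-M (Sum.inl 0) (Sum.inr 0) + M (Sum.inl 1) (Sum.inr 0) - M (Sum.inr 0) (Sum.inr 0) + M (Sum.inr 0) (Sum.inr 1) + M (Sum.inr 1) (Sum.inr 0) + M (Sum.inr 1) (Sum.inr 1)) * h20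
  have t13 : M (Sum.inl 1) (Sum.inr 1) = 0 := by
    linear_combination e3 + e8 + e9 + e16 + e17 + e33 + (-M (Sum.inl 0) (Sum.inr 0) + M (Sum.inl 0) (Sum.inr 1) + M (Sum.inl 1) (Sum.inr 1) + M (Sum.inr 1) (Sum.inl 0) + M (Sum.inr 1) (Sum.inl 1)) * h20
  have t20 : M (Sum.inr 0) (Sum.inl 0) = 0 := by
    linear_combination e8 + e16 + e33 + (M (Sum.inl 0) (Sum.inr 1) + M (Sum.inr 0) (Sum.inl 0) + M (Sum.inr 1) (Sum.inl 0)) * h20
  have t21 : M (Sum.inr 0) (Sum.inl 1) = M (Sum.inl 0) (Sum.inl 1) := by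
    linear_combination e8 + e9 + e10 + e11 + e16 + e17 + e18 + e19 + e34 + (-M (Sum.inl 0) (Sum.inr 0) + M (Sum.inr 0) (Sum.inl 1) - M (Sum.inr 0) (Sum.inr 0) + M (Sum.inr 0) (Sum.inr 1) + M (Sum.inr 1) (Sum.inl 0) + M (Sum.inr 1) (Sum.inl 1) + M (Sum.inr 1) (Sum.inr 0) + M (Sum.inr 1) (Sum.inr 1)) * h20
  have t22 : M (Sum.inr 0) (Sum.inr 0) = M (Sum.inl 0) (Sum.inl 0) := by
    linear_combination e34
  have t23 : M (Sum.inr 0) (Sum.inr 1) = M (Sum.inl 0) (Sum.inl 1) := by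
    linear_combination e8 + e9 + e10 + e16 + e17 + e18 + e33 + (-M (Sum.inl 0) (Sum.inr 0) + M (Sum.inl 0) (Sum.inr 1) + M (Sum.inr 0) (Sum.inr 1) + M (Sum.inr 1) (Sum.inl 0) + M (Sum.inr 1) (Sum.inl 1) + M (Sum.inr 1) (Sum.inr 0)) * h20
  have t30 : M (Sum.inr 1) (Sum.inl 0) = M (Sum.inl 0) (Sum.inl 1) := by
    linear_combination e8 + e9 + e10 + e11 + e17 + e18 + e19 + e33 + e34 + (-M (Sum.inl 0) (Sum.inr 0) - M (Sum.inr 0) (Sum.inr 0) + M (Sum.inr 0) (Sum.inr 1) + M (Sum.inr 1) (Sum.inl 0) + M (Sum.inr 1) (Sum.inl 1) + M (Sum.inr 1) (Sum.inr 0) + M (Sum.inr 1) (Sum.inr 1)) * h20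
  have t31 : M (Sum.inr 1) (Sum.inl 1) = 0 := by
    linear_combination e8 + e9 + e16 + e33 + (M (Sum.inl 0) (Sum.inr 1) + M (Sum.inr 1) (Sum.inl 0) + M (Sum.inr 1) (Sum.inl 1)) * h20
  have t32 : M (Sum.inr 1) (Sum.inr 0) = M (Sum.inl 0) (Sum.inl 1) := by
    linear_combination e8 + e9 + e16 + e17 + e18 + e33 + (-M (Sum.inl 0) (Sum.inr 0) + M (Sum.inl 0) (Sum.inr 1) + M (Sum.inr 1) (Sum.inl 0) + M (Sum.inr 1) (Sum.inl 1) + M (Sum.inr 1) (Sum.inr 0)) * h20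
  have t33 : M (Sum.inr 1) (Sum.inr 1) = M (Sum.inl 0) (Sum.inl 0) + M (Sum.inl 0) (Sum.inl 1) := by
    linear_combination e8 + e9 + e10 + e11 + e16 + e17 + e18 + e33 + e34 + (-M (Sum.inl 0) (Sum.inr 0) + M (Sum.inl 0) (Sum.inr 1) - M (Sum.inr 0) (Sum.inr 0) + M (Sum.inr 0) (Sum.inr 1) + M (Sum.inr 1) (Sum.inl 0) + M (Sum.inr 1) (Sum.inl 1) + M (Sum.inr 1) (Sum.inr 0) + M (Sum.inr 1) (Sum.inr 1)) * h20
  rcases ex2_zero_or_one hF (M (Sum.inl 0) (Sum.inl 0)) with ha | ha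
  · exfalso
    apply ex2_col_contra M N hNM (Sum.inl 0) (Sum.inr 0) (by simp)
    simp only [Sum.forall, Fin.forall_fin_two]
    refine ⟨⟨?_, ?_⟩, ?_, ?_⟩
    · rw [ha, t02]
    · rw [t10, t12]
    · rw [t20, t22, ha]
    · rw [t30, t32]
  · rcases ex2_zero_or_one hF (M (Sum.inl 0) (Sum.inl 1)) with hb | hb
    · rw [ha, hb] at t11 t33
      rw [hb] at t03 t10 t12 t21 t23 t30 t32
      rw [ha] at t22
      rw [add_zero] at t11 t33
      ext i j
      rcases i with i | i <;> rcases j with j | j <;> fin_cases i <;> fin_cases j <;>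
        simp [ha, hb, t02, t03, t10, t11, t12, t13, t20, t21, t22, t23, t30, t31, t32, t33]
    · exfalso
      have hab : M (Sum.inl 0) (Sum.inl 0) + M (Sum.inl 0) (Sum.inl 1) = 0 := by
        rw [ha, hb]; linear_combination h20
      apply ex2_col_contra M N hNM (Sum.inl 1) (Sum.inr 1) (by simp)
      simp only [Sum.forall, Fin.forall_fin_two]
      refine ⟨⟨?_, ?_⟩, ?_, ?_⟩
      · rw [t03]
      · rw [t11, t13, hab]
      · rw [t21, t23]
      · rw [t31, t33, hab]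

theorem center_Omega_eq_bot [Fintype F] (hF : Fintype.card F = 2) :
    Subgroup.center ↥(Cfsg.Omega F (Cfsg.quadFormPlus 2 F)) = ⊥ := by
  obtain ⟨s, hs⟩ := exists_of_isometry (ex2S : Matrix (OI 2) (OI 2) F) ex2S ex2S_sq ex2S_sq ex2S_isom
  obtain ⟨x, hx⟩ := exists_of_isometry (ex2X : Matrix (OI 2) (OI 2) F) ex2Xi ex2X_mul ex2Xi_mul ex2X_isom
  obtain ⟨r, hr⟩ := exists_of_isometry (ex2R : Matrix (OI 2) (OI 2) F) ex2R ex2R_sq ex2R_sq ex2R_isom
  obtain ⟨xp, hxp⟩ := exists_of_isometry (ex2XP : Matrix (OI 2) (OI 2) F) ex2XPi ex2XP_mul ex2XPi_mul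
    ex2XP_isom
  obtain ⟨rf, hrf⟩ := exists_of_isometry (ex2RF : Matrix (OI 2) (OI 2) F) ex2RF ex2RF_sq ex2RF_sq
    ex2RF_isom
  have hsi : mat s⁻¹ = ex2S := by
    rw [mat_inv, hs]; exact Matrix.inv_eq_right_inv ex2S_sq
  have hxi : mat x⁻¹ = ex2Xi := by
    rw [mat_inv, hx]; exact Matrix.inv_eq_right_inv ex2X_mul
  have hri : mat r⁻¹ = ex2R := by
    rw [mat_inv, hr]; exact Matrix.inv_eq_right_inv ex2R_sq
  have hxpi : mat xp⁻¹ = ex2XPi := by
    rw [mat_inv, hxp]; exact Matrix.inv_eq_right_inv ex2XP_mul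
  have hrfi : mat rf⁻¹ = ex2RF := by
    rw [mat_inv, hrf]; exact Matrix.inv_eq_right_inv ex2RF_sq
  have hk1 : mat ⁅s, x⁆ = ex2K1 := by
    rw [commutatorElement_def, mat_mul, mat_mul, mat_mul, hs, hx, hsi, hxi]; exact ex2_comm1
  have hk2 : mat ⁅r, xp⁆ = ex2K2 := by
    rw [commutatorElement_def, mat_mul, mat_mul, mat_mul, hr, hxp, hri, hxpi]; exact ex2_comm2
  have hk3 : mat ⁅rf, s⁆ = ex2D := by
    rw [commutatorElement_def, mat_mul, mat_mul, mat_mul, hrf, hs, hrfi, hsi]; exact ex2_comm3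
  rw [Subgroup.eq_bot_iff_forall]
  intro z hz
  have hc : ∀ g h : OG 2 F, mat ⁅g, h⁆ * mat z.1 = mat z.1 * mat ⁅g, h⁆ := by
    intro g h
    have hmem : ⁅g, h⁆ ∈ Cfsg.Omega F (Cfsg.quadFormPlus 2 F) :=
      Subgroup.commutator_mem_commutator (Subgroup.mem_top g) (Subgroup.mem_top h)
    have h1 := Subgroup.mem_center_iff.mp hz ⟨⁅g, h⁆, hmem⟩
    have h2 := congrArg (fun w : ↥(Cfsg.Omega F (Cfsg.quadFormPlus 2 F)) => mat w.1) h1
    simpa [mat_mul] using h2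
  have hM : mat z.1 = 1 :=
    ex2_commutant hF (mat z.1) (mat z.1⁻¹) (mat_inv_mul_mat z.1)
      (by rw [← hk1]; exact hc s x) (by rw [← hk2]; exact hc r xp) (by rw [← hk3]; exact hc rf s)
  apply Subtype.ext
  apply mat_injective
  rw [hM]
  rfl

end Cfsg.Agent.Lib.Helper09.StOp
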