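import Mathlib
import Cfsg.Prelude.Def_Sporadic_a

set_option autoImplicit false

namespace Cfsg.Agent.Lib.Helper09

open Finset

set_option linter.unusedSectionVars false

variable {α : Type*} [Fintype α] [DecidableEq α] {t k : ℕ} {B : Set (Finset α)}

/-- the blocks as a finset -/
noncomputable def blocks (B : Set (Finset α)) : Finset (Finset α) :=
  haveI := Classical.decPred (· ∈ B)
  Finset.univ.filter (· ∈ B)

theorem mem_blocks {b : Finset α} : b ∈ blocks B ↔ b ∈ B := by
  classical
  simp [blocks]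

theorem coe_blocks : (blocks B : Set (Finset α)) = B := by
  ext b
  simp [mem_blocks]

theorem ncard_eq_card_blocks : B.ncard = (blocks B).card := by
  conv_lhs => rw [← coe_blocks (B := B)]
  exact Set.ncard_coe_finset _

/-- the block through a `t`-set -/
noncomputable def blockOf (hB : Cfsg.IsSteinerSystem t k B) (s : Finset α) : Finset α :=
  if h : s.card = t then Classical.choose (hB.2 s h).exists else ∅

theorem blockOf_spec (hB : Cfsg.IsSteinerSystem t k B) {s : Finset α} (hs : s.card = t) :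
    blockOf hB s ∈ B ∧ s ⊆ blockOf hB s := by
  unfold blockOf
  rw [dif_pos hs]
  exact Classical.choose_spec (hB.2 s hs).exists

theorem blockOf_eq (hB : Cfsg.IsSteinerSystem t k B) {s b : Finset α} (hs : s.card = t)
    (hb : b ∈ B) (hsb : s ⊆ b) : blockOf hB s = b :=
  (hB.2 s hs).unique (blockOf_spec hB hs) ⟨hb, hsb⟩

/-- two blocks sharing a `t`-set coincide -/
theorem block_eq_of_subset (hB : Cfsg.IsSteinerSystem t k B) {s b c : Finset α} (hs : s.card = t)
    (hb : b ∈ B) (hc : c ∈ B) (hsb : s ⊆ b) (hsc : s ⊆ c) : b = c :=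
  (hB.2 s hs).unique ⟨hb, hsb⟩ ⟨hc, hsc⟩

/-- two distinct blocks share fewer than `t` points -/
theorem card_inter_lt (hB : Cfsg.IsSteinerSystem t k B) {b c : Finset α}
    (hb : b ∈ B) (hc : c ∈ B) (hbc : b ≠ c) : (b ∩ c).card < t := by
  by_contra hlt
  rw [not_lt] at hlt
  obtain ⟨s, hs, hst⟩ := Finset.exists_subset_card_eq hlt
  exact hbc (block_eq_of_subset hB hst hb hc (hs.trans inter_subset_left)
    (hs.trans inter_subset_right))

/-- number of blocks through an `i`-set, `i ≤ t` -/
theorem card_blocks_through (hB : Cfsg.IsSteinerSystem t k B) (I : Finset α) (hI : I.card ≤ t) :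
    ((blocks B).filter (I ⊆ ·)).card * Nat.choose (k - I.card) (t - I.card)
      = Nat.choose (Fintype.card α - I.card) (t - I.card) := by
  have h1 : ((powersetCard t (univ : Finset α)).filter (I ⊆ ·)).card
      = Nat.choose (Fintype.card α - I.card) (t - I.card) := by
    rw [card_filter_powersetCard_subset I univ t (subset_univ _) hI, card_univ]
  rw [← h1]
  have hmaps : ∀ x ∈ (powersetCard t (univ : Finset α)).filter (I ⊆ ·),
      blockOf hB x ∈ (blocks B).filter (I ⊆ ·) := by
    intro x hx
    rw [mem_filter, mem_powersetCard] at hx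
    have := blockOf_spec hB hx.1.2
    rw [mem_filter, mem_blocks]
    exact ⟨this.1, hx.2.trans this.2⟩
  rw [card_eq_sum_card_fiberwise hmaps]
  rw [← smul_eq_mul, ← sum_const]
  apply sum_congr rfl
  intro b hb
  rw [mem_filter, mem_blocks] at hb
  have hbk : b.card = k := hB.1 b hb.1
  have hcnt := card_filter_powersetCard_subset I b t hb.2 hI
  rw [hbk] at hcnt
  rw [← hcnt]
  congr 1
  ext s
  simp only [mem_filter, mem_powersetCard]
  constructor
  · rintro ⟨⟨hsb, hst⟩, hIs⟩
    exact ⟨⟨⟨subset_univ _, hst⟩, hIs⟩, blockOf_eq hB hst hb.1 hsb⟩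
  · rintro ⟨⟨⟨_, hst⟩, hIs⟩, hbs⟩
    exact ⟨⟨hbs ▸ (blockOf_spec hB hst).2, hst⟩, hIs⟩

/-- intersection-number equations: if every `i`-set lies in exactly `L` blocks then
`∑_{c ≠ b} C(|b ∩ c|, i) = C(k, i) (L - 1)`. -/
theorem sum_choose_inter (hB : Cfsg.IsSteinerSystem t k B) {b : Finset α} (hb : b ∈ B)
    (i L : ℕ) (hL : ∀ I : Finset α, I.card = i → ((blocks B).filter (I ⊆ ·)).card = L) :
    ∑ c ∈ (blocks B).erase b, Nat.choose (b ∩ c).card i = Nat.choose k i * (L - 1) := by
  have hbk : b.card = k := hB.1 b hb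
  have h1 : ∀ c ∈ (blocks B).erase b, Nat.choose (b ∩ c).card i
      = ∑ I ∈ powersetCard i b, if I ⊆ c then 1 else 0 := by
    intro c _
    rw [← card_powersetCard, ← card_filter]
    congr 1
    ext I
    simp only [mem_powersetCard, mem_filter, subset_inter_iff]
    tauto
  rw [sum_congr rfl h1, sum_comm]
  have h2 : ∀ I ∈ powersetCard i b, (∑ c ∈ (blocks B).erase b, if I ⊆ c then 1 else 0) = L - 1 := by
    intro I hI
    rw [mem_powersetCard] at hI
    rw [← card_filter, filter_erase, card_erase_of_mem, hL I hI.2]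
    rw [mem_filter, mem_blocks]
    exact ⟨hb, hI.1⟩
  rw [sum_congr rfl h2, sum_const, card_powersetCard, hbk, smul_eq_mul]

end Cfsg.Agent.Lib.Helper09

namespace Cfsg.Agent.Lib.Helper09

open Finset

variable {α : Type*} [Fintype α] [DecidableEq α] {t k : ℕ} {B : Set (Finset α)}

/-- explicit number of blocks through an `i`-set -/
theorem card_blocks_through_eq (hB : Cfsg.IsSteinerSystem t k B) (i L : ℕ) (hi : i ≤ t)
    (hpos : 0 < Nat.choose (k - i) (t - i))
    (h : L * Nat.choose (k - i) (t - i) = Nat.choose (Fintype.card α - i) (t - i))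
    (I : Finset α) (hIi : I.card = i) :
    ((blocks B).filter (I ⊆ ·)).card = L := by
  have h1 := card_blocks_through hB I (by rw [hIi]; exact hi)
  rw [hIi, ← h] at h1
  exact Nat.eq_of_mul_eq_mul_right hpos h1

/-- the sums `∑_{c ≠ b} C(|b ∩ c|, i)` with explicit numbers -/
theorem sum_choose_inter_eq (hB : Cfsg.IsSteinerSystem t k B) {b : Finset α} (hb : b ∈ B)
    (i L : ℕ) (hi : i ≤ t)
    (hpos : 0 < Nat.choose (k - i) (t - i))
    (h : L * Nat.choose (k - i) (t - i) = Nat.choose (Fintype.card α - i) (t - i)) :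
    ∑ c ∈ (blocks B).erase b, Nat.choose (b ∩ c).card i = Nat.choose k i * (L - 1) :=
  sum_choose_inter hB hb i L (card_blocks_through_eq hB i L hi hpos h)

theorem card_inter_lt_of_mem_erase (hB : Cfsg.IsSteinerSystem t k B) {b c : Finset α}
    (hb : b ∈ B) (hc : c ∈ (blocks B).erase b) : (b ∩ c).card < t := by
  rw [mem_erase, mem_blocks] at hc
  exact card_inter_lt hB hb hc.2 (Ne.symm hc.1)

end Cfsg.Agent.Lib.Helper09
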