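import Mathlib
import Cfsg.Prelude.Def_LieExceptional

set_option autoImplicit false

namespace Cfsg.Agent.Lib.Helper09

section Basic

variable {F : Type*} [Field F]

/-- the map `t ↦ t ^ σ`, `σ = 2 ^ (m + 1)` -/
def sg (m : ℕ) (t : F) : F := t ^ (2 ^ (m + 1))

/-- the function defining the affine part of the ovoid -/
def ff (m : ℕ) (x y : F) : F := x * y + x ^ (2 ^ (m + 1) + 2) + y ^ (2 ^ (m + 1))

/-- affine point vector -/
def pt (m : ℕ) (x y : F) : Fin 4 → F := ![ff m x y, y, x, 1]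

/-- the vector spanning the point at infinity -/
def e1 : Fin 4 → F := ![1, 0, 0, 0]

theorem ff_eq (m : ℕ) (x y : F) : ff m x y = x * y + sg m x * x ^ 2 + sg m y := by
  simp only [ff, sg, pow_add]

theorem sg_mul (m : ℕ) (a b : F) : sg m (a * b) = sg m a * sg m b := mul_pow _ _ _

theorem sg_zero (m : ℕ) : sg m (0 : F) = 0 := by
  simp [sg]

theorem sg_one (m : ℕ) : sg m (1 : F) = 1 := by
  simp [sg]

theorem sg_pow (m : ℕ) (a : F) (n : ℕ) : sg m (a ^ n) = sg m a ^ n := by
  simp only [sg, ← pow_mul, mul_comm]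

theorem sg_inv (m : ℕ) (a : F) : sg m a⁻¹ = (sg m a)⁻¹ := by
  simp only [sg, inv_pow]

theorem sg_div (m : ℕ) (a b : F) : sg m (a / b) = sg m a / sg m b := by
  simp only [sg, div_pow]

theorem sg_eq_zero {m : ℕ} {a : F} : sg m a = 0 ↔ a = 0 := by
  simp [sg]

theorem pt_ne_zero (m : ℕ) (x y : F) : pt m x y ≠ 0 := by
  intro h
  have := congrFun h 3
  simp [pt] at this

theorem e1_ne_zero : (e1 : Fin 4 → F) ≠ 0 := by
  intro h
  have := congrFun h 0
  simp [e1] at this

theorem pt_injective {m : ℕ} {x y x' y' : F} (h : pt m x y = pt m x' y') : x = x' ∧ y = y' := by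
  have h2 := congrFun h 2
  have h1 := congrFun h 1
  simp [pt] at h1 h2
  exact ⟨h2, h1⟩

theorem pt_ne_e1 (m : ℕ) (x y : F) : pt m x y ≠ e1 := by
  intro h
  have := congrFun h 3
  simp [pt, e1] at this

end Basic

section Finite

variable {F : Type*} [Field F] [Fintype F] {m : ℕ}

theorem two_eq_zero' (hF : Fintype.card F = 2 ^ (2 * m + 1)) : (2 : F) = 0 := by
  have h : ((Fintype.card F : ℕ) : F) = 0 := Nat.cast_card_eq_zero F
  rw [hF] at h
  push_cast at h
  exact pow_eq_zero_iff (by omega) |>.1 h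

theorem charP_two (hF : Fintype.card F = 2 ^ (2 * m + 1)) : CharP F 2 :=
  CharTwo.of_one_ne_zero_of_two_eq_zero one_ne_zero (two_eq_zero' hF)

theorem sg_add (hF : Fintype.card F = 2 ^ (2 * m + 1)) (a b : F) :
    sg m (a + b) = sg m a + sg m b := by
  have := charP_two hF
  have : Fact (Nat.Prime 2) := ⟨Nat.prime_two⟩
  exact add_pow_char_pow a b 2 (m + 1)

theorem sg_sg (hF : Fintype.card F = 2 ^ (2 * m + 1)) (a : F) : sg m (sg m a) = a ^ 2 := by
  have h : a ^ Fintype.card F = a := FiniteField.pow_card a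
  rw [hF] at h
  simp only [sg, ← pow_mul]
  have : 2 ^ (m + 1) * 2 ^ (m + 1) = 2 ^ (2 * m + 1) * 2 := by
    rw [← pow_add, ← pow_succ]; congr 1; omega
  rw [this, pow_mul, h]

theorem sg_injective (hF : Fintype.card F = 2 ^ (2 * m + 1)) {a b : F} (h : sg m a = sg m b) :
    a = b := by
  have h2 : a ^ 2 = b ^ 2 := by rw [← sg_sg hF, ← sg_sg hF, h]
  have h3 : (a + b) ^ 2 = 0 := by
    linear_combination h2 + (a * b + b ^ 2) * two_eq_zero' hF
  have h4 : a + b = 0 := pow_eq_zero_iff (by norm_num) |>.1 h3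
  linear_combination h4 - b * two_eq_zero' hF

/-- `f(x, y) = 0` only at the origin -/
theorem ff_eq_zero (hF : Fintype.card F = 2 ^ (2 * m + 1)) {x y : F} (h : ff m x y = 0) :
    x = 0 ∧ y = 0 := by
  have h2 := two_eq_zero' hF
  by_cases hx : x = 0
  · subst hx
    rw [ff_eq, sg_zero] at h
    simp only [zero_mul, zero_add] at h
    exact ⟨rfl, sg_eq_zero.1 h⟩
  · exfalso
    -- u := y / x^(σ+1), then u + 1 + u^σ = 0
    rw [ff_eq] at h
    set X := sg m x with hX
    set Y := sg m y with hY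
    have hXne : X ≠ 0 := fun h0 => hx (sg_eq_zero.1 h0)
    -- apply σ
    have h' : sg m (x * y + X * x ^ 2 + Y) = 0 := by rw [h, sg_zero]
    rw [sg_add hF, sg_add hF, sg_mul, sg_mul, sg_pow, sg_sg hF, sg_sg hF, ← hX, ← hY] at h'
    -- h : x y + X x^2 + Y = 0 ; h' : X Y + x^2 X^2 + y^2 = 0
    -- eliminate Y : Y = x y + X x^2 (char 2)
    have hYe : Y = x * y + X * x ^ 2 := by
      linear_combination h - (x * y + X * x ^ 2) * h2
    rw [hYe] at h'
    -- X (x y + X x^2) + x^2 X^2 + y^2 = X x y + y^2 (char 2) = y (X x + y)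
    have h3 : y * (X * x + y) = 0 := by
      linear_combination h' - (X ^ 2 * x ^ 2) * h2
    rcases mul_eq_zero.1 h3 with hy | hy
    · rw [hy] at hYe
      have hY0 : Y = 0 := by rw [hY, hy, sg_zero]
      rw [hY0] at hYe
      have : X * x ^ 2 = 0 := by linear_combination -hYe
      rcases mul_eq_zero.1 this with h0 | h0
      · exact hXne h0
      · exact hx (pow_eq_zero_iff (by norm_num) |>.1 h0)
    · -- y = X x, so Y = σ(X) X = x^2 X, then Y = x y + X x^2 = X x^2 + X x^2 = 0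
      have hy' : y = X * x := by linear_combination hy - (X * x) * h2
      have hY' : Y = x ^ 2 * X := by rw [hY, hy', sg_mul, ← hX, sg_sg hF]
      rw [hY', hy'] at hYe
      have : X * x ^ 2 = 0 := by linear_combination (-1 : F) * hYe
      rcases mul_eq_zero.1 this with h0 | h0
      · exact hXne h0
      · exact hx (pow_eq_zero_iff (by norm_num) |>.1 h0)

/-- the translation identity -/
theorem ff_translate (hF : Fintype.card F = 2 ^ (2 * m + 1)) (a b x y : F) :
    ff m (x + a) (y + b + sg m a * x)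
      = ff m x y + a * y + (sg m a * a + b) * x + ff m a b := by
  have h2 := two_eq_zero' hF
  simp only [ff_eq, sg_add hF, sg_mul, sg_sg hF]
  linear_combination (sg m a * a * x + sg m a * x ^ 2 + sg m x * a * x + sg m x * a ^ 2) * h2

/-- the inversion identity -/
theorem ff_invert (hF : Fintype.card F = 2 ^ (2 * m + 1)) {x y : F} (hf : ff m x y ≠ 0) :
    ff m (y / ff m x y) (x / ff m x y) = 1 / ff m x y := by
  have h2 := two_eq_zero' hF
  have hsf : sg m (ff m x y) ≠ 0 := fun h => hf (sg_eq_zero.1 h)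
  have hsfe : sg m (ff m x y) = sg m x * sg m y + x ^ 2 * sg m x ^ 2 + y ^ 2 := by
    rw [ff_eq, sg_add hF, sg_add hF, sg_mul, sg_mul, sg_pow, sg_sg hF, sg_sg hF]
  rw [ff_eq (x := y / ff m x y), sg_div, sg_div]
  field_simp
  rw [hsfe]
  rw [ff_eq]
  linear_combination (sg m x * sg m y * x * y + sg m x ^ 2 * x ^ 3 * y) * h2

end Finite

section Matrices

variable {F : Type*} [Field F]

/-- translation matrix -/
def tauM (m : ℕ) (a b : F) : Matrix (Fin 4) (Fin 4) F :=
  !![1, a, sg m a * a + b, ff m a b; 0, 1, sg m a, b; 0, 0, 1, a; 0, 0, 0, 1]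

/-- the antidiagonal matrix -/
def wM : Matrix (Fin 4) (Fin 4) F :=
  !![0, 0, 0, 1; 0, 0, 1, 0; 0, 1, 0, 0; 1, 0, 0, 0]

theorem ff_zero_zero (m : ℕ) : ff m (0 : F) 0 = 0 := by
  simp [ff]

theorem tauM_mulVec_e1 (m : ℕ) (a b : F) : (tauM m a b).mulVec e1 = e1 := by
  funext i
  fin_cases i <;> simp [tauM, e1, Matrix.mulVec, dotProduct, Fin.sum_univ_four]

theorem wM_mulVec_e1 (m : ℕ) : (wM : Matrix (Fin 4) (Fin 4) F).mulVec e1 = pt m 0 0 := by
  funext i
  fin_cases i <;> simp [wM, e1, pt, ff_zero_zero, Matrix.mulVec, dotProduct, Fin.sum_univ_four]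

theorem wM_mulVec_pt_zero (m : ℕ) : (wM : Matrix (Fin 4) (Fin 4) F).mulVec (pt m 0 0) = e1 := by
  funext i
  fin_cases i <;> simp [wM, e1, pt, ff_zero_zero, Matrix.mulVec, dotProduct, Fin.sum_univ_four]

variable [Fintype F] {m : ℕ}

theorem tauM_mulVec_pt (hF : Fintype.card F = 2 ^ (2 * m + 1)) (a b x y : F) :
    (tauM m a b).mulVec (pt m x y) = pt m (x + a) (y + b + sg m a * x) := by
  funext i
  fin_cases i
  · simp only [tauM, pt, Matrix.mulVec, dotProduct, Fin.sum_univ_four]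
    simp
    rw [ff_translate hF]
    try ring
  · simp [tauM, pt, Matrix.mulVec, dotProduct, Fin.sum_univ_four]
    ring
  · simp [tauM, pt, Matrix.mulVec, dotProduct, Fin.sum_univ_four]
  · simp [tauM, pt, Matrix.mulVec, dotProduct, Fin.sum_univ_four]

theorem wM_mulVec_pt (hF : Fintype.card F = 2 ^ (2 * m + 1)) {x y : F} (hf : ff m x y ≠ 0) :
    (wM : Matrix (Fin 4) (Fin 4) F).mulVec (pt m x y)
      = ff m x y • pt m (y / ff m x y) (x / ff m x y) := by
  funext i
  fin_cases i
  · simp [wM, pt, Matrix.mulVec, dotProduct, Fin.sum_univ_four]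
    rw [ff_invert hF hf]
    field_simp
  · simp [wM, pt, Matrix.mulVec, dotProduct, Fin.sum_univ_four]
    field_simp
  · simp [wM, pt, Matrix.mulVec, dotProduct, Fin.sum_univ_four]
    field_simp
  · simp [wM, pt, Matrix.mulVec, dotProduct, Fin.sum_univ_four]

end Matrices

end Cfsg.Agent.Lib.Helper09
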