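import Cfsg.Agent.Lib.Helper09.SuzukiZassenhaus

set_option autoImplicit false

namespace Cfsg.Agent.Lib.Helper09

open Matrix
open scoped Pointwise

section Borel

variable {F : Type*} [Field F] [Fintype F] {m : ℕ}

/-- the unipotent subgroup of the Suzuki group -/
noncomputable def Uz (hF : Fintype.card F = 2 ^ (2 * m + 1)) : Subgroup ↥(Cfsg.Sz F m) :=
  (tauHom hF).range

theorem mem_Uz (hF : Fintype.card F = 2 ^ (2 * m + 1)) (g : ↥(Cfsg.Sz F m)) :
    g ∈ Uz hF ↔ ∃ a b : F, g = tauG hF a b := by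
  constructor
  · rintro ⟨x, rfl⟩
    exact ⟨x.1, x.2, rfl⟩
  · rintro ⟨a, b, rfl⟩
    exact ⟨SuzU.mk hF a b, rfl⟩

theorem tauG_mem_Uz (hF : Fintype.card F = 2 ^ (2 * m + 1)) (a b : F) : tauG hF a b ∈ Uz hF :=
  (mem_Uz hF _).2 ⟨a, b, rfl⟩

theorem tauG_zero (hF : Fintype.card F = 2 ^ (2 * m + 1)) : tauG hF (0 : F) 0 = 1 :=
  Subtype.ext (tauS_zero m)

theorem tauG_injective (hF : Fintype.card F = 2 ^ (2 * m + 1)) {a b a' b' : F}
    (h : tauG hF a b = tauG hF a' b') : a = a' ∧ b = b' :=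
  tauS_injective (congrArg Subtype.val h)

theorem tauG_inv (hF : Fintype.card F = 2 ^ (2 * m + 1)) (a b : F) :
    (tauG hF a b)⁻¹ = tauG hF a (b + sg m a * a) := by
  have h2 := two_eq_zero' hF
  apply inv_eq_of_mul_eq_one_left
  rw [tauG_mul, ← tauG_zero hF]
  congr 1
  · linear_combination a * h2
  · linear_combination (b + sg m a * a) * h2

theorem card_Uz (hF : Fintype.card F = 2 ^ (2 * m + 1)) :
    Nat.card (Uz (m := m) hF) = (2 ^ (2 * m + 1)) ^ 2 := by
  rw [Uz, ← Nat.card_congr (MonoidHom.ofInjective (tauHom_injective hF)).toEquiv, SuzU.card hF]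

theorem card_Uz' (hm : 1 ≤ m) (hF : Fintype.card F = 2 ^ (2 * m + 1)) :
    Nat.card (Uz (m := m) hF) = 2 ^ (Nat.card (Cfsg.Sz F m)).factorization 2 := by
  rw [factorization_card_sz hm hF, card_Uz, ← pow_mul]
  ring_nf

/-- the unipotent subgroup as a Sylow 2-subgroup -/
noncomputable def Usyl (hm : 1 ≤ m) (hF : Fintype.card F = 2 ^ (2 * m + 1)) :
    Sylow 2 ↥(Cfsg.Sz F m) :=
  haveI : Fact (Nat.Prime 2) := ⟨Nat.prime_two⟩
  Sylow.ofCard (Uz hF) (card_Uz' hm hF)

theorem coe_Usyl (hm : 1 ≤ m) (hF : Fintype.card F = 2 ^ (2 * m + 1)) :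
    ((Usyl hm hF : Sylow 2 ↥(Cfsg.Sz F m)) : Subgroup ↥(Cfsg.Sz F m)) = Uz hF := rfl

theorem sylow_eq_smul (hm : 1 ≤ m) (hF : Fintype.card F = 2 ^ (2 * m + 1))
    (P : Sylow 2 ↥(Cfsg.Sz F m)) : ∃ x : ↥(Cfsg.Sz F m), x • Usyl hm hF = P := by
  have : Fact (Nat.Prime 2) := ⟨Nat.prime_two⟩
  exact MulAction.exists_smul_eq _ _ _

/-- a translation fixing an affine point is trivial -/
theorem tauS_fix_pAff (hF : Fintype.card F = 2 ^ (2 * m + 1)) {a b x y : F}
    (h : tauS m a b • pAff m x y = pAff m x y) : a = 0 ∧ b = 0 := by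
  rw [tauS_smul_pAff hF] at h
  obtain ⟨h1, h2⟩ := pAff_injective h
  have ha : a = 0 := by linear_combination h1
  subst ha
  refine ⟨rfl, ?_⟩
  rw [sg_zero] at h2
  linear_combination h2

/-- a nonidentity element of the unipotent subgroup fixes only the point at infinity -/
theorem tauG_fix (hF : Fintype.card F = 2 ^ (2 * m + 1)) {a b : F} (hne : tauG hF a b ≠ 1)
    {p : ↥(Cfsg.suzukiOvoid F m)} (h : tauG hF a b • p = p) : p = oInf F m := by
  rcases (mem_ovoid_iff m p.1).1 p.2 with hp | ⟨x, y, hp⟩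
  · exact Subtype.ext hp
  · exfalso
    have h1 : tauS m a b • (p : Projectivization F (Fin 4 → F)) = p := congrArg Subtype.val h
    rw [hp] at h1
    obtain ⟨rfl, rfl⟩ := tauS_fix_pAff hF h1
    exact hne (tauG_zero hF)

theorem tauG_smul_oInf (hF : Fintype.card F = 2 ^ (2 * m + 1)) (a b : F) :
    tauG hF a b • oInf F m = oInf F m := Subtype.ext (tauS_smul_pInf m a b)

theorem hG_smul_oInf (hF : Fintype.card F = 2 ^ (2 * m + 1)) (k : Fˣ) :
    hG hF k • oInf F m = oInf F m := Subtype.ext (hS_smul_pInf m k)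

theorem tauG_smul_oAff (hF : Fintype.card F = 2 ^ (2 * m + 1)) (a b x y : F) :
    tauG hF a b • oAff m x y = oAff m (x + a) (y + b + sg m a * x) :=
  Subtype.ext (tauS_smul_pAff hF a b x y)

theorem tauG_smul_oAff_zero (hF : Fintype.card F = 2 ^ (2 * m + 1)) (a b : F) :
    tauG hF a b • oAff m (0 : F) 0 = oAff m a b :=
  Subtype.ext (tauS_smul_pAff_zero hF a b)

omit [Fintype F] in
theorem ovoid_cases (p : ↥(Cfsg.suzukiOvoid F m)) : p = oInf F m ∨ ∃ x y : F, p = oAff m x y := by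
  rcases (mem_ovoid_iff m p.1).1 p.2 with hp | ⟨x, y, hp⟩
  · exact Or.inl (Subtype.ext hp)
  · exact Or.inr ⟨x, y, Subtype.ext hp⟩

theorem mem_stab_inf_iff (hm : 1 ≤ m) (hF : Fintype.card F = 2 ^ (2 * m + 1))
    (g : ↥(Cfsg.Sz F m)) :
    g ∈ MulAction.stabilizer ↥(Cfsg.Sz F m) (oInf F m) ↔
      ∃ (a b : F) (k : Fˣ), g = tauG hF a b * hG hF k := by
  constructor
  · intro hg
    have h1 : (g : Matrix.SpecialLinearGroup (Fin 4) F) • pInf F = pInf F :=
      congrArg Subtype.val (MulAction.mem_stabilizer_iff.1 hg)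
    obtain ⟨a, b, k, h⟩ := sz_fix_inf hm hF g.2 h1
    exact ⟨a, b, k, Subtype.ext h⟩
  · rintro ⟨a, b, k, rfl⟩
    rw [MulAction.mem_stabilizer_iff, mul_smul, hG_smul_oInf, tauG_smul_oInf]

theorem hG_conj_tauG (hF : Fintype.card F = 2 ^ (2 * m + 1)) (k : Fˣ) (a b : F) :
    hG hF k * tauG hF a b * (hG hF k)⁻¹ = tauG hF ((k : F) * a) (sg m (k : F) * k * b) := by
  rw [hG_mul_tauG, mul_assoc, mul_inv_cancel, mul_one]

theorem tauG_conj_tauG (hF : Fintype.card F = 2 ^ (2 * m + 1)) (c d a b : F) :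
    tauG hF c d * tauG hF a b * (tauG hF c d)⁻¹ = tauG hF a (b + sg m c * a + sg m a * c) := by
  have h2 := two_eq_zero' hF
  rw [tauG_inv, tauG_mul, tauG_mul]
  congr 1
  · linear_combination c * h2
  · rw [sg_add hF]
    linear_combination (d + sg m c * c) * h2

/-- conjugation by an element of the point stabiliser, on the unipotent subgroup -/
theorem borel_conj_tauG (hF : Fintype.card F = 2 ^ (2 * m + 1)) (c d : F) (k : Fˣ) (a b : F) :
    (tauG hF c d * hG hF k) * tauG hF a b * (tauG hF c d * hG hF k)⁻¹ =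
      tauG hF ((k : F) * a)
        (sg m (k : F) * k * b + sg m c * ((k : F) * a) + sg m ((k : F) * a) * c) := by
  rw [_root_.mul_inv_rev]
  calc tauG hF c d * hG hF k * tauG hF a b * ((hG hF k)⁻¹ * (tauG hF c d)⁻¹)
      = tauG hF c d * (hG hF k * tauG hF a b * (hG hF k)⁻¹) * (tauG hF c d)⁻¹ := by group
    _ = _ := by rw [hG_conj_tauG, tauG_conj_tauG]

/-- the normaliser of the unipotent subgroup is the stabiliser of the point at infinity -/
theorem normalizer_Uz (hm : 1 ≤ m) (hF : Fintype.card F = 2 ^ (2 * m + 1)) :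
    Subgroup.normalizer ((Uz (m := m) hF : Subgroup ↥(Cfsg.Sz F m)) : Set ↥(Cfsg.Sz F m)) =
      MulAction.stabilizer ↥(Cfsg.Sz F m) (oInf F m) := by
  ext x
  constructor
  · intro hx
    rw [Subgroup.mem_normalizer_iff] at hx
    have h1 := (hx (tauG hF 1 0)).1 (tauG_mem_Uz hF 1 0)
    obtain ⟨a, b, hab⟩ := (mem_Uz hF _).1 h1
    have hne : tauG hF a b ≠ 1 := by
      rw [← hab]
      intro h
      have : tauG hF (1 : F) 0 = 1 := by
        have := congrArg (fun t => x⁻¹ * t * x) h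
        simpa [mul_assoc] using this
      rw [← tauG_zero hF] at this
      exact one_ne_zero (tauG_injective hF this).1
    have hfix : tauG hF a b • (x • oInf F m) = x • oInf F m := by
      rw [← hab, mul_smul, mul_smul, inv_smul_smul, tauG_smul_oInf]
    exact tauG_fix hF hne hfix
  · intro hx
    obtain ⟨c, d, k, rfl⟩ := (mem_stab_inf_iff hm hF x).1 hx
    rw [Subgroup.mem_normalizer_iff]
    intro h
    constructor
    · intro hh
      obtain ⟨a, b, rfl⟩ := (mem_Uz hF _).1 hh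
      rw [borel_conj_tauG]
      exact tauG_mem_Uz hF _ _
    · intro hh
      obtain ⟨a, b, hab⟩ := (mem_Uz hF _).1 hh
      obtain ⟨c', d', k', hx'⟩ := (mem_stab_inf_iff hm hF _).1 (inv_mem hx)
      have : h = (tauG hF c' d' * hG hF k') * tauG hF a b * (tauG hF c' d' * hG hF k')⁻¹ := by
        rw [← hab, ← hx']; group
      rw [this, borel_conj_tauG]
      exact tauG_mem_Uz hF _ _

end Borel

end Cfsg.Agent.Lib.Helper09
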