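import Cfsg.Agent.Lib.Helper09.SuzukiBorel
import Cfsg.Agent.Lib.Helper09.IrredOrder
import Cfsg.Agent.S2241
import Cfsg.Agent.S2240
import Cfsg.Agent.S2410
import Cfsg.Agent.S0326

set_option autoImplicit false

namespace Cfsg.Agent.Lib.Helper09

open Matrix
open scoped Pointwise

section Primes

variable {F : Type*} [Field F] [Fintype F] {m : ℕ}

theorem prime_dvd_card_sz (hm : 1 ≤ m) (hF : Fintype.card F = 2 ^ (2 * m + 1)) {p : ℕ}
    (hp : p.Prime) (h : p ∣ Nat.card ↥(Cfsg.Sz F m)) :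
    p = 2 ∨ (p ≠ 2 ∧ p ∣ 2 ^ (2 * m + 1) - 1) ∨ (p ≠ 2 ∧ p ∣ (2 ^ (2 * m + 1)) ^ 2 + 1) := by
  by_cases hp2 : p = 2
  · exact Or.inl hp2
  · right
    rw [card_sz hm hF] at h
    rcases (hp.dvd_mul).1 h with h1 | h1
    · rcases (hp.dvd_mul).1 h1 with h2 | h2
      · exfalso
        have h3 := hp.dvd_of_dvd_pow (hp.dvd_of_dvd_pow h2)
        exact hp2 ((Nat.prime_dvd_prime_iff_eq hp Nat.prime_two).1 h3)
      · exact Or.inr ⟨hp2, h2⟩
    · exact Or.inl ⟨hp2, h1⟩

theorem unit_sq_eq_one (hF : Fintype.card F = 2 ^ (2 * m + 1)) {k : Fˣ} (h : k * k = 1) :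
    k = 1 := by
  have h2 := two_eq_zero' hF
  have h1 : (k : F) * k = 1 := by
    have := congrArg Units.val h
    simpa using this
  have h3 : ((k : F) + 1) ^ 2 = 0 := by linear_combination h1 + ((k : F) + 1) * h2
  have h4 : (k : F) + 1 = 0 := pow_eq_zero_iff (by norm_num) |>.1 h3
  apply Units.ext
  rw [Units.val_one]
  linear_combination h4 - h2

end Primes

section Torus

variable {F : Type*} [Field F] [Fintype F] {m : ℕ}

theorem hG_injective (hF : Fintype.card F = 2 ^ (2 * m + 1)) {k l : Fˣ}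
    (h : hG hF k = hG hF l) : k = l :=
  hS_injective m (congrArg Subtype.val h)

theorem hG_smul_oAff (hF : Fintype.card F = 2 ^ (2 * m + 1)) (k : Fˣ) (x y : F) :
    hG hF k • oAff m x y = oAff m ((k : F) * x) (sg m (k : F) * k * y) :=
  Subtype.ext (hS_smul_pAff hF k x y)

/-- the fixed points of a nontrivial torus element -/
theorem hG_fix (hF : Fintype.card F = 2 ^ (2 * m + 1)) {k : Fˣ} (hk : k ≠ 1)
    {a : ↥(Cfsg.suzukiOvoid F m)} (h : hG hF k • a = a) : a = oInf F m ∨ a = oAff m 0 0 := by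
  rcases ovoid_cases a with rfl | ⟨x, y, rfl⟩
  · exact Or.inl rfl
  · right
    rw [hG_smul_oAff] at h
    obtain ⟨e1, e2⟩ := pAff_injective (congrArg Subtype.val h)
    have hk1 : (k : F) ≠ 1 := fun h1 => hk (Units.ext h1)
    have hx : x = 0 := by
      by_contra hx
      exact hk1 (mul_right_cancel₀ hx (by rw [e1, one_mul]))
    have hy : y = 0 := by
      by_contra hy
      have : sg m (k : F) * k = 1 := mul_right_cancel₀ hy (by rw [e2, one_mul])
      exact hk1 (eq_one_of_sg_mul_self hF this)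
    rw [hx, hy]

/-- the centraliser of a nontrivial torus element is the torus -/
theorem commute_hG (hm : 1 ≤ m) (hF : Fintype.card F = 2 ^ (2 * m + 1)) {k : Fˣ} (hk : k ≠ 1)
    {c : ↥(Cfsg.Sz F m)} (hc : c * hG hF k = hG hF k * c) : ∃ l : Fˣ, c = hG hF l := by
  have hfa : hG hF k • (c • oInf F m) = c • oInf F m := by
    rw [← mul_smul, ← hc, mul_smul, hG_smul_oInf]
  have hfb : hG hF k • (c • oAff m (0 : F) 0) = c • oAff m 0 0 := by
    rw [← mul_smul, ← hc, mul_smul, hG_smul_oAff]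
    simp
  have hne : c • oInf F m ≠ c • oAff m (0 : F) 0 := by
    intro h
    exact oInf_ne_oAff 0 0 (smul_left_cancel c h)
  rcases hG_fix hF hk hfa with ha | ha <;> rcases hG_fix hF hk hfb with hb | hb
  · exact absurd (ha.trans hb.symm) hne
  · obtain ⟨l, hl⟩ := torus_of_fix hm hF c.2 (congrArg Subtype.val ha) (congrArg Subtype.val hb)
    exact ⟨l, Subtype.ext hl⟩
  · exfalso
    obtain ⟨l, hl⟩ := sz_swap hm hF c.2 (congrArg Subtype.val ha) (congrArg Subtype.val hb)
    have hcl : c = wG hF * hG hF l := Subtype.ext hl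
    have e1 : hG hF k * wG hF = wG hF * hG hF k⁻¹ := by
      rw [wG_mul_hG, inv_inv]
    rw [hcl] at hc
    have e2 : wG hF * hG hF (l * k) = wG hF * hG hF (k⁻¹ * l) := by
      calc wG hF * hG hF (l * k) = wG hF * hG hF l * hG hF k := by rw [hG_mul, mul_assoc]
        _ = hG hF k * (wG hF * hG hF l) := hc
        _ = (hG hF k * wG hF) * hG hF l := by rw [mul_assoc]
        _ = wG hF * hG hF (k⁻¹ * l) := by rw [e1, mul_assoc, ← hG_mul]
    have e3 := hG_injective hF (mul_left_cancel e2)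
    have e4 : k * k = 1 := by
      have : k = k⁻¹ := by
        rw [mul_comm k⁻¹ l] at e3
        exact mul_left_cancel e3
      calc k * k = k * k⁻¹ := by rw [← this]
        _ = 1 := mul_inv_cancel k
    exact hk (unit_sq_eq_one hF e4)
  · exact absurd (ha.trans hb.symm) hne

/-- the centraliser of a central involution of the unipotent group lies in the unipotent group -/
theorem commute_central (hm : 1 ≤ m) (hF : Fintype.card F = 2 ^ (2 * m + 1)) {b : F}
    (hb : b ≠ 0) {c : ↥(Cfsg.Sz F m)} (hc : c * tauG hF 0 b = tauG hF 0 b * c) :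
    c ∈ Uz hF := by
  have hfix : tauG hF 0 b • (c • oInf F m) = c • oInf F m := by
    rw [← mul_smul, ← hc, mul_smul, tauG_smul_oInf]
  have hcB := tauG_fix hF (Cfsg.Agent.S2240.tauG_zero_ne_one hF hb) hfix
  obtain ⟨c₁, d₁, k, rfl⟩ := (mem_stab_inf_iff hm hF c).1 hcB
  have h1 : (tauG hF c₁ d₁ * hG hF k) * tauG hF 0 b * (tauG hF c₁ d₁ * hG hF k)⁻¹ =
      tauG hF 0 b := by
    rw [hc, mul_assoc, mul_inv_cancel, mul_one]
  rw [Cfsg.Agent.S2240.borel_conj_central] at h1
  have h2 := (tauG_injective hF h1).2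
  have h3 : sg m (k : F) * k = 1 := mul_right_cancel₀ hb (by rw [h2, one_mul])
  have hk : k = 1 := Units.ext (eq_one_of_sg_mul_self hF h3)
  rw [hk, hG_one, mul_one]
  exact tauG_mem_Uz hF _ _

end Torus

section PrimeOrder

variable {F : Type*} [Field F] [Fintype F] {m : ℕ}

theorem ovoid_finite' : Finite ↥(Cfsg.suzukiOvoid F m) := (ovoid_finite m).to_subtype

/-- an element of odd prime order dividing `q - 1` is conjugate into the torus -/
theorem exists_conj_hG (hm : 1 ≤ m) (hF : Fintype.card F = 2 ^ (2 * m + 1)) {p : ℕ}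
    (hp : p.Prime) (hp2 : p ≠ 2) (hdvd : p ∣ 2 ^ (2 * m + 1) - 1) {g : ↥(Cfsg.Sz F m)}
    (hg : orderOf g = p) :
    ∃ (x : ↥(Cfsg.Sz F m)) (k : Fˣ), k ≠ 1 ∧ g = x * hG hF k * x⁻¹ := by
  haveI : Fact p.Prime := ⟨hp⟩
  haveI := ovoid_finite' (F := F) (m := m)
  have hP : IsPGroup p ↥(Subgroup.zpowers g) := by
    apply IsPGroup.of_card (n := 1)
    rw [Nat.card_zpowers, hg, pow_one]
  have key := hP.card_modEq_card_fixedPoints ↥(Cfsg.suzukiOvoid F m)
  rw [Cfsg.Agent.S0326.result, hF] at key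
  have hq1 : 2 ^ (2 * m + 1) ≡ 1 [MOD p] := by
    have h1 : 1 ≤ 2 ^ (2 * m + 1) := Nat.one_le_two_pow
    exact ((Nat.modEq_iff_dvd' h1).2 hdvd).symm
  have hq2 : (2 ^ (2 * m + 1)) ^ 2 + 1 ≡ 2 [MOD p] := by
    have := (hq1.pow 2).add_right 1
    simpa using this
  have hfix : Nat.card ↥(MulAction.fixedPoints ↥(Subgroup.zpowers g) ↥(Cfsg.suzukiOvoid F m))
      ≡ 2 [MOD p] := key.symm.trans hq2
  have hp3 : 3 ≤ p := by
    have := hp.two_le
    omega
  have hgt : 1 < Nat.card ↥(MulAction.fixedPoints ↥(Subgroup.zpowers g)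
      ↥(Cfsg.suzukiOvoid F m)) := by
    by_contra hle
    push Not at hle
    interval_cases hN : Nat.card ↥(MulAction.fixedPoints ↥(Subgroup.zpowers g)
      ↥(Cfsg.suzukiOvoid F m))
    · have := (Nat.modEq_iff_dvd' (by norm_num : 0 ≤ 2)).1 hfix
      have := Nat.le_of_dvd (by norm_num) this
      omega
    · have := (Nat.modEq_iff_dvd' (by norm_num : 1 ≤ 2)).1 hfix
      have := Nat.le_of_dvd (by norm_num) this
      omega
  rw [Finite.one_lt_card_iff_nontrivial] at hgt
  obtain ⟨⟨a, ha⟩, ⟨b, hb⟩, hab⟩ := hgt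
  have hab' : a ≠ b := fun h => hab (Subtype.ext h)
  have hga : g • a = a := ha ⟨g, Subgroup.mem_zpowers g⟩
  have hgb : g • b = b := hb ⟨g, Subgroup.mem_zpowers g⟩
  have h2t := sz_two_pretransitive (m := m) hF
  rw [MulAction.is_two_pretransitive_iff] at h2t
  obtain ⟨t, hta, htb⟩ := h2t hab' (oInf_ne_oAff (F := F) (m := m) 0 0)
  have h1 : (t * g * t⁻¹) • oInf F m = oInf F m := by
    rw [mul_smul, mul_smul, inv_smul_eq_iff.2 hta.symm, hga, hta]
  have h2 : (t * g * t⁻¹) • oAff m (0 : F) 0 = oAff m 0 0 := by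
    rw [mul_smul, mul_smul, inv_smul_eq_iff.2 htb.symm, hgb, htb]
  obtain ⟨k, hk⟩ := torus_of_fix hm hF (t * g * t⁻¹).2 (congrArg Subtype.val h1)
    (congrArg Subtype.val h2)
  have hk' : t * g * t⁻¹ = hG hF k := Subtype.ext hk
  refine ⟨t⁻¹, k, ?_, ?_⟩
  · rintro rfl
    rw [hG_one] at hk'
    have hg1 : g = 1 := by
      have := congrArg (fun z => t⁻¹ * z * t) hk'
      simpa [mul_assoc] using this
    rw [hg1, orderOf_one] at hg
    exact hp.one_lt.ne hg
  · rw [← hk']; group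

/-- the hypotheses for irreducibility, for an element of the Suzuki group -/
theorem irrHyp_of_order (hF : Fintype.card F = 2 ^ (2 * m + 1)) {p : ℕ}
    (hp : p.Prime) (hp2 : p ≠ 2) (hdvd : p ∣ (2 ^ (2 * m + 1)) ^ 2 + 1) {g : ↥(Cfsg.Sz F m)}
    (hg : orderOf g = p) : IrrHyp (g : Matrix.SpecialLinearGroup (Fin 4) F) p :=
  ⟨hp, hp2, by rw [hF]; exact hdvd, by rw [Subgroup.orderOf_coe]; exact hg⟩

theorem commute_of_irr {p : ℕ} {z : ↥(Cfsg.Sz F m)}
    (h : IrrHyp (z : Matrix.SpecialLinearGroup (Fin 4) F) p) {c c' : ↥(Cfsg.Sz F m)}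
    (hc : c * z = z * c) (hc' : c' * z = z * c') : c * c' = c' * c := by
  have h1 : z.1.1 * c.1.1 = c.1.1 * z.1.1 := by
    have := congrArg (fun t : ↥(Cfsg.Sz F m) => t.1.1) hc
    exact this.symm
  have h2 : z.1.1 * c'.1.1 = c'.1.1 * z.1.1 := by
    have := congrArg (fun t : ↥(Cfsg.Sz F m) => t.1.1) hc'
    exact this.symm
  have := h.cent_comm (mem_Cent.2 h1) (mem_Cent.2 h2)
  apply Subtype.ext
  apply Subtype.ext
  exact this

end PrimeOrder

section Main

variable {F : Type*} [Field F] [Fintype F] {m : ℕ}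

theorem tauG_pow_four (hF : Fintype.card F = 2 ^ (2 * m + 1)) (a b : F) :
    tauG hF a b ^ 4 = 1 := by
  have h2 := two_eq_zero' hF
  have : tauG hF a b ^ 4 = (tauG hF a b ^ 2) ^ 2 := by rw [← pow_mul]
  rw [this, Cfsg.Agent.S2241.tauG_sq, Cfsg.Agent.S2241.tauG_sq, sg_zero, zero_mul, tauG_zero]

/-- the centraliser of an element of prime order is nilpotent -/
theorem nilpotent_centralizer_prime (hm : 1 ≤ m) (hF : Fintype.card F = 2 ^ (2 * m + 1))
    {p : ℕ} (hp : p.Prime) {g : ↥(Cfsg.Sz F m)} (hg : orderOf g = p) :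
    Group.IsNilpotent ↥(Subgroup.centralizer ({g} : Set ↥(Cfsg.Sz F m))) := by
  have hpG : p ∣ Nat.card ↥(Cfsg.Sz F m) := hg ▸ orderOf_dvd_natCard g
  have hcomm_case : (∀ c c' : ↥(Cfsg.Sz F m), c * g = g * c → c' * g = g * c' → c * c' = c' * c) →
      Group.IsNilpotent ↥(Subgroup.centralizer ({g} : Set ↥(Cfsg.Sz F m))) := by
    intro hcomm
    letI : CommGroup ↥(Subgroup.centralizer ({g} : Set ↥(Cfsg.Sz F m))) :=
      { (inferInstance : Group ↥(Subgroup.centralizer ({g} : Set ↥(Cfsg.Sz F m)))) with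
        mul_comm := fun c c' => Subtype.ext (hcomm c.1 c'.1
          (Subgroup.mem_centralizer_singleton_iff.1 c.2)
          (Subgroup.mem_centralizer_singleton_iff.1 c'.2)) }
    exact CommGroup.isNilpotent
  rcases prime_dvd_card_sz hm hF hp hpG with rfl | ⟨hp2, hd⟩ | ⟨hp2, hd⟩
  · -- involutions
    haveI : Fact (Nat.Prime 2) := ⟨Nat.prime_two⟩
    have hP : IsPGroup 2 ↥(Subgroup.zpowers g) := by
      apply IsPGroup.of_card (n := 1)
      rw [Nat.card_zpowers, hg, pow_one]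
    obtain ⟨P, hPle⟩ := hP.exists_le_sylow
    obtain ⟨x, rfl⟩ := sylow_eq_smul hm hF P
    have hgP := hPle (Subgroup.mem_zpowers g)
    rw [Sylow.coe_subgroup_smul, Subgroup.mem_pointwise_smul_iff_inv_smul_mem, coe_Usyl] at hgP
    have e : (MulAut.conj x)⁻¹ • g = x⁻¹ * g * x := by simp [MulAut.smul_def]
    rw [e] at hgP
    obtain ⟨a, b, hab⟩ := (mem_Uz hF _).1 hgP
    have hgx : g = x * tauG hF a b * x⁻¹ := by rw [← hab]; group
    have hne : tauG hF a b ≠ 1 := by
      intro h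
      rw [hgx, h] at hg
      simp at hg
    have ho : orderOf (tauG hF a b) = 2 := by
      have hs : SemiconjBy x (tauG hF a b) g := by
        show x * tauG hF a b = g * x
        rw [hgx]; group
      rw [SemiconjBy.orderOf_eq x hs, hg]
    have ha := (Cfsg.Agent.S2241.orderOf_tauG hF hne).1 ho
    subst ha
    have hb : b ≠ 0 := by
      rintro rfl
      exact hne (tauG_zero hF)
    have h4 : ∀ d : ↥(Cfsg.Sz F m), d * g = g * d → d ^ 4 = 1 := by
      intro d hd
      have hd2 : d * (x * tauG hF 0 b * x⁻¹) = (x * tauG hF 0 b * x⁻¹) * d := by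
        rw [← hgx]; exact hd
      have hc' : (x⁻¹ * d * x) * tauG hF 0 b = tauG hF 0 b * (x⁻¹ * d * x) := by
        calc (x⁻¹ * d * x) * tauG hF 0 b = x⁻¹ * (d * (x * tauG hF 0 b * x⁻¹)) * x := by group
          _ = x⁻¹ * ((x * tauG hF 0 b * x⁻¹) * d) * x := by rw [hd2]
          _ = tauG hF 0 b * (x⁻¹ * d * x) := by group
      obtain ⟨a', b', hab'⟩ := (mem_Uz hF _).1 (commute_central hm hF hb hc')
      have : d = x * tauG hF a' b' * x⁻¹ := by rw [← hab']; group
      rw [this, conj_pow, tauG_pow_four, mul_one, mul_inv_cancel]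
    have hPG : IsPGroup 2 ↥(Subgroup.centralizer ({g} : Set ↥(Cfsg.Sz F m))) := by
      intro c
      refine ⟨2, ?_⟩
      apply Subtype.ext
      rw [Subgroup.coe_pow, Subgroup.coe_one]
      have e4 : (2 : ℕ) ^ 2 = 4 := by norm_num
      rw [e4]
      exact h4 c.1 (Subgroup.mem_centralizer_singleton_iff.1 c.2)
    exact hPG.isNilpotent
  · -- split torus
    obtain ⟨x, k, hk, hgx⟩ := exists_conj_hG hm hF hp hp2 hd hg
    apply hcomm_case
    intro c c' hc hc'
    have key : ∀ d : ↥(Cfsg.Sz F m), d * g = g * d → ∃ l : Fˣ, d = x * hG hF l * x⁻¹ := by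
      intro d hd
      have hd' : (x⁻¹ * d * x) * hG hF k = hG hF k * (x⁻¹ * d * x) := by
        rw [hgx] at hd
        calc (x⁻¹ * d * x) * hG hF k = x⁻¹ * (d * (x * hG hF k * x⁻¹)) * x := by group
          _ = x⁻¹ * ((x * hG hF k * x⁻¹) * d) * x := by rw [hd]
          _ = hG hF k * (x⁻¹ * d * x) := by group
      obtain ⟨l, hl⟩ := commute_hG hm hF hk hd'
      exact ⟨l, by rw [← hl]; group⟩
    obtain ⟨l, rfl⟩ := key c hc
    obtain ⟨l', rfl⟩ := key c' hc'
    have : hG hF l * hG hF l' = hG hF l' * hG hF l := by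
      rw [← hG_mul, ← hG_mul, mul_comm]
    calc x * hG hF l * x⁻¹ * (x * hG hF l' * x⁻¹) = x * (hG hF l * hG hF l') * x⁻¹ := by group
      _ = x * (hG hF l' * hG hF l) * x⁻¹ := by rw [this]
      _ = x * hG hF l' * x⁻¹ * (x * hG hF l * x⁻¹) := by group
  · -- irreducible case
    apply hcomm_case
    intro c c' hc hc'
    exact commute_of_irr (irrHyp_of_order hF hp hp2 hd hg) hc hc'

/-- the Suzuki group is a CN-group -/
theorem sz_isCN (hm : 1 ≤ m) (hF : Fintype.card F = 2 ^ (2 * m + 1)) :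
    Cfsg.IsCNGroup ↥(Cfsg.Sz F m) := by
  intro g hg
  have hfin : orderOf g ≠ 0 := (orderOf_pos g).ne'
  have hn1 : orderOf g ≠ 1 := by rwa [Ne, orderOf_eq_one_iff]
  have hp : (orderOf g).minFac.Prime := Nat.minFac_prime hn1
  have hpd : (orderOf g).minFac ∣ orderOf g := Nat.minFac_dvd _
  have hg' : orderOf (g ^ (orderOf g / (orderOf g).minFac)) = (orderOf g).minFac :=
    orderOf_pow_orderOf_div hfin hpd
  have hnil := nilpotent_centralizer_prime hm hF hp hg'
  have hle : Subgroup.centralizer ({g} : Set ↥(Cfsg.Sz F m)) ≤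
      Subgroup.centralizer ({g ^ (orderOf g / (orderOf g).minFac)} : Set ↥(Cfsg.Sz F m)) := by
    intro c hc
    rw [Subgroup.mem_centralizer_singleton_iff] at hc ⊢
    have : Commute c g := hc
    exact (this.pow_right _).eq
  have hker : (Subgroup.inclusion hle).ker ≤ Subgroup.center _ := by
    rw [(MonoidHom.ker_eq_bot_iff _).2 (Subgroup.inclusion_injective hle)]
    exact bot_le
  exact isNilpotent_of_ker_le_center (Subgroup.inclusion hle) hker

/-- the Sylow subgroups of the Suzuki group for odd primes are cyclic -/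
theorem sz_sylow_cyclic (hm : 1 ≤ m) (hF : Fintype.card F = 2 ^ (2 * m + 1)) {p : ℕ}
    [hpf : Fact p.Prime] (hp2 : p ≠ 2) (P : Sylow p ↥(Cfsg.Sz F m)) : IsCyclic ↥P := by
  have hp := hpf.out
  rcases subsingleton_or_nontrivial ↥P with hs | hnt
  · infer_instance
  · have hPp : IsPGroup p ↥P := P.isPGroup'
    have := hPp.center_nontrivial
    have hcp : IsPGroup p ↥(Subgroup.center ↥P) := hPp.to_subgroup _
    obtain ⟨n, hn, hcard⟩ := hcp.nontrivial_iff_card.1 inferInstance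
    have hdvd : p ∣ Nat.card ↥(Subgroup.center ↥P) := by
      rw [hcard]
      exact dvd_pow_self p hn.ne'
    obtain ⟨z, hz⟩ := exists_prime_orderOf_dvd_card' p hdvd
    -- the underlying element of the Suzuki group
    set z₀ : ↥(Cfsg.Sz F m) := ((z : ↥P) : ↥(Cfsg.Sz F m)) with hz₀
    have hz₀o : orderOf z₀ = p := by
      rw [hz₀, Subgroup.orderOf_coe, Subgroup.orderOf_coe, hz]
    have hcomm : ∀ g : ↥P, (g : ↥(Cfsg.Sz F m)) * z₀ = z₀ * g := by
      intro g
      have h1 := Subgroup.mem_center_iff.1 z.2 g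
      have h2 : g * (z : ↥P) = (z : ↥P) * g := h1
      exact congrArg Subtype.val h2
    have hpG : p ∣ Nat.card ↥(Cfsg.Sz F m) := hz₀o ▸ orderOf_dvd_natCard z₀
    rcases prime_dvd_card_sz hm hF hp hpG with h2 | ⟨-, hd⟩ | ⟨-, hd⟩
    · exact absurd h2 hp2
    · -- split torus
      obtain ⟨x, k, hk, hzx⟩ := exists_conj_hG hm hF hp hp2 hd hz₀o
      let φ : Fˣ →* ↥(Cfsg.Sz F m) :=
        { toFun := fun l => x * hG hF l * x⁻¹
          map_one' := by rw [hG_one]; group
          map_mul' := fun l l' => by rw [hG_mul]; group }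
      have hPle : ∀ g : ↥P, ∃ l : Fˣ, φ l = g := by
        intro g
        have hd' : (x⁻¹ * (g : ↥(Cfsg.Sz F m)) * x) * hG hF k =
            hG hF k * (x⁻¹ * (g : ↥(Cfsg.Sz F m)) * x) := by
          have hg := hcomm g
          rw [hzx] at hg
          calc (x⁻¹ * (g : ↥(Cfsg.Sz F m)) * x) * hG hF k
              = x⁻¹ * ((g : ↥(Cfsg.Sz F m)) * (x * hG hF k * x⁻¹)) * x := by group
            _ = x⁻¹ * ((x * hG hF k * x⁻¹) * (g : ↥(Cfsg.Sz F m))) * x := by rw [hg]
            _ = hG hF k * (x⁻¹ * (g : ↥(Cfsg.Sz F m)) * x) := by group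
        obtain ⟨l, hl⟩ := commute_hG hm hF hk hd'
        refine ⟨l, ?_⟩
        show x * hG hF l * x⁻¹ = g
        rw [← hl]; group
      let Q : Subgroup Fˣ := (P : Subgroup ↥(Cfsg.Sz F m)).comap φ
      let ψ : ↥Q →* ↥P :=
        { toFun := fun l => ⟨φ l.1, l.2⟩
          map_one' := Subtype.ext (map_one φ)
          map_mul' := fun a b => Subtype.ext (map_mul φ a.1 b.1) }
      have hsurj : Function.Surjective ψ := by
        intro g
        obtain ⟨l, hl⟩ := hPle g
        refine ⟨⟨l, ?_⟩, Subtype.ext hl⟩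
        show φ l ∈ (P : Subgroup ↥(Cfsg.Sz F m))
        rw [hl]; exact g.2
      exact isCyclic_of_surjective ψ hsurj
    · -- irreducible case
      have hirr := irrHyp_of_order hF hp hp2 hd hz₀o
      refine hirr.isCyclic_of_commute
        ((Cfsg.Sz F m).subtype.comp (P : Subgroup ↥(Cfsg.Sz F m)).subtype) ?_ ?_
      · exact (Subgroup.subtype_injective _).comp (Subgroup.subtype_injective _)
      · intro g
        have := congrArg (fun t : ↥(Cfsg.Sz F m) => t.1.1) (hcomm g)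
        exact this.symm

end Main

end Cfsg.Agent.Lib.Helper09
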