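import Cfsg.Agent.Lib.Helper09.SuzukiSubgroups

set_option autoImplicit false

namespace Cfsg.Agent.Lib.Helper09

open Matrix
open scoped Pointwise

section SubAction

variable {F : Type*} [Field F] [Fintype F] {m : ℕ}

theorem coe_ne_one {G : Type*} [Group G] {M : Subgroup G} {u : ↥M} (h : u ≠ 1) : (u : G) ≠ 1 :=
  fun h0 => h (Subtype.ext h0)

theorem coe_sq_eq_one {G : Type*} [Group G] {M : Subgroup G} {u : ↥M} (h : u ^ 2 = 1) :
    (u : G) ^ 2 = 1 := by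
  have := congrArg Subtype.val h
  simpa using this

theorem sub_hfix (hm : 1 ≤ m) (hF : Fintype.card F = 2 ^ (2 * m + 1))
    (M : Subgroup ↥(Cfsg.Sz F m)) :
    ∀ u : ↥M, u ≠ 1 → u ^ 2 = 1 → ∀ p q : ↥(Cfsg.suzukiOvoid F m),
      u • p = p → u • q = q → p = q := by
  intro u hu1 hu2 p q hp hq
  exact two_elt_fix_unique hm hF (coe_ne_one hu1) (pow_four_of_sq (coe_sq_eq_one hu2)) hp hq

theorem sub_hex (hm : 1 ≤ m) (hF : Fintype.card F = 2 ^ (2 * m + 1))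
    (M : Subgroup ↥(Cfsg.Sz F m)) :
    ∀ u : ↥M, u ≠ 1 → u ^ 2 = 1 → ∃ p : ↥(Cfsg.suzukiOvoid F m), u • p = p := by
  intro u hu1 hu2
  exact two_elt_fix_exists hm hF (coe_ne_one hu1) (pow_four_of_sq (coe_sq_eq_one hu2))

theorem tauG_zero_sq (hF : Fintype.card F = 2 ^ (2 * m + 1)) (b : F) :
    tauG (m := m) hF 0 b ^ 2 = 1 := by
  rw [Cfsg.Agent.S2241.tauG_sq, sg_zero, zero_mul, tauG_zero]

/-- an element of the unipotent subgroup fixing an affine point is trivial -/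
theorem Uz_fix_aff (hF : Fintype.card F = 2 ^ (2 * m + 1)) {g : ↥(Cfsg.Sz F m)} (hg : g ∈ Uz hF)
    {p : ↥(Cfsg.suzukiOvoid F m)} (hp : p ≠ oInf F m) (h : g • p = p) : g = 1 := by
  by_contra hg1
  obtain ⟨a, b, rfl⟩ := (mem_Uz hF _).1 hg
  exact hp (tauG_fix hF hg1 h)

end SubAction

section Core

variable {F : Type*} [Field F] [Fintype F] {m : ℕ}

/-- the hypotheses of the core case: the subgroup contains a torus element, a central
involution of the standard unipotent subgroup, and moves the point at infinity -/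
structure CoreHyp (hF : Fintype.card F = 2 ^ (2 * m + 1)) (M : Subgroup ↥(Cfsg.Sz F m))
    (k₁ : Fˣ) : Prop where
  ne : k₁ ≠ 1
  hmem : hG hF k₁ ∈ M
  tmem : tauG hF 0 1 ∈ M
  move : ∃ g ∈ M, g • oInf F m ≠ oInf F m

variable {hF : Fintype.card F = 2 ^ (2 * m + 1)} {M : Subgroup ↥(Cfsg.Sz F m)} {k₁ : Fˣ}

/-- the central involution as an element of the subgroup -/
def CoreHyp.T (h : CoreHyp hF M k₁) : ↥M := ⟨tauG hF 0 1, h.tmem⟩

theorem CoreHyp.T_inv (h : CoreHyp hF M k₁) : IsInv h.T := by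
  refine ⟨fun h0 => ?_, Subtype.ext ?_⟩
  · exact Cfsg.Agent.S2240.tauG_zero_ne_one hF one_ne_zero (congrArg Subtype.val h0)
  · show (tauG hF (0 : F) 1) ^ 2 = 1
    exact tauG_zero_sq hF 1

theorem CoreHyp.T_fix (h : CoreHyp hF M k₁) : h.T • oInf F m = oInf F m :=
  tauG_smul_oInf hF 0 1

/-- the map from a two-point stabiliser to the involutions fixing the point at infinity -/
def CoreHyp.Phi (h : CoreHyp hF M k₁) (p : ↥(Cfsg.suzukiOvoid F m)) :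
    {g : ↥M // g • oInf F m = oInf F m ∧ g • p = p} →
      {u : ↥M // IsInv u ∧ u • oInf F m = oInf F m} :=
  fun g => ⟨g.1 * h.T * g.1⁻¹, h.T_inv.conj g.1, by
    rw [mul_smul, mul_smul, inv_smul_eq_iff.2 g.2.1.symm, h.T_fix, g.2.1]⟩

theorem CoreHyp.Phi_injective (hm : 1 ≤ m) (h : CoreHyp hF M k₁)
    {p : ↥(Cfsg.suzukiOvoid F m)} (hp : p ≠ oInf F m) : Function.Injective (h.Phi p) := by
  rintro ⟨g, hg0, hgp⟩ ⟨g', hg0', hgp'⟩ heq
  have e : g * h.T * g⁻¹ = g' * h.T * g'⁻¹ := congrArg Subtype.val heq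
  have e' : (g : ↥(Cfsg.Sz F m)) * tauG hF 0 1 * (g : ↥(Cfsg.Sz F m))⁻¹
      = (g' : ↥(Cfsg.Sz F m)) * tauG hF 0 1 * (g' : ↥(Cfsg.Sz F m))⁻¹ := by
    have := congrArg Subtype.val e
    simpa [CoreHyp.T] using this
  set c : ↥(Cfsg.Sz F m) := (g' : ↥(Cfsg.Sz F m))⁻¹ * (g : ↥(Cfsg.Sz F m)) with hc
  have hcomm : c * tauG hF 0 1 = tauG hF 0 1 * c := by
    calc c * tauG hF 0 1 = (g' : ↥(Cfsg.Sz F m))⁻¹ * ((g : ↥(Cfsg.Sz F m)) * tauG hF 0 1 *
          (g : ↥(Cfsg.Sz F m))⁻¹) * (g : ↥(Cfsg.Sz F m)) := by rw [hc]; group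
      _ = (g' : ↥(Cfsg.Sz F m))⁻¹ * ((g' : ↥(Cfsg.Sz F m)) * tauG hF 0 1 *
          (g' : ↥(Cfsg.Sz F m))⁻¹) * (g : ↥(Cfsg.Sz F m)) := by rw [e']
      _ = tauG hF 0 1 * c := by rw [hc]; group
  have hcU := commute_central hm hF one_ne_zero hcomm
  have hcp : c • p = p := by
    have h1 : (g : ↥(Cfsg.Sz F m)) • p = p := hgp
    have h2 : (g' : ↥(Cfsg.Sz F m)) • p = p := hgp'
    rw [hc, mul_smul, h1, inv_smul_eq_iff, h2]
  have hc1 := Uz_fix_aff hF hcU hp hcp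
  have : (g : ↥(Cfsg.Sz F m)) = g' := by
    have : (g : ↥(Cfsg.Sz F m)) = (g' : ↥(Cfsg.Sz F m)) * c := by rw [hc]; group
    rw [this, hc1, mul_one]
  exact Subtype.ext (Subtype.ext this)

/-- the involution count in the core case -/
theorem CoreHyp.count (hm : 1 ≤ m) (h : CoreHyp hF M k₁) :
    ∀ p : ↥(Cfsg.suzukiOvoid F m), p ≠ oInf F m → (∃ u : ↥M, IsInv u ∧ u • p = p) →
      (∃ u : ↥M, IsInv u ∧ u • oInf F m = p) ∧
        Nat.card {g : ↥M // g • oInf F m = oInf F m ∧ g • p = p} =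
          Nat.card {u : ↥M // IsInv u ∧ u • oInf F m = oInf F m} := by
  have := ovoid_finite' (F := F) (m := m)
  have hi0 : 0 < Nat.card {u : ↥M // IsInv u ∧ u • oInf F m = oInf F m} := by
    rw [Finite.card_pos_iff]
    exact ⟨⟨h.T, h.T_inv, h.T_fix⟩⟩
  exact inv_count (sub_hfix hm hF M) (sub_hex hm hF M) (oInf F m) _ rfl hi0
    (fun p hp _ => Nat.card_le_card_of_injective _ (h.Phi_injective hm hp))

theorem CoreHyp.Phi_bijective (hm : 1 ≤ m) (h : CoreHyp hF M k₁)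
    {p : ↥(Cfsg.suzukiOvoid F m)} (hp : p ≠ oInf F m) (hpX : ∃ u : ↥M, IsInv u ∧ u • p = p) :
    Function.Bijective (h.Phi p) := by
  have := ovoid_finite' (F := F) (m := m)
  exact (h.Phi_injective hm hp).bijective_of_nat_card_le (le_of_eq (h.count hm p hp hpX).2.symm)

/-- the torus element as an element of the subgroup -/
def CoreHyp.H (h : CoreHyp hF M k₁) : ↥M := ⟨hG hF k₁, h.hmem⟩

theorem hG_smul_zero (hF : Fintype.card F = 2 ^ (2 * m + 1)) (k : Fˣ) :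
    hG hF k • oAff m (0 : F) 0 = oAff m 0 0 := by
  rw [hG_smul_oAff]; simp

theorem hG_inv_conj_mem_Uz (hF : Fintype.card F = 2 ^ (2 * m + 1)) (k : Fˣ)
    {v : ↥(Cfsg.Sz F m)} (hv : v ∈ Uz hF) : (hG hF k)⁻¹ * v * hG hF k ∈ Uz hF := by
  obtain ⟨a, b, rfl⟩ := (mem_Uz hF _).1 hv
  have := hG_conj_tauG hF k⁻¹ a b
  rw [← hG_inv, inv_inv] at this
  rw [this]
  exact tauG_mem_Uz hF _ _

/-- the Lang-type map on the unipotent part of the subgroup is surjective -/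
theorem CoreHyp.lang (hm : 1 ≤ m) (h : CoreHyp hF M k₁) {c : ↥(Cfsg.Sz F m)} (hcM : c ∈ M)
    (hcU : c ∈ Uz hF) :
    ∃ v : ↥(Cfsg.Sz F m), v ∈ M ∧ v ∈ Uz hF ∧ (hG hF k₁)⁻¹ * v⁻¹ * hG hF k₁ * v = c := by
  set SU : Subgroup ↥(Cfsg.Sz F m) := M ⊓ Uz hF with hSU
  let ψ : ↥SU → ↥SU := fun v => ⟨(hG hF k₁)⁻¹ * (v : ↥(Cfsg.Sz F m))⁻¹ * hG hF k₁ * v, by
    refine ⟨?_, ?_⟩
    · exact M.mul_mem (M.mul_mem (M.mul_mem (M.inv_mem h.hmem) (M.inv_mem v.2.1)) h.hmem) v.2.1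
    · exact (Uz hF).mul_mem (hG_inv_conj_mem_Uz hF k₁ ((Uz hF).inv_mem v.2.2)) v.2.2⟩
  have hinj : Function.Injective ψ := by
    intro v v' hvv
    have e : (hG hF k₁)⁻¹ * (v : ↥(Cfsg.Sz F m))⁻¹ * hG hF k₁ * v
        = (hG hF k₁)⁻¹ * (v' : ↥(Cfsg.Sz F m))⁻¹ * hG hF k₁ * v' := congrArg Subtype.val hvv
    set d : ↥(Cfsg.Sz F m) := (v' : ↥(Cfsg.Sz F m)) * (v : ↥(Cfsg.Sz F m))⁻¹ with hd
    have hcomm : d * hG hF k₁ = hG hF k₁ * d := by
      have e2 : (v : ↥(Cfsg.Sz F m))⁻¹ * hG hF k₁ * v = (v' : ↥(Cfsg.Sz F m))⁻¹ * hG hF k₁ * v' := by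
        have := congrArg (fun t => hG hF k₁ * t) e
        simpa [mul_assoc] using this
      calc d * hG hF k₁ = (v' : ↥(Cfsg.Sz F m)) * ((v : ↥(Cfsg.Sz F m))⁻¹ * hG hF k₁ * v) *
            (v : ↥(Cfsg.Sz F m))⁻¹ := by rw [hd]; group
        _ = (v' : ↥(Cfsg.Sz F m)) * ((v' : ↥(Cfsg.Sz F m))⁻¹ * hG hF k₁ * v') *
            (v : ↥(Cfsg.Sz F m))⁻¹ := by rw [e2]
        _ = hG hF k₁ * d := by rw [hd]; group
    obtain ⟨l, hl⟩ := commute_hG hm hF h.ne hcomm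
    have hdU : d ∈ Uz hF := (Uz hF).mul_mem v'.2.2 ((Uz hF).inv_mem v.2.2)
    have hd0 : d • oAff m (0 : F) 0 = oAff m 0 0 := by rw [hl, hG_smul_zero]
    have hd1 := Uz_fix_aff hF hdU (Ne.symm (oInf_ne_oAff 0 0)) hd0
    apply Subtype.ext
    have : (v' : ↥(Cfsg.Sz F m)) = d * v := by rw [hd]; group
    rw [this, hd1, one_mul]
  have hsurj := Finite.injective_iff_surjective.1 hinj
  obtain ⟨v, hv⟩ := hsurj ⟨c, hcM, hcU⟩
  exact ⟨v, v.2.1, v.2.2, congrArg Subtype.val hv⟩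

/-- the points fixed by involutions of the subgroup form one orbit of the unipotent part -/
theorem CoreHyp.orbit (hm : 1 ≤ m) (h : CoreHyp hF M k₁) {p : ↥(Cfsg.suzukiOvoid F m)}
    (hp : p ≠ oInf F m) (hpX : ∃ u : ↥M, IsInv u ∧ u • p = p) :
    ∃ a b : F, tauG hF a b ∈ M ∧ p = oAff m a b := by
  have hbij := h.Phi_bijective hm hp hpX
  have hHfix : h.H • oInf F m = oInf F m := hG_smul_oInf hF k₁
  obtain ⟨⟨g, hg0, hgp⟩, hgW⟩ := hbij.2 ⟨h.H * h.T * h.H⁻¹, h.T_inv.conj h.H, by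
    rw [mul_smul, mul_smul, inv_smul_eq_iff.2 hHfix.symm, h.T_fix, hHfix]⟩
  have e : g * h.T * g⁻¹ = h.H * h.T * h.H⁻¹ := congrArg Subtype.val hgW
  have e' : (g : ↥(Cfsg.Sz F m)) * tauG hF 0 1 * (g : ↥(Cfsg.Sz F m))⁻¹
      = hG hF k₁ * tauG hF 0 1 * (hG hF k₁)⁻¹ := by
    have := congrArg Subtype.val e
    simpa [CoreHyp.T, CoreHyp.H] using this
  set c : ↥(Cfsg.Sz F m) := (hG hF k₁)⁻¹ * (g : ↥(Cfsg.Sz F m)) with hc
  have hcomm : c * tauG hF 0 1 = tauG hF 0 1 * c := by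
    calc c * tauG hF 0 1 = (hG hF k₁)⁻¹ * ((g : ↥(Cfsg.Sz F m)) * tauG hF 0 1 *
          (g : ↥(Cfsg.Sz F m))⁻¹) * (g : ↥(Cfsg.Sz F m)) := by rw [hc]; group
      _ = (hG hF k₁)⁻¹ * (hG hF k₁ * tauG hF 0 1 * (hG hF k₁)⁻¹) * (g : ↥(Cfsg.Sz F m)) := by
          rw [e']
      _ = tauG hF 0 1 * c := by rw [hc]; group
  have hcU := commute_central hm hF one_ne_zero hcomm
  have hcM : c ∈ M := M.mul_mem (M.inv_mem h.hmem) g.2
  obtain ⟨v, hvM, hvU, hv⟩ := h.lang hm hcM hcU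
  have hg : (g : ↥(Cfsg.Sz F m)) = v⁻¹ * hG hF k₁ * v := by
    have : (g : ↥(Cfsg.Sz F m)) = hG hF k₁ * c := by rw [hc]; group
    rw [this, ← hv]; group
  have hgp' : (g : ↥(Cfsg.Sz F m)) • p = p := hgp
  rw [hg, mul_smul, mul_smul, inv_smul_eq_iff] at hgp'
  have hvinf : v • oInf F m = oInf F m := by
    obtain ⟨a, b, rfl⟩ := (mem_Uz hF _).1 hvU
    exact tauG_smul_oInf hF a b
  rcases hG_fix hF h.ne hgp' with h1 | h1
  · exfalso
    apply hp
    rw [← hvinf] at h1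
    exact MulAction.injective v h1
  · obtain ⟨a, b, hab⟩ := (mem_Uz hF _).1 ((Uz hF).inv_mem hvU)
    refine ⟨a, b, ?_, ?_⟩
    · rw [← hab]; exact M.inv_mem hvM
    · rw [← tauG_smul_oAff_zero hF a b, ← hab, ← h1, inv_smul_smul]

theorem CoreHyp.zero_X (hm : 1 ≤ m) (h : CoreHyp hF M k₁) :
    ∃ u : ↥M, IsInv u ∧ u • oAff m (0 : F) 0 = oAff m 0 0 := by
  obtain ⟨g, hgM, hg⟩ := h.move
  obtain ⟨G₁, hG₁⟩ : ∃ G₁ : ↥M, (G₁ : ↥(Cfsg.Sz F m)) = g := ⟨⟨g, hgM⟩, rfl⟩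
  have hG₁p : G₁ • oInf F m = g • oInf F m := by rw [Subgroup.smul_def, hG₁]
  have hpX : ∃ u : ↥M, IsInv u ∧ u • (g • oInf F m) = g • oInf F m := by
    refine ⟨G₁ * h.T * G₁⁻¹, h.T_inv.conj _, ?_⟩
    rw [← hG₁p, mul_smul, mul_smul, inv_smul_smul, h.T_fix]
  obtain ⟨a, b, hab, hp⟩ := h.orbit hm hg hpX
  obtain ⟨u, hu, hup⟩ := hpX
  obtain ⟨V, hV⟩ : ∃ V : ↥M, (V : ↥(Cfsg.Sz F m)) = tauG hF a b := ⟨⟨tauG hF a b, hab⟩, rfl⟩
  refine ⟨V⁻¹ * u * V, ?_, ?_⟩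
  · have := hu.conj V⁻¹
    rwa [inv_inv] at this
  · have e : V • oAff m (0 : F) 0 = g • oInf F m := by
      rw [hp, Subgroup.smul_def, hV]; exact tauG_smul_oAff_zero hF a b
    rw [mul_smul, mul_smul, e, hup, ← e, inv_smul_smul]

omit [Fintype F] in
theorem zero_ne_inf : oAff m (0 : F) 0 ≠ oInf F m := Ne.symm (oInf_ne_oAff 0 0)

/-- the subgroup contains an involution interchanging the two base points -/
theorem CoreHyp.swap (hm : 1 ≤ m) (h : CoreHyp hF M k₁) :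
    ∃ l : Fˣ, wG hF * hG hF l ∈ M := by
  obtain ⟨⟨u, hu, hu0⟩, -⟩ := h.count hm _ zero_ne_inf (h.zero_X hm)
  have hu00 : u • oAff m (0 : F) 0 = oInf F m := by
    rw [← hu0, ← mul_smul, ← sq, hu.2, one_smul]
  have h1 : ((u : ↥(Cfsg.Sz F m)) : Matrix.SpecialLinearGroup (Fin 4) F) • pInf F = pAff m 0 0 :=
    congrArg Subtype.val hu0
  have h2 : ((u : ↥(Cfsg.Sz F m)) : Matrix.SpecialLinearGroup (Fin 4) F) • pAff m (0 : F) 0
      = pInf F := congrArg Subtype.val hu00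
  obtain ⟨l, hl⟩ := sz_swap hm hF (u : ↥(Cfsg.Sz F m)).2 h1 h2
  refine ⟨l, ?_⟩
  have : wG hF * hG hF l = (u : ↥(Cfsg.Sz F m)) := Subtype.ext hl.symm
  rw [this]
  exact u.2

/-- the involutions of the subgroup fixing the point at infinity -/
theorem CoreHyp.inv_inf (hm : 1 ≤ m) (h : CoreHyp hF M k₁) {u : ↥(Cfsg.Sz F m)} (huM : u ∈ M)
    (hu1 : u ≠ 1) (hu2 : u ^ 2 = 1) (hu : u • oInf F m = oInf F m) :
    ∃ k : Fˣ, hG hF k ∈ M ∧ u = tauG hF 0 (sg m (k : F) * k) := by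
  have hbij := h.Phi_bijective hm zero_ne_inf (h.zero_X hm)
  obtain ⟨⟨g, hg0, hg00⟩, hgW⟩ := hbij.2 ⟨⟨u, huM⟩,
    ⟨fun h0 => hu1 (congrArg Subtype.val h0), Subtype.ext (by simpa using hu2)⟩, hu⟩
  have e : g * h.T * g⁻¹ = ⟨u, huM⟩ := congrArg Subtype.val hgW
  have e' : (g : ↥(Cfsg.Sz F m)) * tauG hF 0 1 * (g : ↥(Cfsg.Sz F m))⁻¹ = u := by
    have := congrArg Subtype.val e
    simpa [CoreHyp.T] using this
  obtain ⟨k, hk⟩ := eq_hG_of_fix hm hF (g := (g : ↥(Cfsg.Sz F m))) hg0 hg00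
  refine ⟨k, hk ▸ g.2, ?_⟩
  rw [← e', hk, hG_conj_tauG, mul_zero, mul_one]

theorem CoreHyp.central_mem (hm : 1 ≤ m) (h : CoreHyp hF M k₁) {b : F} (hb : b ≠ 0)
    (hbM : tauG hF 0 b ∈ M) : ∃ k : Fˣ, hG hF k ∈ M ∧ b = sg m (k : F) * k := by
  obtain ⟨k, hk, hkb⟩ := h.inv_inf hm hbM (Cfsg.Agent.S2240.tauG_zero_ne_one hF hb)
    (tauG_zero_sq hF b) (tauG_smul_oInf hF 0 b)
  exact ⟨k, hk, (tauG_injective hF hkb).2⟩

theorem neg_eq_self (hF : Fintype.card F = 2 ^ (2 * m + 1)) (b : F) : -b = b := by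
  linear_combination (-b) * two_eq_zero' hF

theorem hG_conj_central (hF : Fintype.card F = 2 ^ (2 * m + 1)) (k : Fˣ) :
    hG hF k * tauG hF 0 1 * (hG hF k)⁻¹ = tauG hF 0 (sg m (k : F) * k) := by
  rw [hG_conj_tauG, mul_zero, mul_one]

/-- the subfield attached to the subgroup -/
def CoreHyp.K (hm : 1 ≤ m) (h : CoreHyp hF M k₁) : Subfield F where
  carrier := {b | tauG hF 0 b ∈ M}
  mul_mem' := by
    intro a b ha hb
    simp only [Set.mem_ofPred_eq] at ha hb ⊢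
    by_cases ha0 : a = 0
    · rw [ha0, zero_mul, tauG_zero]; exact M.one_mem
    by_cases hb0 : b = 0
    · rw [hb0, mul_zero, tauG_zero]; exact M.one_mem
    obtain ⟨k, hk, rfl⟩ := h.central_mem hm ha0 ha
    obtain ⟨k', hk', rfl⟩ := h.central_mem hm hb0 hb
    have e := hG_conj_central hF (k * k')
    have : sg m ((k * k' : Fˣ) : F) * ((k * k' : Fˣ) : F)
        = sg m (k : F) * k * (sg m (k' : F) * k') := by
      rw [Units.val_mul, sg_mul]; ring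
    rw [this] at e
    rw [← e, hG_mul]
    exact M.mul_mem (M.mul_mem (M.mul_mem hk hk') h.tmem) (M.inv_mem (M.mul_mem hk hk'))
  one_mem' := h.tmem
  add_mem' := by
    intro a b ha hb
    simp only [Set.mem_ofPred_eq] at ha hb ⊢
    rw [← Cfsg.Agent.S2240.tauG_zero_mul]
    exact M.mul_mem ha hb
  zero_mem' := by
    simp only [Set.mem_ofPred_eq]
    rw [tauG_zero]; exact M.one_mem
  neg_mem' := by
    intro a ha
    simp only [Set.mem_ofPred_eq] at ha ⊢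
    rw [neg_eq_self hF]; exact ha
  inv_mem' := by
    intro a ha
    simp only [Set.mem_ofPred_eq] at ha ⊢
    by_cases ha0 : a = 0
    · rw [ha0, _root_.inv_zero, tauG_zero]; exact M.one_mem
    obtain ⟨k, hk, rfl⟩ := h.central_mem hm ha0 ha
    have e := hG_conj_central hF k⁻¹
    have : sg m ((k⁻¹ : Fˣ) : F) * ((k⁻¹ : Fˣ) : F) = (sg m (k : F) * k)⁻¹ := by
      rw [Units.val_inv_eq_inv_val, sg_inv, mul_inv]
    rw [this] at e
    rw [← e, ← hG_inv]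
    exact M.mul_mem (M.mul_mem (M.inv_mem hk) h.tmem) (M.inv_mem (M.inv_mem hk))

theorem CoreHyp.mem_K (hm : 1 ≤ m) (h : CoreHyp hF M k₁) (b : F) :
    b ∈ h.K hm ↔ tauG hF 0 b ∈ M := Iff.rfl

/-- abstract lemma: an injective endomorphism preserving a finite subgroup reflects it -/
theorem mem_of_map_mem {Γ : Type*} [Group Γ] [Finite Γ] (N : Γ →* Γ)
    (hN : Function.Injective N) (Kx : Subgroup Γ) (hK : ∀ x ∈ Kx, N x ∈ Kx) {y : Γ}
    (hy : N y ∈ Kx) : y ∈ Kx := by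
  let f : ↥Kx → ↥Kx := fun x => ⟨N x, hK x x.2⟩
  have hinj : Function.Injective f := by
    intro x x' hxx
    exact Subtype.ext (hN (congrArg Subtype.val hxx))
  obtain ⟨x, hx⟩ := Finite.injective_iff_surjective.1 hinj ⟨N y, hy⟩
  have : N x = N y := congrArg Subtype.val hx
  rw [← hN this]
  exact x.2

/-- the units of the field lying in a subfield -/
def unitsIn (K : Subfield F) : Subgroup Fˣ where
  carrier := {x | (x : F) ∈ K}
  mul_mem' := by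
    intro a b ha hb
    simp only [Set.mem_ofPred_eq] at ha hb ⊢
    rw [Units.val_mul]; exact K.mul_mem ha hb
  one_mem' := by
    simp only [Set.mem_ofPred_eq]
    rw [Units.val_one]; exact K.one_mem
  inv_mem' := by
    intro a ha
    simp only [Set.mem_ofPred_eq] at ha ⊢
    rw [Units.val_inv_eq_inv_val]; exact K.inv_mem ha

omit [Fintype F] in
theorem mem_unitsIn (K : Subfield F) (x : Fˣ) : x ∈ unitsIn K ↔ (x : F) ∈ K := Iff.rfl

/-- the map `x ↦ x^σ x` on units -/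
def normU (F : Type*) [Field F] (m : ℕ) : Fˣ →* Fˣ := powMonoidHom (2 ^ (m + 1) + 1)

omit [Fintype F] in
theorem normU_coe (x : Fˣ) : ((normU F m x : Fˣ) : F) = sg m (x : F) * x := by
  simp [normU, sg, pow_succ]

theorem normU_injective (hF : Fintype.card F = 2 ^ (2 * m + 1)) :
    Function.Injective (normU F m) := by
  rw [injective_iff_map_eq_one]
  intro x hx
  have := congrArg Units.val hx
  rw [normU_coe, Units.val_one] at this
  exact Units.ext (eq_one_of_sg_mul_self hF this)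

/-- the map `x ↦ x / x^σ` on units -/
def ratioU (F : Type*) [Field F] (m : ℕ) : Fˣ →* Fˣ :=
  MonoidHom.mk' (fun x => x * (x ^ (2 ^ (m + 1)))⁻¹) (by
    intro a b
    rw [mul_pow, mul_inv, mul_mul_mul_comm])

omit [Fintype F] in
theorem ratioU_coe (x : Fˣ) : ((ratioU F m x : Fˣ) : F) = (x : F) / sg m (x : F) := by
  simp [ratioU, sg, div_eq_mul_inv]

theorem ratioU_injective (hF : Fintype.card F = 2 ^ (2 * m + 1)) :
    Function.Injective (ratioU F m) := by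
  rw [injective_iff_map_eq_one]
  intro x hx
  have h1 := congrArg Units.val hx
  rw [ratioU_coe, Units.val_one] at h1
  have hx0 : (x : F) ≠ 0 := x.ne_zero
  have hs0 : sg m (x : F) ≠ 0 := fun h0 => hx0 (sg_eq_zero.1 h0)
  have h2 : (x : F) = sg m (x : F) := by
    field_simp at h1
    exact h1
  have h3 : (x : F) ^ 2 = x := by
    have := sg_sg hF (x : F)
    rw [← h2, ← h2] at this
    exact this.symm
  have h4 : (x : F) * ((x : F) - 1) = 0 := by linear_combination h3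
  rcases mul_eq_zero.1 h4 with h0 | h0
  · exact absurd h0 hx0
  · exact Units.ext (by rw [Units.val_one]; linear_combination h0)

omit [Fintype F] in
theorem sg_mem (K : Subfield F) {x : F} (hx : x ∈ K) : sg m x ∈ K := K.pow_mem hx _

theorem unit_mem_of_norm_mem (hF : Fintype.card F = 2 ^ (2 * m + 1)) (K : Subfield F) {x : Fˣ}
    (hx : sg m (x : F) * x ∈ K) : (x : F) ∈ K := by
  have := mem_of_map_mem (normU F m) (normU_injective hF) (unitsIn K) (fun y hy => by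
    rw [mem_unitsIn, normU_coe]
    exact K.mul_mem (sg_mem K hy) hy) (y := x) (by rw [mem_unitsIn, normU_coe]; exact hx)
  exact this

theorem unit_mem_of_ratio_mem (hF : Fintype.card F = 2 ^ (2 * m + 1)) (K : Subfield F) {x : Fˣ}
    (hx : (x : F) / sg m (x : F) ∈ K) : (x : F) ∈ K := by
  have := mem_of_map_mem (ratioU F m) (ratioU_injective hF) (unitsIn K) (fun y hy => by
    rw [mem_unitsIn, ratioU_coe]
    exact K.div_mem hy (sg_mem K hy)) (y := x) (by rw [mem_unitsIn, ratioU_coe]; exact hx)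
  exact this

/-- the torus elements of the subgroup are those with parameter in the subfield -/
theorem CoreHyp.hG_mem_iff (hm : 1 ≤ m) (h : CoreHyp hF M k₁) (k : Fˣ) :
    hG hF k ∈ M ↔ (k : F) ∈ h.K hm := by
  constructor
  · intro hk
    apply unit_mem_of_norm_mem hF
    rw [h.mem_K hm, ← hG_conj_central hF k]
    exact M.mul_mem (M.mul_mem hk h.tmem) (M.inv_mem hk)
  · intro hk
    have h1 : sg m (k : F) * k ∈ h.K hm := (h.K hm).mul_mem (sg_mem _ hk) hk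
    have h0 : sg m (k : F) * k ≠ 0 :=
      mul_ne_zero (fun h0 => k.ne_zero (sg_eq_zero.1 h0)) k.ne_zero
    obtain ⟨k', hk', e⟩ := h.central_mem hm h0 ((h.mem_K hm _).1 h1)
    have : normU F m k = normU F m k' := Units.ext (by rw [normU_coe, normU_coe, e])
    rw [normU_injective hF this]
    exact hk'

theorem CoreHyp.k₁_mem (hm : 1 ≤ m) (h : CoreHyp hF M k₁) : (k₁ : F) ∈ h.K hm :=
  (h.hG_mem_iff hm k₁).1 h.hmem

theorem CoreHyp.k₁_ne (h : CoreHyp hF M k₁) : (k₁ : F) ≠ 1 := by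
  intro h0
  exact h.ne (Units.ext (by rw [h0, Units.val_one]))

theorem sg_add_self_ne_zero (hF : Fintype.card F = 2 ^ (2 * m + 1)) {k : F} (hk0 : k ≠ 0)
    (hk1 : k ≠ 1) : sg m k + k ≠ 0 := by
  intro h0
  have h1 : sg m k = k := by linear_combination h0 - k * two_eq_zero' hF
  have h2 := sg_sg hF k
  rw [h1, h1] at h2
  have h4 : k * (k - 1) = 0 := by linear_combination -h2
  rcases mul_eq_zero.1 h4 with h5 | h5
  · exact hk0 h5
  · exact hk1 (by linear_combination h5)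

/-- the unipotent elements of the subgroup have parameters in the subfield -/
theorem CoreHyp.tau_mem_imp (hm : 1 ≤ m) (h : CoreHyp hF M k₁) {a b : F}
    (hab : tauG hF a b ∈ M) : a ∈ h.K hm ∧ b ∈ h.K hm := by
  have h2 := two_eq_zero' hF
  have ha : a ∈ h.K hm := by
    by_cases ha0 : a = 0
    · rw [ha0]; exact (h.K hm).zero_mem
    · have hsq : tauG hF 0 (sg m a * a) ∈ M := by
        rw [← Cfsg.Agent.S2241.tauG_sq hF a b]
        exact M.pow_mem hab 2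
      exact unit_mem_of_norm_mem hF (h.K hm) (x := Units.mk0 a ha0) ((h.mem_K hm _).2 hsq)
  refine ⟨ha, ?_⟩
  by_cases ha0 : a = 0
  · rw [ha0] at hab
    exact (h.mem_K hm _).2 hab
  have hk₁K := h.k₁_mem hm
  have hk₂0 : (k₁ : F) + 1 ≠ 0 := by
    intro h0
    apply h.k₁_ne
    linear_combination h0 - h2
  have hk₂K : ((Units.mk0 ((k₁ : F) + 1) hk₂0 : Fˣ) : F) ∈ h.K hm := by
    rw [Units.val_mk0]
    exact (h.K hm).add_mem hk₁K (h.K hm).one_mem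
  have hk₂M := (h.hG_mem_iff hm _).2 hk₂K
  have E1 : hG hF k₁ * tauG hF a b * (hG hF k₁)⁻¹ ∈ M :=
    M.mul_mem (M.mul_mem h.hmem hab) (M.inv_mem h.hmem)
  have E3 : hG hF (Units.mk0 ((k₁ : F) + 1) hk₂0) * tauG hF a b *
      (hG hF (Units.mk0 ((k₁ : F) + 1) hk₂0))⁻¹ ∈ M :=
    M.mul_mem (M.mul_mem hk₂M hab) (M.inv_mem hk₂M)
  rw [hG_conj_tauG] at E1 E3
  rw [Units.val_mk0] at E3
  have E4 := M.mul_mem (M.mul_mem E1 hab) (M.inv_mem E3)
  have e : tauG hF ((k₁ : F) * a) (sg m (k₁ : F) * k₁ * b) * tauG hF a b *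
      (tauG hF (((k₁ : F) + 1) * a) (sg m ((k₁ : F) + 1) * ((k₁ : F) + 1) * b))⁻¹
      = tauG hF 0 ((sg m (k₁ : F) + k₁) * b + sg m (k₁ : F) * sg m a * a) := by
    rw [tauG_inv, tauG_mul, tauG_mul]
    congr 1
    · linear_combination (((k₁ : F) + 1) * a) * h2
    · simp only [sg_add hF, sg_mul, sg_one]
      linear_combination (sg m (k₁ : F) * k₁ * b + b +
        (sg m (k₁ : F) + 1) * ((k₁ : F) + 1) * sg m a * a) * h2
  rw [e] at E4
  have hβ := (h.mem_K hm _).2 E4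
  have h3 : sg m (k₁ : F) * sg m a * a ∈ h.K hm :=
    (h.K hm).mul_mem ((h.K hm).mul_mem (sg_mem _ hk₁K) (sg_mem _ ha)) ha
  have h4 : (sg m (k₁ : F) + k₁) * b ∈ h.K hm := by
    have := (h.K hm).sub_mem hβ h3
    simpa using this
  have h5 : sg m (k₁ : F) + k₁ ∈ h.K hm := (h.K hm).add_mem (sg_mem _ hk₁K) hk₁K
  have h6 := sg_add_self_ne_zero hF k₁.ne_zero h.k₁_ne
  have : b = (sg m (k₁ : F) + k₁)⁻¹ * ((sg m (k₁ : F) + k₁) * b) := by
    field_simp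
  rw [this]
  exact (h.K hm).mul_mem ((h.K hm).inv_mem h5) h4

theorem wG_smul_oAff_central (hF : Fintype.card F = 2 ^ (2 * m + 1)) {y : F} (hy : y ≠ 0) :
    wG hF • oAff m (0 : F) y = oAff m (y / sg m y) 0 := by
  have := w_tau_w_smul hF hy
  rwa [mul_smul, mul_smul, wG_smul_oInf, tauG_smul_oAff_zero] at this

/-- the parameter of the swapping involution lies in the subfield, and so does `w` -/
theorem CoreHyp.w_mem (hm : 1 ≤ m) (h : CoreHyp hF M k₁) :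
    wG hF ∈ M ∧ ∃ a₀ : F, a₀ ≠ 0 ∧ tauG hF a₀ 0 ∈ M := by
  obtain ⟨l, hl⟩ := h.swap hm
  set u : ↥(Cfsg.Sz F m) := wG hF * hG hF l with hu
  have hu0 : u • oAff m (0 : F) 0 = oInf F m := by
    rw [hu, mul_smul, hG_smul_zero, wG_smul_oAff_zero]
  have huinv0 : u⁻¹ • oInf F m = oAff m 0 0 := by rw [inv_smul_eq_iff, hu0]
  set y : F := sg m (l : F) * l with hy
  have hy0 : y ≠ 0 := mul_ne_zero (fun h0 => l.ne_zero (sg_eq_zero.1 h0)) l.ne_zero
  set g : ↥(Cfsg.Sz F m) := u * tauG hF 0 1 * u⁻¹ with hg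
  have hgM : g ∈ M := M.mul_mem (M.mul_mem hl h.tmem) (M.inv_mem hl)
  have hgp : g • oInf F m = oAff m (y / sg m y) 0 := by
    rw [hg, mul_smul, mul_smul, huinv0, tauG_smul_oAff_zero, hu, mul_smul, hG_smul_oAff,
      mul_zero, mul_one, ← hy, wG_smul_oAff_central hF hy0]
  have hpne : oAff m (y / sg m y) 0 ≠ oInf F m := Ne.symm (oInf_ne_oAff _ _)
  obtain ⟨G₁, hG₁⟩ : ∃ G₁ : ↥M, (G₁ : ↥(Cfsg.Sz F m)) = g := ⟨⟨g, hgM⟩, rfl⟩
  have hG₁p : G₁ • oInf F m = oAff m (y / sg m y) 0 := by rw [Subgroup.smul_def, hG₁, hgp]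
  have hpX : ∃ v : ↥M, IsInv v ∧ v • oAff m (y / sg m y) 0 = oAff m (y / sg m y) 0 := by
    refine ⟨G₁ * h.T * G₁⁻¹, h.T_inv.conj _, ?_⟩
    rw [← hG₁p, mul_smul, mul_smul, inv_smul_smul, h.T_fix]
  obtain ⟨a, b, hab, hp⟩ := h.orbit hm hpne hpX
  obtain ⟨ea, eb⟩ := pAff_injective (congrArg Subtype.val hp)
  rw [← ea, ← eb] at hab
  have ha₀ : y / sg m y ≠ 0 := div_ne_zero hy0 (fun h0 => hy0 (sg_eq_zero.1 h0))
  have haK := (h.tau_mem_imp hm hab).1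
  have hyK : y ∈ h.K hm := by
    have := unit_mem_of_ratio_mem hF (h.K hm) (x := Units.mk0 y hy0) (by rw [Units.val_mk0]; exact haK)
    rwa [Units.val_mk0] at this
  have hlK : (l : F) ∈ h.K hm := unit_mem_of_norm_mem hF (h.K hm) hyK
  have hlM := (h.hG_mem_iff hm l).2 hlK
  refine ⟨?_, y / sg m y, ha₀, hab⟩
  have : wG hF = u * (hG hF l)⁻¹ := by rw [hu]; group
  rw [this]
  exact M.mul_mem hl (M.inv_mem hlM)

/-- the unipotent elements with parameters in the subfield lie in the subgroup -/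
theorem CoreHyp.tau_mem (hm : 1 ≤ m) (h : CoreHyp hF M k₁) {a b : F} (ha : a ∈ h.K hm)
    (hb : b ∈ h.K hm) : tauG hF a b ∈ M := by
  obtain ⟨-, a₀, ha₀, ha₀M⟩ := h.w_mem hm
  have ha₀K := (h.tau_mem_imp hm ha₀M).1
  have h1 : tauG hF a 0 ∈ M := by
    by_cases ha0 : a = 0
    · rw [ha0, tauG_zero]; exact M.one_mem
    · have hk0 : a / a₀ ≠ 0 := div_ne_zero ha0 ha₀
      have hkK : ((Units.mk0 (a / a₀) hk0 : Fˣ) : F) ∈ h.K hm := by
        rw [Units.val_mk0]; exact (h.K hm).div_mem ha ha₀K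
      have hkM := (h.hG_mem_iff hm _).2 hkK
      have := M.mul_mem (M.mul_mem hkM ha₀M) (M.inv_mem hkM)
      rw [hG_conj_tauG, Units.val_mk0, mul_zero, div_mul_cancel₀ a ha₀] at this
      exact this
  have h2 : tauG hF 0 b ∈ M := (h.mem_K hm b).1 hb
  have := M.mul_mem h1 h2
  rw [tauG_mul, mul_zero, add_zero, add_zero, zero_add] at this
  exact this

theorem CoreHyp.tau_mem_iff (hm : 1 ≤ m) (h : CoreHyp hF M k₁) (a b : F) :
    tauG hF a b ∈ M ↔ a ∈ h.K hm ∧ b ∈ h.K hm :=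
  ⟨h.tau_mem_imp hm, fun hab => h.tau_mem hm hab.1 hab.2⟩

/-- elements of the subgroup fixing the point at infinity -/
theorem CoreHyp.borel (hm : 1 ≤ m) (h : CoreHyp hF M k₁) {g : ↥(Cfsg.Sz F m)} (hg : g ∈ M)
    (hfix : g • oInf F m = oInf F m) :
    ∃ (a b : F) (k : Fˣ), a ∈ h.K hm ∧ b ∈ h.K hm ∧ (k : F) ∈ h.K hm ∧
      g = tauG hF a b * hG hF k := by
  obtain ⟨a, b, k, rfl⟩ := (mem_stab_inf_iff hm hF g).1 (MulAction.mem_stabilizer_iff.2 hfix)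
  have h1 := M.mul_mem (M.mul_mem hg h.tmem) (M.inv_mem hg)
  rw [borel_conj_tauG, mul_zero, mul_zero, sg_zero, zero_mul, add_zero, add_zero, mul_one] at h1
  have hkK : (k : F) ∈ h.K hm := unit_mem_of_norm_mem hF (h.K hm) ((h.mem_K hm _).2 h1)
  have hkM := (h.hG_mem_iff hm k).2 hkK
  have h2 : tauG hF a b ∈ M := by
    have := M.mul_mem hg (M.inv_mem hkM)
    rwa [mul_assoc, mul_inv_cancel, mul_one] at this
  obtain ⟨ha, hb⟩ := h.tau_mem_imp hm h2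
  exact ⟨a, b, k, ha, hb, hkK, rfl⟩

/-- the Bruhat decomposition of the subgroup over the subfield -/
theorem CoreHyp.bruhat (hm : 1 ≤ m) (h : CoreHyp hF M k₁) {g : ↥(Cfsg.Sz F m)} (hg : g ∈ M) :
    (∃ (a b : F) (k : Fˣ), a ∈ h.K hm ∧ b ∈ h.K hm ∧ (k : F) ∈ h.K hm ∧
      g = tauG hF a b * hG hF k) ∨
    (∃ (a b a' b' : F) (k : Fˣ), a ∈ h.K hm ∧ b ∈ h.K hm ∧ a' ∈ h.K hm ∧ b' ∈ h.K hm ∧
      (k : F) ∈ h.K hm ∧ g = tauG hF a b * wG hF * tauG hF a' b' * hG hF k) := by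
  by_cases hfix : g • oInf F m = oInf F m
  · exact Or.inl (h.borel hm hg hfix)
  · right
    obtain ⟨G₁, hG₁⟩ : ∃ G₁ : ↥M, (G₁ : ↥(Cfsg.Sz F m)) = g := ⟨⟨g, hg⟩, rfl⟩
    have hG₁p : G₁ • oInf F m = g • oInf F m := by rw [Subgroup.smul_def, hG₁]
    have hpX : ∃ v : ↥M, IsInv v ∧ v • (g • oInf F m) = g • oInf F m := by
      refine ⟨G₁ * h.T * G₁⁻¹, h.T_inv.conj _, ?_⟩
      rw [← hG₁p, mul_smul, mul_smul, inv_smul_smul, h.T_fix]
    obtain ⟨a, b, hab, hp⟩ := h.orbit hm hfix hpX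
    obtain ⟨ha, hb⟩ := h.tau_mem_imp hm hab
    have hw := (h.w_mem hm).1
    have hg'M : (tauG hF a b * wG hF)⁻¹ * g ∈ M := M.mul_mem (M.inv_mem (M.mul_mem hab hw)) hg
    have hg'fix : ((tauG hF a b * wG hF)⁻¹ * g) • oInf F m = oInf F m := by
      rw [mul_smul, hp, inv_smul_eq_iff, mul_smul, wG_smul_oInf, tauG_smul_oAff_zero]
    obtain ⟨a', b', k, ha', hb', hk, e⟩ := h.borel hm hg'M hg'fix
    refine ⟨a, b, a', b', k, ha, hb, ha', hb', hk, ?_⟩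
    have : g = (tauG hF a b * wG hF) * ((tauG hF a b * wG hF)⁻¹ * g) := by group
    rw [this, e]; group

/-- if the subfield is the whole field, the subgroup is the whole group -/
theorem CoreHyp.eq_top (hm : 1 ≤ m) (h : CoreHyp hF M k₁) (hK : h.K hm = ⊤) : M = ⊤ := by
  rw [eq_top_iff]
  intro g _
  have hall : ∀ x : F, x ∈ h.K hm := fun x => by rw [hK]; exact Subfield.mem_top x
  have ht : ∀ a b : F, tauG hF a b ∈ M := fun a b => h.tau_mem hm (hall a) (hall b)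
  have hh : ∀ k : Fˣ, hG hF k ∈ M := fun k => (h.hG_mem_iff hm k).2 (hall _)
  have hw := (h.w_mem hm).1
  rcases bruhatG hm hF g with ⟨a, b, k, rfl⟩ | ⟨a, b, a', b', k, rfl⟩
  · exact M.mul_mem (ht a b) (hh k)
  · exact M.mul_mem (M.mul_mem (M.mul_mem (ht a b) hw) (ht a' b')) (hh k)

end Core

end Cfsg.Agent.Lib.Helper09
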