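import Cfsg.Agent.Lib.Helper09.SuzukiToriCount

set_option autoImplicit false

namespace Cfsg.Agent.Lib.Helper09

open Matrix
open scoped Pointwise

section Nilp

/-- a nontrivial nilpotent subgroup has a nontrivial central element -/
theorem exists_central_ne_one {G : Type*} [Group G] (A : Subgroup G) (hA : Group.IsNilpotent ↥A)
    {g : G} (hg : g ∈ A) (hg1 : g ≠ 1) : ∃ z ∈ A, z ≠ 1 ∧ ∀ a ∈ A, a * z = z * a := by
  have : Nontrivial ↥A := ⟨⟨⟨g, hg⟩, 1, fun h => hg1 (congrArg Subtype.val h)⟩⟩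
  have h := Group.IsNilpotent.center_ne_bot (G := ↥A)
  rw [Ne, Subgroup.eq_bot_iff_forall] at h
  push Not at h
  obtain ⟨z, hz, hz1⟩ := h
  refine ⟨z.1, z.2, fun h => hz1 (Subtype.ext h), fun a ha => ?_⟩
  have := Subgroup.mem_center_iff.1 hz ⟨a, ha⟩
  exact congrArg Subtype.val this

theorem conj_commute' {G : Type*} [Group G] {x a b : G} (h : a * b = b * a) :
    (x⁻¹ * a * x) * (x⁻¹ * b * x) = (x⁻¹ * b * x) * (x⁻¹ * a * x) := by
  have e1 : (x⁻¹ * a * x) * (x⁻¹ * b * x) = x⁻¹ * (a * b) * x := by group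
  have e2 : (x⁻¹ * b * x) * (x⁻¹ * a * x) = x⁻¹ * (b * a) * x := by group
  rw [e1, e2, h]

end Nilp

section Lower

variable {F : Type*} [Field F] [Fintype F] {m : ℕ}

theorem commute_tauG (hm : 1 ≤ m) (hF : Fintype.card F = 2 ^ (2 * m + 1)) {a b : F}
    (hne : tauG hF a b ≠ 1) {c : ↥(Cfsg.Sz F m)} (hc : c * tauG hF a b = tauG hF a b * c) :
    c ∈ Uz hF := by
  by_cases ha : a = 0
  · subst ha
    have hb : b ≠ 0 := by
      rintro rfl
      exact hne (tauG_zero hF)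
    exact commute_central hm hF hb hc
  · have hb : sg m a * a ≠ 0 := mul_ne_zero (fun h => ha (sg_eq_zero.1 h)) ha
    apply commute_central hm hF hb
    rw [← Cfsg.Agent.S2241.tauG_sq hF a b, sq, ← mul_assoc, hc, mul_assoc, hc, mul_assoc]

theorem nilp_le_Hz (hm : 1 ≤ m) (hF : Fintype.card F = 2 ^ (2 * m + 1))
    {A : Subgroup ↥(Cfsg.Sz F m)} (hA : Group.IsNilpotent ↥A) {x : ↥(Cfsg.Sz F m)} {k : Fˣ}
    (hk : k ≠ 1) (h : x * hG hF k * x⁻¹ ∈ A) : ∀ a ∈ A, x⁻¹ * a * x ∈ Hz hF := by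
  have hk1 : hG hF k ≠ 1 := fun h1 => hk (hG_injective hF (h1.trans (hG_one hF).symm))
  obtain ⟨z, hzA, hz1, hz⟩ := exists_central_ne_one A hA h (conj_ne_one' hk1)
  have e0 : x⁻¹ * (x * hG hF k * x⁻¹) * x = hG hF k := by group
  have h1 := conj_commute' (x := x) (hz _ h)
  rw [e0] at h1
  obtain ⟨l, hl⟩ := commute_hG hm hF hk h1.symm
  have hl1 : l ≠ 1 := by
    rintro rfl
    rw [hG_one] at hl
    apply hz1
    have : z = x * (x⁻¹ * z * x) * x⁻¹ := by group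
    rw [this, hl]; group
  intro a ha
  have h2 := conj_commute' (x := x) (hz a ha)
  rw [hl] at h2
  obtain ⟨l', hl'⟩ := commute_hG hm hF hl1 h2
  exact (mem_Hz hF _).2 ⟨l', hl'⟩

theorem nilp_le_Uz (hm : 1 ≤ m) (hF : Fintype.card F = 2 ^ (2 * m + 1))
    {A : Subgroup ↥(Cfsg.Sz F m)} (hA : Group.IsNilpotent ↥A) {x : ↥(Cfsg.Sz F m)}
    (h : x * tauG hF 0 1 * x⁻¹ ∈ A) : ∀ a ∈ A, x⁻¹ * a * x ∈ Uz hF := by
  have hk1 : tauG hF (0 : F) 1 ≠ 1 := Cfsg.Agent.S2240.tauG_zero_ne_one hF one_ne_zero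
  obtain ⟨z, hzA, hz1, hz⟩ := exists_central_ne_one A hA h (conj_ne_one' hk1)
  have e0 : x⁻¹ * (x * tauG hF (0 : F) 1 * x⁻¹) * x = tauG hF 0 1 := by group
  have h1 := conj_commute' (x := x) (hz _ h)
  rw [e0] at h1
  obtain ⟨a₀, b₀, hab⟩ := (mem_Uz hF _).1 (commute_tauG hm hF hk1 h1.symm)
  have hne : tauG hF a₀ b₀ ≠ 1 := by
    intro h0
    rw [h0] at hab
    apply hz1
    have : z = x * (x⁻¹ * z * x) * x⁻¹ := by group
    rw [this, hab]; group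
  intro a ha
  have h2 := conj_commute' (x := x) (hz a ha)
  rw [hab] at h2
  exact commute_tauG hm hF hne h2

/-- lower bound for the size of a cover by nilpotent subgroups -/
theorem nilp_cover_lower (hm : 1 ≤ m) (hF : Fintype.card F = 2 ^ (2 * m + 1))
    (𝓐 : Finset (Subgroup ↥(Cfsg.Sz F m))) (hcov : ∀ g : ↥(Cfsg.Sz F m), ∃ A ∈ 𝓐, g ∈ A)
    (hnil : ∀ A ∈ 𝓐, Group.IsNilpotent ↥A) :
    (Subgroup.normalizer ((Hz hF : Subgroup ↥(Cfsg.Sz F m)) : Set ↥(Cfsg.Sz F m))).index +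
      (Subgroup.normalizer ((Uz hF : Subgroup ↥(Cfsg.Sz F m)) : Set ↥(Cfsg.Sz F m))).index
      ≤ 𝓐.card := by
  classical
  obtain ⟨k₀, hk₀⟩ := exists_unit_ne_one (F := F) hm hF
  have hk1 : hG hF k₀ ≠ 1 := fun h1 => hk₀ (hG_injective hF (h1.trans (hG_one hF).symm))
  have ht1 : tauG hF (0 : F) 1 ≠ 1 := Cfsg.Agent.S2240.tauG_zero_ne_one hF one_ne_zero
  set NH := Subgroup.normalizer ((Hz hF : Subgroup ↥(Cfsg.Sz F m)) : Set ↥(Cfsg.Sz F m)) with hNH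
  set NU := Subgroup.normalizer ((Uz hF : Subgroup ↥(Cfsg.Sz F m)) : Set ↥(Cfsg.Sz F m)) with hNU
  have h1 : ∀ c : ↥(Cfsg.Sz F m) ⧸ NH, ∃ A ∈ 𝓐, c.out * hG hF k₀ * c.out⁻¹ ∈ A := fun c => hcov _
  have h2 : ∀ d : ↥(Cfsg.Sz F m) ⧸ NU, ∃ A ∈ 𝓐, d.out * tauG hF 0 1 * d.out⁻¹ ∈ A :=
    fun d => hcov _
  choose f₁ hf₁ hf₁' using h1
  choose f₂ hf₂ hf₂' using h2
  let f : (↥(Cfsg.Sz F m) ⧸ NH) ⊕ (↥(Cfsg.Sz F m) ⧸ NU) → {A // A ∈ 𝓐} :=
    Sum.elim (fun c => ⟨f₁ c, hf₁ c⟩) (fun d => ⟨f₂ d, hf₂ d⟩)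
  have hinj : Function.Injective f := by
    rintro (c | d) (c' | d') h
    · have h' : f₁ c = f₁ c' := congrArg Subtype.val h
      have h3 := nilp_le_Hz hm hF (hnil _ (hf₁ c)) hk₀ (hf₁' c) _ (h' ▸ hf₁' c')
      have e : c.out⁻¹ * (c'.out * hG hF k₀ * c'.out⁻¹) * c.out
          = (c.out⁻¹ * c'.out) * hG hF k₀ * (c.out⁻¹ * c'.out)⁻¹ := by group
      rw [e] at h3
      have hkey := Hz_key hm hF _ _ ((mem_Hz hF _).2 ⟨k₀, rfl⟩) hk1 h3
      congr 1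
      rw [← QuotientGroup.out_eq' c, ← QuotientGroup.out_eq' c', QuotientGroup.eq]
      exact hkey
    · exfalso
      have h' : f₁ c = f₂ d' := congrArg Subtype.val h
      have h3 := nilp_le_Hz hm hF (hnil _ (hf₁ c)) hk₀ (hf₁' c) _ (h' ▸ hf₂' d')
      have hne : d'.out * tauG hF (0 : F) 1 * d'.out⁻¹ ≠ 1 := conj_ne_one' ht1
      have m1 : d'.out * tauG hF (0 : F) 1 * d'.out⁻¹ ∈ conjSet (Uz (m := m) hF) := by
        refine ⟨hne, d'.out⁻¹, ?_⟩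
        have : d'.out⁻¹ * (d'.out * tauG hF (0 : F) 1 * d'.out⁻¹) * d'.out⁻¹⁻¹ = tauG hF 0 1 := by
          group
        rw [this]
        exact tauG_mem_Uz hF 0 1
      have m2 : d'.out * tauG hF (0 : F) 1 * d'.out⁻¹ ∈ conjSet (Hz (m := m) hF) := by
        refine ⟨hne, c.out⁻¹, ?_⟩
        rw [inv_inv]
        exact h3
      exact Set.disjoint_left.1 (disjoint_conjSet_Uz_Hz hF) m1 m2
    · exfalso
      have h' : f₂ d = f₁ c' := congrArg Subtype.val h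
      have h3 := nilp_le_Hz hm hF (hnil _ (hf₁ c')) hk₀ (hf₁' c') _ (h' ▸ hf₂' d)
      have hne : d.out * tauG hF (0 : F) 1 * d.out⁻¹ ≠ 1 := conj_ne_one' ht1
      have m1 : d.out * tauG hF (0 : F) 1 * d.out⁻¹ ∈ conjSet (Uz (m := m) hF) := by
        refine ⟨hne, d.out⁻¹, ?_⟩
        have : d.out⁻¹ * (d.out * tauG hF (0 : F) 1 * d.out⁻¹) * d.out⁻¹⁻¹ = tauG hF 0 1 := by
          group
        rw [this]
        exact tauG_mem_Uz hF 0 1
      have m2 : d.out * tauG hF (0 : F) 1 * d.out⁻¹ ∈ conjSet (Hz (m := m) hF) := by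
        refine ⟨hne, c'.out⁻¹, ?_⟩
        rw [inv_inv]
        exact h3
      exact Set.disjoint_left.1 (disjoint_conjSet_Uz_Hz hF) m1 m2
    · have h' : f₂ d = f₂ d' := congrArg Subtype.val h
      have h3 := nilp_le_Uz hm hF (hnil _ (hf₂ d)) (hf₂' d) _ (h' ▸ hf₂' d')
      have e : d.out⁻¹ * (d'.out * tauG hF (0 : F) 1 * d'.out⁻¹) * d.out
          = (d.out⁻¹ * d'.out) * tauG hF 0 1 * (d.out⁻¹ * d'.out)⁻¹ := by group
      rw [e] at h3
      have hkey := Uz_key hm hF _ _ (tauG_mem_Uz hF 0 1) ht1 h3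
      congr 1
      rw [← QuotientGroup.out_eq' d, ← QuotientGroup.out_eq' d', QuotientGroup.eq]
      exact hkey
  have hle := Nat.card_le_card_of_injective f hinj
  rw [Nat.card_sum, Nat.card_eq_finsetCard] at hle
  exact hle

end Lower

section Upper

variable {F : Type*} [Field F] [Fintype F] {m : ℕ}

theorem cover_arith (q s a₁ a₂ iH iU i₁ i₂ cG : ℕ) (hq : 8 ≤ q) (hs : s ^ 2 = 2 * q)
    (ha₁ : a₁ = q + s + 1) (ha₂ : a₂ = q - s + 1)
    (hG : cG = q ^ 2 * (q ^ 2 + 1) * (q - 1))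
    (hH : iH * (2 * (q - 1)) = cG) (hU : iU * (q ^ 2 * (q - 1)) = cG)
    (h₁ : i₁ * (4 * a₁) = cG) (h₂ : i₂ * (4 * a₂) = cG) :
    (q ^ 2 + 1) + i₁ + i₂ < iH + iU := by
  have hsq : s ≤ q := by
    by_contra hlt
    push Not at hlt
    have : q * q < s * s := Nat.mul_lt_mul'' hlt hlt
    nlinarith
  obtain ⟨d, rfl⟩ : ∃ d, q = s + d := ⟨q - s, by omega⟩
  obtain ⟨r, hr⟩ : ∃ r, s + d = r + 1 := ⟨s + d - 1, by omega⟩
  have e1 : s + d - s + 1 = d + 1 := by omega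
  have e2 : s + d - 1 = r := by omega
  rw [e1] at ha₂
  rw [e2] at hG hH hU
  subst ha₁ ha₂
  have hr7 : 7 ≤ r := by omega
  have hprod : (s + d + s + 1) * (d + 1) = (s + d) ^ 2 + 1 := by nlinarith
  -- iU
  have hiU : iU = (s + d) ^ 2 + 1 := by
    have hpos : 0 < (s + d) ^ 2 * r := by positivity
    apply Nat.eq_of_mul_eq_mul_right hpos
    rw [hU, hG]; ring
  have hiH : 2 * iH = (s + d) ^ 2 * ((s + d) ^ 2 + 1) := by
    have hpos : 0 < r := by omega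
    apply Nat.eq_of_mul_eq_mul_right hpos
    have : 2 * iH * r = iH * (2 * r) := by ring
    rw [this, hH, hG]
  have hi₁ : 4 * i₁ = (s + d) ^ 2 * (d + 1) * r := by
    have hpos : 0 < s + d + s + 1 := by omega
    apply Nat.eq_of_mul_eq_mul_right hpos
    have : 4 * i₁ * (s + d + s + 1) = i₁ * (4 * (s + d + s + 1)) := by ring
    rw [this, h₁, hG, ← hprod]; ring
  have hi₂ : 4 * i₂ = (s + d) ^ 2 * (s + d + s + 1) * r := by
    have hpos : 0 < d + 1 := by omega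
    apply Nat.eq_of_mul_eq_mul_right hpos
    have : 4 * i₂ * (d + 1) = i₂ * (4 * (d + 1)) := by ring
    rw [this, h₂, hG, ← hprod]; ring
  have hsum : 4 * (i₁ + i₂) = 2 * ((s + d) ^ 2 * ((s + d) + 1) * r) := by
    rw [mul_add, hi₁, hi₂]; ring
  have hlt : 4 * (i₁ + i₂) < 4 * iH := by
    have : 4 * iH = 2 * ((s + d) ^ 2 * ((s + d) ^ 2 + 1)) := by rw [← hiH]; ring
    rw [hsum, this]
    have h3 : (s + d + 1) * r < (s + d) ^ 2 + 1 := by
      rw [hr]; nlinarith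
    have hpos : 0 < (s + d) ^ 2 := by positivity
    have := Nat.mul_lt_mul_of_pos_left h3 hpos
    nlinarith
  omega

theorem stabilizer_ne_top (hm : 1 ≤ m) (hF : Fintype.card F = 2 ^ (2 * m + 1))
    (ω : ↥(Cfsg.suzukiOvoid F m)) : MulAction.stabilizer ↥(Cfsg.Sz F m) ω ≠ ⊤ := by
  intro h
  obtain ⟨T, hT⟩ := exists_torus hm hF
  obtain ⟨c, hc, hc1⟩ := hT.ne_bot hm hF
  have hD := hT.derangement hm hF hc hc1
  apply hD ω
  have : c ∈ MulAction.stabilizer ↥(Cfsg.Sz F m) ω := by rw [h]; exact Subgroup.mem_top c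
  exact MulAction.mem_stabilizer_iff.1 this

theorem IsTorus.map_conj_ne_top (hm : 1 ≤ m) (hF : Fintype.card F = 2 ^ (2 * m + 1))
    {T : Subgroup ↥(Cfsg.Sz F m)} (hT : IsTorus F m T) (x : ↥(Cfsg.Sz F m)) :
    T.map (MulAut.conj x).toMonoidHom ≠ ⊤ := by
  intro h
  have ht1 : tauG hF (0 : F) 1 ≠ 1 := Cfsg.Agent.S2240.tauG_zero_ne_one hF one_ne_zero
  have h1 : tauG hF (0 : F) 1 ∈ T.map (MulAut.conj x).toMonoidHom := by
    rw [h]; exact Subgroup.mem_top _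
  have hD := (hT.conj x).derangement hm hF h1 ht1
  exact hD (oInf F m) (tauG_smul_oInf hF 0 1)

theorem mem_map_conj_out {G : Type*} [Group G] (T : Subgroup G) {g x : G}
    (h : x * g * x⁻¹ ∈ T) :
    g ∈ T.map (MulAut.conj
      ((x⁻¹ : G) : G ⧸ Subgroup.normalizer (T : Set G)).out).toMonoidHom := by
  obtain ⟨n, hn⟩ := QuotientGroup.mk_out_eq_mul (Subgroup.normalizer (T : Set G)) x⁻¹
  rw [hn, mem_map_conj]
  have hn' := n.2
  rw [Subgroup.mem_normalizer_iff] at hn'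
  have e : (x⁻¹ * (n : G))⁻¹ * g * (x⁻¹ * (n : G)) = (n : G)⁻¹ * (x * g * x⁻¹) * (n : G)⁻¹⁻¹ := by
    group
  rw [e]
  have hn'' : (n : G)⁻¹ ∈ Subgroup.normalizer (T : Set G) := inv_mem n.2
  rw [Subgroup.mem_normalizer_iff] at hn''
  exact (hn'' _).1 h

/-- a cover by proper subgroups that is smaller than any nilpotent cover -/
theorem cheap_cover (hm : 1 ≤ m) (hF : Fintype.card F = 2 ^ (2 * m + 1)) :
    ∃ 𝓑 : Finset (Subgroup ↥(Cfsg.Sz F m)), (∀ B ∈ 𝓑, B ≠ ⊤) ∧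
      (∀ g : ↥(Cfsg.Sz F m), ∃ B ∈ 𝓑, g ∈ B) ∧
      𝓑.card <
        (Subgroup.normalizer ((Hz hF : Subgroup ↥(Cfsg.Sz F m)) : Set ↥(Cfsg.Sz F m))).index +
        (Subgroup.normalizer ((Uz hF : Subgroup ↥(Cfsg.Sz F m)) : Set ↥(Cfsg.Sz F m))).index := by
  classical
  obtain ⟨T₁, T₂, hT₁, hT₂, hcov, hN₁, hN₂, hc₁, hc₂⟩ := tori_orders hm hF
  have := ovoid_finite' (F := F) (m := m)
  have : Fintype ↥(Cfsg.suzukiOvoid F m) := Fintype.ofFinite _
  set N₁ := Subgroup.normalizer ((T₁ : Subgroup ↥(Cfsg.Sz F m)) : Set ↥(Cfsg.Sz F m)) with hN₁def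
  set N₂ := Subgroup.normalizer ((T₂ : Subgroup ↥(Cfsg.Sz F m)) : Set ↥(Cfsg.Sz F m)) with hN₂def
  have : Fintype (↥(Cfsg.Sz F m) ⧸ N₁) := Fintype.ofFinite _
  have : Fintype (↥(Cfsg.Sz F m) ⧸ N₂) := Fintype.ofFinite _
  let B₀ : Finset (Subgroup ↥(Cfsg.Sz F m)) :=
    Finset.univ.image (fun ω : ↥(Cfsg.suzukiOvoid F m) => MulAction.stabilizer ↥(Cfsg.Sz F m) ω)
  let B₁ : Finset (Subgroup ↥(Cfsg.Sz F m)) :=
    Finset.univ.image (fun c : ↥(Cfsg.Sz F m) ⧸ N₁ => T₁.map (MulAut.conj c.out).toMonoidHom)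
  let B₂ : Finset (Subgroup ↥(Cfsg.Sz F m)) :=
    Finset.univ.image (fun c : ↥(Cfsg.Sz F m) ⧸ N₂ => T₂.map (MulAut.conj c.out).toMonoidHom)
  refine ⟨(B₀ ∪ B₁) ∪ B₂, ?_, ?_, ?_⟩
  · intro B hB
    rw [Finset.mem_union, Finset.mem_union] at hB
    rcases hB with (hB | hB) | hB
    · obtain ⟨ω, -, rfl⟩ := Finset.mem_image.1 hB
      exact stabilizer_ne_top hm hF ω
    · obtain ⟨c, -, rfl⟩ := Finset.mem_image.1 hB
      exact hT₁.map_conj_ne_top hm hF _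
    · obtain ⟨c, -, rfl⟩ := Finset.mem_image.1 hB
      exact hT₂.map_conj_ne_top hm hF _
  · intro g
    by_cases hD : g ∈ Dset F m
    · rcases hcov hD with ⟨-, x, hx⟩ | ⟨-, x, hx⟩
      · refine ⟨_, Finset.mem_union_left _ (Finset.mem_union_right _
          (Finset.mem_image.2 ⟨_, Finset.mem_univ _, rfl⟩)), mem_map_conj_out T₁ hx⟩
      · refine ⟨_, Finset.mem_union_right _
          (Finset.mem_image.2 ⟨_, Finset.mem_univ _, rfl⟩), mem_map_conj_out T₂ hx⟩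
    · rw [mem_Dset] at hD
      push Not at hD
      obtain ⟨ω, hω⟩ := hD
      exact ⟨_, Finset.mem_union_left _ (Finset.mem_union_left _
          (Finset.mem_image.2 ⟨ω, Finset.mem_univ _, rfl⟩)), MulAction.mem_stabilizer_iff.2 hω⟩
  · have hb₀ : B₀.card ≤ (2 ^ (2 * m + 1)) ^ 2 + 1 := by
      refine le_trans Finset.card_image_le ?_
      rw [Finset.card_univ, ← Nat.card_eq_fintype_card, Cfsg.Agent.S0326.result, hF]
    have hb₁ : B₁.card ≤ N₁.index := by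
      refine le_trans Finset.card_image_le ?_
      rw [Finset.card_univ, ← Nat.card_eq_fintype_card]
      exact le_of_eq rfl
    have hb₂ : B₂.card ≤ N₂.index := by
      refine le_trans Finset.card_image_le ?_
      rw [Finset.card_univ, ← Nat.card_eq_fintype_card]
      exact le_of_eq rfl
    have hcard : ((B₀ ∪ B₁) ∪ B₂).card ≤ (2 ^ (2 * m + 1)) ^ 2 + 1 + N₁.index + N₂.index := by
      refine le_trans (Finset.card_union_le _ _) ?_
      refine le_trans (Nat.add_le_add_right (Finset.card_union_le _ _) _) ?_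
      omega
    refine lt_of_le_of_lt hcard ?_
    have hq8 : 8 ≤ 2 ^ (2 * m + 1) := by
      have : 2 ^ 3 ≤ 2 ^ (2 * m + 1) := Nat.pow_le_pow_right (by norm_num) (by omega)
      simpa using this
    have hs : (2 ^ (m + 1)) ^ 2 = 2 * 2 ^ (2 * m + 1) := by
      rw [← pow_mul, ← pow_succ']
      congr 1
      ring
    have hU : (Subgroup.normalizer ((Uz hF : Subgroup ↥(Cfsg.Sz F m)) : Set ↥(Cfsg.Sz F m))).index
        * ((2 ^ (2 * m + 1)) ^ 2 * (2 ^ (2 * m + 1) - 1)) = Nat.card ↥(Cfsg.Sz F m) := by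
      rw [← card_stab_oInf hm hF, ← normalizer_Uz hm hF]
      exact Subgroup.index_mul_card _
    have hH : (Subgroup.normalizer ((Hz hF : Subgroup ↥(Cfsg.Sz F m)) : Set ↥(Cfsg.Sz F m))).index
        * (2 * (2 ^ (2 * m + 1) - 1)) = Nat.card ↥(Cfsg.Sz F m) := by
      rw [← card_normalizer_Hz hm hF]
      exact Subgroup.index_mul_card _
    have h₁ : N₁.index * (4 * Nat.card T₁) = Nat.card ↥(Cfsg.Sz F m) := by
      rw [← hN₁]
      exact Subgroup.index_mul_card _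
    have h₂ : N₂.index * (4 * Nat.card T₂) = Nat.card ↥(Cfsg.Sz F m) := by
      rw [← hN₂]
      exact Subgroup.index_mul_card _
    exact cover_arith (2 ^ (2 * m + 1)) (2 ^ (m + 1)) _ _ _ _ _ _ _ hq8 hs hc₁ hc₂
      (card_sz hm hF) hH hU h₁ h₂

end Upper

end Cfsg.Agent.Lib.Helper09
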