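import Cfsg.Agent.Lib.Helper09.SuzukiSchur

/-!
The Schur multiplier of `Sz(8)`: the upper bound.  The kernel of every finite stem extension
of `Sz(8)` is an image of the four-group.
-/

set_option autoImplicit false

namespace Cfsg.Agent.Lib.Helper09

open scoped commutatorElement

section field8
variable {F : Type*} [Field F] [Fintype F]

theorem pow_eight (hF : Fintype.card F = 2 ^ (2 * 1 + 1)) (x : F) : x ^ 8 = x := by
  have h := FiniteField.pow_card x
  rw [hF] at h
  exact h

omit [Fintype F] in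
theorem sg_one_eq (x : F) : sg 1 x = x ^ 4 := by
  rw [sg]
  norm_num

theorem pow_seven (hF : Fintype.card F = 2 ^ (2 * 1 + 1)) {x : F} (hx : x ≠ 0) : x ^ 7 = 1 := by
  have h := pow_eight hF x
  have : x * x ^ 7 = x * 1 := by rw [mul_one, ← pow_succ']; exact h
  exact mul_left_cancel₀ hx this

theorem geom_seven (hF : Fintype.card F = 2 ^ (2 * 1 + 1)) {s : F} (hs0 : s ≠ 0)
    (hs1 : s + 1 ≠ 0) : s + s ^ 2 + s ^ 3 + s ^ 4 + s ^ 5 + s ^ 6 = 1 := by
  have h2 := two_eq_zero' hF
  have h7 := pow_seven hF hs0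
  have : (s + 1) * (s + s ^ 2 + s ^ 3 + s ^ 4 + s ^ 5 + s ^ 6 - 1) = 0 := by
    linear_combination h7 + (s ^ 6 + s ^ 5 + s ^ 4 + s ^ 3 + s ^ 2) * h2
  rcases mul_eq_zero.1 this with h | h
  · exact absurd h hs1
  · linear_combination h

end field8

section eight
variable {F : Type*} [Field F] [Fintype F]
variable {Γ : Type*} [Group Γ] {σ : Γ →* ↥(Cfsg.Sz F 1)}
  (hsurj : Function.Surjective σ) (hcen : σ.ker ≤ Subgroup.center Γ)

/-- the surviving invariant of a central extension of `Sz(8)` -/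
noncomputable def fB (hF : Fintype.card F = 2 ^ (2 * 1 + 1)) (c : F) : Γ :=
  cm σ hsurj (tauG hF c 0) (tauG hF 0 1)

include hcen in
theorem fB_add (hF : Fintype.card F = 2 ^ (2 * 1 + 1)) (c c' : F) :
    fB hsurj hF (c + c') = fB hsurj hF c * fB hsurj hF c' :=
  cmB_add_left hsurj hcen le_rfl hF c c' 1

include hcen in
theorem fB_zero (hF : Fintype.card F = 2 ^ (2 * 1 + 1)) : fB hsurj hF (0 : F) = 1 := by
  have h := fB_add hsurj hcen hF 0 0
  rw [add_zero] at h
  exact (mul_eq_left.mp h.symm)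

include hcen in
theorem fB_mul_self (hF : Fintype.card F = 2 ^ (2 * 1 + 1)) (c : F) :
    fB hsurj hF c * fB hsurj hF c = 1 := by
  have h2 := two_eq_zero' hF
  rw [← fB_add hsurj hcen hF, ← fB_zero hsurj hcen hF]
  congr 1
  linear_combination c * h2

include hcen in
theorem fB_inv (hF : Fintype.card F = 2 ^ (2 * 1 + 1)) (c : F) :
    (fB hsurj hF c)⁻¹ = fB hsurj hF c :=
  inv_eq_of_mul_eq_one_left (fB_mul_self hsurj hcen hF c)

include hcen in
theorem fB_mem_center (hF : Fintype.card F = 2 ^ (2 * 1 + 1)) (c : F) :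
    fB hsurj hF c ∈ Subgroup.center Γ :=
  cmB_mem_center hsurj hcen hF c 1

theorem map_fB (hF : Fintype.card F = 2 ^ (2 * 1 + 1)) (c : F) : σ (fB hsurj hF c) = 1 := by
  rw [fB, map_cm, commutatorElement_eq_one_iff_mul_comm]
  exact tauG_comm_central hF c 0 1

include hcen in
/-- all commutators of lifts of a translation and a central translation are values of `fB` -/
theorem cmB_eq_fB (hF : Fintype.card F = 2 ^ (2 * 1 + 1)) (u v : F) :
    cm σ hsurj (tauG hF u 0) (tauG hF 0 v) = fB hsurj hF (sg 1 v * u) := by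
  by_cases hv : v = 0
  · subst hv
    rw [sg_zero, zero_mul, fB_zero hsurj hcen hF]
    have h := cmB_add_right hsurj hcen hF u 0 0
    rw [add_zero] at h
    exact (mul_eq_left.mp h.symm)
  · have hv4 : sg 1 v ≠ 0 := fun h => hv (sg_eq_zero.1 h)
    have h := cmB_inv hsurj hcen hF (Units.mk0 (sg 1 v) hv4) u v
    rw [Units.val_mk0] at h
    have h7 := pow_seven hF hv
    have e : sg 1 (sg 1 v) * sg 1 v * v = 1 := by
      rw [sg_one_eq, sg_one_eq]
      calc (v ^ 4) ^ 4 * v ^ 4 * v = (v ^ 7) ^ 3 := by ring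
        _ = 1 := by rw [h7, one_pow]
    rw [e] at h
    rw [← h, fB]

include hcen in
theorem cm_central_eq_fB (hF : Fintype.card F = 2 ^ (2 * 1 + 1)) (u w v : F) :
    cm σ hsurj (tauG hF 0 v) (tauG hF u w) = fB hsurj hF (sg 1 v * u) := by
  rw [cm_symm hsurj, cm_red_central hsurj hcen le_rfl hF, cmB_eq_fB hsurj hcen hF,
    fB_inv hsurj hcen hF]

include hcen in
/-- the Hall--Witt identity for lifts of three translations -/
theorem hall_witt_fB (hF : Fintype.card F = 2 ^ (2 * 1 + 1)) (a a' a'' : F) :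
    fB hsurj hF (sg 1 (betaF 1 a a') * a'' + sg 1 (betaF 1 a' a'') * a +
      sg 1 (betaF 1 a'' a) * a') = 1 := by
  set x := Function.surjInv hsurj (tauG hF a 0) with hx
  set y := Function.surjInv hsurj (tauG hF a' 0) with hy
  set z := Function.surjInv hsurj (tauG hF a'' 0) with hz
  have hσx : σ x = tauG hF a 0 := Function.surjInv_eq hsurj _
  have hσy : σ y = tauG hF a' 0 := Function.surjInv_eq hsurj _
  have hσz : σ z = tauG hF a'' 0 := Function.surjInv_eq hsurj _
  have hw : ⁅⁅x, y⁆, y * z * y⁻¹⁆ * ⁅⁅y, z⁆, z * x * z⁻¹⁆ * ⁅⁅z, x⁆, x * y * x⁻¹⁆ = 1 := by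
    simp only [commutatorElement_def]
    group
  have key : ∀ (p q r : Γ) (u v w : F), σ p = tauG hF u 0 → σ q = tauG hF v 0 →
      σ r = tauG hF w 0 → ⁅⁅p, q⁆, q * r * q⁻¹⁆ = fB hsurj hF (sg 1 (betaF 1 u v) * w) := by
    intro p q r u v w hp hq hr
    have h1 : σ ⁅p, q⁆ = tauG hF 0 (betaF 1 u v) := by
      rw [map_commutatorElement, hp, hq, commutator_tauG, betaF]
    have h2 : σ (q * r * q⁻¹) = tauG hF w (0 + sg 1 v * w + sg 1 w * v) := by
      rw [map_mul, map_mul, map_inv, hq, hr, tauG_conj_tauG]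
    rw [cm_eq hsurj hcen h1 h2, cm_central_eq_fB hsurj hcen hF]
  rw [key x y z a a' a'' hσx hσy hσz, key y z x a' a'' a hσy hσz hσx,
    key z x y a'' a a' hσz hσx hσy] at hw
  rw [fB_add hsurj hcen hF, fB_add hsurj hcen hF]
  exact hw

include hcen in
theorem fB_one (hF : Fintype.card F = 2 ^ (2 * 1 + 1)) : fB hsurj hF (1 : F) = 1 := by
  obtain ⟨s, hs0, hs1, -⟩ := exists_good_one le_rfl hF
  have h := hall_witt_fB hsurj hcen hF s (s ^ 2) 1
  have h7 := pow_seven hF hs0
  have hg := geom_seven hF hs0 hs1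
  have e : sg 1 (betaF 1 s (s ^ 2)) * 1 + sg 1 (betaF 1 (s ^ 2) 1) * s +
      sg 1 (betaF 1 1 s) * s ^ 2 = 1 := by
    simp only [betaF, sg_add hF, sg_mul, sg_pow, sg_one, sg_one_eq]
    have pw : ∀ k r : ℕ, s ^ (7 * k + r) = s ^ r := fun k r => by
      rw [pow_add, pow_mul, h7, one_pow, one_mul]
    have e24 : s ^ 24 = s ^ 3 := pw 3 3
    have e36 : s ^ 36 = s ^ 1 := pw 5 1
    have e33 : s ^ 33 = s ^ 5 := pw 4 5
    have e9 : s ^ 9 = s ^ 2 := pw 1 2
    have e18 : s ^ 18 = s ^ 4 := pw 2 4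
    linear_combination e24 + e36 + e33 + e9 + e18 + hg
  rw [e] at h
  exact h

end eight

section bound
universe u
variable {F : Type u} [Field F] [Fintype F]

/-- `fB` as a homomorphism -/
noncomputable def fBHom {Γ : Type*} [Group Γ] {σ : Γ →* ↥(Cfsg.Sz F 1)}
    (hsurj : Function.Surjective σ) (hcen : σ.ker ≤ Subgroup.center Γ)
    (hF : Fintype.card F = 2 ^ (2 * 1 + 1)) : Multiplicative F →* Γ :=
  MonoidHom.mk' (fun c => fB hsurj hF (Multiplicative.toAdd c))
    (fun _ _ => fB_add hsurj hcen hF _ _)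

theorem fBHom_apply {Γ : Type*} [Group Γ] {σ : Γ →* ↥(Cfsg.Sz F 1)}
    (hsurj : Function.Surjective σ) (hcen : σ.ker ≤ Subgroup.center Γ)
    (hF : Fintype.card F = 2 ^ (2 * 1 + 1)) (c : F) :
    fBHom hsurj hcen hF (Multiplicative.ofAdd c) = fB hsurj hF c := rfl

/-- the kernel of a finite stem extension of `Sz(8)` consists of values of `fB` -/
theorem ker_le_range_fB {Γ : Type u} [Group Γ] [Finite Γ] (σ : Γ →* ↥(Cfsg.Sz F 1))
    (hσ : Cfsg.IsStemExtension σ) (hF : Fintype.card F = 2 ^ (2 * 1 + 1)) :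
    σ.ker ≤ (fBHom hσ.1 hσ.2.1 hF).range := by
  obtain ⟨hsurj, hcen, hcomm⟩ := hσ
  set N : Subgroup Γ := (fBHom hsurj hcen hF).range with hN
  have hNc : N ≤ Subgroup.center Γ := by
    rintro _ ⟨c, rfl⟩
    exact fB_mem_center hsurj hcen hF _
  have hNk : N ≤ σ.ker := by
    rintro _ ⟨c, rfl⟩
    exact map_fB hsurj hF _
  have hNn : N.Normal := by
    constructor
    intro n hn g
    rw [conj_eq_of_mem_center (hNc hn)]
    exact hn
  let τ : Γ ⧸ N →* ↥(Cfsg.Sz F 1) := QuotientGroup.lift N σ hNk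
  have hτmk : ∀ x : Γ, τ (QuotientGroup.mk x) = σ x := fun x => rfl
  have hτsurj : Function.Surjective τ := by
    intro g
    obtain ⟨x, rfl⟩ := hsurj g
    exact ⟨QuotientGroup.mk x, rfl⟩
  have hτcen : τ.ker ≤ Subgroup.center (Γ ⧸ N) := by
    intro y hy
    induction y using QuotientGroup.induction_on with
    | H x =>
      have hx : x ∈ Subgroup.center Γ := hcen (by rw [MonoidHom.mem_ker, ← hτmk]; exact hy)
      rw [Subgroup.mem_center_iff] at hx ⊢
      intro w
      induction w using QuotientGroup.induction_on with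
      | H w => rw [← QuotientGroup.mk_mul, ← QuotientGroup.mk_mul, hx w]
  have hτcomm : τ.ker ≤ commutator (Γ ⧸ N) := by
    intro y hy
    induction y using QuotientGroup.induction_on with
    | H x =>
      have hx : x ∈ commutator Γ := hcomm (by rw [MonoidHom.mem_ker, ← hτmk]; exact hy)
      have h2 : QuotientGroup.mk' N x ∈ (commutator Γ).map (QuotientGroup.mk' N) :=
        ⟨x, hx, rfl⟩
      rw [commutator_def, Subgroup.map_commutator] at h2
      rw [commutator_def]
      exact Subgroup.commutator_mono le_top le_top h2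
  have hτ : Cfsg.IsStemExtension τ := ⟨hτsurj, hτcen, hτcomm⟩
  have hB : ∀ a b b' : F, cm τ hτ.1 (tauG hF a b) (tauG hF 0 b') = 1 := by
    intro a b b'
    set x := Function.surjInv hsurj (tauG hF a b) with hx
    set y := Function.surjInv hsurj (tauG hF 0 b') with hy
    have h1 : τ (QuotientGroup.mk x) = tauG hF a b := Function.surjInv_eq hsurj _
    have h2 : τ (QuotientGroup.mk y) = tauG hF 0 b' := Function.surjInv_eq hsurj _
    rw [← cm_eq hτ.1 hτcen h1 h2]
    have h3 : ⁅(QuotientGroup.mk x : Γ ⧸ N), QuotientGroup.mk y⁆ =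
        QuotientGroup.mk' N ⁅x, y⁆ := by
      rw [map_commutatorElement]
      rfl
    rw [h3]
    have h4 : ⁅x, y⁆ = cm σ hsurj (tauG hF a b) (tauG hF 0 b') := rfl
    rw [h4, cm_red_central hsurj hcen le_rfl hF, cmB_eq_fB hsurj hcen hF]
    exact (QuotientGroup.eq_one_iff _).2 ⟨Multiplicative.ofAdd _, rfl⟩
  have hker := ker_eq_bot_of_lifts_commute τ hτ le_rfl hF hB
  intro z hz
  have hz' : (QuotientGroup.mk z : Γ ⧸ N) ∈ τ.ker := by
    rw [MonoidHom.mem_ker, hτmk]
    exact hz
  rw [hker, Subgroup.mem_bot] at hz'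
  exact (QuotientGroup.eq_one_iff z).1 hz'

end bound

section decomposition
variable {F : Type*} [Field F] [Fintype F]

/-- the prime field inside the field with eight elements -/
noncomputable def iota (hF : Fintype.card F = 2 ^ (2 * 1 + 1)) : ZMod 2 →+* F :=
  haveI := charP_two hF
  ZMod.castHom (dvd_refl 2) F

theorem zmod_two_cases : ∀ x : ZMod 2, x = 0 ∨ x = 1 := by decide

/-- every element of the field with eight elements is `i + j s + k s²` with `i, j, k ∈ 𝔽₂` -/
theorem exists_decomp (hF : Fintype.card F = 2 ^ (2 * 1 + 1)) {s : F} (hs0 : s ≠ 0)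
    (hs1 : s + 1 ≠ 0) (c : F) :
    ∃ i j k : ZMod 2, c = iota hF i + iota hF j * s + iota hF k * s ^ 2 := by
  have h2 := two_eq_zero' hF
  have h7 := pow_seven hF hs0
  have hs2 : s ^ 2 ≠ 0 := pow_ne_zero 2 hs0
  have hs3 : 1 + s ^ 2 ≠ 0 := by
    intro h0
    apply hs1
    have : (s + 1) ^ 2 = 0 := by linear_combination h0 + s * h2
    exact pow_eq_zero_iff (by norm_num) |>.1 this
  have hs4 : s + s ^ 2 ≠ 0 := by
    intro h0
    have : s * (s + 1) = 0 := by linear_combination h0
    rcases mul_eq_zero.1 this with h | h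
    · exact hs0 h
    · exact hs1 h
  have hs5 : 1 + s + s ^ 2 ≠ 0 := by
    intro h0
    have h3 : s ^ 3 = 1 := by linear_combination (s - 1) * h0
    have h1 : s = 1 := by
      have e : s ^ 7 = (s ^ 3) ^ 2 * s := by ring
      rw [e, h3, one_pow, one_mul] at h7
      exact h7
    apply hs1
    rw [h1]
    linear_combination h2
  have hker : ∀ i j k : ZMod 2, iota hF i + iota hF j * s + iota hF k * s ^ 2 = 0 →
      i = 0 ∧ j = 0 ∧ k = 0 := by
    intro i j k h
    rcases zmod_two_cases i with rfl | rfl <;> rcases zmod_two_cases j with rfl | rfl <;>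
      rcases zmod_two_cases k with rfl | rfl <;>
      simp only [map_zero, map_one, zero_mul, one_mul, add_zero, zero_add] at h
    · exact ⟨rfl, rfl, rfl⟩
    · exact absurd h hs2
    · exact absurd h hs0
    · exact absurd h hs4
    · exact absurd h one_ne_zero
    · exact absurd h hs3
    · exact absurd (by linear_combination h) hs1
    · exact absurd h hs5
  let L : ZMod 2 × ZMod 2 × ZMod 2 → F := fun d =>
    iota hF d.1 + iota hF d.2.1 * s + iota hF d.2.2 * s ^ 2
  have hinj : Function.Injective L := by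
    rintro ⟨i, j, k⟩ ⟨i', j', k'⟩ h
    simp only [L] at h
    have h' : iota hF (i - i') + iota hF (j - j') * s + iota hF (k - k') * s ^ 2 = 0 := by
      rw [map_sub, map_sub, map_sub]
      linear_combination h
    obtain ⟨h1, h2', h3⟩ := hker _ _ _ h'
    rw [sub_eq_zero] at h1 h2' h3
    rw [h1, h2', h3]
  have hbij : Function.Bijective L := by
    rw [Fintype.bijective_iff_injective_and_card]
    refine ⟨hinj, ?_⟩
    rw [hF]
    simp [ZMod.card]
  obtain ⟨⟨i, j, k⟩, hd⟩ := hbij.2 c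
  exact ⟨i, j, k, hd.symm⟩

end decomposition

section surj
universe u
variable {F : Type u} [Field F] [Fintype F]

/-- a group generated by two commuting involutions is an image of the four-group -/
theorem exists_hom_four {K : Type*} [Group K] (u v : K) (hu : u ^ 2 = 1) (hv : v ^ 2 = 1)
    (huv : Commute u v) :
    ∃ π : Multiplicative (ZMod 2 × ZMod 2) →* K,
      ∀ j k : ZMod 2, π (Multiplicative.ofAdd (j, k)) = u ^ j.val * v ^ k.val := by
  refine ⟨MonoidHom.mk' (fun x => u ^ (Multiplicative.toAdd x).1.val *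
    v ^ (Multiplicative.toAdd x).2.val) ?_, fun j k => rfl⟩
  intro x y
  show u ^ (Multiplicative.toAdd x + Multiplicative.toAdd y).1.val *
    v ^ (Multiplicative.toAdd x + Multiplicative.toAdd y).2.val = _
  rw [Prod.fst_add, Prod.snd_add, ZMod.val_add, ZMod.val_add, ← pow_eq_pow_mod _ hu,
    ← pow_eq_pow_mod _ hv, pow_add, pow_add]
  have h := (huv.pow_pow (Multiplicative.toAdd y).1.val (Multiplicative.toAdd x).2.val).eq
  calc u ^ (Multiplicative.toAdd x).1.val * u ^ (Multiplicative.toAdd y).1.val *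
        (v ^ (Multiplicative.toAdd x).2.val * v ^ (Multiplicative.toAdd y).2.val)
      = u ^ (Multiplicative.toAdd x).1.val * (u ^ (Multiplicative.toAdd y).1.val *
        v ^ (Multiplicative.toAdd x).2.val) * v ^ (Multiplicative.toAdd y).2.val := by
        simp only [mul_assoc]
    _ = u ^ (Multiplicative.toAdd x).1.val * (v ^ (Multiplicative.toAdd x).2.val *
        u ^ (Multiplicative.toAdd y).1.val) * v ^ (Multiplicative.toAdd y).2.val := by rw [h]
    _ = _ := by simp only [mul_assoc]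

/-- the kernel of a finite stem extension of `Sz(8)` is an image of the four-group -/
theorem exists_surjective_four {Γ : Type u} [Group Γ] [Finite Γ] (σ : Γ →* ↥(Cfsg.Sz F 1))
    (hσ : Cfsg.IsStemExtension σ) (hF : Fintype.card F = 2 ^ (2 * 1 + 1)) :
    ∃ π : Multiplicative (ZMod 2 × ZMod 2) →* σ.ker, Function.Surjective π := by
  obtain ⟨s, hs0, hs1, -⟩ := exists_good_one le_rfl hF
  have hsurj := hσ.1
  have hcen := hσ.2.1
  obtain ⟨u, hud⟩ : ∃ u : σ.ker, (u : Γ) = fB hsurj hF s := ⟨⟨_, map_fB hsurj hF s⟩, rfl⟩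
  obtain ⟨v, hvd⟩ : ∃ v : σ.ker, (v : Γ) = fB hsurj hF (s ^ 2) :=
    ⟨⟨_, map_fB hsurj hF (s ^ 2)⟩, rfl⟩
  have hu : u ^ 2 = 1 := by
    apply Subtype.ext
    rw [sq, Subgroup.coe_mul, hud, Subgroup.coe_one]
    exact fB_mul_self hsurj hcen hF s
  have hv : v ^ 2 = 1 := by
    apply Subtype.ext
    rw [sq, Subgroup.coe_mul, hvd, Subgroup.coe_one]
    exact fB_mul_self hsurj hcen hF (s ^ 2)
  have huv : Commute u v := by
    apply Subtype.ext
    rw [Subgroup.coe_mul, Subgroup.coe_mul, hud, hvd]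
    exact (Subgroup.mem_center_iff.1 (fB_mem_center hsurj hcen hF (s ^ 2))) (fB hsurj hF s)
  obtain ⟨π, hπ⟩ := exists_hom_four u v hu hv huv
  refine ⟨π, ?_⟩
  intro z
  obtain ⟨c, hc⟩ := ker_le_range_fB σ hσ hF z.2
  obtain ⟨i, j, k, hd⟩ := exists_decomp hF hs0 hs1 (Multiplicative.toAdd c)
  refine ⟨Multiplicative.ofAdd (j, k), ?_⟩
  rw [hπ]
  apply Subtype.ext
  rw [← hc]
  rw [Subgroup.coe_mul, Subgroup.coe_pow, Subgroup.coe_pow, hud, hvd]
  show _ = fB hsurj hF (Multiplicative.toAdd c)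
  rw [hd, fB_add hsurj hcen hF, fB_add hsurj hcen hF]
  have e1 : fB hsurj hF (iota hF i) = 1 := by
    rcases zmod_two_cases i with rfl | rfl
    · rw [map_zero, fB_zero hsurj hcen hF]
    · rw [map_one, fB_one hsurj hcen hF]
  have e2 : ∀ (t : F) (j : ZMod 2), fB hsurj hF (iota hF j * t) = (fB hsurj hF t) ^ j.val := by
    intro t j
    rcases zmod_two_cases j with rfl | rfl
    · rw [map_zero, zero_mul, fB_zero hsurj hcen hF, ZMod.val_zero, pow_zero]
    · rw [map_one, one_mul]
      have : (1 : ZMod 2).val = 1 := rfl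
      rw [this, pow_one]
  rw [e1, e2, e2, one_mul]

end surj

end Cfsg.Agent.Lib.Helper09
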