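import Cfsg.Agent.Lib.Helper09.CocycleExt
import Cfsg.Agent.Lib.Helper09.SuzukiSchurEight
import Cfsg.Agent.Lib.Helper09.SuzukiAut

/-!
A stem extension of `Sz(8)` with kernel the four-group: an explicit polynomial 2-cocycle on the
Sylow 2-subgroup, invariant under the torus, is extended to the Borel subgroup and transferred to
the whole group.
-/

set_option autoImplicit false

namespace Cfsg.Agent.Lib.Helper09

open scoped commutatorElement

section coverfield
variable {F : Type*} [Field F] [Fintype F]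

/-- the polynomial cochain on the Sylow 2-subgroup of `Sz(8)` -/
def phi8 (a _b a' b' : F) : F := a * b' ^ 4 + a ^ 4 * a' ^ 3 + a ^ 6 * a'

/-- the coboundary of `phi8` -/
def e3 (a a' a'' : F) : F := a * a' ^ 2 * a'' ^ 4 + a ^ 2 * a' ^ 4 * a'' + a ^ 4 * a' * a'' ^ 2

theorem phi8_delta (hF : Fintype.card F = 2 ^ (2 * 1 + 1)) (a b a' b' a'' b'' : F) :
    phi8 a b a' b' + phi8 (a + a') (b + b' + a ^ 4 * a') a'' b'' + phi8 a' b' a'' b'' +
      phi8 a b (a' + a'') (b' + b'' + a' ^ 4 * a'') = e3 a a' a'' := by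
  have h2 := two_eq_zero' hF
  have h8 := pow_eight hF a'
  simp only [phi8, e3]
  linear_combination (a' * b'' ^ 4 + a' ^ 4 * a'' ^ 3 + a' ^ 6 * a'' + a * b'' ^ 4 + (2) * a * b' * b'' ^ 3 + (3) * a * b' ^ 2 * b'' ^ 2 + (2) * a * b' ^ 3 * b'' + a * b' ^ 4 + (3) * a * a' * a'' ^ 2 * b'' ^ 2 + (6) * a * a' * b' * a'' ^ 2 * b'' + (3) * a * a' * b' ^ 2 * a'' ^ 2 + (2) * a * a' ^ 3 * a'' ^ 3 + (2) * a * a' ^ 4 * a'' * b'' ^ 3 + (6) * a * a' ^ 4 * b' * a'' * b'' ^ 2 + (6) * a * a' ^ 4 * b' ^ 2 * a'' * b'' + (2) * a * a' ^ 4 * b' ^ 3 * a'' + (3) * a * a' ^ 5 * a'' + (2) * a * a' ^ 5 * a'' ^ 3 * b'' + (2) * a * a' ^ 5 * b' * a'' ^ 3 + (3) * a ^ 2 * a' ^ 2 * a'' ^ 3 + (7) * a ^ 2 * a' ^ 4 * a'' + (2) * a ^ 3 * a' * a'' ^ 3 + (10) * a ^ 3 * a' ^ 3 * a'' + a ^ 4 * a'' ^ 3 + a ^ 4 * a' * a'' ^ 2 + (9) * a ^ 4 * a' ^ 2 * a'' + a ^ 4 * a' ^ 3 + (3) * a ^ 5 * a' * a'' + a ^ 6 * a'' + a ^ 6 * a') * h2 + ((6) * a * a'' ^ 2 * b'' ^ 2 + (12)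 * a * b' * a'' ^ 2 * b'' + (6) * a * b' ^ 2 * a'' ^ 2 + a * a' * a'' ^ 4 + (4) * a * a' ^ 4 * a'' ^ 3 * b'' + (4) * a * a' ^ 4 * b' * a'' ^ 3 + a * a' ^ 8 * a'' ^ 4) * h8

theorem e3_sq (hF : Fintype.card F = 2 ^ (2 * 1 + 1)) (a a' a'' : F) :
    e3 a a' a'' ^ 2 + e3 a a' a'' = 0 := by
  have h2 := two_eq_zero' hF
  have h8a := pow_eight hF a
  have h8a' := pow_eight hF a'
  have h8a'' := pow_eight hF a''
  simp only [e3]
  linear_combination (a * a' ^ 2 * a'' ^ 4 + a ^ 2 * a' ^ 4 * a'' + a ^ 3 * a' ^ 6 * a'' ^ 5 + a ^ 4 * a' * a'' ^ 2 + a ^ 5 * a' ^ 3 * a'' ^ 6 + a ^ 6 * a' ^ 5 * a'' ^ 3) * h2 + (a' ^ 2 * a'' ^ 4) * h8a + (a ^ 4 * a'' ^ 2) * h8a' + (a ^ 2 * a' ^ 4) * h8a''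

/-- the Artin--Schreier map `c ↦ c² + c` -/
def artSch (hF : Fintype.card F = 2 ^ (2 * 1 + 1)) : F →+ F :=
  AddMonoidHom.mk' (fun c => c ^ 2 + c) (by
    intro x y
    linear_combination (x * y) * two_eq_zero' hF)

theorem artSch_apply (hF : Fintype.card F = 2 ^ (2 * 1 + 1)) (c : F) :
    artSch hF c = c ^ 2 + c := rfl

theorem artSch_eq_zero_iff (hF : Fintype.card F = 2 ^ (2 * 1 + 1)) (c : F) :
    artSch hF c = 0 ↔ c = 0 ∨ c = 1 := by
  have h2 := two_eq_zero' hF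
  rw [artSch_apply]
  constructor
  · intro h
    have : c * (c + 1) = 0 := by linear_combination h
    rcases mul_eq_zero.1 this with h | h
    · exact Or.inl h
    · right
      linear_combination h - h2
  · rintro (rfl | rfl)
    · simp
    · linear_combination h2

theorem card_ker_artSch (hF : Fintype.card F = 2 ^ (2 * 1 + 1)) :
    Nat.card (artSch hF).ker = 2 := by
  rw [Nat.card_eq_two_iff]
  refine ⟨⟨0, (artSch hF).ker.zero_mem⟩, ⟨1, ?_⟩, ?_, ?_⟩
  · rw [AddMonoidHom.mem_ker, artSch_eq_zero_iff]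
    exact Or.inr rfl
  · intro h
    exact zero_ne_one (congrArg Subtype.val h)
  · ext x
    simp only [Set.mem_insert_iff, Set.mem_singleton_iff, Set.mem_univ, iff_true]
    have := (artSch_eq_zero_iff hF x.1).1 x.2
    rcases this with h | h
    · exact Or.inl (Subtype.ext h)
    · exact Or.inr (Subtype.ext h)

theorem card_range_artSch (hF : Fintype.card F = 2 ^ (2 * 1 + 1)) :
    Nat.card (artSch hF).range = 4 := by
  have h1 := AddSubgroup.card_mul_index (artSch hF).ker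
  rw [AddSubgroup.index_ker, card_ker_artSch, Nat.card_eq_fintype_card (α := F), hF] at h1
  omega

instance isAddKleinFour_range (hF : Fintype.card F = 2 ^ (2 * 1 + 1)) :
    IsAddKleinFour (artSch hF).range where
  card_four := card_range_artSch hF
  exponent_two := by
    have h2 := two_eq_zero' hF
    have hd : AddMonoid.exponent (artSch hF).range ∣ 2 := by
      rw [AddMonoid.exponent_dvd_iff_forall_nsmul_eq_zero]
      intro g
      apply Subtype.ext
      rw [AddSubgroup.coe_nsmul, AddSubgroup.coe_zero, two_nsmul]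
      linear_combination (g : F) * h2
    have hne : AddMonoid.exponent (artSch hF).range ≠ 1 := by
      rw [Ne, AddMonoid.exp_eq_one_iff]
      intro hs
      have := card_range_artSch hF
      rw [Nat.card_unique] at this
      omega
    rcases (Nat.dvd_prime Nat.prime_two).1 hd with h | h
    · exact absurd h hne
    · exact h

/-- the coefficient group of the cover of `Sz(8)` -/
abbrev A8 (hF : Fintype.card F = 2 ^ (2 * 1 + 1)) : Type _ := Multiplicative (artSch hF).range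

/-- the cocycle on the Sylow 2-subgroup, in coordinates -/
def Phi8 (hF : Fintype.card F = 2 ^ (2 * 1 + 1)) (a b a' b' : F) : A8 hF :=
  Multiplicative.ofAdd ⟨artSch hF (phi8 a b a' b'), ⟨_, rfl⟩⟩

theorem Phi8_eq_iff (hF : Fintype.card F = 2 ^ (2 * 1 + 1)) {x y : F}
    {hx : x ∈ (artSch hF).range} {hy : y ∈ (artSch hF).range} :
    (Multiplicative.ofAdd (⟨x, hx⟩ : (artSch hF).range) : A8 hF) =
      Multiplicative.ofAdd ⟨y, hy⟩ ↔ x = y := by
  constructor
  · intro h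
    exact congrArg Subtype.val (Multiplicative.ofAdd.injective h)
  · rintro rfl
    rfl

theorem Phi8_cocycle (hF : Fintype.card F = 2 ^ (2 * 1 + 1)) (a b a' b' a'' b'' : F) :
    Phi8 hF a b a' b' * Phi8 hF (a + a') (b + b' + sg 1 a * a') a'' b'' =
      Phi8 hF a' b' a'' b'' * Phi8 hF a b (a' + a'') (b' + b'' + sg 1 a' * a'') := by
  have h2 := two_eq_zero' hF
  have hd := phi8_delta hF a b a' b' a'' b''
  have he := e3_sq hF a a' a''
  rw [sg_one_eq, sg_one_eq]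
  simp only [Phi8, ← ofAdd_add]
  apply congrArg
  apply Subtype.ext
  show artSch hF _ + artSch hF _ = artSch hF _ + artSch hF _
  have h4 : artSch hF (phi8 a b a' b' + phi8 (a + a') (b + b' + a ^ 4 * a') a'' b'' +
      phi8 a' b' a'' b'' + phi8 a b (a' + a'') (b' + b'' + a' ^ 4 * a'')) = 0 := by
    rw [hd, artSch_apply]
    exact he
  rw [map_add, map_add, map_add] at h4
  linear_combination h4 - (artSch hF (phi8 a' b' a'' b'') +
    artSch hF (phi8 a b (a' + a'') (b' + b'' + a' ^ 4 * a''))) * h2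

theorem Phi8_zero_left (hF : Fintype.card F = 2 ^ (2 * 1 + 1)) (b a' b' : F) :
    Phi8 hF 0 b a' b' = 1 := by
  have : phi8 (0 : F) b a' b' = 0 := by simp [phi8]
  simp only [Phi8, this, map_zero]
  rfl

theorem Phi8_zero_right (hF : Fintype.card F = 2 ^ (2 * 1 + 1)) (a b : F) :
    Phi8 hF a b 0 0 = 1 := by
  have : phi8 a b (0 : F) 0 = 0 := by simp [phi8]
  simp only [Phi8, this, map_zero]
  rfl

theorem Phi8_inv (hF : Fintype.card F = 2 ^ (2 * 1 + 1)) (k : Fˣ) (a b a' b' : F) :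
    Phi8 hF ((k : F) * a) (sg 1 (k : F) * k * b) ((k : F) * a') (sg 1 (k : F) * k * b') =
      Phi8 hF a b a' b' := by
  have h7 := pow_seven hF k.ne_zero
  have : phi8 ((k : F) * a) (sg 1 (k : F) * k * b) ((k : F) * a') (sg 1 (k : F) * k * b') =
      phi8 a b a' b' := by
    simp only [phi8, sg_one_eq]
    linear_combination (a * b' ^ 4 * ((k : F) ^ 14 + (k : F) ^ 7 + 1) + a ^ 4 * a' ^ 3 +
      a ^ 6 * a') * h7
  simp only [Phi8, this]

end coverfield

section borel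
variable {F : Type*} [Field F] [Fintype F]

theorem borel_smul_zero (hF : Fintype.card F = 2 ^ (2 * 1 + 1)) (a b : F) (k : Fˣ) :
    (tauG hF a b * hG hF k) • oAff 1 (0 : F) 0 = oAff 1 a b := by
  rw [mul_smul, hG_smul_oAff, mul_zero, mul_zero, tauG_smul_oAff_zero]

theorem borel_decomp_unique (hF : Fintype.card F = 2 ^ (2 * 1 + 1)) {a b a' b' : F} {k k' : Fˣ}
    (h : tauG hF a b * hG hF k = tauG hF a' b' * hG hF k') : a = a' ∧ b = b' ∧ k = k' := by
  have h1 := congrArg (fun g => g • oAff 1 (0 : F) 0) h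
  simp only [borel_smul_zero] at h1
  obtain ⟨e1, e2⟩ := pAff_injective (congrArg Subtype.val h1)
  subst e1 e2
  refine ⟨rfl, rfl, ?_⟩
  exact hG_injective hF (mul_left_cancel h)

theorem borel_mul (hF : Fintype.card F = 2 ^ (2 * 1 + 1)) (a b a' b' : F) (k k' : Fˣ) :
    (tauG hF a b * hG hF k) * (tauG hF a' b' * hG hF k') =
      tauG hF (a + (k : F) * a') (b + sg 1 (k : F) * k * b' + sg 1 a * ((k : F) * a')) *
        hG hF (k * k') := by
  rw [hG_mul, ← tauG_mul]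
  calc tauG hF a b * hG hF k * (tauG hF a' b' * hG hF k')
      = tauG hF a b * (hG hF k * tauG hF a' b') * hG hF k' := by group
    _ = tauG hF a b * (tauG hF ((k : F) * a') (sg 1 (k : F) * k * b') * hG hF k) * hG hF k' := by
        rw [hG_mul_tauG]
    _ = _ := by group

theorem exists_bdec (hF : Fintype.card F = 2 ^ (2 * 1 + 1)) (g : ↥(Cfsg.Sz F 1)) :
    ∃ x : F × F × Fˣ, g ∈ MulAction.stabilizer ↥(Cfsg.Sz F 1) (oInf F 1) →
      g = tauG hF x.1 x.2.1 * hG hF x.2.2 := by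
  by_cases hg : g ∈ MulAction.stabilizer ↥(Cfsg.Sz F 1) (oInf F 1)
  · obtain ⟨a, b, k, h⟩ := (mem_stab_inf_iff le_rfl hF g).1 hg
    exact ⟨(a, b, k), fun _ => h⟩
  · exact ⟨(0, 0, 1), fun h => absurd h hg⟩

/-- the coordinates of an element of the Borel subgroup -/
noncomputable def bdec (hF : Fintype.card F = 2 ^ (2 * 1 + 1)) (g : ↥(Cfsg.Sz F 1)) :
    F × F × Fˣ := Classical.choose (exists_bdec hF g)

theorem bdec_spec (hF : Fintype.card F = 2 ^ (2 * 1 + 1)) {g : ↥(Cfsg.Sz F 1)}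
    (hg : g ∈ MulAction.stabilizer ↥(Cfsg.Sz F 1) (oInf F 1)) :
    g = tauG hF (bdec hF g).1 (bdec hF g).2.1 * hG hF (bdec hF g).2.2 :=
  Classical.choose_spec (exists_bdec hF g) hg

theorem borel_mem_stab (hF : Fintype.card F = 2 ^ (2 * 1 + 1)) (a b : F) (k : Fˣ) :
    tauG hF a b * hG hF k ∈ MulAction.stabilizer ↥(Cfsg.Sz F 1) (oInf F 1) :=
  (mem_stab_inf_iff le_rfl hF _).2 ⟨a, b, k, rfl⟩

theorem bdec_borel (hF : Fintype.card F = 2 ^ (2 * 1 + 1)) (a b : F) (k : Fˣ) :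
    bdec hF (tauG hF a b * hG hF k) = (a, b, k) := by
  have h := bdec_spec hF (borel_mem_stab hF a b k)
  obtain ⟨e1, e2, e3⟩ := borel_decomp_unique hF h
  rw [Prod.ext_iff, Prod.ext_iff]
  exact ⟨e1.symm, e2.symm, e3.symm⟩

/-- the cocycle on the Borel subgroup (junk outside) -/
noncomputable def alpha8 (hF : Fintype.card F = 2 ^ (2 * 1 + 1)) (g h : ↥(Cfsg.Sz F 1)) : A8 hF :=
  Phi8 hF (bdec hF g).1 (bdec hF g).2.1 (((bdec hF g).2.2 : F) * (bdec hF h).1)
    (sg 1 ((bdec hF g).2.2 : F) * ((bdec hF g).2.2 : F) * (bdec hF h).2.1)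

theorem alpha8_borel (hF : Fintype.card F = 2 ^ (2 * 1 + 1)) (a b a' b' : F) (k k' : Fˣ) :
    alpha8 hF (tauG hF a b * hG hF k) (tauG hF a' b' * hG hF k') =
      Phi8 hF a b ((k : F) * a') (sg 1 (k : F) * k * b') := by
  rw [alpha8, bdec_borel, bdec_borel]

theorem alpha8_cocycle (hF : Fintype.card F = 2 ^ (2 * 1 + 1)) (x y z : ↥(Cfsg.Sz F 1))
    (hx : x ∈ MulAction.stabilizer ↥(Cfsg.Sz F 1) (oInf F 1))
    (hy : y ∈ MulAction.stabilizer ↥(Cfsg.Sz F 1) (oInf F 1))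
    (hz : z ∈ MulAction.stabilizer ↥(Cfsg.Sz F 1) (oInf F 1)) :
    alpha8 hF x y * alpha8 hF (x * y) z = alpha8 hF y z * alpha8 hF x (y * z) := by
  obtain ⟨a, b, k, rfl⟩ := (mem_stab_inf_iff le_rfl hF x).1 hx
  obtain ⟨a', b', k', rfl⟩ := (mem_stab_inf_iff le_rfl hF y).1 hy
  obtain ⟨a'', b'', k'', rfl⟩ := (mem_stab_inf_iff le_rfl hF z).1 hz
  rw [borel_mul hF a b a' b' k k', borel_mul hF a' b' a'' b'' k' k'', alpha8_borel, alpha8_borel,
    alpha8_borel, alpha8_borel]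
  have h := Phi8_cocycle hF a b ((k : F) * a') (sg 1 (k : F) * k * b')
    ((k : F) * ((k' : F) * a'')) (sg 1 (k : F) * k * (sg 1 (k' : F) * k' * b''))
  rw [Phi8_inv hF k a' b' ((k' : F) * a'') (sg 1 (k' : F) * k' * b'')] at h
  have e1 : ((k * k' : Fˣ) : F) * a'' = (k : F) * ((k' : F) * a'') := by
    rw [Units.val_mul]; ring
  have e2 : sg 1 ((k * k' : Fˣ) : F) * ((k * k' : Fˣ) : F) * b'' =
      sg 1 (k : F) * k * (sg 1 (k' : F) * k' * b'') := by
    rw [Units.val_mul, sg_mul]; ring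
  have e3 : (k : F) * (a' + (k' : F) * a'') = (k : F) * a' + (k : F) * ((k' : F) * a'') := by
    ring
  have e4 : sg 1 (k : F) * k * (b' + sg 1 (k' : F) * k' * b'' + sg 1 a' * ((k' : F) * a'')) =
      sg 1 (k : F) * k * b' + sg 1 (k : F) * k * (sg 1 (k' : F) * k' * b'') +
        sg 1 ((k : F) * a') * ((k : F) * ((k' : F) * a'')) := by
    rw [sg_mul]; ring
  rw [e1, e2, e3, e4]
  exact h

theorem bdec_one (hF : Fintype.card F = 2 ^ (2 * 1 + 1)) : bdec hF (1 : ↥(Cfsg.Sz F 1)) = (0, 0, 1) := by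
  have := bdec_borel hF (0 : F) 0 1
  rwa [tauG_zero, hG_one, mul_one] at this

theorem alpha8_one_left (hF : Fintype.card F = 2 ^ (2 * 1 + 1)) (x : ↥(Cfsg.Sz F 1)) :
    alpha8 hF 1 x = 1 := by
  rw [alpha8, bdec_one]
  exact Phi8_zero_left hF _ _ _

end borel

section transfer8
variable {F : Type*} [Field F] [Fintype F]

theorem alpha8_one_right (hF : Fintype.card F = 2 ^ (2 * 1 + 1)) (x : ↥(Cfsg.Sz F 1)) :
    alpha8 hF x 1 = 1 := by
  rw [alpha8, bdec_one, mul_zero, mul_zero]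
  exact Phi8_zero_right hF _ _

theorem exists_trep (hF : Fintype.card F = 2 ^ (2 * 1 + 1)) (p : ↥(Cfsg.suzukiOvoid F 1)) :
    ∃ t : ↥(Cfsg.Sz F 1), t • oInf F 1 = p ∧ (p = oInf F 1 → t = 1) ∧
      (∀ x y : F, p = oAff 1 x y → t = tauG hF x y * wG hF) := by
  rcases ovoid_cases p with rfl | ⟨x, y, rfl⟩
  · refine ⟨1, one_smul _ _, fun _ => rfl, ?_⟩
    intro x y h
    exact absurd h (oInf_ne_oAff x y)
  · refine ⟨tauG hF x y * wG hF, ?_, ?_, ?_⟩
    · rw [mul_smul, wG_smul_oInf, tauG_smul_oAff_zero]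
    · intro h
      exact absurd h.symm (oInf_ne_oAff x y)
    · intro x' y' h
      obtain ⟨rfl, rfl⟩ := pAff_injective (congrArg Subtype.val h)
      rfl

/-- coset representatives of the Borel subgroup, indexed by the ovoid -/
noncomputable def trep (hF : Fintype.card F = 2 ^ (2 * 1 + 1)) (p : ↥(Cfsg.suzukiOvoid F 1)) :
    ↥(Cfsg.Sz F 1) := Classical.choose (exists_trep hF p)

theorem trep_smul (hF : Fintype.card F = 2 ^ (2 * 1 + 1)) (p : ↥(Cfsg.suzukiOvoid F 1)) :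
    trep hF p • oInf F 1 = p := (Classical.choose_spec (exists_trep hF p)).1

theorem trep_inf (hF : Fintype.card F = 2 ^ (2 * 1 + 1)) : trep hF (oInf F 1) = 1 :=
  (Classical.choose_spec (exists_trep hF (oInf F 1))).2.1 rfl

theorem trep_aff (hF : Fintype.card F = 2 ^ (2 * 1 + 1)) (x y : F) :
    trep hF (oAff 1 x y) = tauG hF x y * wG hF :=
  (Classical.choose_spec (exists_trep hF (oAff 1 x y))).2.2 x y rfl

theorem bfun_tau_inf (hF : Fintype.card F = 2 ^ (2 * 1 + 1)) (a b : F) :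
    bfun (trep hF) (tauG hF a b) (oInf F 1) = tauG hF a b := by
  rw [bfun, tauG_smul_oInf, trep_inf, inv_one, one_mul, mul_one]

theorem bfun_tau_aff (hF : Fintype.card F = 2 ^ (2 * 1 + 1)) (a b x y : F) :
    bfun (trep hF) (tauG hF a b) (oAff 1 x y) = 1 := by
  rw [bfun, tauG_smul_oAff, trep_aff, trep_aff]
  have e : tauG hF a b * tauG hF x y = tauG hF (x + a) (y + b + sg 1 a * x) := by
    rw [tauG_mul]
    congr 1 <;> ring
  calc (tauG hF (x + a) (y + b + sg 1 a * x) * wG hF)⁻¹ * tauG hF a b * (tauG hF x y * wG hF)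
      = (wG hF)⁻¹ * (tauG hF (x + a) (y + b + sg 1 a * x))⁻¹ * (tauG hF a b * tauG hF x y) *
        wG hF := by group
    _ = 1 := by rw [e]; group

/-- a `Fintype` structure on the ovoid -/
@[reducible] noncomputable def ovoidFintype (F : Type*) [Field F] [Fintype F] (m : ℕ) :
    Fintype ↥(Cfsg.suzukiOvoid F m) :=
  @Fintype.ofFinite _ ovoid_finite'

attribute [local instance] ovoidFintype

/-- the transferred cocycle on `Sz(8)` -/
noncomputable def c8 (hF : Fintype.card F = 2 ^ (2 * 1 + 1)) :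
    ↥(Cfsg.Sz F 1) → ↥(Cfsg.Sz F 1) → A8 hF :=
  cor (trep hF) (alpha8 hF)

theorem c8_isNormCocycle (hF : Fintype.card F = 2 ^ (2 * 1 + 1)) : IsNormCocycle (c8 hF) :=
  cor_isNormCocycle (ω₀ := oInf F 1) (trep_smul hF) (alpha8 hF) (alpha8_cocycle hF)
    (alpha8_one_left hF) (alpha8_one_right hF)

/-- on the Sylow 2-subgroup the transferred cocycle is the original one -/
theorem c8_tau (hF : Fintype.card F = 2 ^ (2 * 1 + 1)) (a b a' b' : F) :
    c8 hF (tauG hF a b) (tauG hF a' b') = alpha8 hF (tauG hF a b) (tauG hF a' b') := by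
  rw [c8, cor]
  rw [Finset.prod_eq_single (oInf F 1)]
  · rw [tauG_smul_oInf, bfun_tau_inf, bfun_tau_inf]
  · intro p _ hp
    rcases ovoid_cases p with rfl | ⟨x, y, rfl⟩
    · exact absurd rfl hp
    · rw [tauG_smul_oAff, bfun_tau_aff, bfun_tau_aff, alpha8_one_left]
  · intro h
    exact absurd (Finset.mem_univ _) h

theorem alpha8_tau (hF : Fintype.card F = 2 ^ (2 * 1 + 1)) (a b a' b' : F) :
    alpha8 hF (tauG hF a b) (tauG hF a' b') = Phi8 hF a b a' b' := by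
  have h := alpha8_borel hF a b a' b' 1 1
  rw [hG_one, mul_one, mul_one] at h
  rw [h, Units.val_one, sg_one, one_mul, one_mul, one_mul]

end transfer8

section main8
universe u
variable {F : Type u} [Field F] [Fintype F]

/-- the covering group `2².Sz(8)` -/
abbrev E8 (hF : Fintype.card F = 2 ^ (2 * 1 + 1)) : Type u := CExt (c8 hF) (c8_isNormCocycle hF)

/-- the covering map -/
noncomputable def sigma8 (hF : Fintype.card F = 2 ^ (2 * 1 + 1)) : E8 hF →* ↥(Cfsg.Sz F 1) :=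
  CExt.proj (c8 hF) (c8_isNormCocycle hF)

theorem sigma8_isStem (hF : Fintype.card F = 2 ^ (2 * 1 + 1)) :
    Cfsg.IsStemExtension (sigma8 hF) := by
  refine ⟨CExt.proj_surjective, CExt.ker_proj_le_center, ?_⟩
  intro x hx
  rw [CExt.eq_kerElt_of_mem_ker hx]
  obtain ⟨c₀, hc₀⟩ := (Multiplicative.toAdd x.snd).2
  have hcomm : tauG hF c₀ 0 * tauG hF 0 1 = tauG hF 0 1 * tauG hF c₀ 0 :=
    tauG_comm_central hF c₀ 0 1
  have h := CExt.commutator_lift (hc := c8_isNormCocycle hF) hcomm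
  have e : c8 hF (tauG hF c₀ 0) (tauG hF 0 1) * (c8 hF (tauG hF 0 1) (tauG hF c₀ 0))⁻¹ =
      x.snd := by
    rw [c8_tau, c8_tau, alpha8_tau, alpha8_tau, Phi8_zero_left, inv_one, mul_one, Phi8]
    have : phi8 c₀ 0 0 (1 : F) = c₀ := by simp [phi8]
    rw [← ofAdd_toAdd x.snd]
    apply congrArg
    apply Subtype.ext
    show artSch hF (phi8 c₀ 0 0 (1 : F)) = _
    rw [this]
    exact hc₀
  rw [e] at h
  rw [← h, commutator_def]
  exact Subgroup.commutator_mem_commutator (Subgroup.mem_top _) (Subgroup.mem_top _)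

theorem ker_sigma8 (hF : Fintype.card F = 2 ^ (2 * 1 + 1)) :
    Nonempty ((sigma8 hF).ker ≃* Multiplicative (ZMod 2 × ZMod 2)) := by
  obtain ⟨e⟩ : Nonempty (A8 hF ≃* Multiplicative (ZMod 2 × ZMod 2)) :=
    IsKleinFour.nonempty_mulEquiv
  exact ⟨(CExt.kerEquiv (c8 hF) (c8_isNormCocycle hF)).trans e⟩

end main8

section assembly
universe u

theorem isStem_comp_mulEquiv {Γ G G' : Type*} [Group Γ] [Group G] [Group G'] (e : G ≃* G')
    {σ : Γ →* G} (h : Cfsg.IsStemExtension σ) :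
    Cfsg.IsStemExtension (e.toMonoidHom.comp σ) ∧ (e.toMonoidHom.comp σ).ker = σ.ker := by
  have hk : (e.toMonoidHom.comp σ).ker = σ.ker := by
    ext x
    rw [MonoidHom.mem_ker, MonoidHom.mem_ker]
    show e (σ x) = 1 ↔ σ x = 1
    exact e.map_eq_one_iff
  refine ⟨⟨e.surjective.comp h.1, ?_, ?_⟩, hk⟩
  · rw [hk]; exact h.2.1
  · rw [hk]; exact h.2.2

variable {F : Type u} [Field F] [Fintype F]

/-- the Schur multiplier of `Sz(8)` is the four-group -/
theorem lieSz8_multiplier (hF : Fintype.card F = 8) :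
    Cfsg.HasSchurMultiplier ↥(Cfsg.Lie.Sz F 4) (Multiplicative (ZMod 2 × ZMod 2)) := by
  have hF' : Fintype.card F = 2 ^ (2 * 1 + 1) := by rw [hF]; norm_num
  let e : ↥(Cfsg.Sz F 1) ≃* ↥(Cfsg.Lie.Sz F 4) := lieEquiv le_rfl hF'
  constructor
  · obtain ⟨hst, hk⟩ := isStem_comp_mulEquiv e (sigma8_isStem hF')
    obtain ⟨ek⟩ := ker_sigma8 hF'
    refine ⟨E8 hF', inferInstance, inferInstance, e.toMonoidHom.comp (sigma8 hF'), hst, ?_⟩
    exact ⟨(MulEquiv.subgroupCongr hk).trans ek⟩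
  · intro Γ _ _ σ hσ
    obtain ⟨hst, hk⟩ := isStem_comp_mulEquiv e.symm hσ
    obtain ⟨π, hπ⟩ := exists_surjective_four _ hst hF'
    refine ⟨(MulEquiv.subgroupCongr hk).toMonoidHom.comp π, ?_⟩
    exact (MulEquiv.subgroupCongr hk).surjective.comp hπ

end assembly

end Cfsg.Agent.Lib.Helper09
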