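import Cfsg.Agent.Lib.Helper09.SuzukiOrder

set_option autoImplicit false

namespace Cfsg.Agent.Lib.Helper09

open Matrix
open scoped Pointwise

section Bruhat

variable {F : Type*} [Field F] [Fintype F] {m : ℕ}

theorem smul_mem_ovoid {g : Matrix.SpecialLinearGroup (Fin 4) F} (hg : g ∈ Cfsg.Sz F m)
    {p : Projectivization F (Fin 4 → F)} (hp : p ∈ Cfsg.suzukiOvoid F m) :
    g • p ∈ Cfsg.suzukiOvoid F m := by
  have h1 : g • Cfsg.suzukiOvoid F m = Cfsg.suzukiOvoid F m := hg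
  rw [← h1]
  exact Set.smul_mem_smul_set hp

/-- elements of `Sz` fixing infinity -/
theorem sz_fix_inf (hm : 1 ≤ m) (hF : Fintype.card F = 2 ^ (2 * m + 1))
    {g : Matrix.SpecialLinearGroup (Fin 4) F} (hg : g ∈ Cfsg.Sz F m)
    (hinf : g • pInf F = pInf F) : ∃ (a b : F) (k : Fˣ), g = tauS m a b * hS m k := by
  have hmem := smul_mem_ovoid hg (pAff_mem m (0 : F) 0)
  rcases (mem_ovoid_iff m _).1 hmem with h | ⟨a, b, h⟩
  · exfalso
    rw [← hinf] at h
    exact pAff_ne_pInf m 0 0 (smul_left_cancel g h)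
  · have htau : tauS m a b • pAff m (0 : F) 0 = pAff m a b := by
      rw [tauS_smul_pAff hF]; simp
    have hg' : (tauS m a b)⁻¹ * g ∈ Cfsg.Sz F m := mul_mem (inv_mem (tauS_mem hF a b)) hg
    have h1 : ((tauS m a b)⁻¹ * g) • pInf F = pInf F := by
      rw [mul_smul, hinf, inv_smul_eq_iff, tauS_smul_pInf]
    have h2 : ((tauS m a b)⁻¹ * g) • pAff m (0 : F) 0 = pAff m 0 0 := by
      rw [mul_smul, h, inv_smul_eq_iff, htau]
    obtain ⟨k, hk⟩ := torus_of_fix hm hF hg' h1 h2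
    refine ⟨a, b, k, ?_⟩
    rw [← hk]; group

/-- Bruhat decomposition of `Sz` -/
theorem sz_bruhat (hm : 1 ≤ m) (hF : Fintype.card F = 2 ^ (2 * m + 1))
    {g : Matrix.SpecialLinearGroup (Fin 4) F} (hg : g ∈ Cfsg.Sz F m) :
    (∃ (a b : F) (k : Fˣ), g = tauS m a b * hS m k) ∨
    (∃ (a b a' b' : F) (k : Fˣ), g = tauS m a b * wS F * tauS m a' b' * hS m k) := by
  have hmem := smul_mem_ovoid hg (pInf_mem (F := F) m)
  rcases (mem_ovoid_iff m _).1 hmem with h | ⟨a, b, h⟩
  · exact Or.inl (sz_fix_inf hm hF hg h)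
  · right
    have htw : (tauS m a b * wS F) • pInf F = pAff m a b := by
      rw [mul_smul, wS_smul_pInf m, tauS_smul_pAff hF]; simp
    have hg' : (tauS m a b * wS F)⁻¹ * g ∈ Cfsg.Sz F m :=
      mul_mem (inv_mem (mul_mem (tauS_mem hF a b) (wS_mem hF))) hg
    have h1 : ((tauS m a b * wS F)⁻¹ * g) • pInf F = pInf F := by
      rw [mul_smul, h, inv_smul_eq_iff, htw]
    obtain ⟨a', b', k, hk⟩ := sz_fix_inf hm hF hg' h1
    refine ⟨a, b, a', b', k, ?_⟩
    have : g = (tauS m a b * wS F) * ((tauS m a b * wS F)⁻¹ * g) := by group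
    rw [this, hk]; group

end Bruhat

section Form

variable {F : Type*} [Field F]

/-- a matrix preserves the antidiagonal form -/
def PresJ (M : Matrix (Fin 4) (Fin 4) F) : Prop := M.transpose * Cfsg.suzukiForm F * M = Cfsg.suzukiForm F

theorem PresJ.mul {M N : Matrix (Fin 4) (Fin 4) F} (hM : PresJ M) (hN : PresJ N) : PresJ (M * N) := by
  unfold PresJ at *
  rw [Matrix.transpose_mul]
  calc N.transpose * M.transpose * Cfsg.suzukiForm F * (M * N)
      = N.transpose * (M.transpose * Cfsg.suzukiForm F * M) * N := by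
        simp only [Matrix.mul_assoc]
    _ = Cfsg.suzukiForm F := by rw [hM, hN]

theorem presJ_wM : PresJ (wM : Matrix (Fin 4) (Fin 4) F) := by
  unfold PresJ
  ext i j
  fin_cases i <;> fin_cases j <;>
    simp [wM, Cfsg.suzukiForm, Matrix.mul_apply, Fin.sum_univ_four, Matrix.transpose_apply]

theorem presJ_hM (m : ℕ) (k : Fˣ) : PresJ (hM m k) := by
  unfold PresJ
  have hk : (k : F) ≠ 0 := k.ne_zero
  ext i j
  fin_cases i <;> fin_cases j <;>
    simp [hM, Cfsg.suzukiForm, Matrix.mul_apply, Fin.sum_univ_four, Matrix.transpose_apply,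
      Matrix.diagonal_apply]

variable [Fintype F] {m : ℕ}

theorem presJ_tauM (hF : Fintype.card F = 2 ^ (2 * m + 1)) (a b : F) : PresJ (tauM m a b) := by
  unfold PresJ
  have h2 := two_eq_zero' hF
  ext i j
  fin_cases i <;> fin_cases j <;>
    simp [tauM, Cfsg.suzukiForm, Matrix.mul_apply, Fin.sum_univ_four, Matrix.transpose_apply] <;>
    (ring_nf; simp [h2])

theorem sz_presJ (hm : 1 ≤ m) (hF : Fintype.card F = 2 ^ (2 * m + 1))
    {g : Matrix.SpecialLinearGroup (Fin 4) F} (hg : g ∈ Cfsg.Sz F m) : PresJ g.1 := by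
  rcases sz_bruhat hm hF hg with ⟨a, b, k, rfl⟩ | ⟨a, b, a', b', k, rfl⟩
  · exact (presJ_tauM hF a b).mul (presJ_hM m k)
  · exact (((presJ_tauM hF a b).mul presJ_wM).mul (presJ_tauM hF a' b')).mul (presJ_hM m k)

end Form

end Cfsg.Agent.Lib.Helper09
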