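import Cfsg.Agent.Lib.Helper09.Suzuki

set_option autoImplicit false

namespace Cfsg.Agent.Lib.Helper09

open Matrix
open scoped Pointwise

section Points

variable {F : Type*} [Field F]

/-- the point at infinity -/
def pInf (F : Type*) [Field F] : Projectivization F (Fin 4 → F) :=
  Projectivization.mk F e1 e1_ne_zero

/-- the affine ovoid point with parameters `x, y` -/
def pAff (m : ℕ) (x y : F) : Projectivization F (Fin 4 → F) :=
  Projectivization.mk F (pt m x y) (pt_ne_zero m x y)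

theorem pInf_eq : pInf F = Cfsg.suzukiPointInfinity F := rfl

theorem pt_zero_zero (m : ℕ) : pt m (0 : F) 0 = ![0, 0, 0, 1] := by
  simp [pt, ff_zero_zero]

theorem pAff_zero_eq (m : ℕ) : pAff m (0 : F) 0 = Cfsg.suzukiPointZero F := by
  unfold pAff Cfsg.suzukiPointZero
  congr 1
  exact pt_zero_zero m

theorem mem_ovoid_iff (m : ℕ) (p : Projectivization F (Fin 4 → F)) :
    p ∈ Cfsg.suzukiOvoid F m ↔ p = pInf F ∨ ∃ x y : F, p = pAff m x y := by
  constructor
  · rintro ⟨v, hv, rfl, h | ⟨x, y, h⟩⟩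
    · left
      subst h
      rfl
    · right
      subst h
      exact ⟨x, y, rfl⟩
  · rintro (rfl | ⟨x, y, rfl⟩)
    · exact ⟨e1, e1_ne_zero, rfl, Or.inl rfl⟩
    · exact ⟨pt m x y, pt_ne_zero m x y, rfl, Or.inr ⟨x, y, rfl⟩⟩

theorem pInf_mem (m : ℕ) : pInf F ∈ Cfsg.suzukiOvoid F m := (mem_ovoid_iff m _).2 (Or.inl rfl)

theorem pAff_mem (m : ℕ) (x y : F) : pAff m x y ∈ Cfsg.suzukiOvoid F m :=
  (mem_ovoid_iff m _).2 (Or.inr ⟨x, y, rfl⟩)

theorem pAff_ne_pInf (m : ℕ) (x y : F) : pAff m x y ≠ pInf F := by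
  intro h
  unfold pAff pInf at h
  rw [Projectivization.mk_eq_mk_iff'] at h
  obtain ⟨a, ha⟩ := h
  have := congrFun ha 3
  simp [pt, e1] at this

theorem pAff_injective {m : ℕ} {x y x' y' : F} (h : pAff m x y = pAff m x' y') :
    x = x' ∧ y = y' := by
  unfold pAff at h
  rw [Projectivization.mk_eq_mk_iff'] at h
  obtain ⟨a, ha⟩ := h
  have h3 := congrFun ha 3
  have h2 := congrFun ha 2
  have h1 := congrFun ha 1
  simp [pt] at h1 h2 h3
  rw [h3] at h1 h2
  simp at h1 h2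
  exact ⟨h2.symm, h1.symm⟩

/-- a projective point spanned by a nonzero multiple of an ovoid vector -/
theorem mk_smul_pt (m : ℕ) {c : F} (x y : F) {v : Fin 4 → F} (hv : v ≠ 0)
    (h : v = c • pt m x y) : Projectivization.mk F v hv = pAff m x y := by
  unfold pAff
  rw [Projectivization.mk_eq_mk_iff']
  exact ⟨c, h.symm⟩

theorem mk_smul_e1 {c : F} {v : Fin 4 → F} (hv : v ≠ 0)
    (h : v = c • e1) : Projectivization.mk F v hv = pInf F := by
  unfold pInf
  rw [Projectivization.mk_eq_mk_iff']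
  exact ⟨c, h.symm⟩

theorem ovoid_finite [Finite F] (m : ℕ) : (Cfsg.suzukiOvoid F m).Finite := by
  have : Cfsg.suzukiOvoid F m ⊆ Set.range (fun o : Option (F × F) =>
      match o with
      | none => pInf F
      | some (x, y) => pAff m x y) := by
    intro p hp
    rcases (mem_ovoid_iff m p).1 hp with rfl | ⟨x, y, rfl⟩
    · exact ⟨none, rfl⟩
    · exact ⟨some (x, y), rfl⟩
  exact (Set.finite_range _).subset this

end Points

section Elements

variable {F : Type*} [Field F]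

theorem det_wM : (wM : Matrix (Fin 4) (Fin 4) F).det = 1 := by
  simp [wM, Matrix.det_succ_row_zero, Fin.sum_univ_succ, Fin.succAbove]
  norm_num

theorem det_tauM (m : ℕ) (a b : F) : (tauM m a b).det = 1 := by
  rw [Matrix.det_of_upperTriangular]
  · simp [tauM, Fin.prod_univ_four]
  · intro i j hij
    fin_cases i <;> fin_cases j <;> simp at hij <;> simp [tauM]

/-- the diagonal matrix of the torus element attached to `k` -/
def hM (m : ℕ) (k : Fˣ) : Matrix (Fin 4) (Fin 4) F :=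
  Matrix.diagonal ![(k : F) ^ (2 ^ m + 1), (k : F) ^ (2 ^ m),
    ((k : F)⁻¹) ^ (2 ^ m), ((k : F)⁻¹) ^ (2 ^ m + 1)]

theorem det_hM (m : ℕ) (k : Fˣ) : (hM m k).det = 1 := by
  rw [hM, Matrix.det_diagonal, Fin.prod_univ_four]
  simp only [Matrix.cons_val_zero, Matrix.cons_val_one, Matrix.cons_val]
  have : (k : F) * (k : F)⁻¹ = 1 := mul_inv_cancel₀ k.ne_zero
  calc (k : F) ^ (2 ^ m + 1) * (k : F) ^ (2 ^ m) * ((k : F)⁻¹) ^ (2 ^ m)
        * ((k : F)⁻¹) ^ (2 ^ m + 1)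
      = ((k : F) * (k : F)⁻¹) ^ (2 ^ m + 1) * ((k : F) * (k : F)⁻¹) ^ (2 ^ m) := by
        rw [mul_pow, mul_pow]; ring
    _ = 1 := by rw [this]; simp

/-- translation as an element of `SL₄` -/
def tauS (m : ℕ) (a b : F) : Matrix.SpecialLinearGroup (Fin 4) F := ⟨tauM m a b, det_tauM m a b⟩

/-- the involution `w` as an element of `SL₄` -/
def wS (F : Type*) [Field F] : Matrix.SpecialLinearGroup (Fin 4) F := ⟨wM, det_wM⟩

/-- torus element as an element of `SL₄` -/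
def hS (m : ℕ) (k : Fˣ) : Matrix.SpecialLinearGroup (Fin 4) F := ⟨hM m k, det_hM m k⟩

theorem sl_smul_mk (g : Matrix.SpecialLinearGroup (Fin 4) F) {v : Fin 4 → F} (hv : v ≠ 0)
    (hgv : g.1.mulVec v ≠ 0) :
    g • Projectivization.mk F v hv = Projectivization.mk F (g.1.mulVec v) hgv := rfl

theorem sl_mulVec_ne_zero (g : Matrix.SpecialLinearGroup (Fin 4) F) {v : Fin 4 → F} (hv : v ≠ 0) :
    g.1.mulVec v ≠ 0 := by
  intro h
  apply hv
  have : (g⁻¹).1.mulVec (g.1.mulVec v) = v := by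
    rw [Matrix.mulVec_mulVec, ← Matrix.SpecialLinearGroup.coe_mul, inv_mul_cancel]
    simp
  rw [← this, h, Matrix.mulVec_zero]

theorem hM_mulVec_e1 (m : ℕ) (k : Fˣ) :
    (hM m k).mulVec e1 = ((k : F) ^ (2 ^ m + 1)) • e1 := by
  funext i
  fin_cases i <;> simp [hM, e1, Matrix.mulVec_diagonal]

theorem tauS_smul_pInf (m : ℕ) (a b : F) : tauS m a b • pInf F = pInf F := by
  unfold pInf
  rw [sl_smul_mk _ _ (sl_mulVec_ne_zero _ e1_ne_zero)]
  congr 1
  exact tauM_mulVec_e1 m a b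

theorem wS_smul_pInf (m : ℕ) : wS F • pInf F = pAff m 0 0 := by
  unfold pInf pAff
  rw [sl_smul_mk _ _ (sl_mulVec_ne_zero _ e1_ne_zero)]
  congr 1
  exact wM_mulVec_e1 m

theorem wS_smul_pAff_zero (m : ℕ) : wS F • pAff m 0 0 = pInf F := by
  unfold pInf pAff
  rw [sl_smul_mk _ _ (sl_mulVec_ne_zero _ (pt_ne_zero m 0 0))]
  congr 1
  exact wM_mulVec_pt_zero m

theorem hS_smul_pInf (m : ℕ) (k : Fˣ) : hS m k • pInf F = pInf F := by
  unfold pInf
  rw [sl_smul_mk _ _ (sl_mulVec_ne_zero _ e1_ne_zero)]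
  exact mk_smul_e1 _ (hM_mulVec_e1 m k)

variable [Fintype F] {m : ℕ}

theorem tauS_smul_pAff (hF : Fintype.card F = 2 ^ (2 * m + 1)) (a b x y : F) :
    tauS m a b • pAff m x y = pAff m (x + a) (y + b + sg m a * x) := by
  unfold pAff
  rw [sl_smul_mk _ _ (sl_mulVec_ne_zero _ (pt_ne_zero m x y))]
  congr 1
  exact tauM_mulVec_pt hF a b x y

theorem wS_smul_pAff (hF : Fintype.card F = 2 ^ (2 * m + 1)) {x y : F} (hf : ff m x y ≠ 0) :
    wS F • pAff m x y = pAff m (y / ff m x y) (x / ff m x y) := by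
  unfold pAff
  rw [sl_smul_mk _ _ (sl_mulVec_ne_zero _ (pt_ne_zero m x y))]
  exact mk_smul_pt m _ _ _ (wM_mulVec_pt hF hf)

/-- the scaling identity -/
theorem ff_scale (hF : Fintype.card F = 2 ^ (2 * m + 1)) (k x y : F) :
    ff m (k * x) (sg m k * k * y) = sg m k * k ^ 2 * ff m x y := by
  simp only [ff_eq, sg_mul, sg_sg hF]
  ring

theorem hM_mulVec_pt (hF : Fintype.card F = 2 ^ (2 * m + 1)) (k : Fˣ) (x y : F) :
    (hM m k).mulVec (pt m x y)
      = (((k : F)⁻¹) ^ (2 ^ m + 1)) • pt m ((k : F) * x) (sg m (k : F) * k * y) := by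
  have hk : (k : F) ≠ 0 := k.ne_zero
  have hσ : sg m (k : F) = (k : F) ^ (2 ^ m) * (k : F) ^ (2 ^ m) := by
    rw [sg, ← pow_add]; congr 1; rw [pow_succ]; ring
  funext i
  fin_cases i
  · simp only [hM, pt, Matrix.mulVec_diagonal]
    simp
    rw [ff_scale hF, hσ]
    field_simp
    ring
  · simp only [hM, pt, Matrix.mulVec_diagonal]
    simp
    rw [hσ]
    field_simp
    ring
  · simp only [hM, pt, Matrix.mulVec_diagonal]
    simp
    field_simp
    ring
  · simp [hM, pt, Matrix.mulVec_diagonal]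

theorem hS_smul_pAff (hF : Fintype.card F = 2 ^ (2 * m + 1)) (k : Fˣ) (x y : F) :
    hS m k • pAff m x y = pAff m ((k : F) * x) (sg m (k : F) * k * y) := by
  unfold pAff
  rw [sl_smul_mk _ _ (sl_mulVec_ne_zero _ (pt_ne_zero m x y))]
  exact mk_smul_pt m _ _ _ (hM_mulVec_pt hF k x y)

theorem tauS_mem (hF : Fintype.card F = 2 ^ (2 * m + 1)) (a b : F) :
    tauS m a b ∈ Cfsg.Sz F m := by
  rw [MulAction.mem_stabilizer_set' (ovoid_finite m)]
  intro p hp
  rcases (mem_ovoid_iff m p).1 hp with rfl | ⟨x, y, rfl⟩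
  · rw [tauS_smul_pInf]; exact pInf_mem m
  · rw [tauS_smul_pAff hF]; exact pAff_mem m _ _

theorem wS_mem (hF : Fintype.card F = 2 ^ (2 * m + 1)) : wS F ∈ Cfsg.Sz F m := by
  rw [MulAction.mem_stabilizer_set' (ovoid_finite m)]
  intro p hp
  rcases (mem_ovoid_iff m p).1 hp with rfl | ⟨x, y, rfl⟩
  · rw [wS_smul_pInf m]; exact pAff_mem m _ _
  · by_cases hf : ff m x y = 0
    · obtain ⟨rfl, rfl⟩ := ff_eq_zero hF hf
      rw [wS_smul_pAff_zero]; exact pInf_mem m
    · rw [wS_smul_pAff hF hf]; exact pAff_mem m _ _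

theorem hS_mem (hF : Fintype.card F = 2 ^ (2 * m + 1)) (k : Fˣ) : hS m k ∈ Cfsg.Sz F m := by
  rw [MulAction.mem_stabilizer_set' (ovoid_finite m)]
  intro p hp
  rcases (mem_ovoid_iff m p).1 hp with rfl | ⟨x, y, rfl⟩
  · rw [hS_smul_pInf]; exact pInf_mem m
  · rw [hS_smul_pAff hF]; exact pAff_mem m _ _

end Elements

section Vectors

variable {F : Type*} [Field F]

/-- the normalised vectors spanning ovoid points -/
def Ovec (m : ℕ) : Set (Fin 4 → F) := {q | q = e1 ∨ ∃ x y : F, q = pt m x y}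

theorem ovec_ne_zero {m : ℕ} {q : Fin 4 → F} (hq : q ∈ Ovec m) : q ≠ 0 := by
  rcases hq with rfl | ⟨x, y, rfl⟩
  · exact e1_ne_zero
  · exact pt_ne_zero m x y

theorem mk_ovec_mem {m : ℕ} {q : Fin 4 → F} (hq : q ∈ Ovec m) :
    Projectivization.mk F q (ovec_ne_zero hq) ∈ Cfsg.suzukiOvoid F m := by
  rcases hq with rfl | ⟨x, y, rfl⟩
  · exact pInf_mem m
  · exact pAff_mem m x y

/-- an element of `Sz` maps ovoid vectors to multiples of ovoid vectors -/
theorem sz_maps_ovec {m : ℕ} {g : Matrix.SpecialLinearGroup (Fin 4) F} (hg : g ∈ Cfsg.Sz F m)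
    {q : Fin 4 → F} (hq : q ∈ Ovec m) :
    ∃ q' ∈ Ovec m, ∃ c : F, c ≠ 0 ∧ g.1.mulVec q = c • q' := by
  have hmem : g • Projectivization.mk F q (ovec_ne_zero hq) ∈ Cfsg.suzukiOvoid F m := by
    have h1 : g • Cfsg.suzukiOvoid F m = Cfsg.suzukiOvoid F m := hg
    rw [← h1]
    exact Set.smul_mem_smul_set (mk_ovec_mem hq)
  have hne := sl_mulVec_ne_zero g (ovec_ne_zero hq)
  rw [sl_smul_mk _ _ hne] at hmem
  rcases (mem_ovoid_iff m _).1 hmem with h | ⟨x, y, h⟩
  · unfold pInf at h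
    rw [Projectivization.mk_eq_mk_iff'] at h
    obtain ⟨a, ha⟩ := h
    refine ⟨e1, Or.inl rfl, a, ?_, ha.symm⟩
    rintro rfl
    rw [zero_smul] at ha
    exact hne ha.symm
  · unfold pAff at h
    rw [Projectivization.mk_eq_mk_iff'] at h
    obtain ⟨a, ha⟩ := h
    refine ⟨pt m x y, Or.inr ⟨x, y, rfl⟩, a, ?_, ha.symm⟩
    rintro rfl
    rw [zero_smul] at ha
    exact hne ha.symm

/-- an element of `Sz` is onto the ovoid, at the level of vectors -/
theorem sz_surj_ovec {m : ℕ} {g : Matrix.SpecialLinearGroup (Fin 4) F} (hg : g ∈ Cfsg.Sz F m)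
    {q : Fin 4 → F} (hq : q ∈ Ovec m) :
    ∃ q' ∈ Ovec m, ∃ c : F, c ≠ 0 ∧ g.1.mulVec q' = c • q := by
  obtain ⟨q', hq', c, hc, h⟩ := sz_maps_ovec (inv_mem hg) hq
  refine ⟨q', hq', c⁻¹, inv_ne_zero hc, ?_⟩
  have : g.1.mulVec ((g⁻¹).1.mulVec q) = q := by
    rw [Matrix.mulVec_mulVec, ← Matrix.SpecialLinearGroup.coe_mul, mul_inv_cancel]
    simp
  rw [h, Matrix.mulVec_smul] at this
  rw [← this, smul_smul, inv_mul_cancel₀ hc, one_smul]

theorem sl_mulVec_injective (g : Matrix.SpecialLinearGroup (Fin 4) F) :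
    Function.Injective g.1.mulVec := by
  intro v v' h
  have key : ∀ u : Fin 4 → F, (g⁻¹).1.mulVec (g.1.mulVec u) = u := by
    intro u
    rw [Matrix.mulVec_mulVec, ← Matrix.SpecialLinearGroup.coe_mul, inv_mul_cancel]
    simp
  rw [← key v, ← key v', h]

end Vectors

section Tangent

variable {F : Type*} [Field F] [Fintype F] {m : ℕ}

/-- an element of `Sz` fixing the point at infinity preserves the plane `x₄ = 0` -/
theorem row3_zero {g : Matrix.SpecialLinearGroup (Fin 4) F} (hg : g ∈ Cfsg.Sz F m)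
    {α : F} (hα : α ≠ 0) (h1 : g.1.mulVec e1 = α • e1) (v : Fin 4 → F) (hv : v 3 = 0) :
    (g.1.mulVec v) 3 = 0 := by
  by_contra hu
  set u := g.1.mulVec v with hu_def
  set β : F := ff m (u 2 / u 3) (u 1 / u 3) - u 0 / u 3 with hβ
  have hq : pt m (u 2 / u 3) (u 1 / u 3) = (u 3)⁻¹ • u + β • e1 := by
    funext i
    fin_cases i
    · simp [pt, e1, hβ]; field_simp; ring
    · simp [pt, e1]; field_simp
    · simp [pt, e1]; field_simp
    · simp [pt, e1]; field_simp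
  obtain ⟨q', hq', c, hc, hM⟩ :=
    sz_surj_ovec hg (q := pt m (u 2 / u 3) (u 1 / u 3)) (Or.inr ⟨_, _, rfl⟩)
  have hq'eq : q' = (c / u 3) • v + (c * β / α) • e1 := by
    apply sl_mulVec_injective g
    rw [hM, hq, Matrix.mulVec_add, Matrix.mulVec_smul, Matrix.mulVec_smul, h1, ← hu_def]
    rw [smul_add, smul_smul, smul_smul, smul_smul]
    congr 1
    · congr 1; field_simp
    · congr 1; field_simp
  have hq'3 : q' 3 = 0 := by
    rw [hq'eq]
    simp [e1, hv]
  rcases hq' with rfl | ⟨x, y, rfl⟩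
  · rw [h1] at hM
    have := congrFun hM 3
    simp [e1, pt] at this
    exact hc this.symm
  · simp [pt] at hq'3

/-- an element of `Sz` fixing the point `(0,0,0,1)` preserves the plane `x₁ = 0` -/
theorem row0_zero (hF : Fintype.card F = 2 ^ (2 * m + 1))
    {g : Matrix.SpecialLinearGroup (Fin 4) F} (hg : g ∈ Cfsg.Sz F m)
    {δ : F} (hδ : δ ≠ 0) (h4 : g.1.mulVec (pt m 0 0) = δ • pt m 0 0) (v : Fin 4 → F)
    (hv : v 0 = 0) : (g.1.mulVec v) 0 = 0 := by
  by_contra hu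
  set u := g.1.mulVec v with hu_def
  set a : F := u 1 / u 0 with ha
  set b : F := u 2 / u 0 with hb
  set β : F := ff m a b - u 3 / u 0 with hβ
  -- the vector z = (1, a, b, ff a b)
  have hz : (wM : Matrix (Fin 4) (Fin 4) F).mulVec (pt m a b) = (u 0)⁻¹ • u + β • pt m 0 0 := by
    funext i
    fin_cases i
    · simp [wM, pt, ff_zero_zero, Matrix.mulVec, dotProduct, Fin.sum_univ_four]; field_simp
    · simp [wM, pt, Matrix.mulVec, dotProduct, Fin.sum_univ_four, ha]; field_simp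
    · simp [wM, pt, Matrix.mulVec, dotProduct, Fin.sum_univ_four, hb]; field_simp
    · simp [wM, pt, Matrix.mulVec, dotProduct, Fin.sum_univ_four, hβ]; field_simp; ring
  have hz0 : ((wM : Matrix (Fin 4) (Fin 4) F).mulVec (pt m a b)) 0 = 1 := by
    simp [wM, pt, Matrix.mulVec, dotProduct, Fin.sum_univ_four]
  obtain ⟨q, hq, c₀, hc₀, hzq⟩ : ∃ q ∈ Ovec m, ∃ c₀ : F, c₀ ≠ 0 ∧
      (wM : Matrix (Fin 4) (Fin 4) F).mulVec (pt m a b) = c₀ • q := by
    by_cases hf : ff m a b = 0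
    · obtain ⟨ha0, hb0⟩ := ff_eq_zero hF hf
      refine ⟨e1, Or.inl rfl, 1, one_ne_zero, ?_⟩
      rw [ha0, hb0, wM_mulVec_pt_zero, one_smul]
    · exact ⟨_, Or.inr ⟨_, _, rfl⟩, ff m a b, hf, wM_mulVec_pt hF hf⟩
  obtain ⟨q', hq', c, hc, hM⟩ := sz_surj_ovec hg hq
  have hκ : c / c₀ ≠ 0 := div_ne_zero hc hc₀
  have hMz : g.1.mulVec q' = (c / c₀) • (wM : Matrix (Fin 4) (Fin 4) F).mulVec (pt m a b) := by
    rw [hM, hzq, smul_smul, div_mul_cancel₀ _ hc₀]
  have hq'eq : q' = (c / c₀ / u 0) • v + (c / c₀ * β / δ) • pt m 0 0 := by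
    apply sl_mulVec_injective g
    rw [hMz, hz, Matrix.mulVec_add, Matrix.mulVec_smul, Matrix.mulVec_smul, h4, ← hu_def]
    rw [smul_add, smul_smul, smul_smul, smul_smul]
    congr 1
    · congr 1; field_simp
    · congr 1; field_simp
  have hq'0 : q' 0 = 0 := by
    rw [hq'eq]
    simp [pt, ff_zero_zero, hv]
  rcases hq' with rfl | ⟨x, y, rfl⟩
  · simp [e1] at hq'0
  · have hf : ff m x y = 0 := by simpa [pt] using hq'0
    obtain ⟨rfl, rfl⟩ := ff_eq_zero hF hf
    rw [h4] at hMz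
    have := congrFun hMz 0
    rw [Pi.smul_apply, Pi.smul_apply, hz0] at this
    simp [pt, ff_zero_zero] at this
    exact hκ this.symm

end Tangent

end Cfsg.Agent.Lib.Helper09
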