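import Cfsg.Agent.Lib.Helper09.SuzukiTorus
import Cfsg.Agent.S0326

set_option autoImplicit false

namespace Cfsg.Agent.Lib.Helper09

open Matrix
open scoped Pointwise

section Torus

variable {F : Type*} [Field F]

theorem hS_mul (m : ℕ) (k k' : Fˣ) : hS m (k * k') = hS m k * hS m k' := by
  apply Subtype.ext
  show hM m (k * k') = hM m k * hM m k'
  simp only [hM, Matrix.diagonal_mul_diagonal]
  congr 1
  funext i
  fin_cases i <;> simp [mul_pow, mul_comm]

theorem hS_one (m : ℕ) : hS m (1 : Fˣ) = 1 := by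
  apply Subtype.ext
  show hM m 1 = 1
  simp only [hM]
  rw [← Matrix.diagonal_one]
  congr 1
  funext i
  fin_cases i <;> simp

theorem hS_injective (m : ℕ) {k k' : Fˣ} (h : hS m k = hS m k') : k = k' := by
  have hm : hM m k = hM m k' := congrArg Subtype.val h
  have h0 := congrFun (congrFun hm 0) 0
  have h1 := congrFun (congrFun hm 1) 1
  simp [hM] at h0 h1
  apply Units.ext
  have hk' : (k' : F) ^ (2 ^ m) ≠ 0 := pow_ne_zero _ k'.ne_zero
  rw [pow_succ, pow_succ, h1] at h0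
  exact mul_left_cancel₀ hk' h0

end Torus

section Order

variable {F : Type*} [Field F] [Fintype F] {m : ℕ}

theorem hS_smul_pAff_zero (hF : Fintype.card F = 2 ^ (2 * m + 1)) (k : Fˣ) :
    hS m k • pAff m (0 : F) 0 = pAff m 0 0 := by
  rw [hS_smul_pAff hF]
  simp

/-- the torus as a homomorphism into the two-point stabiliser -/
noncomputable def torusHom (hF : Fintype.card F = 2 ^ (2 * m + 1)) :
    Fˣ →* ↥(MulAction.stabilizer (Cfsg.Sz F m) (pInf F) ⊓
      MulAction.stabilizer (Cfsg.Sz F m) (pAff m (0 : F) 0)) where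
  toFun k := ⟨⟨hS m k, hS_mem hF k⟩, by
    rw [Subgroup.mem_inf, MulAction.mem_stabilizer_iff, MulAction.mem_stabilizer_iff]
    exact ⟨hS_smul_pInf m k, hS_smul_pAff_zero hF k⟩⟩
  map_one' := by
    apply Subtype.ext
    apply Subtype.ext
    exact hS_one m
  map_mul' k k' := by
    apply Subtype.ext
    apply Subtype.ext
    exact hS_mul m k k'

theorem torusHom_bijective (hm : 1 ≤ m) (hF : Fintype.card F = 2 ^ (2 * m + 1)) :
    Function.Bijective (torusHom (m := m) hF) := by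
  constructor
  · intro k k' h
    have h1 := congrArg Subtype.val h
    have h2 : hS m k = hS m k' := congrArg Subtype.val h1
    exact hS_injective m h2
  · rintro ⟨⟨g, hg⟩, hfix⟩
    rw [Subgroup.mem_inf, MulAction.mem_stabilizer_iff, MulAction.mem_stabilizer_iff] at hfix
    obtain ⟨k, hk⟩ := torus_of_fix hm hF hg hfix.1 hfix.2
    refine ⟨k, ?_⟩
    apply Subtype.ext
    apply Subtype.ext
    exact hk.symm

/-- the two-point stabiliser is isomorphic to the multiplicative group -/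
noncomputable def torusEquiv (hm : 1 ≤ m) (hF : Fintype.card F = 2 ^ (2 * m + 1)) :
    ↥(MulAction.stabilizer (Cfsg.Sz F m) (pInf F) ⊓
      MulAction.stabilizer (Cfsg.Sz F m) (pAff m (0 : F) 0)) ≃* Fˣ :=
  (MulEquiv.ofBijective (torusHom hF) (torusHom_bijective hm hF)).symm

theorem card_units (hF : Fintype.card F = 2 ^ (2 * m + 1)) : Nat.card Fˣ = 2 ^ (2 * m + 1) - 1 := by
  classical
  rw [Nat.card_eq_fintype_card, Fintype.card_units, hF]

theorem card_two_point_stab (hm : 1 ≤ m) (hF : Fintype.card F = 2 ^ (2 * m + 1)) :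
    Nat.card ↥(MulAction.stabilizer (Cfsg.Sz F m) (pInf F) ⊓
      MulAction.stabilizer (Cfsg.Sz F m) (pAff m (0 : F) 0)) = 2 ^ (2 * m + 1) - 1 := by
  rw [Nat.card_congr (torusEquiv hm hF).toEquiv, card_units hF]

/-- the stabiliser of infinity, as a group acting on projective space: orbit of the zero point -/
theorem orbit_stab_inf (hF : Fintype.card F = 2 ^ (2 * m + 1)) :
    MulAction.orbit ↥(MulAction.stabilizer (Cfsg.Sz F m) (pInf F)) (pAff m (0 : F) 0)
      = Set.range (fun xy : F × F => pAff m xy.1 xy.2) := by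
  ext p
  constructor
  · rintro ⟨⟨⟨g, hg⟩, hfix⟩, rfl⟩
    show g • pAff m (0 : F) 0 ∈ _
    have hfix' : g • pInf F = pInf F := hfix
    have hmem : g • pAff m (0 : F) 0 ∈ Cfsg.suzukiOvoid F m := by
      have h1 : g • Cfsg.suzukiOvoid F m = Cfsg.suzukiOvoid F m := hg
      rw [← h1]
      exact Set.smul_mem_smul_set (pAff_mem m 0 0)
    rcases (mem_ovoid_iff m _).1 hmem with h | ⟨x, y, h⟩
    · exfalso
      rw [← hfix'] at h
      exact pAff_ne_pInf m 0 0 (smul_left_cancel g h)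
    · exact ⟨(x, y), h.symm⟩
  · rintro ⟨⟨a, b⟩, rfl⟩
    refine ⟨⟨⟨tauS m a b, tauS_mem hF a b⟩, ?_⟩, ?_⟩
    · rw [MulAction.mem_stabilizer_iff]
      exact tauS_smul_pInf m a b
    · show tauS m a b • pAff m (0 : F) 0 = pAff m a b
      rw [tauS_smul_pAff hF]
      simp

theorem card_orbit_stab_inf (hF : Fintype.card F = 2 ^ (2 * m + 1)) :
    Nat.card (MulAction.orbit ↥(MulAction.stabilizer (Cfsg.Sz F m) (pInf F)) (pAff m (0 : F) 0))
      = (2 ^ (2 * m + 1)) ^ 2 := by
  rw [orbit_stab_inf hF]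
  have hinj : Function.Injective (fun xy : F × F => pAff m xy.1 xy.2) := by
    rintro ⟨x, y⟩ ⟨x', y'⟩ h
    obtain ⟨rfl, rfl⟩ := pAff_injective h
    rfl
  rw [Nat.card_congr (Equiv.ofInjective _ hinj).symm, Nat.card_prod, Nat.card_eq_fintype_card, hF, sq]

/-- the stabiliser of `0` inside the stabiliser of `∞` is the two-point stabiliser -/
noncomputable def stabStabEquiv :
    ↥(MulAction.stabilizer ↥(MulAction.stabilizer (Cfsg.Sz F m) (pInf F)) (pAff m (0 : F) 0))
      ≃ ↥(MulAction.stabilizer (Cfsg.Sz F m) (pInf F) ⊓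
        MulAction.stabilizer (Cfsg.Sz F m) (pAff m (0 : F) 0)) where
  toFun g := ⟨g.1.1, g.1.2, g.2⟩
  invFun g := ⟨⟨g.1, g.2.1⟩, g.2.2⟩
  left_inv _ := rfl
  right_inv _ := rfl

theorem card_stab_inf (hm : 1 ≤ m) (hF : Fintype.card F = 2 ^ (2 * m + 1)) :
    Nat.card ↥(MulAction.stabilizer (Cfsg.Sz F m) (pInf F))
      = (2 ^ (2 * m + 1)) ^ 2 * (2 ^ (2 * m + 1) - 1) := by
  rw [← Nat.card_congr (MulAction.orbitProdStabilizerEquivGroup
    ↥(MulAction.stabilizer (Cfsg.Sz F m) (pInf F)) (pAff m (0 : F) 0)), Nat.card_prod,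
    card_orbit_stab_inf hF, Nat.card_congr stabStabEquiv, card_two_point_stab hm hF]

theorem orbit_sz (hF : Fintype.card F = 2 ^ (2 * m + 1)) :
    MulAction.orbit ↥(Cfsg.Sz F m) (pInf F) = Cfsg.suzukiOvoid F m := by
  ext p
  constructor
  · rintro ⟨⟨g, hg⟩, rfl⟩
    show g • pInf F ∈ _
    have h1 : g • Cfsg.suzukiOvoid F m = Cfsg.suzukiOvoid F m := hg
    rw [← h1]
    exact Set.smul_mem_smul_set (pInf_mem m)
  · intro hp
    rcases (mem_ovoid_iff m p).1 hp with rfl | ⟨a, b, rfl⟩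
    · exact MulAction.mem_orbit_self _
    · refine ⟨⟨tauS m a b * wS F, mul_mem (tauS_mem hF a b) (wS_mem hF)⟩, ?_⟩
      show (tauS m a b * wS F) • pInf F = pAff m a b
      rw [mul_smul, wS_smul_pInf m, tauS_smul_pAff hF]
      simp

theorem card_sz (hm : 1 ≤ m) (hF : Fintype.card F = 2 ^ (2 * m + 1)) :
    Nat.card (Cfsg.Sz F m)
      = (2 ^ (2 * m + 1)) ^ 2 * ((2 ^ (2 * m + 1)) ^ 2 + 1) * (2 ^ (2 * m + 1) - 1) := by
  rw [← Nat.card_congr (MulAction.orbitProdStabilizerEquivGroup ↥(Cfsg.Sz F m) (pInf F)),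
    Nat.card_prod, orbit_sz hF, Cfsg.Agent.S0326.result, card_stab_inf hm hF, hF]
  ring

end Order

end Cfsg.Agent.Lib.Helper09
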