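import Cfsg.Agent.Lib.Helper09.SuzukiToriCount
import Cfsg.Agent.Lib.Helper09.GroupCounting

set_option autoImplicit false

namespace Cfsg.Agent.Lib.Helper09

open Matrix
open scoped Pointwise

section TorusLike

variable {G : Type*} [Group G]

theorem orderOf_conj' (x g : G) : orderOf (x * g * x⁻¹) = orderOf g := by
  have := orderOf_injective (MulAut.conj x).toMonoidHom (MulAut.conj x).injective g
  simpa [MulAut.conj_apply] using this

theorem orderOf_conj_inv (x g : G) : orderOf (x⁻¹ * g * x) = orderOf g := by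
  have := orderOf_conj' x⁻¹ g
  rwa [inv_inv] at this

theorem conj_inv_pow (x g : G) (n : ℕ) : (x⁻¹ * g * x) ^ n = x⁻¹ * g ^ n * x := by
  have := conj_pow (i := n) (a := x⁻¹) (b := g)
  rwa [inv_inv] at this

/-- abstract properties of the maximal tori of the Suzuki group -/
structure TorusLike (A : Subgroup G) : Prop where
  cent : ∀ g ∈ A, g ≠ 1 → ∀ c : G, c * g = g * c → c ∈ A
  comm : ∀ c ∈ A, ∀ c' ∈ A, c * c' = c' * c
  pow4 : ∀ y ∈ Subgroup.normalizer (A : Set G), y ^ 4 ∈ A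
  odd : ∀ g ∈ A, ¬ 2 ∣ orderOf g

theorem TorusLike.key {A : Subgroup G} (hA : TorusLike A) (y c : G) (hc : c ∈ A) (hc1 : c ≠ 1)
    (h : y * c * y⁻¹ ∈ A) : y ∈ Subgroup.normalizer (A : Set G) := by
  have hc1' : y * c * y⁻¹ ≠ 1 := conj_ne_one' hc1
  rw [Subgroup.mem_normalizer_iff]
  intro t
  constructor
  · intro ht
    apply hA.cent _ h hc1'
    have := hA.comm t ht c hc
    calc y * t * y⁻¹ * (y * c * y⁻¹) = y * (t * c) * y⁻¹ := by group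
      _ = y * (c * t) * y⁻¹ := by rw [this]
      _ = y * c * y⁻¹ * (y * t * y⁻¹) := by group
  · intro ht
    apply hA.cent _ hc hc1
    have := hA.comm _ ht _ h
    calc t * c = y⁻¹ * (y * t * y⁻¹ * (y * c * y⁻¹)) * y := by group
      _ = y⁻¹ * (y * c * y⁻¹ * (y * t * y⁻¹)) * y := by rw [this]
      _ = c * t := by group

theorem mem_normalizer_map_conj (A : Subgroup G) (x y : G) :
    y ∈ Subgroup.normalizer ((A.map (MulAut.conj x).toMonoidHom : Subgroup G) : Set G) ↔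
      x⁻¹ * y * x ∈ Subgroup.normalizer (A : Set G) := by
  rw [← Subgroup.map_equiv_normalizer_eq, mem_map_conj]

theorem TorusLike.map_conj {A : Subgroup G} (hA : TorusLike A) (x : G) :
    TorusLike (A.map (MulAut.conj x).toMonoidHom) := by
  constructor
  · intro g hg hg1 c hc
    rw [mem_map_conj] at hg ⊢
    apply hA.cent _ hg
    · intro h0
      apply hg1
      have : g = x * (x⁻¹ * g * x) * x⁻¹ := by group
      rw [this, h0]; group
    · calc x⁻¹ * c * x * (x⁻¹ * g * x) = x⁻¹ * (c * g) * x := by group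
        _ = x⁻¹ * (g * c) * x := by rw [hc]
        _ = x⁻¹ * g * x * (x⁻¹ * c * x) := by group
  · intro c hc c' hc'
    rw [mem_map_conj] at hc hc'
    have := hA.comm _ hc _ hc'
    calc c * c' = x * ((x⁻¹ * c * x) * (x⁻¹ * c' * x)) * x⁻¹ := by group
      _ = x * ((x⁻¹ * c' * x) * (x⁻¹ * c * x)) * x⁻¹ := by rw [this]
      _ = c' * c := by group
  · intro y hy
    rw [mem_normalizer_map_conj] at hy
    rw [mem_map_conj]
    have := hA.pow4 _ hy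
    rw [conj_inv_pow] at this
    exact this
  · intro g hg
    rw [mem_map_conj] at hg
    have := hA.odd _ hg
    rwa [orderOf_conj_inv] at this

theorem mem_of_pow_four_mem {A : Subgroup G} {y : G} (hodd : ¬ 2 ∣ orderOf y) (h : y ^ 4 ∈ A) :
    y ∈ A := by
  have hc : Nat.Coprime 4 (orderOf y) := by
    have : Nat.Coprime 2 (orderOf y) := (Nat.Prime.coprime_iff_not_dvd Nat.prime_two).2 hodd
    have h4 : (4 : ℕ) = 2 ^ 2 := by norm_num
    rw [h4]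
    exact Nat.Coprime.pow_left 2 this
  obtain ⟨j, hj⟩ := exists_pow_eq_self_of_coprime hc
  rw [← hj]
  exact A.pow_mem h j

end TorusLike

section MaxTori

variable {F : Type*} [Field F] [Fintype F] {m : ℕ}

theorem odd_q_sub_one (m : ℕ) : ¬ 2 ∣ 2 ^ (2 * m + 1) - 1 := by
  have h : 2 ∣ 2 ^ (2 * m + 1) := dvd_pow_self 2 (by omega)
  have hpos : 0 < 2 ^ (2 * m + 1) := by positivity
  omega

theorem torusLike_Hz (hm : 1 ≤ m) (hF : Fintype.card F = 2 ^ (2 * m + 1)) :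
    TorusLike (Hz (m := m) hF) := by
  constructor
  · intro g hg hg1 c hc
    obtain ⟨k, rfl⟩ := (mem_Hz hF _).1 hg
    have hk : k ≠ 1 := by
      rintro rfl
      exact hg1 (hG_one hF)
    obtain ⟨l, hl⟩ := commute_hG hm hF hk hc
    exact (mem_Hz hF _).2 ⟨l, hl⟩
  · intro c hc c' hc'
    obtain ⟨k, rfl⟩ := (mem_Hz hF _).1 hc
    obtain ⟨l, rfl⟩ := (mem_Hz hF _).1 hc'
    rw [← hG_mul, ← hG_mul, mul_comm]
  · intro y hy
    rcases (mem_normalizer_Hz hm hF y).1 hy with ⟨l, rfl⟩ | ⟨l, rfl⟩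
    · rw [hG_pow]; exact (mem_Hz hF _).2 ⟨_, rfl⟩
    · have h2 : (wG hF * hG hF l) ^ 2 = 1 := by
        have e := wG_mul_hG hF l
        calc (wG hF * hG hF l) ^ 2 = wG hF * hG hF l * (wG hF * hG hF l) := sq _
          _ = wG hF * hG hF l * (hG hF l⁻¹ * wG hF) := by rw [← e]
          _ = wG hF * (hG hF l * hG hF l⁻¹) * wG hF := by group
          _ = 1 := by rw [← hG_mul, mul_inv_cancel, hG_one, mul_one, wG_mul_wG]
      have : (wG hF * hG hF l) ^ 4 = ((wG hF * hG hF l) ^ 2) ^ 2 := by rw [← pow_mul]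
      rw [this, h2, one_pow]
      exact Subgroup.one_mem _
  · intro g hg h2
    have h1 : orderOf g ∣ Nat.card (Hz (m := m) hF) := by
      have := orderOf_dvd_natCard (⟨g, hg⟩ : Hz (m := m) hF)
      rwa [Subgroup.orderOf_mk] at this
    rw [card_Hz] at h1
    exact odd_q_sub_one m (dvd_trans h2 h1)

theorem IsTorus.torusLike (hm : 1 ≤ m) (hF : Fintype.card F = 2 ^ (2 * m + 1))
    {T : Subgroup ↥(Cfsg.Sz F m)} (hT : IsTorus F m T) : TorusLike T := by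
  constructor
  · intro g hg hg1 c hc
    rw [← hT.centralizer_eq hm hF hg hg1, mem_centralizer_singleton]
    exact hc
  · intro c hc c' hc'
    exact hT.comm hm hF hc hc'
  · intro y hy
    exact hT.pow_four_mem hm hF hy
  · intro g hg h2
    have h1 : orderOf g ∣ Nat.card T := by
      have := orderOf_dvd_natCard (⟨g, hg⟩ : T)
      rwa [Subgroup.orderOf_mk] at this
    exact odd_q_sq_add_one m (dvd_trans h2 (dvd_trans h1 (hT.card_dvd hm hF)))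

/-- the maximal tori: conjugates of the split torus, and the nonsplit tori -/
def IsMaxTorus (hF : Fintype.card F = 2 ^ (2 * m + 1)) (A : Subgroup ↥(Cfsg.Sz F m)) : Prop :=
  (∃ x : ↥(Cfsg.Sz F m), A = (Hz hF).map (MulAut.conj x).toMonoidHom) ∨ IsTorus F m A

theorem IsMaxTorus.torusLike (hm : 1 ≤ m) {hF : Fintype.card F = 2 ^ (2 * m + 1)}
    {A : Subgroup ↥(Cfsg.Sz F m)} (hA : IsMaxTorus hF A) : TorusLike A := by
  rcases hA with ⟨x, rfl⟩ | hT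
  · exact (torusLike_Hz hm hF).map_conj x
  · exact hT.torusLike hm hF

theorem pow_four_of_conj_Uz (hF : Fintype.card F = 2 ^ (2 * m + 1)) {g x : ↥(Cfsg.Sz F m)}
    (h : x * g * x⁻¹ ∈ Uz hF) : g ^ 4 = 1 := by
  obtain ⟨a, b, hab⟩ := (mem_Uz hF _).1 h
  have h1 : (x * g * x⁻¹) ^ 4 = 1 := by rw [hab, tauG_pow_four]
  rw [conj_pow] at h1
  have : g ^ 4 = x⁻¹ * (x * g ^ 4 * x⁻¹) * x := by group
  rw [this, h1]; group

theorem eq_one_of_pow_four_of_odd {G : Type*} [Group G] {g : G} (h4 : g ^ 4 = 1)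
    (hodd : ¬ 2 ∣ orderOf g) : g = 1 := by
  have h1 : orderOf g ∣ 4 := orderOf_dvd_of_pow_eq_one h4
  have hc : Nat.Coprime (orderOf g) 4 := by
    have : Nat.Coprime 2 (orderOf g) := (Nat.Prime.coprime_iff_not_dvd Nat.prime_two).2 hodd
    have h4' : (4 : ℕ) = 2 ^ 2 := by norm_num
    rw [h4']
    exact (Nat.Coprime.pow_left 2 this).symm
  have : orderOf g = 1 := Nat.eq_one_of_dvd_coprimes hc (dvd_refl _) h1
  exact orderOf_eq_one_iff.1 this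

/-- every non-identity element of odd order lies in a maximal torus -/
theorem exists_maxTorus (hm : 1 ≤ m) (hF : Fintype.card F = 2 ^ (2 * m + 1))
    {g : ↥(Cfsg.Sz F m)} (hg1 : g ≠ 1) (hodd : ¬ 2 ∣ orderOf g) :
    ∃ A : Subgroup ↥(Cfsg.Sz F m), IsMaxTorus hF A ∧ g ∈ A := by
  by_cases hD : g ∈ Dset F m
  · exact ⟨_, Or.inr ⟨g, hD, rfl⟩, (mem_centralizer_singleton g g).2 rfl⟩
  · rw [mem_Dset] at hD
    push Not at hD
    obtain ⟨ω, hω⟩ := hD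
    obtain ⟨x, hx | hx⟩ := conj_of_fix hm hF hω
    · exact absurd (eq_one_of_pow_four_of_odd (pow_four_of_conj_Uz hF hx) hodd) hg1
    · refine ⟨_, Or.inl ⟨x⁻¹, rfl⟩, ?_⟩
      rw [mem_map_conj, inv_inv]
      exact hx

end MaxTori

section OddSubgroups

variable {F : Type*} [Field F] [Fintype F] {m : ℕ}

theorem sub_key {G : Type*} [Group G] {A : Subgroup G} (hA : TorusLike A) (M : Subgroup G)
    (hodd : ∀ y ∈ M, ¬ 2 ∣ orderOf y) :
    ∀ y : ↥M, ∀ h ∈ A.subgroupOf M, h ≠ 1 → y * h * y⁻¹ ∈ A.subgroupOf M →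
      y ∈ A.subgroupOf M := by
  intro y h hh h1 hy
  rw [Subgroup.mem_subgroupOf] at hh hy ⊢
  have h1' : (h : G) ≠ 1 := fun h0 => h1 (Subtype.ext h0)
  have hy' : (y : G) * (h : G) * (y : G)⁻¹ ∈ A := by simpa using hy
  have hN := hA.key _ _ hh h1' hy'
  exact mem_of_pow_four_mem (hodd _ y.2) (hA.pow4 _ hN)

/-- a non-trivial subgroup of odd order lies in a maximal torus -/
theorem odd_subgroup_le (hm : 1 ≤ m) (hF : Fintype.card F = 2 ^ (2 * m + 1))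
    (M : Subgroup ↥(Cfsg.Sz F m)) (hodd : ¬ 2 ∣ Nat.card M) (hne : M ≠ ⊥) :
    ∃ A : Subgroup ↥(Cfsg.Sz F m), IsMaxTorus hF A ∧ M ≤ A := by
  obtain ⟨x₀, hx₀, hx₀1⟩ := (Subgroup.ne_bot_iff_exists_ne_one (H := M)).1 hne |>.imp
    (fun x h => h) |> fun ⟨x, hx⟩ => (⟨x.1, x.2, fun h0 => hx (Subtype.ext h0)⟩ :
      ∃ x₀ : ↥(Cfsg.Sz F m), x₀ ∈ M ∧ x₀ ≠ 1)
  have hoddelt : ∀ y ∈ M, ¬ 2 ∣ orderOf y := by
    intro y hy h2
    apply hodd
    have := orderOf_dvd_natCard (⟨y, hy⟩ : M)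
    rw [Subgroup.orderOf_mk] at this
    exact dvd_trans h2 this
  obtain ⟨A₀, hA₀, hx₀A⟩ := exists_maxTorus hm hF hx₀1 (hoddelt x₀ hx₀)
  by_cases hle : M ≤ A₀
  · exact ⟨A₀, hA₀, hle⟩
  exfalso
  have tl₀ := hA₀.torusLike hm
  have key₀ := sub_key tl₀ M hoddelt
  have hne₀ : ∃ h ∈ A₀.subgroupOf M, h ≠ 1 :=
    ⟨⟨x₀, hx₀⟩, Subgroup.mem_subgroupOf.2 hx₀A, fun h0 => hx₀1 (congrArg Subtype.val h0)⟩
  have htop : A₀.subgroupOf M ≠ ⊤ := by
    intro h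
    apply hle
    intro y hy
    have : (⟨y, hy⟩ : M) ∈ A₀.subgroupOf M := by rw [h]; exact Subgroup.mem_top _
    exact Subgroup.mem_subgroupOf.1 this
  obtain ⟨x₁, hx₁1, hx₁⟩ := exists_not_mem_conjSet (A₀.subgroupOf M) hne₀ key₀ htop
  have hx₁1' : (x₁ : ↥(Cfsg.Sz F m)) ≠ 1 := fun h0 => hx₁1 (Subtype.ext h0)
  obtain ⟨A₁, hA₁, hx₁A⟩ := exists_maxTorus hm hF hx₁1' (hoddelt _ x₁.2)
  have tl₁ := hA₁.torusLike hm
  have key₁ := sub_key tl₁ M hoddelt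
  have hne₁ : ∃ h ∈ A₁.subgroupOf M, h ≠ 1 := ⟨x₁, Subgroup.mem_subgroupOf.2 hx₁A, hx₁1⟩
  apply two_ti_false (A₀.subgroupOf M) (A₁.subgroupOf M) hne₀ hne₁ key₀ key₁
  rw [Set.disjoint_left]
  rintro g ⟨hg1, y, hy⟩ ⟨-, y₁, hy₁⟩
  apply hx₁
  refine ⟨hx₁1, y * y₁⁻¹, ?_⟩
  rw [Subgroup.mem_subgroupOf] at hy hy₁ ⊢
  have hg1' : (g : ↥(Cfsg.Sz F m)) ≠ 1 := fun h0 => hg1 (Subtype.ext h0)
  have hy' : (y : ↥(Cfsg.Sz F m)) * g * (y : ↥(Cfsg.Sz F m))⁻¹ ∈ A₀ := by simpa using hy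
  have hy₁' : (y₁ : ↥(Cfsg.Sz F m)) * g * (y₁ : ↥(Cfsg.Sz F m))⁻¹ ∈ A₁ := by simpa using hy₁
  have hcomm := tl₁.comm _ hx₁A _ hy₁'
  have hgoal : (y : ↥(Cfsg.Sz F m)) * (y₁ : ↥(Cfsg.Sz F m))⁻¹ * x₁ *
      ((y : ↥(Cfsg.Sz F m)) * (y₁ : ↥(Cfsg.Sz F m))⁻¹)⁻¹ ∈ A₀ := by
    apply tl₀.cent _ hy' (conj_ne_one' hg1')
    set Y : ↥(Cfsg.Sz F m) := (y : ↥(Cfsg.Sz F m)) with hY
    set Y₁ : ↥(Cfsg.Sz F m) := (y₁ : ↥(Cfsg.Sz F m)) with hY₁
    set X₁ : ↥(Cfsg.Sz F m) := (x₁ : ↥(Cfsg.Sz F m)) with hX₁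
    set g' : ↥(Cfsg.Sz F m) := (g : ↥(Cfsg.Sz F m)) with hg'
    calc Y * Y₁⁻¹ * X₁ * (Y * Y₁⁻¹)⁻¹ * (Y * g' * Y⁻¹)
        = Y * Y₁⁻¹ * (X₁ * (Y₁ * g' * Y₁⁻¹)) * Y₁ * Y⁻¹ := by group
      _ = Y * Y₁⁻¹ * ((Y₁ * g' * Y₁⁻¹) * X₁) * Y₁ * Y⁻¹ := by rw [hcomm]
      _ = Y * g' * Y⁻¹ * (Y * Y₁⁻¹ * X₁ * (Y * Y₁⁻¹)⁻¹) := by group
  simpa using hgoal

end OddSubgroups

section TwoElements

variable {F : Type*} [Field F] [Fintype F] {m : ℕ}

theorem two_dvd_of_pow_four {G : Type*} [Group G] {g : G} (hg1 : g ≠ 1) (h4 : g ^ 4 = 1) :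
    2 ∣ orderOf g := by
  by_contra h
  exact hg1 (eq_one_of_pow_four_of_odd h4 h)

/-- a non-identity 2-element is conjugate into the unipotent subgroup -/
theorem two_elt_conj (hm : 1 ≤ m) (hF : Fintype.card F = 2 ^ (2 * m + 1)) {g : ↥(Cfsg.Sz F m)}
    (hg1 : g ≠ 1) (h4 : g ^ 4 = 1) : ∃ x : ↥(Cfsg.Sz F m), x * g * x⁻¹ ∈ Uz hF := by
  have h2 := two_dvd_of_pow_four hg1 h4
  have hD : g ∉ Dset F m := fun hD => derangement_odd hm hF hD h2
  rw [mem_Dset] at hD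
  push Not at hD
  obtain ⟨ω, hω⟩ := hD
  obtain ⟨x, hx | hx⟩ := conj_of_fix hm hF hω
  · exact ⟨x, hx⟩
  · exfalso
    have := (torusLike_Hz hm hF).odd _ hx
    rw [orderOf_conj'] at this
    exact this h2

theorem two_elt_fix_exists (hm : 1 ≤ m) (hF : Fintype.card F = 2 ^ (2 * m + 1))
    {g : ↥(Cfsg.Sz F m)} (hg1 : g ≠ 1) (h4 : g ^ 4 = 1) :
    ∃ p : ↥(Cfsg.suzukiOvoid F m), g • p = p := by
  obtain ⟨x, hx⟩ := two_elt_conj hm hF hg1 h4
  exact ⟨_, fix_of_conj_Uz hF hx⟩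

theorem two_elt_fix_unique (hm : 1 ≤ m) (hF : Fintype.card F = 2 ^ (2 * m + 1))
    {g : ↥(Cfsg.Sz F m)} (hg1 : g ≠ 1) (h4 : g ^ 4 = 1) {p q : ↥(Cfsg.suzukiOvoid F m)}
    (hp : g • p = p) (hq : g • q = q) : p = q := by
  obtain ⟨x, hx⟩ := two_elt_conj hm hF hg1 h4
  obtain ⟨a, b, hab⟩ := (mem_Uz hF _).1 hx
  have hne : tauG hF a b ≠ 1 := by
    rw [← hab]; exact conj_ne_one' hg1
  have key : ∀ r : ↥(Cfsg.suzukiOvoid F m), g • r = r → x • r = oInf F m := by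
    intro r hr
    apply tauG_fix hF hne
    rw [← hab, mul_smul, mul_smul, inv_smul_smul, hr]
  have h1 := key p hp
  have h2 := key q hq
  have : x • p = x • q := h1.trans h2.symm
  exact (MulAction.injective x) this

theorem pow_four_of_sq {G : Type*} [Group G] {g : G} (h : g ^ 2 = 1) : g ^ 4 = 1 := by
  have : g ^ 4 = (g ^ 2) ^ 2 := by rw [← pow_mul]
  rw [this, h, one_pow]

end TwoElements

section FrobeniusCase

variable {F : Type*} [Field F] [Fintype F] {m : ℕ}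

/-- a subgroup whose point stabilisers are 2-groups and which moves the point normalises a
maximal torus -/
theorem frobenius_case (hm : 1 ≤ m) (hF : Fintype.card F = 2 ^ (2 * m + 1))
    (M : Subgroup ↥(Cfsg.Sz F m)) (p₀ : ↥(Cfsg.suzukiOvoid F m)) (u₀ : ↥(Cfsg.Sz F m))
    (hu₀M : u₀ ∈ M) (hu₀1 : u₀ ≠ 1) (hu₀2 : u₀ ^ 2 = 1) (hu₀p : u₀ • p₀ = p₀)
    (h2grp : ∀ g ∈ M, g • p₀ = p₀ → g ^ 4 = 1)
    (hmove : ∃ g ∈ M, g • p₀ ≠ p₀) :
    ∃ A : Subgroup ↥(Cfsg.Sz F m), IsMaxTorus hF A ∧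
      M ≤ Subgroup.normalizer ((A : Subgroup ↥(Cfsg.Sz F m)) : Set ↥(Cfsg.Sz F m)) := by
  classical
  have := ovoid_finite' (F := F) (m := m)
  -- facts about involutions of `M`
  have hfix : ∀ u : ↥M, u ≠ 1 → u ^ 2 = 1 → ∀ p q : ↥(Cfsg.suzukiOvoid F m),
      u • p = p → u • q = q → p = q := by
    intro u hu1 hu2 p q hp hq
    have hu1' : (u : ↥(Cfsg.Sz F m)) ≠ 1 := fun h0 => hu1 (Subtype.ext h0)
    have hu2' : (u : ↥(Cfsg.Sz F m)) ^ 2 = 1 := by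
      have := congrArg Subtype.val hu2
      simpa using this
    exact two_elt_fix_unique hm hF hu1' (pow_four_of_sq hu2') hp hq
  have hex : ∀ u : ↥M, u ≠ 1 → u ^ 2 = 1 → ∃ p : ↥(Cfsg.suzukiOvoid F m), u • p = p := by
    intro u hu1 hu2
    have hu1' : (u : ↥(Cfsg.Sz F m)) ≠ 1 := fun h0 => hu1 (Subtype.ext h0)
    have hu2' : (u : ↥(Cfsg.Sz F m)) ^ 2 = 1 := by
      have := congrArg Subtype.val hu2
      simpa using this
    exact two_elt_fix_exists hm hF hu1' (pow_four_of_sq hu2')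
  set U₀ : ↥M := ⟨u₀, hu₀M⟩ with hU₀
  have hU₀inv : IsInv U₀ := ⟨fun h0 => hu₀1 (congrArg Subtype.val h0), Subtype.ext (by simpa using hu₀2)⟩
  have hU₀p : U₀ • p₀ = p₀ := hu₀p
  set i := Nat.card {u : ↥M // IsInv u ∧ u • p₀ = p₀} with hi
  have hi0 : 0 < i := by
    rw [hi, Finite.card_pos_iff]
    exact ⟨⟨U₀, hU₀inv, hU₀p⟩⟩
  -- two-point stabilisers are trivial
  have hst1 : ∀ p : ↥(Cfsg.suzukiOvoid F m), p ≠ p₀ →
      Nat.card {g : ↥M // g • p₀ = p₀ ∧ g • p = p} = 1 := by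
    intro p hp
    rw [Nat.card_eq_one_iff_unique]
    refine ⟨⟨?_⟩, ⟨⟨1, one_smul _ _, one_smul _ _⟩⟩⟩
    rintro ⟨g, hg0, hgp⟩ ⟨g', hg0', hgp'⟩
    have key : ∀ g : ↥M, g • p₀ = p₀ → g • p = p → g = 1 := by
      intro g hg0 hgp
      by_contra hg1
      have hg1' : (g : ↥(Cfsg.Sz F m)) ≠ 1 := fun h0 => hg1 (Subtype.ext h0)
      have h4 := h2grp g g.2 hg0
      exact hp (two_elt_fix_unique hm hF hg1' h4 hgp hg0)
    apply Subtype.ext
    show g = g'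
    rw [key g hg0 hgp, key g' hg0' hgp']
  have hcount := inv_count hfix hex p₀ i rfl hi0 (fun p hp _ => by rw [hst1 p hp]; exact hi0)
  -- a moved point
  obtain ⟨g₁, hg₁M, hg₁p⟩ := hmove
  set G₁ : ↥M := ⟨g₁, hg₁M⟩ with hG₁
  have hp₁ : ∃ u : ↥M, IsInv u ∧ u • (g₁ • p₀) = g₁ • p₀ := by
    refine ⟨G₁ * U₀ * G₁⁻¹, hU₀inv.conj G₁, ?_⟩
    show (G₁ * U₀ * G₁⁻¹) • (G₁ • p₀) = G₁ • p₀
    rw [mul_smul, mul_smul, inv_smul_smul, hU₀p]
  have hi1 : i = 1 := by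
    have := (hcount _ hg₁p hp₁).2
    rw [hst1 _ hg₁p] at this
    exact this.symm
  -- the stabiliser of the base point
  set S : Subgroup ↥M := MulAction.stabilizer ↥M p₀ with hS
  have huniq : ∀ u ∈ S, IsInv u → u = U₀ := by
    intro u hu hinv
    have h1 : Nat.card {u : ↥M // IsInv u ∧ u • p₀ = p₀} = 1 := hi1
    rw [Nat.card_eq_one_iff_unique] at h1
    obtain ⟨hsub, -⟩ := h1
    have := hsub.elim ⟨u, hinv, MulAction.mem_stabilizer_iff.1 hu⟩ ⟨U₀, hU₀inv, hU₀p⟩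
    exact congrArg Subtype.val this
  have keyS : ∀ y : ↥M, ∀ h ∈ S, h ≠ 1 → y * h * y⁻¹ ∈ S → y ∈ S := by
    intro y h hh h1 hy
    rw [hS, MulAction.mem_stabilizer_iff] at hh hy ⊢
    have h1' : (h : ↥(Cfsg.Sz F m)) ≠ 1 := fun h0 => h1 (Subtype.ext h0)
    have h4 := h2grp h h.2 hh
    have hfix2 : h • (y⁻¹ • p₀) = y⁻¹ • p₀ := by
      have : h = y⁻¹ * (y * h * y⁻¹) * y := by group
      rw [this, mul_smul, mul_smul, smul_inv_smul, hy]
    have := two_elt_fix_unique hm hF h1' h4 hfix2 hh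
    rw [inv_smul_eq_iff] at this
    exact this.symm
  obtain ⟨K, hKn, hKS, hKcard⟩ := frobenius_kernel S U₀ (MulAction.mem_stabilizer_iff.2 hU₀p)
    hU₀inv huniq keyS
  -- the kernel has odd order
  have hKodd : ¬ 2 ∣ Nat.card K := by
    intro h2
    have : Fact (Nat.Prime 2) := ⟨Nat.prime_two⟩
    obtain ⟨z, hz⟩ := exists_prime_orderOf_dvd_card' 2 h2
    have hz1 : (z : ↥M) ≠ 1 := by
      intro h0
      have : z = 1 := Subtype.ext h0
      rw [this, orderOf_one] at hz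
      omega
    have hz2 : (z : ↥M) ^ 2 = 1 := by
      have := pow_orderOf_eq_one z
      rw [hz] at this
      have := congrArg Subtype.val this
      simpa using this
    obtain ⟨p, hp⟩ := hex z hz1 hz2
    apply hKS z z.2
    refine ⟨hz1, ?_⟩
    by_cases hpp : p = p₀
    · refine ⟨1, ?_⟩
      rw [one_mul, inv_one, mul_one, hS, MulAction.mem_stabilizer_iff, ← hpp]
      exact hp
    · obtain ⟨⟨u, hu, hup⟩, -⟩ := hcount p hpp ⟨z, ⟨hz1, hz2⟩, hp⟩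
      refine ⟨u⁻¹, ?_⟩
      rw [hS, MulAction.mem_stabilizer_iff, inv_inv, mul_smul, mul_smul, hup, hp, ← hup,
        inv_smul_smul]
  -- the kernel is non-trivial
  have hKne : 2 ≤ Nat.card K := by
    rw [hKcard]
    have hne : S ≠ ⊤ := by
      intro h
      have : G₁ ∈ S := by rw [h]; exact Subgroup.mem_top _
      exact hg₁p (MulAction.mem_stabilizer_iff.1 this)
    have h1 : S.index ≠ 1 := fun h => hne (Subgroup.index_eq_one.1 h)
    have h0 : S.index ≠ 0 := Subgroup.index_ne_zero_of_finite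
    omega
  -- move to the big group
  have hK'card : Nat.card (K.map M.subtype) = Nat.card K :=
    Subgroup.card_map_of_injective M.subtype_injective
  have hK'ne : K.map M.subtype ≠ ⊥ := by
    intro h
    rw [h, Subgroup.card_bot] at hK'card
    omega
  obtain ⟨A, hA, hKA⟩ := odd_subgroup_le hm hF (K.map M.subtype)
    (by rw [hK'card]; exact hKodd) hK'ne
  refine ⟨A, hA, ?_⟩
  obtain ⟨k, hk, hk1⟩ : ∃ k : ↥(Cfsg.Sz F m), k ∈ K.map M.subtype ∧ k ≠ 1 := by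
    obtain ⟨x, hx⟩ := (Subgroup.ne_bot_iff_exists_ne_one (H := K.map M.subtype)).1 hK'ne
    exact ⟨x.1, x.2, fun h0 => hx (Subtype.ext h0)⟩
  intro y hy
  apply (hA.torusLike hm).key y k (hKA hk) hk1
  apply hKA
  obtain ⟨k₀, hk₀, hk₀eq⟩ := Subgroup.mem_map.1 hk
  have hconj : (⟨y, hy⟩ : ↥M) * k₀ * (⟨y, hy⟩ : ↥M)⁻¹ ∈ K := hKn.conj_mem k₀ hk₀ _
  refine Subgroup.mem_map.2 ⟨_, hconj, ?_⟩
  rw [← hk₀eq]
  rfl

end FrobeniusCase

end Cfsg.Agent.Lib.Helper09
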