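import Mathlib
import Cfsg.Agent.Lib.Helper09.SuzukiSubgroups
import Cfsg.Agent.Lib.Helper09.SuzukiLie

set_option autoImplicit false

namespace Cfsg.Agent.Lib.Helper09

open Matrix

section Semidirect

variable {N G : Type*} [CommGroup N] [Group G] (φ : G →* MulAut N)

theorem sd_pow_mem_inl (y : N ⋊[φ] G) :
    ∃ n : N, y ^ orderOf y.right = SemidirectProduct.inl n := by
  have h : y ^ orderOf y.right ∈ (SemidirectProduct.rightHom : N ⋊[φ] G →* G).ker := by
    rw [MonoidHom.mem_ker, map_pow]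
    exact pow_orderOf_eq_one _
  rw [← SemidirectProduct.range_inl_eq_ker_rightHom] at h
  obtain ⟨n, hn⟩ := h
  exact ⟨n, hn.symm⟩

theorem sd_orderOf_right_dvd (y : N ⋊[φ] G) : orderOf y.right ∣ orderOf y :=
  orderOf_map_dvd (SemidirectProduct.rightHom : N ⋊[φ] G →* G) y

theorem sd_pow_two (hN : ∀ n : N, n ^ 2 = 1) (y : N ⋊[φ] G) :
    y ^ (orderOf y.right * 2) = 1 := by
  obtain ⟨n, hn⟩ := sd_pow_mem_inl φ y
  rw [pow_mul, hn, ← map_pow, hN, map_one]

/-- in an extension of an elementary abelian 2-group, elements of odd order keep their order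
in the quotient -/
theorem sd_orderOf_right_of_odd (hN : ∀ n : N, n ^ 2 = 1) (y : N ⋊[φ] G)
    (hodd : ¬ 2 ∣ orderOf y) : orderOf y.right = orderOf y := by
  apply Nat.dvd_antisymm (sd_orderOf_right_dvd φ y)
  have h3 : orderOf y ∣ orderOf y.right * 2 := orderOf_dvd_of_pow_eq_one (sd_pow_two φ hN y)
  have hc : Nat.Coprime (orderOf y) 2 :=
    ((Nat.Prime.coprime_iff_not_dvd Nat.prime_two).2 hodd).symm
  exact hc.dvd_of_dvd_mul_right h3

/-- an element of order `2s` either keeps its order in the quotient, or its image has order `s`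
and fixes a nontrivial element of the kernel -/
theorem sd_two_mul_prime (hN : ∀ n : N, n ^ 2 = 1) (y : N ⋊[φ] G) {s : ℕ} (hs : s.Prime)
    (hy : orderOf y = 2 * s) :
    orderOf y.right = 2 * s ∨ (orderOf y.right = s ∧ ∃ n : N, n ≠ 1 ∧ φ y.right n = n) := by
  have hd : orderOf y.right ∣ 2 * s := hy ▸ sd_orderOf_right_dvd φ y
  have h3 : 2 * s ∣ orderOf y.right * 2 := hy ▸ orderOf_dvd_of_pow_eq_one (sd_pow_two φ hN y)
  have h4 : s ∣ orderOf y.right := by
    rw [mul_comm (orderOf y.right)] at h3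
    exact Nat.dvd_of_mul_dvd_mul_left two_pos h3
  obtain ⟨c, hc⟩ := h4
  have hc2 : c ∣ 2 := by
    rw [hc, mul_comm 2 s] at hd
    exact Nat.dvd_of_mul_dvd_mul_left hs.pos hd
  rcases (Nat.dvd_prime Nat.prime_two).1 hc2 with rfl | rfl
  · right
    have hgs : orderOf y.right = s := by rw [hc, mul_one]
    refine ⟨hgs, ?_⟩
    obtain ⟨n, hn⟩ := sd_pow_mem_inl φ y
    rw [hgs] at hn
    refine ⟨n, ?_, ?_⟩
    · rintro rfl
      rw [map_one] at hn
      have h5 := orderOf_dvd_of_pow_eq_one hn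
      rw [hy] at h5
      have := Nat.le_of_dvd hs.pos h5
      have := hs.pos
      omega
    · have hcomm : y * SemidirectProduct.inl n = SemidirectProduct.inl n * y := by
        rw [← hn, ← pow_succ', ← pow_succ]
      have h6 := congrArg SemidirectProduct.left hcomm
      simp only [SemidirectProduct.mul_left, SemidirectProduct.left_inl,
        SemidirectProduct.right_inl, map_one, MulAut.one_apply] at h6
      rw [mul_comm n] at h6
      exact mul_left_cancel h6
  · left
    rw [hc, mul_comm]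

end Semidirect

section FixedPointFree

variable {F : Type*} [Field F] [Fintype F] {m : ℕ}

theorem unit_pow_eq_one_a (hF : Fintype.card F = 2 ^ (2 * m + 1)) {k : F} (h : k ^ 2 ^ m = 1) :
    k = 1 := by
  have := pow_q hF k
  rw [pow_mul, h, one_pow] at this
  exact this.symm

theorem unit_pow_eq_one_b (hF : Fintype.card F = 2 ^ (2 * m + 1)) {k : F}
    (h : k ^ (2 ^ m + 1) = 1) : k = 1 := by
  have hq := pow_q hF k
  have e1 : k ^ 2 ^ m * k = 1 := by rw [← pow_succ]; exact h
  have e2 : (k ^ 2 ^ m * k) ^ 2 ^ (m + 1) = 1 := by rw [e1, one_pow]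
  rw [mul_pow, ← pow_mul, hq] at e2
  have e3 : k ^ 2 ^ (m + 1) = k ^ 2 ^ m * k ^ 2 ^ m := by
    rw [pow_succ 2 m, pow_mul, sq]
  rw [e3] at e2
  have e4 : k ^ 2 ^ m = 1 := by
    have e5 : k * (k ^ 2 ^ m * k ^ 2 ^ m) = (k ^ 2 ^ m * k) * k ^ 2 ^ m := by ring
    rw [e5, e1, one_mul] at e2
    exact e2
  exact unit_pow_eq_one_a hF e4

/-- a nontrivial torus element fixes no nonzero vector -/
theorem hM_fix_eq_zero (hF : Fintype.card F = 2 ^ (2 * m + 1)) {k : Fˣ} (hk : k ≠ 1)
    {u : Fin 4 → F} (hu : hM m k *ᵥ u = u) : u = 0 := by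
  have hk1 : (k : F) ≠ 1 := fun h => hk (Units.ext h)
  have hki : ((k : F)⁻¹) ≠ 1 := fun h => hk1 (by rw [← inv_inv (k : F), h, inv_one])
  have key : ∀ (d : F), d ≠ 1 → ∀ x : F, d * x = x → x = 0 := by
    intro d hd x hx
    by_contra hx0
    exact hd (mul_right_cancel₀ hx0 (by rw [hx, one_mul]))
  have h0 := congrFun hu 0
  have h1 := congrFun hu 1
  have h2 := congrFun hu 2
  have h3 := congrFun hu 3
  simp only [hM, Matrix.mulVec_diagonal, Matrix.cons_val_zero, Matrix.cons_val_one,
    Matrix.cons_val] at h0 h1 h2 h3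
  funext i
  fin_cases i
  · exact key _ (fun h => hk1 (unit_pow_eq_one_b hF h)) _ h0
  · exact key _ (fun h => hk1 (unit_pow_eq_one_a hF h)) _ h1
  · exact key _ (fun h => hki (unit_pow_eq_one_a hF h)) _ h2
  · exact key _ (fun h => hki (unit_pow_eq_one_b hF h)) _ h3

/-- elements of odd prime order of the Suzuki group fix no nonzero vector of the natural module -/
theorem fpf_odd_prime (hm : 1 ≤ m) (hF : Fintype.card F = 2 ^ (2 * m + 1))
    {g : ↥(Cfsg.Sz F m)} {s : ℕ} (hs : s.Prime) (hs2 : s ≠ 2) (hg : orderOf g = s)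
    {v : Fin 4 → F} (hv : (g : Matrix.SpecialLinearGroup (Fin 4) F).1 *ᵥ v = v) : v = 0 := by
  have hg1 : g ≠ 1 := by
    rintro rfl
    rw [orderOf_one] at hg
    exact hs.one_lt.ne hg
  by_cases hD : g ∈ Dset F m
  · obtain ⟨-, hdvd⟩ := derangement_prime hm hF hD hs (hg ▸ dvd_rfl)
    have hirr := irrHyp_of_order hF hs hs2 hdvd hg
    have hb := hirr.fix_eq_bot
    have : v ∈ fixSub (g : Matrix.SpecialLinearGroup (Fin 4) F).1 := (mem_fixSub _ _).2 hv
    rw [hb] at this
    exact (Submodule.mem_bot F).1 this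
  · rw [mem_Dset] at hD
    push Not at hD
    obtain ⟨ω, hω⟩ := hD
    obtain ⟨x, hx | hx⟩ := conj_of_fix hm hF hω
    · exfalso
      have h4 := pow_four_of_conj_Uz hF hx
      apply hg1
      apply eq_one_of_pow_four_of_odd h4
      rw [hg]
      intro h2
      exact hs2 ((Nat.prime_dvd_prime_iff_eq Nat.prime_two hs).1 h2).symm
    · obtain ⟨k, hk⟩ := (mem_Hz hF _).1 hx
      have hk1 : k ≠ 1 := by
        rintro rfl
        rw [hG_one] at hk
        apply hg1
        have : g = x⁻¹ * (x * g * x⁻¹) * x := by group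
        rw [this, hk]; group
      have hfix : hM m k *ᵥ ((x : Matrix.SpecialLinearGroup (Fin 4) F).1 *ᵥ v)
          = (x : Matrix.SpecialLinearGroup (Fin 4) F).1 *ᵥ v := by
        have e1 : hM m k = ((x * g * x⁻¹ : ↥(Cfsg.Sz F m)) :
            Matrix.SpecialLinearGroup (Fin 4) F).1 := by rw [hk]; rfl
        rw [e1]
        simp only [Subgroup.coe_mul, Subgroup.coe_inv, Matrix.SpecialLinearGroup.coe_mul]
        rw [Matrix.mulVec_mulVec, Matrix.mul_assoc, Matrix.mul_assoc,
          ← Matrix.SpecialLinearGroup.coe_mul, inv_mul_cancel, Matrix.SpecialLinearGroup.coe_one,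
          Matrix.mul_one, ← Matrix.mulVec_mulVec, hv]
      have h0 := hM_fix_eq_zero hF hk1 hfix
      by_contra hv0
      exact sl_mulVec_ne_zero _ hv0 h0

end FixedPointFree

section Construction

variable {F : Type*} [Field F] [Fintype F] {m : ℕ}

/-- a matrix of `SL₄` acting on tuples of vectors, as an additive equivalence -/
def vecAct (n : ℕ) (g : Matrix.SpecialLinearGroup (Fin 4) F) :
    (Fin n → Fin 4 → F) ≃+ (Fin n → Fin 4 → F) where
  toFun w i := g.1 *ᵥ w i
  invFun w i := (g⁻¹).1 *ᵥ w i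
  left_inv w := by
    funext i
    show (g⁻¹).1 *ᵥ (g.1 *ᵥ w i) = w i
    rw [Matrix.mulVec_mulVec, ← Matrix.SpecialLinearGroup.coe_mul, inv_mul_cancel]
    simp
  right_inv w := by
    funext i
    show g.1 *ᵥ ((g⁻¹).1 *ᵥ w i) = w i
    rw [Matrix.mulVec_mulVec, ← Matrix.SpecialLinearGroup.coe_mul, mul_inv_cancel]
    simp
  map_add' a b := by
    funext i
    show g.1 *ᵥ (a i + b i) = g.1 *ᵥ a i + g.1 *ᵥ b i
    rw [Matrix.mulVec_add]

omit [Fintype F] in
theorem vecAct_apply (n : ℕ) (g : Matrix.SpecialLinearGroup (Fin 4) F) (w : Fin n → Fin 4 → F)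
    (i : Fin n) : vecAct n g w i = g.1 *ᵥ w i := rfl

/-- the multiplicative version of the action -/
def mulAct (n : ℕ) (g : Matrix.SpecialLinearGroup (Fin 4) F) :
    MulAut (Multiplicative (Fin n → Fin 4 → F)) :=
  AddEquiv.toMultiplicative (vecAct n g)

omit [Fintype F] in
theorem mulAct_apply (n : ℕ) (g : Matrix.SpecialLinearGroup (Fin 4) F)
    (w : Multiplicative (Fin n → Fin 4 → F)) :
    mulAct n g w = Multiplicative.ofAdd (vecAct n g (Multiplicative.toAdd w)) := rfl

/-- the action of the Suzuki group on the multiplicative version of `n` copies of its natural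
module -/
def szAct (m n : ℕ) : ↥(Cfsg.Sz F m) →* MulAut (Multiplicative (Fin n → Fin 4 → F)) where
  toFun g := mulAct n (g : Matrix.SpecialLinearGroup (Fin 4) F)
  map_one' := by
    apply MulEquiv.ext
    intro w
    rw [mulAct_apply, MulAut.one_apply]
    apply Multiplicative.toAdd.injective
    funext i
    show vecAct n _ (Multiplicative.toAdd w) i = Multiplicative.toAdd w i
    rw [vecAct_apply]
    simp
  map_mul' g h := by
    apply MulEquiv.ext
    intro w
    rw [MulAut.mul_apply, mulAct_apply, mulAct_apply, mulAct_apply]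
    apply Multiplicative.toAdd.injective
    funext i
    show vecAct n _ (Multiplicative.toAdd w) i = vecAct n _ (vecAct n _ (Multiplicative.toAdd w)) i
    rw [vecAct_apply, vecAct_apply, vecAct_apply, Subgroup.coe_mul,
      Matrix.SpecialLinearGroup.coe_mul, Matrix.mulVec_mulVec]

omit [Fintype F] in
theorem szAct_apply (m n : ℕ) (g : ↥(Cfsg.Sz F m)) (w : Multiplicative (Fin n → Fin 4 → F)) :
    szAct m n g w = Multiplicative.ofAdd
      (vecAct n (g : Matrix.SpecialLinearGroup (Fin 4) F) (Multiplicative.toAdd w)) := rfl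

/-- the extension of `n` copies of the natural module by the Suzuki group -/
abbrev SzExt (F : Type*) [Field F] (m n : ℕ) : Type _ :=
  Multiplicative (Fin n → Fin 4 → F) ⋊[szAct m n] ↥(Cfsg.Sz F m)

instance szExt_finite (n : ℕ) : Finite (SzExt F m n) :=
  Finite.of_equiv _ SemidirectProduct.equivProd.symm

theorem ext_sq (hF : Fintype.card F = 2 ^ (2 * m + 1)) (n : ℕ)
    (w : Multiplicative (Fin n → Fin 4 → F)) : w ^ 2 = 1 := by
  apply Multiplicative.toAdd.injective
  rw [toAdd_pow, toAdd_one]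
  funext i j
  show (2 • Multiplicative.toAdd w) i j = 0
  rw [Pi.smul_apply, Pi.smul_apply, nsmul_eq_mul]
  push_cast
  rw [two_eq_zero' hF, zero_mul]

theorem card_module (hF : Fintype.card F = 2 ^ (2 * m + 1)) (n : ℕ) :
    Nat.card (Multiplicative (Fin n → Fin 4 → F)) = 2 ^ ((2 * m + 1) * 4 * n) := by
  have : Nat.card (Multiplicative (Fin n → Fin 4 → F)) = Nat.card (Fin n → Fin 4 → F) :=
    Nat.card_congr Multiplicative.toAdd
  rw [this, Nat.card_fun, Nat.card_fun, Nat.card_eq_fintype_card, Nat.card_eq_fintype_card,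
    Nat.card_eq_fintype_card, hF, Fintype.card_fin, Fintype.card_fin, ← pow_mul, ← pow_mul,
    mul_assoc]

theorem card_szExt (hF : Fintype.card F = 2 ^ (2 * m + 1)) (n : ℕ) :
    Nat.card (SzExt F m n) = 2 ^ ((2 * m + 1) * 4 * n) * Nat.card ↥(Cfsg.Sz F m) := by
  rw [SemidirectProduct.card, card_module hF]

theorem two_dvd_card_sz (hm : 1 ≤ m) (hF : Fintype.card F = 2 ^ (2 * m + 1)) :
    2 ∣ Nat.card ↥(Cfsg.Sz F m) := by
  rw [card_sz hm hF]
  apply Dvd.dvd.mul_right
  apply Dvd.dvd.mul_right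
  rw [← pow_mul]
  exact dvd_pow_self 2 (by omega)

theorem szExt_prime_dvd (hm : 1 ≤ m) (hF : Fintype.card F = 2 ^ (2 * m + 1)) (n : ℕ) {r : ℕ}
    (hr : r.Prime) : r ∣ Nat.card ↥(Cfsg.Sz F m) ↔ r ∣ Nat.card (SzExt F m n) := by
  rw [card_szExt hF]
  constructor
  · intro h
    exact h.mul_left _
  · intro h
    rcases (Nat.Prime.dvd_mul hr).1 h with h | h
    · have := (Nat.prime_dvd_prime_iff_eq hr Nat.prime_two).1 (hr.dvd_of_dvd_pow h)
      rw [this]
      exact two_dvd_card_sz hm hF
    · exact h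

theorem szExt_order (hm : 1 ≤ m) (hF : Fintype.card F = 2 ^ (2 * m + 1)) (n : ℕ) {r s : ℕ}
    (hr : r.Prime) (hs : s.Prime) (hrs : r ≠ s) :
    (∃ x : ↥(Cfsg.Sz F m), orderOf x = r * s) ↔ ∃ y : SzExt F m n, orderOf y = r * s := by
  constructor
  · rintro ⟨x, hx⟩
    refine ⟨SemidirectProduct.inr x, ?_⟩
    rw [orderOf_injective _ SemidirectProduct.inr_injective, hx]
  · -- reduce to the case where `s` is odd
    have key : ∀ {r s : ℕ}, r.Prime → s.Prime → s ≠ 2 → (∃ y : SzExt F m n, orderOf y = r * s) →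
        ∃ x : ↥(Cfsg.Sz F m), orderOf x = r * s := by
      intro r s hr hs hs2
      rintro ⟨y, hy⟩
      have hsodd : ¬ 2 ∣ s := fun h => hs2 ((Nat.prime_dvd_prime_iff_eq Nat.prime_two hs).1 h).symm
      by_cases hr2 : r = 2
      · subst hr2
        rcases sd_two_mul_prime (szAct m n) (ext_sq hF n) y hs hy with h | ⟨h, w, hw1, hw⟩
        · exact ⟨y.right, h⟩
        · exfalso
          apply hw1
          apply Multiplicative.toAdd.injective
          rw [toAdd_one]
          funext i
          have h1 := congrArg (fun u : Multiplicative (Fin n → Fin 4 → F) => Multiplicative.toAdd u i) hw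
          simp only [szAct_apply, toAdd_ofAdd, vecAct_apply] at h1
          exact fpf_odd_prime hm hF hs hs2 h h1
      · have hrodd : ¬ 2 ∣ r :=
          fun h => hr2 ((Nat.prime_dvd_prime_iff_eq Nat.prime_two hr).1 h).symm
        have hodd : ¬ 2 ∣ orderOf y := by
          rw [hy]
          intro h
          rcases (Nat.Prime.dvd_mul Nat.prime_two).1 h with h | h
          · exact hrodd h
          · exact hsodd h
        exact ⟨y.right, by rw [sd_orderOf_right_of_odd (szAct m n) (ext_sq hF n) y hodd, hy]⟩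
    intro h
    by_cases hs2 : s = 2
    · have hr2 : r ≠ 2 := fun h => hrs (h.trans hs2.symm)
      rw [mul_comm] at h ⊢
      exact key hs hr hr2 h
    · exact key hr hs hs2 h

end Construction

section Transport

/-- every finite group has a copy in the lowest universe -/
theorem exists_small_copy (H₀ : Type*) [Group H₀] [Finite H₀] :
    ∃ (H : Type) (_ : Group H) (_ : Fintype H), Nonempty (H ≃* H₀) := by
  let e : Fin (Nat.card H₀) ≃ H₀ := (Finite.equivFin H₀).symm
  exact ⟨Fin (Nat.card H₀), e.group, inferInstance, ⟨e.mulEquiv⟩⟩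

end Transport

end Cfsg.Agent.Lib.Helper09
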