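import Cfsg.Agent.Lib.Helper09.SchurTools
import Cfsg.Agent.Lib.Helper09.SuzukiCN
import Cfsg.Agent.Lib.Helper09.SuzukiBorel
import Cfsg.Agent.Lib.Helper09.SuzukiOrder
import Cfsg.Agent.Lib.Helper09.SuzukiLie

/-!
The Suzuki groups `Sz(q)`, `q ≥ 32`, have only trivial finite stem extensions.
-/

set_option autoImplicit false

namespace Cfsg.Agent.Lib.Helper09

open scoped commutatorElement
open Polynomial

section field
variable {F : Type*} [Field F] [Fintype F] {m : ℕ}

/-- the scalar `λ / λ^σ`, on which `k ↦ k^σ k` takes the value `λ⁻¹` -/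
noncomputable def rho (m : ℕ) (l : F) : F := l / sg m l

omit [Fintype F] in
theorem rho_ne_zero {l : F} (hl : l ≠ 0) : rho m l ≠ 0 :=
  div_ne_zero hl (fun h => hl (sg_eq_zero.1 h))

theorem sg_rho_mul (hF : Fintype.card F = 2 ^ (2 * m + 1)) {l : F} (hl : l ≠ 0) :
    sg m (rho m l) * rho m l = l⁻¹ := by
  have hs : sg m l ≠ 0 := fun h => hl (sg_eq_zero.1 h)
  rw [rho, sg_div, sg_sg hF]
  field_simp

theorem exists_good_one (hm : 1 ≤ m) (hF : Fintype.card F = 2 ^ (2 * m + 1)) :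
    ∃ a : F, a ≠ 0 ∧ a + 1 ≠ 0 ∧ (a + 1)⁻¹ - a⁻¹ - 1 ≠ 0 := by
  let P : F[X] := X * (X + 1) * (X ^ 2 + X + 1)
  have hmonic : P.Monic := by
    apply Monic.mul
    · apply Monic.mul monic_X
      exact monic_X_add_C 1
    · monicity!
  have hdeg : P.natDegree ≤ 4 := by
    show (X * (X + 1) * (X ^ 2 + X + 1) : F[X]).natDegree ≤ 4
    compute_degree
  have hq : 4 < Fintype.card F := by
    rw [hF]
    calc 4 < 2 ^ 3 := by norm_num
      _ ≤ 2 ^ (2 * m + 1) := Nat.pow_le_pow_right (by norm_num) (by omega)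
  obtain ⟨l, hl⟩ : ∃ r, P.eval r ≠ 0 := by
    apply Polynomial.exists_eval_ne_zero_of_natDegree_lt_card P hmonic.ne_zero
    rw [Cardinal.mk_fintype]
    exact_mod_cast lt_of_le_of_lt hdeg hq
  simp only [P, eval_mul, eval_add, eval_X, eval_one, eval_pow] at hl
  have hl0 : l ≠ 0 := by
    rintro rfl; simp at hl
  have hl1 : l + 1 ≠ 0 := by
    intro h; rw [h] at hl; simp at hl
  have hl2 : l ^ 2 + l + 1 ≠ 0 := by
    intro h; rw [h] at hl; simp at hl
  refine ⟨l, hl0, hl1, ?_⟩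
  intro h
  apply hl2
  have h2 := two_eq_zero' hF
  have : ((l + 1)⁻¹ - l⁻¹ - 1) * (l * (l + 1)) = -(l ^ 2 + l + 1) := by
    field_simp
    ring
  rw [h, zero_mul] at this
  linear_combination this

theorem exists_good_two (hm : 2 ≤ m) (hF : Fintype.card F = 2 ^ (2 * m + 1)) :
    ∃ a : F, a ≠ 0 ∧ a + 1 ≠ 0 ∧ rho m (a + 1) - rho m a - 1 ≠ 0 := by
  have h2 := two_eq_zero' hF
  have h1lt : 1 < 2 ^ (m + 2) := Nat.one_lt_two_pow (by omega)
  have hq : 2 ^ (m + 2) < Fintype.card F := by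
    rw [hF]
    exact Nat.pow_lt_pow_right (by norm_num) (by omega)
  obtain ⟨a, ha⟩ : ∃ r, (X ^ (2 ^ (m + 2)) - X : F[X]).eval r ≠ 0 := by
    apply Polynomial.exists_eval_ne_zero_of_natDegree_lt_card _
      (FiniteField.X_pow_card_sub_X_ne_zero F h1lt)
    rw [Cardinal.mk_fintype, FiniteField.X_pow_card_sub_X_natDegree_eq F h1lt]
    exact_mod_cast hq
  simp only [eval_sub, eval_pow, eval_X] at ha
  have hpow : a ^ (2 ^ (m + 2)) = (sg m a) ^ 2 := by
    rw [sg, ← pow_mul, ← pow_succ]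
  rw [hpow] at ha
  have ha0 : a ≠ 0 := by
    rintro rfl
    apply ha
    simp [sg_zero]
  have ha1 : a + 1 ≠ 0 := by
    intro h
    have : a = 1 := by linear_combination h - h2
    apply ha
    rw [this, sg_one]
    ring
  have hs0 : sg m a ≠ 0 := fun h => ha0 (sg_eq_zero.1 h)
  have hs1 : sg m a + 1 ≠ 0 := by
    intro h
    apply ha1
    have : sg m (a + 1) = 0 := by rw [sg_add hF, sg_one, h]
    exact sg_eq_zero.1 this
  refine ⟨a, ha0, ha1, ?_⟩
  intro h
  apply ha
  rw [rho, rho, sg_add hF, sg_one] at h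
  have : ((a + 1) / (sg m a + 1) - a / sg m a - 1) * (sg m a * (sg m a + 1)) =
      -(sg m a ^ 2 - a) - a * 2 := by
    field_simp
    ring
  rw [h, zero_mul, h2, mul_zero, sub_zero] at this
  linear_combination this

end field

section relations
variable {F : Type*} [Field F] [Fintype F] {m : ℕ}

theorem tauG_split (hF : Fintype.card F = 2 ^ (2 * m + 1)) (a b : F) :
    tauG hF a b = tauG hF a 0 * tauG hF 0 b := by
  rw [tauG_mul]
  congr 1 <;> ring

theorem tauG_zero_add (hF : Fintype.card F = 2 ^ (2 * m + 1)) (b b' : F) :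
    tauG hF 0 (b + b') = tauG hF 0 b * tauG hF 0 b' := by
  rw [tauG_mul]
  congr 1 <;> ring

theorem tauG_add_zero (hF : Fintype.card F = 2 ^ (2 * m + 1)) (a a' : F) :
    tauG hF (a + a') 0 = tauG hF a 0 * tauG hF a' (sg m a * a') := by
  have h2 := two_eq_zero' hF
  rw [tauG_mul]
  congr 1
  linear_combination -(sg m a * a') * h2

theorem tauG_add_zero' (hF : Fintype.card F = 2 ^ (2 * m + 1)) (a a' : F) :
    tauG hF (a + a') 0 = tauG hF a (sg m a * a') * tauG hF a' 0 := by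
  have h2 := two_eq_zero' hF
  rw [tauG_mul]
  congr 1
  linear_combination -(sg m a * a') * h2

/-- conjugating a central translation by a translation -/
theorem tauG_conj_central (hF : Fintype.card F = 2 ^ (2 * m + 1)) (c d b : F) :
    tauG hF c d * tauG hF 0 b * (tauG hF c d)⁻¹ = tauG hF 0 b := by
  rw [tauG_conj_tauG, sg_zero]
  congr 1
  ring

/-- conjugating a translation by a central translation -/
theorem central_conj_tauG (hF : Fintype.card F = 2 ^ (2 * m + 1)) (d a b : F) :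
    tauG hF 0 d * tauG hF a b * (tauG hF 0 d)⁻¹ = tauG hF a b := by
  rw [tauG_conj_tauG, sg_zero]
  congr 1
  ring

theorem tauG_comm_central (hF : Fintype.card F = 2 ^ (2 * m + 1)) (a b c : F) :
    tauG hF a b * tauG hF 0 c = tauG hF 0 c * tauG hF a b := by
  have := tauG_conj_central hF a b c
  calc tauG hF a b * tauG hF 0 c
      = tauG hF a b * tauG hF 0 c * (tauG hF a b)⁻¹ * tauG hF a b := by group
    _ = tauG hF 0 c * tauG hF a b := by rw [this]

/-- the commutator of two translations -/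
theorem commutator_tauG (hF : Fintype.card F = 2 ^ (2 * m + 1)) (a b a' b' : F) :
    ⁅tauG hF a b, tauG hF a' b'⁆ = tauG hF 0 (sg m a * a' + sg m a' * a) := by
  have h2 := two_eq_zero' hF
  rw [commutatorElement_def, tauG_conj_tauG, tauG_inv, tauG_mul]
  congr 1
  · linear_combination a' * h2
  · linear_combination (b' + sg m a' * a') * h2

theorem hG_conj_central (hF : Fintype.card F = 2 ^ (2 * m + 1)) (k : Fˣ) (b : F) :
    hG hF k * tauG hF 0 b * (hG hF k)⁻¹ = tauG hF 0 (sg m (k : F) * k * b) := by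
  rw [hG_conj_tauG, mul_zero]

theorem hG_conj_tauG_zero (hF : Fintype.card F = 2 ^ (2 * m + 1)) (k : Fˣ) (a : F) :
    hG hF k * tauG hF a 0 * (hG hF k)⁻¹ = tauG hF ((k : F) * a) 0 := by
  rw [hG_conj_tauG, mul_zero]

theorem hG_conj_hG (hF : Fintype.card F = 2 ^ (2 * m + 1)) (k k' : Fˣ) :
    hG hF k * hG (m := m) hF k' * (hG hF k)⁻¹ = hG hF k' := by
  rw [← hG_mul, hG_inv, ← hG_mul, mul_comm k k', mul_inv_cancel_right]

theorem commutator_hG_central (hF : Fintype.card F = 2 ^ (2 * m + 1)) (k : Fˣ) (b : F) :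
    ⁅hG hF k, tauG hF 0 b⁆ = tauG hF 0 ((sg m (k : F) * k + 1) * b) := by
  have h2 := two_eq_zero' hF
  rw [commutatorElement_def, hG_conj_central, tauG_inv, tauG_mul]
  congr 1
  · ring
  · ring

end relations

section steps
variable {F : Type*} [Field F] [Fintype F] {m : ℕ}
variable {Γ : Type*} [Group Γ] {σ : Γ →* ↥(Cfsg.Sz F m)}
  (hsurj : Function.Surjective σ) (hcen : σ.ker ≤ Subgroup.center Γ)

theorem conj_eq_of_mem_center {z : Γ} (hz : z ∈ Subgroup.center Γ) (t : Γ) :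
    t * z * t⁻¹ = z := by
  rw [Subgroup.mem_center_iff] at hz
  rw [hz t, mul_inv_cancel_right]

include hcen in
/-- lifts of central translations commute -/
theorem stepA (hm : 1 ≤ m) (hF : Fintype.card F = 2 ^ (2 * m + 1)) (b b' : F) :
    cm σ hsurj (tauG hF 0 b) (tauG hF 0 b') = 1 := by
  set B : F → F → Γ := fun u v => cm σ hsurj (tauG hF 0 u) (tauG hF 0 v) with hB
  have hcentral : ∀ u v, B u v ∈ Subgroup.center Γ := fun u v =>
    cm_mem_center hsurj hcen (tauG_comm_central hF 0 u v)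
  have hl : ∀ u u' v, B (u + u') v = B u v * B u' v := by
    intro u u' v
    show cm σ hsurj (tauG hF 0 (u + u')) _ = _
    rw [tauG_zero_add, cm_mul_left hsurj hcen, tauG_conj_central, tauG_conj_central]
    exact (Subgroup.mem_center_iff.1 (hcentral u v)) _
  have hr : ∀ u v v', B u (v + v') = B u v * B u v' := by
    intro u v v'
    show cm σ hsurj _ (tauG hF 0 (v + v')) = _
    rw [tauG_zero_add, cm_mul_right hsurj hcen, tauG_conj_central, tauG_conj_central]
  have hinv : ∀ (k : Fˣ) (u v : F),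
      B (sg m (k : F) * k * u) (sg m (k : F) * k * v) = B u v := by
    intro k u v
    have h1 := conj_cm hsurj hcen (Function.surjInv hsurj (hG hF k)) (hG hF k)
      (tauG hF 0 u) (tauG hF 0 v) (Function.surjInv_eq hsurj _)
    rw [hG_conj_central, hG_conj_central] at h1
    show cm σ hsurj _ _ = cm σ hsurj _ _
    rw [← h1]
    exact conj_eq_of_mem_center (hcentral u v) _
  have hmove : ∀ l : F, l ≠ 0 → ∀ u v, B u (l * v) = B (l⁻¹ * u) v := by
    intro l hl0 u v
    have h1 := hinv (Units.mk0 (rho m l) (rho_ne_zero hl0)) u (l * v)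
    rw [Units.val_mk0, sg_rho_mul hF hl0, inv_mul_cancel_left₀ hl0] at h1
    exact h1.symm
  obtain ⟨a, ha0, ha1, hne⟩ := exists_good_one hm hF
  exact biadd_trivial B hl hr a a⁻¹ (a + 1)⁻¹ (hmove a ha0) (hmove (a + 1) ha1) hne b b'

include hcen in
theorem cm_red_central (hm : 1 ≤ m) (hF : Fintype.card F = 2 ^ (2 * m + 1)) (a b v : F) :
    cm σ hsurj (tauG hF a b) (tauG hF 0 v) = cm σ hsurj (tauG hF a 0) (tauG hF 0 v) := by
  rw [tauG_split hF a b, cm_mul_left hsurj hcen, tauG_conj_central, tauG_conj_central,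
    stepA hsurj hcen hm hF, one_mul]

include hcen in
theorem cmB_mem_center (hF : Fintype.card F = 2 ^ (2 * m + 1)) (u v : F) :
    cm σ hsurj (tauG hF u 0) (tauG hF 0 v) ∈ Subgroup.center Γ :=
  cm_mem_center hsurj hcen (tauG_comm_central hF u 0 v)

include hcen in
theorem cmB_add_left (hm : 1 ≤ m) (hF : Fintype.card F = 2 ^ (2 * m + 1)) (u u' v : F) :
    cm σ hsurj (tauG hF (u + u') 0) (tauG hF 0 v) =
      cm σ hsurj (tauG hF u 0) (tauG hF 0 v) * cm σ hsurj (tauG hF u' 0) (tauG hF 0 v) := by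
  rw [tauG_add_zero, cm_mul_left hsurj hcen, tauG_conj_tauG, tauG_conj_central,
    cm_red_central hsurj hcen hm hF]
  exact (Subgroup.mem_center_iff.1 (cmB_mem_center hsurj hcen hF u v)) _

include hcen in
theorem cmB_add_right (hF : Fintype.card F = 2 ^ (2 * m + 1)) (u v v' : F) :
    cm σ hsurj (tauG hF u 0) (tauG hF 0 (v + v')) =
      cm σ hsurj (tauG hF u 0) (tauG hF 0 v) * cm σ hsurj (tauG hF u 0) (tauG hF 0 v') := by
  rw [tauG_zero_add, cm_mul_right hsurj hcen, central_conj_tauG, tauG_conj_central]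

include hcen in
theorem cmB_inv (hF : Fintype.card F = 2 ^ (2 * m + 1)) (k : Fˣ) (u v : F) :
    cm σ hsurj (tauG hF ((k : F) * u) 0) (tauG hF 0 (sg m (k : F) * k * v)) =
      cm σ hsurj (tauG hF u 0) (tauG hF 0 v) := by
  have h1 := conj_cm hsurj hcen (Function.surjInv hsurj (hG hF k)) (hG hF k)
    (tauG hF u 0) (tauG hF 0 v) (Function.surjInv_eq hsurj _)
  rw [hG_conj_central, hG_conj_tauG_zero] at h1
  rw [← h1]
  exact conj_eq_of_mem_center (cmB_mem_center hsurj hcen hF u v) _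

include hcen in
/-- lifts of central translations commute with lifts of translations -/
theorem stepB (hm : 2 ≤ m) (hF : Fintype.card F = 2 ^ (2 * m + 1)) (a b b' : F) :
    cm σ hsurj (tauG hF a b) (tauG hF 0 b') = 1 := by
  have hm1 : 1 ≤ m := by omega
  set B : F → F → Γ := fun u v => cm σ hsurj (tauG hF u 0) (tauG hF 0 v) with hB
  have hl : ∀ u u' v, B (u + u') v = B u v * B u' v := cmB_add_left hsurj hcen hm1 hF
  have hr : ∀ u v v', B u (v + v') = B u v * B u v' := cmB_add_right hsurj hcen hF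
  have hinv : ∀ (k : Fˣ) (u v : F),
      B ((k : F) * u) (sg m (k : F) * k * v) = B u v := cmB_inv hsurj hcen hF
  have hmove : ∀ l : F, l ≠ 0 → ∀ u v, B u (l * v) = B (rho m l * u) v := by
    intro l hl0 u v
    have h1 := hinv (Units.mk0 (rho m l) (rho_ne_zero hl0)) u (l * v)
    rw [Units.val_mk0, sg_rho_mul hF hl0, inv_mul_cancel_left₀ hl0] at h1
    exact h1.symm
  obtain ⟨c, hc0, hc1, hne⟩ := exists_good_two hm hF
  have := biadd_trivial B hl hr c (rho m c) (rho m (c + 1)) (hmove c hc0) (hmove (c + 1) hc1)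
    hne a b'
  rw [cm_red_central hsurj hcen hm1 hF]
  exact this

include hsurj hcen in
theorem lift_comm (hm : 1 ≤ m) (hF : Fintype.card F = 2 ^ (2 * m + 1))
    (hB : ∀ a b b' : F, cm σ hsurj (tauG hF a b) (tauG hF 0 b') = 1) {p q : Γ} {a b b' : F}
    (hp : σ p = tauG hF a b) (hq : σ q = tauG hF 0 b') : p * q = q * p := by
  have h := cm_eq hsurj hcen hp hq
  rw [hB] at h
  exact commutatorElement_eq_one_iff_mul_comm.1 h

include hsurj hcen in
theorem lift_conj (hm : 1 ≤ m) (hF : Fintype.card F = 2 ^ (2 * m + 1))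
    (hB : ∀ a b b' : F, cm σ hsurj (tauG hF a b) (tauG hF 0 b') = 1) {p q : Γ} {a b b' : F}
    (hp : σ p = tauG hF a b) (hq : σ q = tauG hF 0 b') : p * q * p⁻¹ = q := by
  rw [lift_comm hsurj hcen hm hF hB hp hq, mul_inv_cancel_right]

/-- the canonical lift of central translations -/
noncomputable def ell (hF : Fintype.card F = 2 ^ (2 * m + 1)) (k₀ : Fˣ) (b : F) : Γ :=
  cm σ hsurj (hG hF k₀) (tauG hF 0 ((sg m (k₀ : F) * k₀ + 1)⁻¹ * b))

theorem map_ell (hF : Fintype.card F = 2 ^ (2 * m + 1)) (k₀ : Fˣ)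
    (hk₀ : sg m (k₀ : F) * k₀ + 1 ≠ 0) (b : F) :
    σ (ell hsurj hF k₀ b) = tauG hF 0 b := by
  rw [ell, map_cm, commutator_hG_central, mul_inv_cancel_left₀ hk₀]

include hcen in
theorem ell_add (hm : 1 ≤ m) (hF : Fintype.card F = 2 ^ (2 * m + 1))
    (hB : ∀ a b b' : F, cm σ hsurj (tauG hF a b) (tauG hF 0 b') = 1) (k₀ : Fˣ) (b b' : F) :
    ell hsurj hF k₀ (b + b') = ell hsurj hF k₀ b * ell hsurj hF k₀ b' := by
  rw [ell, mul_add, tauG_zero_add,
    cm_mul_right' hsurj hcen (Function.surjInv hsurj (tauG hF 0 ((sg m (k₀ : F) * k₀ + 1)⁻¹ * b)))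
      _ _ _ (Function.surjInv_eq hsurj _)]
  rw [lift_conj hsurj hcen hm hF hB (Function.surjInv_eq hsurj _)
    (by rw [map_cm, commutator_hG_central])]
  rfl

include hcen in
theorem ell_conj (hF : Fintype.card F = 2 ^ (2 * m + 1)) (k₀ k : Fˣ) (b : F) (t : Γ)
    (ht : σ t = hG hF k) :
    t * ell hsurj hF k₀ b * t⁻¹ = ell hsurj hF k₀ (sg m (k : F) * k * b) := by
  rw [ell, conj_cm hsurj hcen t _ _ _ ht, hG_conj_hG, hG_conj_central, ell]
  congr 2
  ring

include hcen in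
theorem cm_red (hm : 1 ≤ m) (hF : Fintype.card F = 2 ^ (2 * m + 1))
    (hB : ∀ a b b' : F, cm σ hsurj (tauG hF a b) (tauG hF 0 b') = 1) (a b a' b' : F) :
    cm σ hsurj (tauG hF a b) (tauG hF a' b') = cm σ hsurj (tauG hF a 0) (tauG hF a' 0) := by
  have h1 : cm σ hsurj (tauG hF a b) (tauG hF a' b') =
      cm σ hsurj (tauG hF a 0) (tauG hF a' b') := by
    rw [tauG_split hF a b, cm_mul_left' hsurj hcen (Function.surjInv hsurj (tauG hF a 0))
      _ _ _ (Function.surjInv_eq hsurj _), cm_symm hsurj (tauG hF 0 b), hB]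
    simp
  have h2 : cm σ hsurj (tauG hF a 0) (tauG hF a' b') =
      cm σ hsurj (tauG hF a 0) (tauG hF a' 0) := by
    rw [tauG_split hF a' b', cm_mul_right' hsurj hcen (Function.surjInv hsurj (tauG hF a' 0))
      _ _ _ (Function.surjInv_eq hsurj _), hB]
    simp
  rw [h1, h2]

/-- the commutator form on `F` -/
def betaF (m : ℕ) (u v : F) : F := sg m u * v + sg m v * u

theorem map_cm_tauG (hF : Fintype.card F = 2 ^ (2 * m + 1)) (u v : F) :
    σ (cm σ hsurj (tauG hF u 0) (tauG hF v 0)) = tauG hF 0 (betaF m u v) := by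
  rw [map_cm, commutator_tauG, betaF]

include hcen in
theorem cm_add_left (hm : 1 ≤ m) (hF : Fintype.card F = 2 ^ (2 * m + 1))
    (hB : ∀ a b b' : F, cm σ hsurj (tauG hF a b) (tauG hF 0 b') = 1) (u u' v : F) :
    cm σ hsurj (tauG hF (u + u') 0) (tauG hF v 0) =
      cm σ hsurj (tauG hF u' 0) (tauG hF v 0) * cm σ hsurj (tauG hF u 0) (tauG hF v 0) := by
  rw [tauG_add_zero, cm_mul_left' hsurj hcen (Function.surjInv hsurj (tauG hF u 0))
      _ _ _ (Function.surjInv_eq hsurj _), cm_red hsurj hcen hm hF hB u' _ v 0,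
    lift_conj hsurj hcen hm hF hB (Function.surjInv_eq hsurj _) (map_cm_tauG hsurj hF u' v)]

include hcen in
theorem cm_add_right (hm : 1 ≤ m) (hF : Fintype.card F = 2 ^ (2 * m + 1))
    (hB : ∀ a b b' : F, cm σ hsurj (tauG hF a b) (tauG hF 0 b') = 1) (u v v' : F) :
    cm σ hsurj (tauG hF u 0) (tauG hF (v + v') 0) =
      cm σ hsurj (tauG hF u 0) (tauG hF v 0) * cm σ hsurj (tauG hF u 0) (tauG hF v' 0) := by
  rw [tauG_add_zero, cm_mul_right' hsurj hcen (Function.surjInv hsurj (tauG hF v 0))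
      _ _ _ (Function.surjInv_eq hsurj _), cm_red hsurj hcen hm hF hB u 0 v' _,
    lift_conj hsurj hcen hm hF hB (Function.surjInv_eq hsurj _) (map_cm_tauG hsurj hF u v')]

theorem four_comm {A A' E E' : Γ} (h1 : Commute E A') (h2 : Commute A A') (h3 : Commute E E') :
    A' * A * (E * E')⁻¹ = (A * E⁻¹) * (A' * E'⁻¹) := by
  have e1 : E⁻¹ * A' = A' * E⁻¹ := h1.inv_left.eq
  have e2 : A * A' = A' * A := h2.eq
  have e3 : E * E' = E' * E := h3.eq
  calc A' * A * (E * E')⁻¹ = A * A' * (E' * E)⁻¹ := by rw [e2, e3]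
    _ = A * (A' * E⁻¹) * E'⁻¹ := by rw [mul_inv_rev]; group
    _ = A * (E⁻¹ * A') * E'⁻¹ := by rw [e1]
    _ = (A * E⁻¹) * (A' * E'⁻¹) := by group

include hcen in
/-- commutators of lifts of translations are canonical lifts -/
theorem stepD (hm : 1 ≤ m) (hF : Fintype.card F = 2 ^ (2 * m + 1))
    (hB : ∀ a b b' : F, cm σ hsurj (tauG hF a b) (tauG hF 0 b') = 1) (k₀ : Fˣ)
    (hk₀ : sg m (k₀ : F) * k₀ + 1 ≠ 0) (u v : F) :
    cm σ hsurj (tauG hF u 0) (tauG hF v 0) = ell hsurj hF k₀ (betaF m u v) := by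
  have hm1 : 1 ≤ m := by omega
  have h2 := two_eq_zero' hF
  set C : F → F → Γ := fun u v => cm σ hsurj (tauG hF u 0) (tauG hF v 0) with hC
  set E : F → F → Γ := fun u v => ell hsurj hF k₀ (betaF m u v) with hE
  set Z : F → F → Γ := fun u v => C u v * (E u v)⁻¹ with hZ
  have hσC : ∀ u v, σ (C u v) = tauG hF 0 (betaF m u v) := fun u v =>
    map_cm_tauG hsurj hF u v
  have hσE : ∀ u v, σ (E u v) = tauG hF 0 (betaF m u v) := fun u v =>
    map_ell hsurj hF k₀ hk₀ _
  have hcomm : ∀ {p q : Γ} {b b' : F}, σ p = tauG hF 0 b → σ q = tauG hF 0 b' → Commute p q :=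
    fun hp hq => lift_comm hsurj hcen hm hF hB hp hq
  have hcentral : ∀ u v, Z u v ∈ Subgroup.center Γ := by
    intro u v
    apply hcen
    rw [MonoidHom.mem_ker]
    show σ (C u v * (E u v)⁻¹) = 1
    rw [map_mul, map_inv, hσC, hσE, mul_inv_cancel]
  have hbl : ∀ u u' v : F, betaF m (u + u') v = betaF m u v + betaF m u' v := by
    intro u u' v
    simp only [betaF, sg_add hF]
    ring
  have hbr : ∀ u v v' : F, betaF m u (v + v') = betaF m u v + betaF m u v' := by
    intro u v v'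
    simp only [betaF, sg_add hF]
    ring
  have hl : ∀ u u' v, Z (u + u') v = Z u v * Z u' v := by
    intro u u' v
    show cm σ hsurj (tauG hF (u + u') 0) (tauG hF v 0) * (ell hsurj hF k₀ (betaF m (u + u') v))⁻¹
      = (C u v * (E u v)⁻¹) * (C u' v * (E u' v)⁻¹)
    rw [cm_add_left hsurj hcen hm hF hB, hbl, ell_add hsurj hcen hm hF hB]
    exact four_comm (hcomm (hσE u v) (hσC u' v)) (hcomm (hσC u v) (hσC u' v))
      (hcomm (hσE u v) (hσE u' v))
  have hr : ∀ u v v', Z u (v + v') = Z u v * Z u v' := by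
    intro u v v'
    show cm σ hsurj (tauG hF u 0) (tauG hF (v + v') 0) * (ell hsurj hF k₀ (betaF m u (v + v')))⁻¹
      = (C u v * (E u v)⁻¹) * (C u v' * (E u v')⁻¹)
    rw [cm_add_right hsurj hcen hm hF hB, hbr, ell_add hsurj hcen hm hF hB,
      (hcomm (hσC u v) (hσC u v')).eq]
    exact four_comm (hcomm (hσE u v) (hσC u v')) (hcomm (hσC u v) (hσC u v'))
      (hcomm (hσE u v) (hσE u v'))
  have hinv : ∀ (k : Fˣ) (u v : F), Z ((k : F) * u) ((k : F) * v) = Z u v := by
    intro k u v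
    set t := Function.surjInv hsurj (hG hF k) with ht
    have hσt : σ t = hG hF k := Function.surjInv_eq hsurj _
    have h1 := conj_cm hsurj hcen t (hG hF k) (tauG hF u 0) (tauG hF v 0) hσt
    rw [hG_conj_tauG_zero, hG_conj_tauG_zero] at h1
    have h3 := ell_conj hsurj hcen hF k₀ k (betaF m u v) t hσt
    have hb : sg m (k : F) * k * betaF m u v = betaF m ((k : F) * u) ((k : F) * v) := by
      simp only [betaF, sg_mul]
      ring
    rw [hb] at h3
    have h4 : t * Z u v * t⁻¹ = Z u v := conj_eq_of_mem_center (hcentral u v) t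
    show cm σ hsurj _ _ * (ell hsurj hF k₀ _)⁻¹ = Z u v
    rw [← h1, ← h3, ← h4]
    show _ = t * (cm σ hsurj (tauG hF u 0) (tauG hF v 0) *
      (ell hsurj hF k₀ (betaF m u v))⁻¹) * t⁻¹
    group
  have hmove : ∀ l : F, l ≠ 0 → ∀ u v, Z u (l * v) = Z (l⁻¹ * u) v := by
    intro l hl0 u v
    have h1 := hinv (Units.mk0 l⁻¹ (inv_ne_zero hl0)) u (l * v)
    rw [Units.val_mk0, inv_mul_cancel_left₀ hl0] at h1
    exact h1.symm
  obtain ⟨a, ha0, ha1, hne⟩ := exists_good_one hm1 hF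
  have := biadd_trivial Z hl hr a a⁻¹ (a + 1)⁻¹ (hmove a ha0) (hmove (a + 1) ha1) hne u v
  exact mul_inv_eq_one.1 this

end steps

section main
universe u
variable {F : Type u} [Field F] [Fintype F] {m : ℕ}

/-- the commutator subgroup of the preimage of the Sylow `2`-subgroup meets the kernel of a
central extension trivially -/
theorem commutator_comap_Uz {Γ : Type*} [Group Γ] {σ : Γ →* ↥(Cfsg.Sz F m)}
    (hsurj : Function.Surjective σ) (hcen : σ.ker ≤ Subgroup.center Γ) (hm : 1 ≤ m)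
    (hF : Fintype.card F = 2 ^ (2 * m + 1))
    (hB : ∀ a b b' : F, cm σ hsurj (tauG hF a b) (tauG hF 0 b') = 1) (w : Γ)
    (hw : w ∈ ⁅(Uz hF).comap σ, (Uz hF).comap σ⁆) (hσw : σ w = 1) : w = 1 := by
  obtain ⟨a, ha0, ha1, -⟩ := exists_good_one hm hF
  set k₀ : Fˣ := Units.mk0 (rho m a) (rho_ne_zero ha0) with hk₀def
  have hk₀ : sg m (k₀ : F) * k₀ + 1 ≠ 0 := by
    rw [hk₀def, Units.val_mk0, sg_rho_mul hF ha0]
    intro h
    apply ha1
    have : (a⁻¹ + 1) * a = 1 + a := by field_simp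
    rw [h, zero_mul] at this
    rw [add_comm]
    exact this.symm
  let L : Multiplicative F →* Γ :=
    MonoidHom.mk' (fun b => ell hsurj hF k₀ (Multiplicative.toAdd b))
      (fun b b' => ell_add hsurj hcen hm hF hB k₀ _ _)
  have hle : ⁅(Uz hF).comap σ, (Uz hF).comap σ⁆ ≤ L.range := by
    rw [Subgroup.commutator_le]
    intro p hp q hq
    obtain ⟨a, b, hp'⟩ := (mem_Uz hF _).1 hp
    obtain ⟨a', b', hq'⟩ := (mem_Uz hF _).1 hq
    rw [cm_eq hsurj hcen hp' hq', cm_red hsurj hcen hm hF hB, stepD hsurj hcen hm hF hB k₀ hk₀]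
    exact ⟨Multiplicative.ofAdd _, rfl⟩
  obtain ⟨b, rfl⟩ := hle hw
  have h1 : σ (ell hsurj hF k₀ (Multiplicative.toAdd b)) = 1 := hσw
  rw [map_ell hsurj hF k₀ hk₀, ← tauG_zero hF] at h1
  have hb := (tauG_injective hF h1).2
  have hb1 : b = 1 := by
    rw [← ofAdd_toAdd b, hb]
    rfl
  rw [hb1, map_one]

/-- the kernel of a finite stem extension of `Sz(q)`, `q ≥ 32`, has no involution -/
theorem sz_no_involution_in_ker {Γ : Type*} [Group Γ] [Finite Γ] (σ : Γ →* ↥(Cfsg.Sz F m))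
    (hσ : Cfsg.IsStemExtension σ) (hm : 1 ≤ m) (hF : Fintype.card F = 2 ^ (2 * m + 1))
    (hB : ∀ a b b' : F, cm σ hσ.1 (tauG hF a b) (tauG hF 0 b') = 1)
    (z : Γ) (hz : z ∈ σ.ker) (hz2 : orderOf z = 2) : False := by
  obtain ⟨hsurj, hcen, hcomm⟩ := hσ
  have hm1 : 1 ≤ m := hm
  have : Fact (Nat.Prime 2) := ⟨Nat.prime_two⟩
  have hzP : z ∈ (Uz hF).comap σ := by
    rw [Subgroup.mem_comap, MonoidHom.mem_ker.1 hz]
    exact one_mem _
  have hidx : ((Uz hF).comap σ).index = (Uz hF).index :=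
    Subgroup.index_comap_of_surjective _ hsurj
  have hodd : ¬ 2 ∣ (Uz (m := m) hF).index := by
    have := (Usyl hm1 hF).not_dvd_index
    rwa [coe_Usyl] at this
  have hcop : ((Uz hF).comap σ).index.Coprime (orderOf z) := by
    rw [hidx, hz2, Nat.coprime_comm, Nat.Prime.coprime_iff_not_dvd Nat.prime_two]
    exact hodd
  have h1 := mem_commutator_of_central_coprime' _ z (hcen hz) (hcomm hz) hzP hcop
  have h2 := commutator_comap_Uz hsurj hcen hm hF hB z h1 (MonoidHom.mem_ker.1 hz)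
  rw [h2, orderOf_one] at hz2
  norm_num at hz2

/-- a finite stem extension of a Suzuki group in which lifts of central translations commute
with lifts of translations is trivial -/
theorem ker_eq_bot_of_lifts_commute {Γ : Type u} [Group Γ] [Finite Γ] (σ : Γ →* ↥(Cfsg.Sz F m))
    (hσ : Cfsg.IsStemExtension σ) (hm1 : 1 ≤ m) (hF : Fintype.card F = 2 ^ (2 * m + 1))
    (hB : ∀ a b b' : F, cm σ hσ.1 (tauG hF a b) (tauG hF 0 b') = 1) : σ.ker = ⊥ := by
  by_contra hne
  obtain ⟨z, hz, hz1⟩ : ∃ z ∈ σ.ker, z ≠ 1 := by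
    by_contra hcon
    push Not at hcon
    apply hne
    rw [eq_bot_iff]
    intro z hz
    rw [Subgroup.mem_bot]
    exact hcon z hz
  have hord : orderOf z ≠ 1 := by
    intro h
    exact hz1 (orderOf_eq_one_iff.mp h)
  have hord0 : orderOf z ≠ 0 := (orderOf_pos z).ne'
  set r := (orderOf z).minFac with hr
  have hrp : r.Prime := Nat.minFac_prime hord
  have : Fact r.Prime := ⟨hrp⟩
  have hrd : r ∣ orderOf z := Nat.minFac_dvd _
  set z' := z ^ (orderOf z / r) with hz'
  have hz'o : orderOf z' = r := orderOf_pow_orderOf_div hord0 hrd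
  have hz'k : z' ∈ σ.ker := Subgroup.pow_mem _ hz _
  by_cases hr2 : r = 2
  · exact sz_no_involution_in_ker σ hσ hm1 hF hB z' hz'k (hz'o.trans hr2)
  · let R : Sylow r ↥(Cfsg.Sz F m) := default
    have : IsCyclic (R : Subgroup ↥(Cfsg.Sz F m)) := sz_sylow_cyclic hm1 hF hr2 R
    exact no_order_of_sylow_stemTriv σ hσ r R (stemTriv_of_isCyclic _) z' hz'k hz'o

/-- `Sz(q)`, `q ≥ 32`, has only trivial finite stem extensions -/
theorem sz_stemTriv (hm : 2 ≤ m) (hF : Fintype.card F = 2 ^ (2 * m + 1)) :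
    StemTriv ↥(Cfsg.Sz F m) := by
  intro Γ _ _ σ hσ
  exact ker_eq_bot_of_lifts_commute σ hσ (by omega) hF (stepB hσ.1 hσ.2.1 hm hF)

/-- the Schur multiplier of `Sz(q)`, `q ≥ 32`, is trivial -/
theorem lieSz_multiplier (hm : 2 ≤ m) (hF : Fintype.card F = 2 ^ (2 * m + 1)) :
    Cfsg.HasCyclicSchurMultiplier ↥(Cfsg.Lie.Sz F (2 ^ (m + 1))) 1 :=
  hasCyclicSchurMultiplier_one_of_stemTriv
    (stemTriv_of_mulEquiv (lieEquiv (by omega : 1 ≤ m) hF).symm (sz_stemTriv hm hF))

end main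

end Cfsg.Agent.Lib.Helper09
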