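import Cfsg.Agent.Lib.Helper09.SuzukiSylow
import Cfsg.Agent.Lib.Helper09.SuzukiForm

set_option autoImplicit false

namespace Cfsg.Agent.Lib.Helper09

open Matrix
open scoped Pointwise

section MatrixRelations

variable {F : Type*} [Field F]

theorem wM_mul_wM : (wM : Matrix (Fin 4) (Fin 4) F) * wM = 1 := by
  ext i j
  fin_cases i <;> fin_cases j <;> simp [wM, Matrix.mul_apply, Fin.sum_univ_four]

theorem wS_mul_wS : wS F * wS F = 1 := by
  apply Subtype.ext
  exact wM_mul_wM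

theorem wS_inv : (wS F)⁻¹ = wS F := inv_eq_of_mul_eq_one_left wS_mul_wS

theorem wM_mul_hM (m : ℕ) (k : Fˣ) : wM * hM m k = hM m k⁻¹ * wM := by
  have hk : (k : F) ≠ 0 := k.ne_zero
  ext i j
  fin_cases i <;> fin_cases j <;>
    simp [wM, hM, Matrix.mul_apply, Matrix.diagonal_apply]

theorem wS_mul_hS (m : ℕ) (k : Fˣ) : wS F * hS m k = hS m k⁻¹ * wS F := by
  apply Subtype.ext
  exact wM_mul_hM m k

variable [Fintype F] {m : ℕ}

theorem hM_mul_tauM (hF : Fintype.card F = 2 ^ (2 * m + 1)) (k : Fˣ) (a b : F) :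
    hM m k * tauM m a b = tauM m ((k : F) * a) (sg m (k : F) * k * b) * hM m k := by
  have hk : (k : F) ≠ 0 := k.ne_zero
  have hσ : sg m (k : F) = (k : F) ^ (2 ^ m) * (k : F) ^ (2 ^ m) := by
    rw [sg, ← pow_add]; congr 1; rw [pow_succ]; ring
  have hsc := ff_scale hF (k : F) a b
  ext i j
  fin_cases i <;> fin_cases j <;>
    simp [hM, tauM, Matrix.diagonal_mul, Matrix.mul_diagonal, sg_mul, hsc] <;>
    (try rw [hσ]) <;> field_simp <;> (try ring)

theorem hS_mul_tauS (hF : Fintype.card F = 2 ^ (2 * m + 1)) (k : Fˣ) (a b : F) :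
    hS m k * tauS m a b = tauS m ((k : F) * a) (sg m (k : F) * k * b) * hS m k := by
  apply Subtype.ext
  exact hM_mul_tauM hF k a b

end MatrixRelations

section Transitivity

variable {F : Type*} [Field F] [Fintype F] {m : ℕ}

theorem tauS_smul_pAff_zero (hF : Fintype.card F = 2 ^ (2 * m + 1)) (a b : F) :
    tauS m a b • pAff m (0 : F) 0 = pAff m a b := by
  rw [tauS_smul_pAff hF]; simp

theorem sz_exists_to_inf (hF : Fintype.card F = 2 ^ (2 * m + 1))
    {p : Projectivization F (Fin 4 → F)} (hp : p ∈ Cfsg.suzukiOvoid F m) :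
    ∃ g ∈ Cfsg.Sz F m, g • p = pInf F := by
  rcases (mem_ovoid_iff m p).1 hp with rfl | ⟨a, b, rfl⟩
  · exact ⟨1, one_mem _, one_smul _ _⟩
  · refine ⟨(tauS m a b * wS F)⁻¹, inv_mem (mul_mem (tauS_mem hF a b) (wS_mem hF)), ?_⟩
    rw [inv_smul_eq_iff, mul_smul, wS_smul_pInf m, tauS_smul_pAff_zero hF]

/-- two-transitivity of `Sz` on the ovoid, normalised form -/
theorem sz_exists_to_inf_zero (hF : Fintype.card F = 2 ^ (2 * m + 1))
    {p p' : Projectivization F (Fin 4 → F)} (hp : p ∈ Cfsg.suzukiOvoid F m)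
    (hp' : p' ∈ Cfsg.suzukiOvoid F m) (hne : p ≠ p') :
    ∃ g ∈ Cfsg.Sz F m, g • p = pInf F ∧ g • p' = pAff m 0 0 := by
  obtain ⟨g₁, hg₁, h1⟩ := sz_exists_to_inf hF hp
  have hmem := smul_mem_ovoid hg₁ hp'
  rcases (mem_ovoid_iff m _).1 hmem with h | ⟨x, y, h⟩
  · exfalso
    rw [← h1] at h
    exact hne (smul_left_cancel g₁ h).symm
  · refine ⟨(tauS m x y)⁻¹ * g₁, mul_mem (inv_mem (tauS_mem hF x y)) hg₁, ?_, ?_⟩
    · rw [mul_smul, h1, inv_smul_eq_iff, tauS_smul_pInf]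
    · rw [mul_smul, h, inv_smul_eq_iff, tauS_smul_pAff_zero hF]

/-- an element of `Sz` swapping the two base points is `w` times a torus element -/
theorem sz_swap (hm : 1 ≤ m) (hF : Fintype.card F = 2 ^ (2 * m + 1))
    {g : Matrix.SpecialLinearGroup (Fin 4) F} (hg : g ∈ Cfsg.Sz F m)
    (h1 : g • pInf F = pAff m 0 0) (h2 : g • pAff m (0 : F) 0 = pInf F) :
    ∃ k : Fˣ, g = wS F * hS m k := by
  have hg' : (wS F)⁻¹ * g ∈ Cfsg.Sz F m := mul_mem (inv_mem (wS_mem hF)) hg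
  have e1 : ((wS F)⁻¹ * g) • pInf F = pInf F := by
    rw [mul_smul, h1, inv_smul_eq_iff, wS_smul_pInf m]
  have e2 : ((wS F)⁻¹ * g) • pAff m (0 : F) 0 = pAff m 0 0 := by
    rw [mul_smul, h2, inv_smul_eq_iff, wS_smul_pAff_zero m]
  obtain ⟨k, hk⟩ := torus_of_fix hm hF hg' e1 e2
  exact ⟨k, by rw [← hk]; group⟩

end Transitivity

section FieldFacts

variable {F : Type*} [Field F] [Fintype F] {m : ℕ}

/-- if `k^σ * k = 1` then `k = 1` -/
theorem eq_one_of_sg_mul_self (hF : Fintype.card F = 2 ^ (2 * m + 1)) {k : F}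
    (h : sg m k * k = 1) : k = 1 := by
  have hk : k ≠ 0 := by
    rintro rfl
    simp at h
  have h1 : sg m k = k⁻¹ := eq_inv_of_mul_eq_one_left h
  have h2 : sg m (sg m k) = k := by
    rw [h1, sg_inv, h1, inv_inv]
  rw [sg_sg hF] at h2
  have : k * (k - 1) = 0 := by linear_combination h2
  rcases mul_eq_zero.1 this with h0 | h0
  · exact absurd h0 hk
  · linear_combination h0

theorem units_pow_card (hF : Fintype.card F = 2 ^ (2 * m + 1)) (k : Fˣ) :
    k ^ (2 ^ (2 * m + 1)) = k := by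
  apply Units.ext
  rw [Units.val_pow_eq_pow_val, ← hF, FiniteField.pow_card]

/-- every unit is of the form `l⁻¹ * l⁻¹` -/
theorem exists_inv_sq (hF : Fintype.card F = 2 ^ (2 * m + 1)) (k : Fˣ) :
    ∃ l : Fˣ, l⁻¹ * l⁻¹ = k := by
  refine ⟨(k ^ (2 ^ (2 * m)))⁻¹, ?_⟩
  rw [inv_inv, ← pow_add]
  have : 2 ^ (2 * m) + 2 ^ (2 * m) = 2 ^ (2 * m + 1) := by ring
  rw [this, units_pow_card hF]

/-- if `k^(2^m+1) = 1` then `k = 1` -/
theorem eq_one_of_pow_eq_one (hF : Fintype.card F = 2 ^ (2 * m + 1)) {k : Fˣ}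
    (h : k ^ (2 ^ m + 1) = 1) : k = 1 := by
  have hr : k ^ (2 ^ m) = k⁻¹ := by
    rw [pow_succ] at h
    exact eq_inv_of_mul_eq_one_left h
  have h1 : k ^ (2 ^ (2 * m)) = k := by
    have : 2 ^ (2 * m) = 2 ^ m * 2 ^ m := by rw [← pow_add]; congr 1; ring
    rw [this, pow_mul, hr, inv_pow, hr, inv_inv]
  have h2 : k ^ (2 ^ (2 * m + 1)) = k ^ 2 := by
    rw [pow_succ, pow_mul, h1]
  rw [units_pow_card hF] at h2
  have : k * 1 = k * k := by rw [mul_one, ← sq]; exact h2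
  exact (mul_left_cancel this).symm

theorem exists_unit_ne_one (hm : 1 ≤ m) (hF : Fintype.card F = 2 ^ (2 * m + 1)) :
    ∃ k : Fˣ, k ≠ 1 := by
  obtain ⟨z, hz⟩ := exists_sg_ne_self hF hm
  have hz0 : z ≠ 0 := by
    rintro rfl
    exact hz (sg_zero m)
  refine ⟨Units.mk0 z hz0, ?_⟩
  intro h
  have : z = 1 := by
    have := congrArg Units.val h
    simpa using this
  rw [this] at hz
  exact hz (sg_one m)

end FieldFacts

section Generation

open scoped commutatorElement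

variable {F : Type*} [Field F] [Fintype F] {m : ℕ}

/-- translation as an element of the Suzuki group -/
def tauG (hF : Fintype.card F = 2 ^ (2 * m + 1)) (a b : F) : ↥(Cfsg.Sz F m) :=
  ⟨tauS m a b, tauS_mem hF a b⟩

/-- the involution `w` as an element of the Suzuki group -/
def wG (hF : Fintype.card F = 2 ^ (2 * m + 1)) : ↥(Cfsg.Sz F m) := ⟨wS F, wS_mem hF⟩

/-- torus element as an element of the Suzuki group -/
def hG (hF : Fintype.card F = 2 ^ (2 * m + 1)) (k : Fˣ) : ↥(Cfsg.Sz F m) :=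
  ⟨hS m k, hS_mem hF k⟩

theorem bruhatG (hm : 1 ≤ m) (hF : Fintype.card F = 2 ^ (2 * m + 1)) (g : ↥(Cfsg.Sz F m)) :
    (∃ (a b : F) (k : Fˣ), g = tauG hF a b * hG hF k) ∨
    (∃ (a b a' b' : F) (k : Fˣ), g = tauG hF a b * wG hF * tauG hF a' b' * hG hF k) := by
  rcases sz_bruhat hm hF g.2 with ⟨a, b, k, h⟩ | ⟨a, b, a', b', k, h⟩
  · exact Or.inl ⟨a, b, k, Subtype.ext h⟩
  · exact Or.inr ⟨a, b, a', b', k, Subtype.ext h⟩

theorem tauG_mul (hF : Fintype.card F = 2 ^ (2 * m + 1)) (a b a' b' : F) :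
    tauG hF a b * tauG hF a' b' = tauG hF (a + a') (b + b' + sg m a * a') :=
  Subtype.ext (tauS_mul hF a b a' b')

theorem hG_mul_tauG (hF : Fintype.card F = 2 ^ (2 * m + 1)) (k : Fˣ) (a b : F) :
    hG hF k * tauG hF a b = tauG hF ((k : F) * a) (sg m (k : F) * k * b) * hG hF k :=
  Subtype.ext (hS_mul_tauS hF k a b)

theorem hG_mul (hF : Fintype.card F = 2 ^ (2 * m + 1)) (k k' : Fˣ) :
    hG hF (k * k') = hG hF k * hG hF k' := Subtype.ext (hS_mul m k k')

theorem hG_one (hF : Fintype.card F = 2 ^ (2 * m + 1)) : hG hF (1 : Fˣ) = 1 :=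
  Subtype.ext (hS_one m)

theorem hG_inv (hF : Fintype.card F = 2 ^ (2 * m + 1)) (k : Fˣ) :
    (hG hF k)⁻¹ = hG hF k⁻¹ := by
  apply inv_eq_of_mul_eq_one_left
  rw [← hG_mul, inv_mul_cancel, hG_one]

theorem wG_mul_hG (hF : Fintype.card F = 2 ^ (2 * m + 1)) (k : Fˣ) :
    wG hF * hG hF k = hG hF k⁻¹ * wG hF := Subtype.ext (wS_mul_hS m k)

theorem wG_mul_wG (hF : Fintype.card F = 2 ^ (2 * m + 1)) : wG (m := m) hF * wG hF = 1 :=
  Subtype.ext wS_mul_wS

/-- a normal subgroup of `Sz` containing the unipotent subgroup is everything -/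
theorem eq_top_of_tauG_mem (hm : 1 ≤ m) (hF : Fintype.card F = 2 ^ (2 * m + 1))
    (V : Subgroup ↥(Cfsg.Sz F m)) (hV : V.Normal) (hU : ∀ a b : F, tauG hF a b ∈ V) : V = ⊤ := by
  have h2 := two_eq_zero' hF
  -- an element of V swapping the two base points
  have hne : pAff m (0 : F) 0 ≠ pAff m 0 1 := by
    intro h
    exact zero_ne_one (pAff_injective h).2
  obtain ⟨g, hg, hg1, hg2⟩ := sz_exists_to_inf_zero hF (pAff_mem m (0 : F) 0) (pAff_mem m 0 1) hne
  have hy1 : tauS m (0 : F) 1 • pAff m (0 : F) 0 = pAff m 0 1 := tauS_smul_pAff_zero hF 0 1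
  have hy2 : tauS m (0 : F) 1 • pAff m (0 : F) 1 = pAff m 0 0 := by
    rw [tauS_smul_pAff hF]
    congr 1
    · simp
    · rw [sg_zero]; linear_combination h2
  set v : ↥(Cfsg.Sz F m) := ⟨g, hg⟩ * tauG hF 0 1 * (⟨g, hg⟩ : ↥(Cfsg.Sz F m))⁻¹ with hv
  have hvV : v ∈ V := hV.conj_mem _ (hU 0 1) _
  have hv1 : (v : Matrix.SpecialLinearGroup (Fin 4) F) • pInf F = pAff m 0 0 := by
    show (g * tauS m 0 1 * g⁻¹) • pInf F = pAff m 0 0
    rw [mul_smul, mul_smul, inv_smul_eq_iff.2 hg1.symm, hy1, hg2]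
  have hv2 : (v : Matrix.SpecialLinearGroup (Fin 4) F) • pAff m (0 : F) 0 = pInf F := by
    show (g * tauS m 0 1 * g⁻¹) • pAff m (0 : F) 0 = pInf F
    rw [mul_smul, mul_smul, inv_smul_eq_iff.2 hg2.symm, hy2, hg1]
  obtain ⟨k₀, hk₀⟩ := sz_swap hm hF v.2 hv1 hv2
  have hvk : v = wG hF * hG hF k₀ := Subtype.ext hk₀
  -- the torus lies in V
  have hH : ∀ k : Fˣ, hG hF k ∈ V := by
    intro k
    obtain ⟨l, hl⟩ := exists_inv_sq hF k
    have hmem : v⁻¹ * (hG hF l * v * (hG hF l)⁻¹) ∈ V :=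
      mul_mem (inv_mem hvV) (hV.conj_mem _ hvV _)
    have hcalc : v⁻¹ * (hG hF l * v * (hG hF l)⁻¹) = hG hF k := by
      have e1 : hG hF l * wG hF = wG hF * hG hF l⁻¹ := by
        rw [wG_mul_hG, inv_inv]
      rw [hvk, hG_inv]
      calc (wG hF * hG hF k₀)⁻¹ * (hG hF l * (wG hF * hG hF k₀) * hG hF l⁻¹)
          = (hG hF k₀)⁻¹ * (wG hF)⁻¹ * ((hG hF l * wG hF) * hG hF k₀ * hG hF l⁻¹) := by group
        _ = (hG hF k₀)⁻¹ * (wG hF)⁻¹ * ((wG hF * hG hF l⁻¹) * hG hF k₀ * hG hF l⁻¹) := by rw [e1]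
        _ = (hG hF k₀)⁻¹ * (hG hF l⁻¹ * hG hF k₀ * hG hF l⁻¹) := by group
        _ = hG hF k := by
            rw [hG_inv, ← hG_mul, ← hG_mul, ← hG_mul, ← hl]
            congr 1
            rw [mul_comm l⁻¹ k₀, mul_assoc, inv_mul_cancel_left]
    rw [← hcalc]
    exact hmem
  have hw : wG hF ∈ V := by
    have : wG hF = v * (hG hF k₀)⁻¹ := by rw [hvk]; group
    rw [this]
    exact mul_mem hvV (inv_mem (hH k₀))
  rw [eq_top_iff]
  intro x _
  rcases bruhatG hm hF x with ⟨a, b, k, rfl⟩ | ⟨a, b, a', b', k, rfl⟩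
  · exact mul_mem (hU a b) (hH k)
  · exact mul_mem (mul_mem (mul_mem (hU a b) hw) (hU a' b')) (hH k)

/-- the Suzuki group is perfect -/
theorem sz_perfect (hm : 1 ≤ m) (hF : Fintype.card F = 2 ^ (2 * m + 1)) :
    commutator ↥(Cfsg.Sz F m) = ⊤ := by
  have h2 := two_eq_zero' hF
  apply eq_top_of_tauG_mem hm hF _ inferInstance
  intro A B
  obtain ⟨k, hk⟩ := exists_unit_ne_one (F := F) hm hF
  have hk1 : (k : F) + 1 ≠ 0 := by
    intro h
    apply hk
    apply Units.ext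
    rw [Units.val_one]
    linear_combination h - h2
  have hk2 : sg m (k : F) * k + 1 ≠ 0 := by
    intro h
    apply hk
    apply Units.ext
    rw [Units.val_one]
    apply eq_one_of_sg_mul_self hF
    linear_combination h - h2
  set a : F := A / ((k : F) + 1) with ha
  set b : F := (B + sg m A * a) / (sg m (k : F) * k + 1) with hb
  have hcomm : ⁅hG hF k, tauG hF a b⁆ = tauG hF A B := by
    rw [commutatorElement_def, hG_mul_tauG, mul_assoc _ (hG hF k), mul_inv_cancel, mul_one]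
    rw [mul_inv_eq_iff_eq_mul, tauG_mul]
    have e1 : (k : F) * a = A + a := by
      rw [ha]; field_simp; linear_combination (-A) * h2
    have e2 : sg m (k : F) * k * b = B + b + sg m A * a := by
      have : (sg m (k : F) * k + 1) * b = B + sg m A * a := by
        rw [hb]; field_simp
      linear_combination this - b * h2
    rw [e1, e2]
  rw [← hcomm]
  exact Subgroup.commutator_mem_commutator (Subgroup.mem_top _) (Subgroup.mem_top _)

end Generation

end Cfsg.Agent.Lib.Helper09
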