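import Cfsg.Agent.Lib.Helper09.SuzukiAut

set_option autoImplicit false

namespace Cfsg.Agent.Lib.Helper09

open Matrix
open scoped Pointwise

section Embed

variable {K F : Type*} [Field K] [Fintype K] [Field F] [Fintype F] {k m : ℕ}

theorem exp_rel (hdiv : 2 * k + 1 ∣ 2 * m + 1) : ∃ n, m = k + n * (2 * k + 1) := by
  obtain ⟨d, hd⟩ := hdiv
  have hodd : d % 2 = 1 := by
    rcases Nat.mod_two_eq_zero_or_one d with h | h
    · exfalso
      have : (2 * m + 1) % 2 = 0 := by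
        rw [hd, Nat.mul_mod, h]; simp
      omega
    · exact h
  refine ⟨d / 2, ?_⟩
  have hd2 : d = 2 * (d / 2) + 1 := by omega
  have : 2 * m + 1 = (2 * k + 1) * (2 * (d / 2) + 1) := by rw [← hd2]; exact hd
  nlinarith

theorem pow_period (hK : Fintype.card K = 2 ^ (2 * k + 1)) (φ : K →+* F) (a : K) (j n : ℕ) :
    (φ a) ^ (2 ^ (j + n * (2 * k + 1))) = (φ a) ^ (2 ^ j) := by
  induction n with
  | zero => simp
  | succ n ih =>
    have h1 : a ^ (2 ^ (2 * k + 1)) = a := by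
      have := FiniteField.pow_card a
      rwa [hK] at this
    have h2 : (φ a) ^ (2 ^ (2 * k + 1)) = φ a := by rw [← map_pow, h1]
    have : j + (n + 1) * (2 * k + 1) = (2 * k + 1) + (j + n * (2 * k + 1)) := by ring
    rw [this, pow_add, pow_mul, h2, ih]

theorem map_sg' (hK : Fintype.card K = 2 ^ (2 * k + 1)) (hdiv : 2 * k + 1 ∣ 2 * m + 1)
    (φ : K →+* F) (a : K) : φ (sg k a) = sg m (φ a) := by
  obtain ⟨n, rfl⟩ := exp_rel hdiv
  simp only [sg, map_pow]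
  have : k + n * (2 * k + 1) + 1 = (k + 1) + n * (2 * k + 1) := by ring
  rw [this, pow_period hK]

theorem map_pow_two_pow (hK : Fintype.card K = 2 ^ (2 * k + 1)) (hdiv : 2 * k + 1 ∣ 2 * m + 1)
    (φ : K →+* F) (a : K) : (φ a) ^ (2 ^ m) = (φ a) ^ (2 ^ k) := by
  obtain ⟨n, rfl⟩ := exp_rel hdiv
  rw [pow_period hK]

theorem map_ff' (hK : Fintype.card K = 2 ^ (2 * k + 1)) (hdiv : 2 * k + 1 ∣ 2 * m + 1)
    (φ : K →+* F) (a b : K) : φ (ff k a b) = ff m (φ a) (φ b) := by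
  rw [ff_eq, ff_eq, map_add, map_add, map_mul, map_mul, map_pow, map_sg' hK hdiv,
    map_sg' hK hdiv]

theorem map_tauS' (hK : Fintype.card K = 2 ^ (2 * k + 1)) (hdiv : 2 * k + 1 ∣ 2 * m + 1)
    (φ : K →+* F) (a b : K) :
    Matrix.SpecialLinearGroup.map φ (tauS k a b) = tauS m (φ a) (φ b) := by
  apply Subtype.ext
  ext i j
  simp only [Matrix.SpecialLinearGroup.map_apply_coe, RingHom.mapMatrix_apply, Matrix.map_apply]
  fin_cases i <;> fin_cases j <;>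
    simp [tauS, tauM, map_sg' hK hdiv, map_ff' hK hdiv]

omit [Fintype K] [Fintype F] in
theorem map_wS' (φ : K →+* F) :
    Matrix.SpecialLinearGroup.map φ (wS K) = wS F := by
  apply Subtype.ext
  ext i j
  simp only [Matrix.SpecialLinearGroup.map_apply_coe, RingHom.mapMatrix_apply, Matrix.map_apply]
  fin_cases i <;> fin_cases j <;> simp [wS, wM]

theorem map_hS' (hK : Fintype.card K = 2 ^ (2 * k + 1)) (hdiv : 2 * k + 1 ∣ 2 * m + 1)
    (φ : K →+* F) (x : Kˣ) :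
    Matrix.SpecialLinearGroup.map φ (hS k x) = hS m (Units.map (φ : K →* F) x) := by
  have e1 : (φ (x : K)) ^ (2 ^ m) = (φ (x : K)) ^ (2 ^ k) := map_pow_two_pow hK hdiv φ _
  have e2 : (φ (x : K))⁻¹ ^ (2 ^ m) = (φ (x : K))⁻¹ ^ (2 ^ k) := by
    rw [inv_pow, inv_pow, e1]
  apply Subtype.ext
  ext i j
  simp only [Matrix.SpecialLinearGroup.map_apply_coe, RingHom.mapMatrix_apply, Matrix.map_apply]
  fin_cases i <;> fin_cases j <;>
    simp [hS, hM, map_pow, map_inv₀, pow_succ, e1, e2]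

theorem map_mem_sz' (hk : 1 ≤ k) (hK : Fintype.card K = 2 ^ (2 * k + 1))
    (hF : Fintype.card F = 2 ^ (2 * m + 1)) (hdiv : 2 * k + 1 ∣ 2 * m + 1) (φ : K →+* F)
    {g : Matrix.SpecialLinearGroup (Fin 4) K} (hg : g ∈ Cfsg.Sz K k) :
    Matrix.SpecialLinearGroup.map φ g ∈ Cfsg.Sz F m := by
  rcases sz_bruhat hk hK hg with ⟨a, b, x, rfl⟩ | ⟨a, b, a', b', x, rfl⟩
  · rw [map_mul, map_tauS' hK hdiv, map_hS' hK hdiv]
    exact mul_mem (tauS_mem hF _ _) (hS_mem hF _)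
  · rw [map_mul, map_mul, map_mul, map_tauS' hK hdiv, map_tauS' hK hdiv, map_hS' hK hdiv,
      map_wS']
    exact mul_mem (mul_mem (mul_mem (tauS_mem hF _ _) (wS_mem hF)) (tauS_mem hF _ _))
      (hS_mem hF _)

/-- the embedding of a Suzuki group over a subfield -/
noncomputable def subHom (hk : 1 ≤ k) (hK : Fintype.card K = 2 ^ (2 * k + 1))
    (hF : Fintype.card F = 2 ^ (2 * m + 1)) (hdiv : 2 * k + 1 ∣ 2 * m + 1) (φ : K →+* F) :
    ↥(Cfsg.Sz K k) →* ↥(Cfsg.Sz F m) :=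
  ((Matrix.SpecialLinearGroup.map φ).comp (Cfsg.Sz K k).subtype).codRestrict (Cfsg.Sz F m)
    (fun g => map_mem_sz' hk hK hF hdiv φ g.2)

theorem subHom_coe (hk : 1 ≤ k) (hK : Fintype.card K = 2 ^ (2 * k + 1))
    (hF : Fintype.card F = 2 ^ (2 * m + 1)) (hdiv : 2 * k + 1 ∣ 2 * m + 1) (φ : K →+* F)
    (g : ↥(Cfsg.Sz K k)) :
    ((subHom hk hK hF hdiv φ g : ↥(Cfsg.Sz F m)) : Matrix.SpecialLinearGroup (Fin 4) F)
      = Matrix.SpecialLinearGroup.map φ g.1 := rfl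

theorem subHom_injective (hk : 1 ≤ k) (hK : Fintype.card K = 2 ^ (2 * k + 1))
    (hF : Fintype.card F = 2 ^ (2 * m + 1)) (hdiv : 2 * k + 1 ∣ 2 * m + 1) (φ : K →+* F) :
    Function.Injective (subHom hk hK hF hdiv φ) := by
  intro g g' h
  have h1 := congrArg (fun t : ↥(Cfsg.Sz F m) => (t : Matrix.SpecialLinearGroup (Fin 4) F)) h
  simp only [subHom_coe] at h1
  apply Subtype.ext
  apply Subtype.ext
  ext i j
  have h2 := congrArg (fun t : Matrix.SpecialLinearGroup (Fin 4) F => t.1 i j) h1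
  simp only [Matrix.SpecialLinearGroup.map_apply_coe, RingHom.mapMatrix_apply,
    Matrix.map_apply] at h2
  exact φ.injective h2

theorem subHom_tauG (hk : 1 ≤ k) (hK : Fintype.card K = 2 ^ (2 * k + 1))
    (hF : Fintype.card F = 2 ^ (2 * m + 1)) (hdiv : 2 * k + 1 ∣ 2 * m + 1) (φ : K →+* F)
    (a b : K) : subHom hk hK hF hdiv φ (tauG hK a b) = tauG hF (φ a) (φ b) :=
  Subtype.ext (map_tauS' hK hdiv φ a b)

theorem subHom_wG (hk : 1 ≤ k) (hK : Fintype.card K = 2 ^ (2 * k + 1))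
    (hF : Fintype.card F = 2 ^ (2 * m + 1)) (hdiv : 2 * k + 1 ∣ 2 * m + 1) (φ : K →+* F) :
    subHom hk hK hF hdiv φ (wG hK) = wG hF :=
  Subtype.ext (map_wS' φ)

theorem subHom_hG (hk : 1 ≤ k) (hK : Fintype.card K = 2 ^ (2 * k + 1))
    (hF : Fintype.card F = 2 ^ (2 * m + 1)) (hdiv : 2 * k + 1 ∣ 2 * m + 1) (φ : K →+* F)
    (x : Kˣ) : subHom hk hK hF hdiv φ (hG hK x) = hG hF (Units.map (φ : K →* F) x) :=
  Subtype.ext (map_hS' hK hdiv φ x)

end Embed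

end Cfsg.Agent.Lib.Helper09
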