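import Cfsg.Agent.Lib.Helper09.SuzukiSubgroupThm

set_option autoImplicit false

namespace Cfsg.Agent.Lib.Helper09

open Matrix
open scoped Pointwise

section Uniq

variable {F : Type*} [Field F] [Fintype F]

open Polynomial in
/-- subfields of a finite field are determined by their cardinality -/
theorem subfield_le_of_card_eq (K₁ K₂ : Subfield F) (h : Nat.card K₁ = Nat.card K₂) :
    K₁ ≤ K₂ := by
  classical
  set n := Nat.card K₁ with hn
  have hn1 : 1 < n := Finite.one_lt_card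
  have := Fintype.ofFinite ↥K₁
  have := Fintype.ofFinite ↥K₂
  have h1 : ∀ x ∈ K₁, x ^ n = x := by
    intro x hx
    have h0 := FiniteField.pow_card (⟨x, hx⟩ : ↥K₁)
    rw [← Nat.card_eq_fintype_card, ← hn] at h0
    have := congrArg Subtype.val h0
    simpa using this
  have h2 : ∀ x ∈ K₂, x ^ n = x := by
    intro x hx
    have h0 := FiniteField.pow_card (⟨x, hx⟩ : ↥K₂)
    rw [← Nat.card_eq_fintype_card, ← h] at h0
    have := congrArg Subtype.val h0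
    simpa using this
  set p : F[X] := X ^ n - X with hp
  have hp0 : p ≠ 0 := FiniteField.X_pow_card_sub_X_ne_zero F hn1
  have hdeg : p.natDegree = n := FiniteField.X_pow_card_sub_X_natDegree_eq F hn1
  set Z : Set F := {x | x ^ n = x} with hZ
  have hZfin : Z.Finite := Set.toFinite _
  have hZcard : Z.ncard ≤ n := by
    have hsub : Z ⊆ ↑p.roots.toFinset := by
      intro x hx
      rw [Finset.mem_coe, Multiset.mem_toFinset, mem_roots hp0, IsRoot.def, hp]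
      simp only [eval_sub, eval_pow, eval_X]
      rw [hx, sub_self]
    calc Z.ncard ≤ (↑p.roots.toFinset : Set F).ncard :=
          Set.ncard_le_ncard hsub (Finset.finite_toSet _)
      _ = p.roots.toFinset.card := Set.ncard_coe_finset _
      _ ≤ Multiset.card p.roots := Multiset.toFinset_card_le _
      _ ≤ p.natDegree := card_roots' p
      _ = n := hdeg
  have e1 : (K₁ : Set F) = Z := by
    apply Set.eq_of_subset_of_ncard_le (fun x hx => h1 x hx) _ hZfin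
    rw [← Nat.card_coe_set_eq (K₁ : Set F)]
    exact hZcard
  have e2 : (K₂ : Set F) = Z := by
    apply Set.eq_of_subset_of_ncard_le (fun x hx => h2 x hx) _ hZfin
    rw [← Nat.card_coe_set_eq (K₂ : Set F)]
    have : Nat.card ↥(K₂ : Set F) = n := h.symm
    rw [this]
    exact hZcard
  intro x hx
  have : x ∈ (K₁ : Set F) := hx
  rw [e1, ← e2] at this
  exact this

end Uniq

section RingHom

variable {K F : Type*} [Field K] [Fintype K] [Field F] [Fintype F] {k m : ℕ}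

/-- a field embedding between finite fields of characteristic two -/
theorem exists_ringHom (hK : Fintype.card K = 2 ^ (2 * k + 1))
    (hF : Fintype.card F = 2 ^ (2 * m + 1)) (hdiv : 2 * k + 1 ∣ 2 * m + 1) :
    Nonempty (K →+* F) := by
  have : Fact (Nat.Prime 2) := ⟨Nat.prime_two⟩
  have := charP_two hF
  have := charP_two hK
  let _ : Algebra (ZMod 2) F := ZMod.algebra F 2
  let _ : Algebra (ZMod 2) K := ZMod.algebra K 2
  have hfrF : Module.finrank (ZMod 2) F = 2 * m + 1 := by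
    have := FiniteField.pow_finrank_eq_card 2 F
    rw [hF] at this
    exact Nat.pow_right_injective (le_refl 2) this
  have hfrK : Module.finrank (ZMod 2) K = 2 * k + 1 := by
    have := FiniteField.pow_finrank_eq_card 2 K
    rw [hK] at this
    exact Nat.pow_right_injective (le_refl 2) this
  have h1 : Module.finrank (ZMod 2) K ∣ Module.finrank (ZMod 2) F := by
    rw [hfrK, hfrF]; exact hdiv
  obtain ⟨φ⟩ := FiniteField.nonempty_algHom_of_finrank_dvd h1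
  exact ⟨φ.toRingHom⟩

end RingHom

section IsoCore

variable {K F : Type*} [Field K] [Fintype K] [Field F] [Fintype F] {k m : ℕ}

/-- two involutions with the same fixed point commute -/
theorem inv_commute_of_fix (hm : 1 ≤ m) (hF : Fintype.card F = 2 ^ (2 * m + 1))
    {u u' : ↥(Cfsg.Sz F m)} (hu1 : u ≠ 1) (hu2 : u ^ 2 = 1) (hu'1 : u' ≠ 1) (hu'2 : u' ^ 2 = 1)
    {p : ↥(Cfsg.suzukiOvoid F m)} (hp : u • p = p) (hp' : u' • p = p) : u * u' = u' * u := by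
  obtain ⟨y, rfl⟩ := exists_smul_oInf hF p
  have h1 : (y⁻¹ * u * y) • oInf F m = oInf F m := by
    rw [mul_smul, mul_smul, hp, inv_smul_smul]
  have h2 : (y⁻¹ * u' * y) • oInf F m = oInf F m := by
    rw [mul_smul, mul_smul, hp', inv_smul_smul]
  have c1 : y⁻¹ * u * y ≠ 1 := by
    have := conj_ne_one' (x := y⁻¹) hu1
    rwa [inv_inv] at this
  have c2 : y⁻¹ * u' * y ≠ 1 := by
    have := conj_ne_one' (x := y⁻¹) hu'1
    rwa [inv_inv] at this
  have s1 : (y⁻¹ * u * y) ^ 2 = 1 := by rw [conj_inv_pow, hu2]; group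
  have s2 : (y⁻¹ * u' * y) ^ 2 = 1 := by rw [conj_inv_pow, hu'2]; group
  obtain ⟨b, -, hb⟩ := inv_fix_inf hm hF c1 s1 h1
  obtain ⟨b', -, hb'⟩ := inv_fix_inf hm hF c2 s2 h2
  have hc : (y⁻¹ * u * y) * (y⁻¹ * u' * y) = (y⁻¹ * u' * y) * (y⁻¹ * u * y) := by
    rw [hb, hb', Cfsg.Agent.S2240.tauG_zero_mul, Cfsg.Agent.S2240.tauG_zero_mul, add_comm]
  calc u * u' = y * ((y⁻¹ * u * y) * (y⁻¹ * u' * y)) * y⁻¹ := by group
    _ = y * ((y⁻¹ * u' * y) * (y⁻¹ * u * y)) * y⁻¹ := by rw [hc]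
    _ = u' * u := by group

/-- the conjugate of the central involution by `w` does not commute with it -/
theorem w_conj_not_commute (hk : 1 ≤ k) (hK : Fintype.card K = 2 ^ (2 * k + 1)) :
    tauG hK 0 1 * (wG hK * tauG hK 0 1 * (wG hK)⁻¹) ≠
      (wG hK * tauG hK 0 1 * (wG hK)⁻¹) * tauG hK 0 1 := by
  intro hcomm
  have hcU := commute_central hk hK one_ne_zero hcomm.symm
  have hne : wG hK * tauG hK 0 1 * (wG hK)⁻¹ ≠ 1 :=
    conj_ne_one' (Cfsg.Agent.S2240.tauG_zero_ne_one hK one_ne_zero)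
  have hfix : (wG hK * tauG hK 0 1 * (wG hK)⁻¹) • oAff k (0 : K) 0 = oAff k 0 0 := by
    rw [mul_smul, mul_smul, wG_inv, wG_smul_oAff_zero, tauG_smul_oInf, wG_smul_oInf]
  exact hne (Uz_fix_aff hK hcU zero_ne_inf hfix)

/-- a subgroup isomorphic to a smaller Suzuki group can be normalised -/
theorem iso_coreHyp (hm : 1 ≤ m) (hF : Fintype.card F = 2 ^ (2 * m + 1)) (hk : 1 ≤ k)
    (hK : Fintype.card K = 2 ^ (2 * k + 1)) (S : Subgroup ↥(Cfsg.Sz F m))
    (e : ↥S ≃* ↥(Cfsg.Sz K k)) :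
    ∃ (z : ↥(Cfsg.Sz F m)) (k₂ : Fˣ), CoreHyp hF (S.map (MulAut.conj z).toMonoidHom) k₂ := by
  let ι : ↥(Cfsg.Sz K k) →* ↥(Cfsg.Sz F m) := S.subtype.comp e.symm.toMonoidHom
  have hι : Function.Injective ι := S.subtype_injective.comp e.symm.injective
  have hιS : ∀ y, ι y ∈ S := fun y => (e.symm y).2
  have hι1 : ∀ {y}, y ≠ 1 → ι y ≠ 1 := fun hy h0 => hy (hι (h0.trans (map_one ι).symm))
  obtain ⟨x₁, hx₁⟩ := exists_unit_ne_one (F := K) hk hK
  set t := tauG hK 0 1 with ht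
  have ht1 : t ≠ 1 := Cfsg.Agent.S2240.tauG_zero_ne_one hK one_ne_zero
  have ht2 : t ^ 2 = 1 := tauG_zero_sq hK 1
  have hu₀1 : ι t ≠ 1 := hι1 ht1
  have hu₀2 : ι t ^ 2 = 1 := by rw [← map_pow, ht2, map_one]
  obtain ⟨p₀, hp₀⟩ := two_elt_fix_exists hm hF hu₀1 (pow_four_of_sq hu₀2)
  -- the torus element fixes the same point
  set c := hG hK x₁ * t * (hG hK x₁)⁻¹ with hc
  have hc1 : c ≠ 1 := conj_ne_one' ht1
  have hc2 : c ^ 2 = 1 := by rw [hc, conj_pow, ht2]; group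
  have hct : c * t = t * c := by
    rw [hc, ht, hG_conj_central, Cfsg.Agent.S2240.tauG_zero_mul,
      Cfsg.Agent.S2240.tauG_zero_mul, add_comm]
  have hιc1 : ι c ≠ 1 := hι1 hc1
  have hιc2 : ι c ^ 2 = 1 := by rw [← map_pow, hc2, map_one]
  have hιct : ι c * ι t = ι t * ι c := by rw [← map_mul, ← map_mul, hct]
  have hcp : ι c • p₀ = p₀ := by
    apply two_elt_fix_unique hm hF hu₀1 (pow_four_of_sq hu₀2) _ hp₀
    rw [← mul_smul, ← hιct, mul_smul, hp₀]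
  have hxp : ι (hG hK x₁) • p₀ = p₀ := by
    apply two_elt_fix_unique hm hF hιc1 (pow_four_of_sq hιc2) _ hcp
    have : ι c = ι (hG hK x₁) * ι t * (ι (hG hK x₁))⁻¹ := by
      rw [hc, map_mul, map_mul, map_inv]
    rw [this, mul_smul, mul_smul, inv_smul_smul, hp₀]
  have hx4 : ι (hG hK x₁) ^ 4 ≠ 1 := by
    rw [← map_pow, hG_pow]
    apply hι1
    intro h0
    apply hx₁
    have h1 := hG_eq_one hK h0
    apply Units.ext
    apply fourth_root_one hK
    have := congrArg Units.val h1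
    simpa using this
  -- `w` moves the point
  have hg₀p : ι (wG hK) • p₀ ≠ p₀ := by
    intro h0
    have hu₁ : ι (wG hK * t * (wG hK)⁻¹) • p₀ = p₀ := by
      rw [map_mul, map_mul, map_inv, mul_smul, mul_smul, inv_smul_eq_iff.2 h0.symm, hp₀, h0]
    have hw1 : ι (wG hK * t * (wG hK)⁻¹) ≠ 1 := hι1 (conj_ne_one' ht1)
    have hw2 : ι (wG hK * t * (wG hK)⁻¹) ^ 2 = 1 := by
      rw [← map_pow, conj_pow, ht2]
      have : wG hK * 1 * (wG hK)⁻¹ = 1 := by group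
      rw [this, map_one]
    have := inv_commute_of_fix hm hF hu₀1 hu₀2 hw1 hw2 hp₀ hu₁
    rw [← map_mul, ← map_mul] at this
    exact w_conj_not_commute hk hK (hι this)
  exact exists_coreHyp hm hF S p₀ (hιS t) hu₀1 hu₀2 hp₀ (hιS _) hxp hx4 (hιS _) hg₀p

end IsoCore

section CardCore

variable {F : Type*} [Field F] [Fintype F] {m : ℕ}
variable {hF : Fintype.card F = 2 ^ (2 * m + 1)} {M : Subgroup ↥(Cfsg.Sz F m)} {k₁ : Fˣ}

/-- the order of a subgroup in the core case -/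
theorem CoreHyp.card_eq (hm : 1 ≤ m) (h : CoreHyp hF M k₁) (hM : M ≠ ⊤) :
    ∃ k' : ℕ, 1 ≤ k' ∧ k' < m ∧ Nat.card (h.K hm) = 2 ^ (2 * k' + 1) ∧
      Nat.card M = (2 ^ (2 * k' + 1)) ^ 2 * ((2 ^ (2 * k' + 1)) ^ 2 + 1) * (2 ^ (2 * k' + 1) - 1) := by
  have : Fact (Nat.Prime 2) := ⟨Nat.prime_two⟩
  have hKne : h.K hm ≠ ⊤ := fun e => hM (h.eq_top hm e)
  obtain ⟨k, hk1, hkm, hcard, hdiv⟩ :=
    subfield_card hF (h.K hm) hKne (h.k₁_mem hm) k₁.ne_zero h.k₁_ne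
  refine ⟨k, hk1, hkm, hcard, ?_⟩
  let instFt : Fintype (GaloisField 2 (2 * k + 1)) := Fintype.ofFinite _
  have hKt : Fintype.card (GaloisField 2 (2 * k + 1)) = 2 ^ (2 * k + 1) := by
    rw [← Nat.card_eq_fintype_card, GaloisField.card 2 (2 * k + 1) (by omega)]
  have := Fintype.ofFinite ↥(h.K hm)
  have hcc : Fintype.card (GaloisField 2 (2 * k + 1)) = Fintype.card ↥(h.K hm) := by
    rw [hKt, ← Nat.card_eq_fintype_card, hcard]
  let e : GaloisField 2 (2 * k + 1) ≃+* ↥(h.K hm) := FiniteField.ringEquivOfCardEq hcc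
  let φ : GaloisField 2 (2 * k + 1) →+* F := (h.K hm).subtype.comp (e : _ →+* ↥(h.K hm))
  have hφ : ∀ x ∈ h.K hm, ∃ y : GaloisField 2 (2 * k + 1), φ y = x := by
    intro x hx
    refine ⟨e.symm ⟨x, hx⟩, ?_⟩
    show ((e (e.symm ⟨x, hx⟩) : ↥(h.K hm)) : F) = x
    rw [RingEquiv.apply_symm_apply]
  have hφK : ∀ y : GaloisField 2 (2 * k + 1), φ y ∈ h.K hm := fun y => (e y).2
  have hle := le_range_subHom hk1 hKt hm hF hdiv φ (h.K hm) hφ M (fun g hg => h.bruhat hm hg)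
  have hge : (subHom hk1 hKt hF hdiv φ).range ≤ M := by
    rintro _ ⟨y, rfl⟩
    have ht : ∀ a b, subHom hk1 hKt hF hdiv φ (tauG hKt a b) ∈ M := by
      intro a b
      rw [subHom_tauG]
      exact h.tau_mem hm (hφK a) (hφK b)
    have hh : ∀ x, subHom hk1 hKt hF hdiv φ (hG hKt x) ∈ M := by
      intro x
      rw [subHom_hG, h.hG_mem_iff hm]
      exact hφK x
    have hw : subHom hk1 hKt hF hdiv φ (wG hKt) ∈ M := by
      rw [subHom_wG]; exact (h.w_mem hm).1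
    rcases bruhatG hk1 hKt y with ⟨a, b, x, rfl⟩ | ⟨a, b, a', b', x, rfl⟩
    · rw [map_mul]; exact M.mul_mem (ht a b) (hh x)
    · rw [map_mul, map_mul, map_mul]
      exact M.mul_mem (M.mul_mem (M.mul_mem (ht a b) hw) (ht a' b')) (hh x)
  have heq : M = (subHom hk1 hKt hF hdiv φ).range := le_antisymm hle hge
  rw [heq, ← card_sz hk1 hKt]
  exact (Nat.card_congr (MonoidHom.ofInjective (subHom_injective hk1 hKt hF hdiv φ)).toEquiv).symm

theorem CoreHyp.le_of_K_le (hm : 1 ≤ m) {M₂ : Subgroup ↥(Cfsg.Sz F m)} {k₂ : Fˣ}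
    (h : CoreHyp hF M k₁) (h₂ : CoreHyp hF M₂ k₂) (hK : h.K hm ≤ h₂.K hm) : M ≤ M₂ := by
  intro g hg
  have hw := (h₂.w_mem hm).1
  rcases h.bruhat hm hg with ⟨a, b, x, ha, hb, hx, rfl⟩ | ⟨a, b, a', b', x, ha, hb, ha', hb', hx, rfl⟩
  · exact M₂.mul_mem (h₂.tau_mem hm (hK ha) (hK hb)) ((h₂.hG_mem_iff hm x).2 (hK hx))
  · exact M₂.mul_mem (M₂.mul_mem (M₂.mul_mem (h₂.tau_mem hm (hK ha) (hK hb)) hw)
      (h₂.tau_mem hm (hK ha') (hK hb'))) ((h₂.hG_mem_iff hm x).2 (hK hx))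

theorem card_formula_injective {k k' : ℕ}
    (h : (2 ^ (2 * k + 1)) ^ 2 * ((2 ^ (2 * k + 1)) ^ 2 + 1) * (2 ^ (2 * k + 1) - 1) =
      (2 ^ (2 * k' + 1)) ^ 2 * ((2 ^ (2 * k' + 1)) ^ 2 + 1) * (2 ^ (2 * k' + 1) - 1)) : k = k' := by
  have mono : ∀ a b : ℕ, a < b →
      (2 ^ (2 * a + 1)) ^ 2 * ((2 ^ (2 * a + 1)) ^ 2 + 1) * (2 ^ (2 * a + 1) - 1) <
      (2 ^ (2 * b + 1)) ^ 2 * ((2 ^ (2 * b + 1)) ^ 2 + 1) * (2 ^ (2 * b + 1) - 1) := by
    intro a b hab
    have hq : 2 ^ (2 * a + 1) < 2 ^ (2 * b + 1) := Nat.pow_lt_pow_right (by norm_num) (by omega)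
    have hq2 : 2 ≤ 2 ^ (2 * a + 1) := by
      calc 2 = 2 ^ 1 := by norm_num
        _ ≤ 2 ^ (2 * a + 1) := Nat.pow_le_pow_right (by norm_num) (by omega)
    have h1 : (2 ^ (2 * a + 1)) ^ 2 < (2 ^ (2 * b + 1)) ^ 2 := Nat.pow_lt_pow_left hq (by norm_num)
    have h2 : (2 ^ (2 * a + 1)) ^ 2 + 1 < (2 ^ (2 * b + 1)) ^ 2 + 1 := by omega
    have h3 : 2 ^ (2 * a + 1) - 1 < 2 ^ (2 * b + 1) - 1 := by omega
    exact Nat.mul_lt_mul'' (Nat.mul_lt_mul'' h1 h2) h3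
  rcases Nat.lt_trichotomy k k' with hlt | heq | hgt
  · exact absurd h (mono k k' hlt).ne
  · exact heq
  · exact absurd h (mono k' k hgt).ne'

end CardCore

section Main

variable {K F : Type*} [Field K] [Fintype K] [Field F] [Fintype F] {k m : ℕ}

/-- subfield subgroups exist and are conjugate -/
theorem subfield_subgroups (hm : 1 ≤ m) (hF : Fintype.card F = 2 ^ (2 * m + 1)) (hk : 1 ≤ k)
    (hK : Fintype.card K = 2 ^ (2 * k + 1)) (hdiv : 2 * k + 1 ∣ 2 * m + 1) :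
    (∃ S : Subgroup ↥(Cfsg.Sz F m), Nonempty (↥S ≃* ↥(Cfsg.Sz K k))) ∧
    ∀ S₁ S₂ : Subgroup ↥(Cfsg.Sz F m), Nonempty (↥S₁ ≃* ↥(Cfsg.Sz K k)) →
      Nonempty (↥S₂ ≃* ↥(Cfsg.Sz K k)) →
      ∃ g : ↥(Cfsg.Sz F m), S₂ = S₁.map (MulAut.conj g).toMonoidHom := by
  constructor
  · obtain ⟨φ⟩ := exists_ringHom hK hF hdiv
    exact ⟨(subHom hk hK hF hdiv φ).range,
      ⟨(MonoidHom.ofInjective (subHom_injective hk hK hF hdiv φ)).symm⟩⟩
  · rintro S₁ S₂ ⟨e₁⟩ ⟨e₂⟩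
    have hc₁ : Nat.card S₁ = Nat.card ↥(Cfsg.Sz K k) := Nat.card_congr e₁.toEquiv
    have hc₂ : Nat.card S₂ = Nat.card ↥(Cfsg.Sz K k) := Nat.card_congr e₂.toEquiv
    by_cases hS₁ : S₁ = ⊤
    · have hS₂ : S₂ = ⊤ := by
        apply Subgroup.eq_top_of_card_eq
        rw [hc₂, ← hc₁, hS₁, Subgroup.card_top]
      refine ⟨1, ?_⟩
      rw [hS₁, hS₂]
      ext x
      rw [mem_map_conj]
      simp
    have hS₂ : S₂ ≠ ⊤ := by
      intro h
      apply hS₁
      apply Subgroup.eq_top_of_card_eq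
      rw [hc₁, ← hc₂, h, Subgroup.card_top]
    obtain ⟨z₁, j₁, h₁⟩ := iso_coreHyp hm hF hk hK S₁ e₁
    obtain ⟨z₂, j₂, h₂⟩ := iso_coreHyp hm hF hk hK S₂ e₂
    have hne : ∀ (S : Subgroup ↥(Cfsg.Sz F m)) (z : ↥(Cfsg.Sz F m)), S ≠ ⊤ →
        S.map (MulAut.conj z).toMonoidHom ≠ ⊤ := by
      intro S z hS htop
      apply hS
      rw [eq_top_iff]
      intro y _
      have : z * y * z⁻¹ ∈ S.map (MulAut.conj z).toMonoidHom := by
        rw [htop]; exact Subgroup.mem_top _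
      rw [mem_map_conj] at this
      have e : z⁻¹ * (z * y * z⁻¹) * z = y := by group
      rwa [e] at this
    obtain ⟨k₁', -, -, hK₁, hM₁⟩ := h₁.card_eq hm (hne S₁ z₁ hS₁)
    obtain ⟨k₂', -, -, hK₂, hM₂⟩ := h₂.card_eq hm (hne S₂ z₂ hS₂)
    rw [card_map_conj, hc₁, card_sz hk hK] at hM₁
    rw [card_map_conj, hc₂, card_sz hk hK] at hM₂
    have e₁' := card_formula_injective hM₁
    have e₂' := card_formula_injective hM₂
    have hKK : Nat.card (h₁.K hm) = Nat.card (h₂.K hm) := by rw [hK₁, hK₂, ← e₁', ← e₂']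
    have hle₁ := h₁.le_of_K_le hm h₂ (subfield_le_of_card_eq _ _ hKK)
    have hle₂ := h₂.le_of_K_le hm h₁ (subfield_le_of_card_eq _ _ hKK.symm)
    have heq : S₁.map (MulAut.conj z₁).toMonoidHom = S₂.map (MulAut.conj z₂).toMonoidHom :=
      le_antisymm hle₁ hle₂
    refine ⟨z₂⁻¹ * z₁, ?_⟩
    ext x
    rw [mem_map_conj]
    have h3 : x ∈ S₂ ↔ z₂ * x * z₂⁻¹ ∈ S₂.map (MulAut.conj z₂).toMonoidHom := by
      rw [mem_map_conj]
      have : z₂⁻¹ * (z₂ * x * z₂⁻¹) * z₂ = x := by group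
      rw [this]
    rw [h3, ← heq, mem_map_conj]
    have : z₁⁻¹ * (z₂ * x * z₂⁻¹) * z₁ = (z₂⁻¹ * z₁)⁻¹ * x * (z₂⁻¹ * z₁) := by group
    rw [this]

end Main

end Cfsg.Agent.Lib.Helper09
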