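import Cfsg.Agent.Lib.Helper09.SuzukiCore
import Cfsg.Agent.Lib.Helper09.SuzukiSubfield
import Cfsg.Agent.S2247

set_option autoImplicit false

namespace Cfsg.Agent.Lib.Helper09

open Matrix
open scoped Pointwise

section SubfieldCard

variable {F : Type*} [Field F] [Fintype F] {m : ℕ}

/-- the order of a subfield containing an element other than `0, 1` -/
theorem subfield_card (hF : Fintype.card F = 2 ^ (2 * m + 1)) (K' : Subfield F) (hne : K' ≠ ⊤)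
    {x : F} (hx : x ∈ K') (hx0 : x ≠ 0) (hx1 : x ≠ 1) :
    ∃ k : ℕ, 1 ≤ k ∧ k < m ∧ Nat.card K' = 2 ^ (2 * k + 1) ∧ 2 * k + 1 ∣ 2 * m + 1 := by
  have hc := Module.natCard_eq_pow_finrank (K := ↥K') (V := F)
  rw [Nat.card_eq_fintype_card (α := F), hF] at hc
  set d := Module.finrank ↥K' F with hd
  have hd0 : d ≠ 0 := (Module.finrank_pos (R := ↥K') (M := F)).ne'
  have hdvd : Nat.card ↥K' ∣ 2 ^ (2 * m + 1) := by
    rw [hc]; exact dvd_pow_self _ hd0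
  obtain ⟨e, he, hcard⟩ := (Nat.dvd_prime_pow Nat.prime_two).1 hdvd
  rw [hcard, ← pow_mul] at hc
  have hed : 2 * m + 1 = e * d := Nat.pow_right_injective (le_refl 2) hc
  -- `e ≥ 2`
  have := Fintype.ofFinite ↥K'
  have hpow : x ^ (2 ^ e) = x := by
    have h1 := FiniteField.pow_card (⟨x, hx⟩ : ↥K')
    rw [← Nat.card_eq_fintype_card, hcard] at h1
    have := congrArg Subtype.val h1
    simpa using this
  have he2 : 2 ≤ e := by
    by_contra hlt
    push Not at hlt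
    interval_cases e
    · have h1 := Finite.one_lt_card (α := ↥K')
      rw [hcard] at h1
      omega
    · have h4 : x * (x - 1) = 0 := by
        have : x ^ 2 = x := by simpa using hpow
        linear_combination this
      rcases mul_eq_zero.1 h4 with h5 | h5
      · exact hx0 h5
      · exact hx1 (by linear_combination h5)
  -- `e` is odd
  have hodd : e % 2 = 1 := by
    rcases Nat.mod_two_eq_zero_or_one e with h | h
    · exfalso
      have : (e * d) % 2 = 0 := by rw [Nat.mul_mod, h]; simp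
      omega
    · exact h
  -- `e < 2m+1`
  have hlt : e ≠ 2 * m + 1 := by
    intro heq
    apply hne
    have h1 : Nat.card ↥K'.toAddSubgroup = Nat.card F := by
      rw [Nat.card_eq_fintype_card (α := F), hF, ← heq, ← hcard]
      rfl
    have h2 := AddSubgroup.eq_top_of_card_eq _ h1
    rw [eq_top_iff]
    intro y _
    have : y ∈ K'.toAddSubgroup := by rw [h2]; exact AddSubgroup.mem_top y
    exact this
  refine ⟨e / 2, by omega, by omega, ?_, ?_⟩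
  · rw [hcard]; congr 1; omega
  · have : 2 * (e / 2) + 1 = e := by omega
    rw [this, hed]; exact dvd_mul_right e d

end SubfieldCard

section CoreConclusion

variable {F : Type*} [Field F] [Fintype F] {m : ℕ}

/-- a subgroup over a subfield lies in the image of the subfield embedding -/
theorem le_range_subHom {K : Type*} [Field K] [Fintype K] {k : ℕ} (hk : 1 ≤ k)
    (hK : Fintype.card K = 2 ^ (2 * k + 1)) (hm : 1 ≤ m) (hF : Fintype.card F = 2 ^ (2 * m + 1))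
    (hdiv : 2 * k + 1 ∣ 2 * m + 1) (φ : K →+* F) (K' : Subfield F)
    (hφ : ∀ x ∈ K', ∃ y : K, φ y = x) (M : Subgroup ↥(Cfsg.Sz F m))
    (hM : ∀ g ∈ M, (∃ (a b : F) (x : Fˣ), a ∈ K' ∧ b ∈ K' ∧ (x : F) ∈ K' ∧
        g = tauG hF a b * hG hF x) ∨
      (∃ (a b a' b' : F) (x : Fˣ), a ∈ K' ∧ b ∈ K' ∧ a' ∈ K' ∧ b' ∈ K' ∧ (x : F) ∈ K' ∧
        g = tauG hF a b * wG hF * tauG hF a' b' * hG hF x)) :
    M ≤ (subHom hk hK hF hdiv φ).range := by
  have hunit : ∀ x : Fˣ, (x : F) ∈ K' → ∃ y : Kˣ, Units.map (φ : K →* F) y = x := by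
    intro x hx
    obtain ⟨y, hy⟩ := hφ _ hx
    have hy0 : y ≠ 0 := by
      rintro rfl
      rw [map_zero] at hy
      exact x.ne_zero hy.symm
    refine ⟨Units.mk0 y hy0, Units.ext ?_⟩
    simpa using hy
  intro g hg
  rcases hM g hg with ⟨a, b, x, ha, hb, hx, rfl⟩ | ⟨a, b, a', b', x, ha, hb, ha', hb', hx, rfl⟩
  · obtain ⟨a₀, rfl⟩ := hφ a ha
    obtain ⟨b₀, rfl⟩ := hφ b hb
    obtain ⟨x₀, rfl⟩ := hunit x hx
    refine ⟨tauG hK a₀ b₀ * hG hK x₀, ?_⟩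
    rw [map_mul, subHom_tauG, subHom_hG]
  · obtain ⟨a₀, rfl⟩ := hφ a ha
    obtain ⟨b₀, rfl⟩ := hφ b hb
    obtain ⟨a₁, rfl⟩ := hφ a' ha'
    obtain ⟨b₁, rfl⟩ := hφ b' hb'
    obtain ⟨x₀, rfl⟩ := hunit x hx
    refine ⟨tauG hK a₀ b₀ * wG hK * tauG hK a₁ b₁ * hG hK x₀, ?_⟩
    rw [map_mul, map_mul, map_mul, subHom_tauG, subHom_tauG, subHom_hG, subHom_wG]

/-- the conclusion in the core case: the subgroup lies in a subfield subgroup -/
theorem core_conclusion (hm : 1 ≤ m) (hF : Fintype.card F = 2 ^ (2 * m + 1))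
    (M : Subgroup ↥(Cfsg.Sz F m)) (k₁ : Fˣ) (h : CoreHyp hF M k₁) (hM : M ≠ ⊤) :
    ∃ (K : Type) (_ : Field K) (_ : Fintype K) (k : ℕ), 1 ≤ k ∧ k < m ∧
      Fintype.card K = 2 ^ (2 * k + 1) ∧ 2 * k + 1 ∣ 2 * m + 1 ∧
      ∃ S : Subgroup ↥(Cfsg.Sz F m), Nonempty (↥S ≃* ↥(Cfsg.Sz K k)) ∧ M ≤ S := by
  have : Fact (Nat.Prime 2) := ⟨Nat.prime_two⟩
  have hKne : h.K hm ≠ ⊤ := fun e => hM (h.eq_top hm e)
  obtain ⟨k, hk1, hkm, hcard, hdiv⟩ :=
    subfield_card hF (h.K hm) hKne (h.k₁_mem hm) k₁.ne_zero h.k₁_ne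
  let instFt : Fintype (GaloisField 2 (2 * k + 1)) := Fintype.ofFinite _
  have hKt : Fintype.card (GaloisField 2 (2 * k + 1)) = 2 ^ (2 * k + 1) := by
    rw [← Nat.card_eq_fintype_card, GaloisField.card 2 (2 * k + 1) (by omega)]
  refine ⟨GaloisField 2 (2 * k + 1), inferInstance, instFt, k, hk1, hkm, hKt, hdiv, ?_⟩
  have := Fintype.ofFinite ↥(h.K hm)
  have hcc : Fintype.card (GaloisField 2 (2 * k + 1)) = Fintype.card ↥(h.K hm) := by
    rw [hKt, ← Nat.card_eq_fintype_card, hcard]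
  let e : GaloisField 2 (2 * k + 1) ≃+* ↥(h.K hm) := FiniteField.ringEquivOfCardEq hcc
  let φ : GaloisField 2 (2 * k + 1) →+* F := (h.K hm).subtype.comp (e : _ →+* ↥(h.K hm))
  have hφ : ∀ x ∈ h.K hm, ∃ y : GaloisField 2 (2 * k + 1), φ y = x := by
    intro x hx
    refine ⟨e.symm ⟨x, hx⟩, ?_⟩
    show ((e (e.symm ⟨x, hx⟩) : ↥(h.K hm)) : F) = x
    rw [RingEquiv.apply_symm_apply]
  refine ⟨(subHom hk1 hKt hF hdiv φ).range, ⟨?_⟩, ?_⟩
  · exact (MonoidHom.ofInjective (subHom_injective hk1 hKt hF hdiv φ)).symm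
  · exact le_range_subHom hk1 hKt hm hF hdiv φ (h.K hm) hφ M (fun g hg => h.bruhat hm hg)

end CoreConclusion

section Normalise

variable {F : Type*} [Field F] [Fintype F] {m : ℕ}

theorem conj_mem_map_conj {G : Type*} [Group G] {M : Subgroup G} (z : G) {y : G} (hy : y ∈ M) :
    z * y * z⁻¹ ∈ M.map (MulAut.conj z).toMonoidHom := by
  rw [mem_map_conj]
  have : z⁻¹ * (z * y * z⁻¹) * z = y := by group
  rw [this]; exact hy

/-- an involution fixing the point at infinity is a central element of the unipotent group -/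
theorem inv_fix_inf (hm : 1 ≤ m) (hF : Fintype.card F = 2 ^ (2 * m + 1)) {u : ↥(Cfsg.Sz F m)}
    (hu1 : u ≠ 1) (hu2 : u ^ 2 = 1) (hu : u • oInf F m = oInf F m) :
    ∃ b : F, b ≠ 0 ∧ u = tauG hF 0 b := by
  obtain ⟨a, b, k, rfl⟩ := (mem_stab_inf_iff hm hF u).1 (MulAction.mem_stabilizer_iff.2 hu)
  -- the square
  have e : (tauG hF a b * hG hF k) ^ 2 =
      tauG hF a b * tauG hF ((k : F) * a) (sg m (k : F) * k * b) * hG hF (k * k) := by
    rw [sq, hG_mul]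
    calc tauG hF a b * hG hF k * (tauG hF a b * hG hF k)
        = tauG hF a b * (hG hF k * tauG hF a b) * hG hF k := by group
      _ = tauG hF a b * (tauG hF ((k : F) * a) (sg m (k : F) * k * b) * hG hF k) * hG hF k := by
          rw [hG_mul_tauG]
      _ = _ := by group
  rw [e, tauG_mul] at hu2
  have h1 : hG hF (k * k) ∈ Uz hF := by
    have : hG hF (k * k) = (tauG hF (a + (k : F) * a)
        (b + sg m (k : F) * k * b + sg m a * ((k : F) * a)))⁻¹ := by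
      exact eq_inv_of_mul_eq_one_right hu2
    rw [this]
    exact (Uz hF).inv_mem (tauG_mem_Uz hF _ _)
  have h2 := Uz_fix_aff hF h1 zero_ne_inf (hG_smul_zero hF (k * k))
  have hk : k = 1 := unit_sq_eq_one hF (hG_eq_one hF h2)
  subst hk
  rw [hG_one, mul_one] at hu1 ⊢
  simp only [mul_one, one_mul, Units.val_one, sg_one, hG_one] at hu2
  have h3 : a + a = 0 := by linear_combination a * two_eq_zero' hF
  have h4 : b + b = 0 := by linear_combination b * two_eq_zero' hF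
  rw [h3, h4, zero_add, ← tauG_zero hF] at hu2
  have h5 := (tauG_injective hF hu2).2
  have ha : a = 0 := by
    rcases mul_eq_zero.1 h5 with h6 | h6
    · exact sg_eq_zero.1 h6
    · exact h6
  subst ha
  refine ⟨b, ?_, rfl⟩
  rintro rfl
  exact hu1 (tauG_zero hF)

/-- normalising a subgroup with a non-2-element in a point stabiliser -/
theorem exists_coreHyp (hm : 1 ≤ m) (hF : Fintype.card F = 2 ^ (2 * m + 1))
    (M : Subgroup ↥(Cfsg.Sz F m)) (p₀ : ↥(Cfsg.suzukiOvoid F m)) {u₀ x g₀ : ↥(Cfsg.Sz F m)}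
    (hu₀M : u₀ ∈ M) (hu₀1 : u₀ ≠ 1) (hu₀2 : u₀ ^ 2 = 1) (hu₀p : u₀ • p₀ = p₀)
    (hxM : x ∈ M) (hxp : x • p₀ = p₀) (hx4 : x ^ 4 ≠ 1)
    (hg₀M : g₀ ∈ M) (hg₀p : g₀ • p₀ ≠ p₀) :
    ∃ (z : ↥(Cfsg.Sz F m)) (k₂ : Fˣ), CoreHyp hF (M.map (MulAut.conj z).toMonoidHom) k₂ := by
  -- conjugate `x` into the torus
  obtain ⟨z₁, hz₁ | hz₁⟩ := conj_of_fix hm hF hxp
  · exact absurd (pow_four_of_conj_Uz hF hz₁) hx4
  obtain ⟨k₁, hk₁⟩ := (mem_Hz hF _).1 hz₁
  have hx1 : x ≠ 1 := by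
    rintro rfl
    exact hx4 (one_pow 4)
  have hk₁1 : k₁ ≠ 1 := by
    rintro rfl
    rw [hG_one] at hk₁
    apply hx1
    have : x = z₁⁻¹ * (z₁ * x * z₁⁻¹) * z₁ := by group
    rw [this, hk₁]; group
  -- arrange that the base point goes to infinity
  obtain ⟨z₂, k₂, hk₂1, hz₂x, hz₂p⟩ : ∃ (z₂ : ↥(Cfsg.Sz F m)) (k₂ : Fˣ), k₂ ≠ 1 ∧
      z₂ * x * z₂⁻¹ = hG hF k₂ ∧ z₂ • p₀ = oInf F m := by
    have hfix : hG hF k₁ • (z₁ • p₀) = z₁ • p₀ := by
      rw [← hk₁, mul_smul, mul_smul, inv_smul_smul, hxp]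
    rcases hG_fix hF hk₁1 hfix with h1 | h1
    · exact ⟨z₁, k₁, hk₁1, hk₁, h1⟩
    · refine ⟨wG hF * z₁, k₁⁻¹, ?_, ?_, ?_⟩
      · intro h0
        apply hk₁1
        rw [← inv_inv k₁, h0, inv_one]
      · calc wG hF * z₁ * x * (wG hF * z₁)⁻¹ = wG hF * (z₁ * x * z₁⁻¹) * (wG hF)⁻¹ := by group
          _ = wG hF * hG hF k₁ * (wG hF)⁻¹ := by rw [hk₁]
          _ = hG hF k₁⁻¹ * wG hF * (wG hF)⁻¹ := by rw [wG_mul_hG]
          _ = hG hF k₁⁻¹ := by group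
      · rw [mul_smul, h1, wG_smul_oAff_zero]
  -- the involution
  have hu₂ : (z₂ * u₀ * z₂⁻¹) • oInf F m = oInf F m := by
    rw [mul_smul, mul_smul, ← hz₂p, inv_smul_smul, hu₀p]
  have hu₂1 : z₂ * u₀ * z₂⁻¹ ≠ 1 := conj_ne_one' hu₀1
  have hu₂2 : (z₂ * u₀ * z₂⁻¹) ^ 2 = 1 := by rw [conj_pow, hu₀2]; group
  obtain ⟨b₁, hb₁0, hb₁⟩ := inv_fix_inf hm hF hu₂1 hu₂2 hu₂
  obtain ⟨l₀, hl₀⟩ := sgmul_surjective hF b₁⁻¹
  have hl₀0 : l₀ ≠ 0 := by
    rintro rfl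
    rw [sg_zero, zero_mul] at hl₀
    exact inv_ne_zero hb₁0 hl₀.symm
  set L : Fˣ := Units.mk0 l₀ hl₀0 with hL
  refine ⟨hG hF L * z₂, k₂, hk₂1, ?_, ?_, ?_⟩
  · -- the torus element
    have h1 := conj_mem_map_conj (hG hF L * z₂) hxM
    have h2 : hG hF L * z₂ * x * (hG hF L * z₂)⁻¹ = hG hF k₂ := by
      calc hG hF L * z₂ * x * (hG hF L * z₂)⁻¹ = hG hF L * (z₂ * x * z₂⁻¹) * (hG hF L)⁻¹ := by
            group
        _ = hG hF L * hG hF k₂ * (hG hF L)⁻¹ := by rw [hz₂x]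
        _ = hG hF k₂ := by rw [← hG_mul, mul_comm, hG_mul]; group
    rwa [h2] at h1
  · -- the central involution
    have h1 := conj_mem_map_conj (hG hF L * z₂) hu₀M
    have h2 : hG hF L * z₂ * u₀ * (hG hF L * z₂)⁻¹ = tauG hF 0 1 := by
      calc hG hF L * z₂ * u₀ * (hG hF L * z₂)⁻¹ = hG hF L * (z₂ * u₀ * z₂⁻¹) * (hG hF L)⁻¹ := by
            group
        _ = hG hF L * tauG hF 0 b₁ * (hG hF L)⁻¹ := by rw [hb₁]
        _ = tauG hF 0 1 := by
            rw [hG_conj_tauG, hL, Units.val_mk0, mul_zero, hl₀, inv_mul_cancel₀ hb₁0]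
    rwa [h2] at h1
  · -- moving the point at infinity
    refine ⟨_, conj_mem_map_conj (hG hF L * z₂) hg₀M, ?_⟩
    have hzp : (hG hF L * z₂) • p₀ = oInf F m := by
      rw [mul_smul, hz₂p, hG_smul_oInf]
    rw [mul_smul, mul_smul, ← hzp, inv_smul_smul]
    intro h0
    exact hg₀p (MulAction.injective _ h0)

end Normalise

section Final

variable {F : Type*} [Field F] [Fintype F] {m : ℕ}

theorem isCyclic_map_conj {G : Type*} [Group G] (T : Subgroup G) [hT : IsCyclic ↥T] (x : G) :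
    IsCyclic ↥(T.map (MulAut.conj x).toMonoidHom) :=
  isCyclic_of_surjective ((MulAut.conj x).subgroupMap T) ((MulAut.conj x).subgroupMap T).surjective

theorem isCyclic_Hz (hF : Fintype.card F = 2 ^ (2 * m + 1)) : IsCyclic ↥(Hz (m := m) hF) := by
  have : IsCyclic Fˣ := inferInstance
  exact isCyclic_of_surjective (hGHom (m := m) hF).rangeRestrict
    (hGHom (m := m) hF).rangeRestrict_surjective

/-- the maximal tori are cyclic of the expected orders -/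
theorem IsMaxTorus.cyclic_card (hm : 1 ≤ m) {hF : Fintype.card F = 2 ^ (2 * m + 1)}
    {A : Subgroup ↥(Cfsg.Sz F m)} (hA : IsMaxTorus hF A) :
    IsCyclic ↥A ∧ Nat.card ↥A ∈ ({2 ^ (2 * m + 1) - 1, 2 ^ (2 * m + 1) + 2 ^ (m + 1) + 1,
      2 ^ (2 * m + 1) - 2 ^ (m + 1) + 1} : Set ℕ) := by
  rcases hA with ⟨x, rfl⟩ | hT
  · have := isCyclic_Hz (m := m) hF
    refine ⟨isCyclic_map_conj _ x, ?_⟩
    rw [card_map_conj, card_Hz]
    exact Or.inl rfl
  · refine ⟨hT.isCyclic hm hF, ?_⟩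
    obtain ⟨T₁, T₂, hT₁, hT₂, hcov, -, -, hc₁, hc₂⟩ := tori_orders hm hF
    obtain ⟨g, hg, hAg⟩ := hT
    have hgA : g ∈ conjSet A := by rw [hAg]; exact mem_conjSet_centralizer hg
    have hT' : IsTorus F m A := ⟨g, hg, hAg⟩
    rcases hcov hg with h1 | h1
    · obtain ⟨y, hy⟩ := hT₁.conj_of_conjSet_inter hm hF hT' h1 hgA
      rw [hy, card_map_conj, hc₁]
      exact Or.inr (Or.inl rfl)
    · obtain ⟨y, hy⟩ := hT₂.conj_of_conjSet_inter hm hF hT' h1 hgA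
      rw [hy, card_map_conj, hc₂]
      exact Or.inr (Or.inr rfl)

/-- Suzuki's theorem on the subgroups of the Suzuki groups -/
theorem subgroups_sz (hm : 1 ≤ m) (hF : Fintype.card F = 2 ^ (2 * m + 1))
    (M : Subgroup ↥(Cfsg.Sz F m)) (hM : M ≠ ⊤) :
    (∃ P : Sylow 2 ↥(Cfsg.Sz F m), M ≤ Subgroup.normalizer
      ((P : Subgroup ↥(Cfsg.Sz F m)) : Set ↥(Cfsg.Sz F m))) ∨
    (∃ U : Subgroup ↥(Cfsg.Sz F m), IsCyclic ↥U ∧ Nat.card ↥U ∈ ({2 ^ (2 * m + 1) - 1,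
        2 ^ (2 * m + 1) + 2 ^ (m + 1) + 1, 2 ^ (2 * m + 1) - 2 ^ (m + 1) + 1} : Set ℕ) ∧
      M ≤ Subgroup.normalizer (U : Set ↥(Cfsg.Sz F m))) ∨
    (∃ (K : Type) (_ : Field K) (_ : Fintype K) (k : ℕ), 1 ≤ k ∧ k < m ∧
      Fintype.card K = 2 ^ (2 * k + 1) ∧ 2 * k + 1 ∣ 2 * m + 1 ∧
      ∃ S : Subgroup ↥(Cfsg.Sz F m), Nonempty (↥S ≃* ↥(Cfsg.Sz K k)) ∧ M ≤ S) := by
  have : Fact (Nat.Prime 2) := ⟨Nat.prime_two⟩
  by_cases hfixall : ∃ p : ↥(Cfsg.suzukiOvoid F m), ∀ g ∈ M, g • p = p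
  · left
    obtain ⟨p, hp⟩ := hfixall
    obtain ⟨y, rfl⟩ := exists_smul_oInf hF p
    refine ⟨y • Usyl hm hF, ?_⟩
    rw [Cfsg.Agent.S2247.normalizer_smul hm hF y]
    intro g hg
    exact MulAction.mem_stabilizer_iff.2 (hp g hg)
  push Not at hfixall
  right
  by_cases heven : 2 ∣ Nat.card M
  · obtain ⟨u₀', hu₀'⟩ := exists_prime_orderOf_dvd_card' 2 heven
    have hu₀1 : (u₀' : ↥(Cfsg.Sz F m)) ≠ 1 := by
      intro h0
      have : u₀' = 1 := Subtype.ext h0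
      rw [this, orderOf_one] at hu₀'
      omega
    have hu₀2 : (u₀' : ↥(Cfsg.Sz F m)) ^ 2 = 1 := by
      have := pow_orderOf_eq_one u₀'
      rw [hu₀'] at this
      exact coe_sq_eq_one this
    obtain ⟨p₀, hp₀⟩ := two_elt_fix_exists hm hF hu₀1 (pow_four_of_sq hu₀2)
    obtain ⟨g₀, hg₀M, hg₀p⟩ := hfixall p₀
    by_cases h2grp : ∀ g ∈ M, g • p₀ = p₀ → g ^ 4 = 1
    · left
      obtain ⟨A, hA, hMA⟩ := frobenius_case hm hF M p₀ u₀' u₀'.2 hu₀1 hu₀2 hp₀ h2grp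
        ⟨g₀, hg₀M, hg₀p⟩
      obtain ⟨hc, hcard⟩ := hA.cyclic_card hm
      exact ⟨A, hc, hcard, hMA⟩
    · right
      push Not at h2grp
      obtain ⟨x, hxM, hxp, hx4⟩ := h2grp
      obtain ⟨z, k₂, hcore⟩ := exists_coreHyp hm hF M p₀ u₀'.2 hu₀1 hu₀2 hp₀ hxM hxp hx4
        hg₀M hg₀p
      have hM' : M.map (MulAut.conj z).toMonoidHom ≠ ⊤ := by
        intro htop
        apply hM
        rw [eq_top_iff]
        intro y _
        have : z * y * z⁻¹ ∈ M.map (MulAut.conj z).toMonoidHom := by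
          rw [htop]; exact Subgroup.mem_top _
        rw [mem_map_conj] at this
        have e : z⁻¹ * (z * y * z⁻¹) * z = y := by group
        rwa [e] at this
      obtain ⟨K, instK, instKf, k, hk1, hkm, hKcard, hdiv, S₀, ⟨e₀⟩, hle⟩ :=
        core_conclusion hm hF _ k₂ hcore hM'
      refine ⟨K, instK, instKf, k, hk1, hkm, hKcard, hdiv,
        S₀.map (MulAut.conj z⁻¹).toMonoidHom, ⟨?_⟩, ?_⟩
      · exact (((MulAut.conj z⁻¹).subgroupMap S₀).symm).trans e₀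
      · intro y hy
        rw [mem_map_conj, inv_inv]
        exact hle (conj_mem_map_conj z hy)
  · left
    have hne : M ≠ ⊥ := by
      rintro rfl
      obtain ⟨g, hg, hgp⟩ := hfixall (oInf F m)
      rw [Subgroup.mem_bot] at hg
      rw [hg, one_smul] at hgp
      exact hgp rfl
    obtain ⟨A, hA, hMA⟩ := odd_subgroup_le hm hF M heven hne
    obtain ⟨hc, hcard⟩ := hA.cyclic_card hm
    exact ⟨A, hc, hcard, hMA.trans Subgroup.le_normalizer⟩

end Final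

end Cfsg.Agent.Lib.Helper09
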