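import Cfsg.Agent.Lib.Helper09.SuzukiForm

set_option autoImplicit false
set_option linter.unusedSectionVars false

namespace Cfsg.Agent.Lib.Helper09

open Matrix
open scoped Pointwise commutatorElement

section Model

variable {F : Type*} [Field F] [Fintype F] {m : ℕ}

/-- model of the Sylow 2-subgroup: pairs `(a, b)` with
`(a, b) (a', b') = (a + a', b + b' + a^σ a')` -/
def SuzU (_hF : Fintype.card F = 2 ^ (2 * m + 1)) : Type _ := F × F

variable (hF : Fintype.card F = 2 ^ (2 * m + 1))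

@[ext]
theorem SuzU.ext {x y : SuzU hF} (h1 : x.1 = y.1) (h2 : x.2 = y.2) : x = y := Prod.ext h1 h2

noncomputable instance : Group (SuzU hF) where
  mul x y := ((x.1 + y.1, x.2 + y.2 + sg m x.1 * y.1) : F × F)
  one := ((0, 0) : F × F)
  inv x := ((x.1, x.2 + sg m x.1 * x.1) : F × F)
  mul_assoc x y z := by
    apply SuzU.ext
    · show x.1 + y.1 + z.1 = x.1 + (y.1 + z.1)
      ring
    · show x.2 + y.2 + sg m x.1 * y.1 + z.2 + sg m (x.1 + y.1) * z.1
        = x.2 + (y.2 + z.2 + sg m y.1 * z.1) + sg m x.1 * (y.1 + z.1)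
      rw [sg_add hF]
      ring
  one_mul x := by
    apply SuzU.ext
    · show (0 : F) + x.1 = x.1
      ring
    · show (0 : F) + x.2 + sg m 0 * x.1 = x.2
      rw [sg_zero]; ring
  mul_one x := by
    apply SuzU.ext
    · show x.1 + (0 : F) = x.1
      ring
    · show x.2 + (0 : F) + sg m x.1 * 0 = x.2
      ring
  inv_mul_cancel x := by
    have h2 := two_eq_zero' hF
    apply SuzU.ext
    · show x.1 + x.1 = (0 : F)
      linear_combination x.1 * h2
    · show x.2 + sg m x.1 * x.1 + x.2 + sg m x.1 * x.1 = (0 : F)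
      linear_combination (x.2 + sg m x.1 * x.1) * h2

theorem SuzU.mul_fst (x y : SuzU hF) : (x * y).1 = x.1 + y.1 := rfl
theorem SuzU.mul_snd (x y : SuzU hF) : (x * y).2 = x.2 + y.2 + sg m x.1 * y.1 := rfl
theorem SuzU.one_fst : (1 : SuzU hF).1 = 0 := rfl
theorem SuzU.one_snd : (1 : SuzU hF).2 = 0 := rfl
theorem SuzU.inv_fst (x : SuzU hF) : (x⁻¹).1 = x.1 := rfl
theorem SuzU.inv_snd (x : SuzU hF) : (x⁻¹).2 = x.2 + sg m x.1 * x.1 := rfl

/-- constructor -/
def SuzU.mk (a b : F) : SuzU hF := ((a, b) : F × F)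

theorem SuzU.mk_fst (a b : F) : (SuzU.mk hF a b).1 = a := rfl
theorem SuzU.mk_snd (a b : F) : (SuzU.mk hF a b).2 = b := rfl

theorem SuzU.card : Nat.card (SuzU hF) = (2 ^ (2 * m + 1)) ^ 2 := by
  show Nat.card (F × F) = _
  rw [Nat.card_prod, Nat.card_eq_fintype_card, hF, sq]

theorem SuzU.sq_eq (x : SuzU hF) : x * x = SuzU.mk hF 0 (sg m x.1 * x.1) := by
  have h2 := two_eq_zero' hF
  apply SuzU.ext
  · show x.1 + x.1 = 0
    linear_combination x.1 * h2
  · show x.2 + x.2 + sg m x.1 * x.1 = sg m x.1 * x.1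
    linear_combination x.2 * h2

theorem SuzU.pow_four (x : SuzU hF) : x ^ 4 = 1 := by
  have h2 := two_eq_zero' hF
  have : x ^ 4 = (x * x) * (x * x) := by
    rw [show (4 : ℕ) = 2 + 2 from rfl, pow_add, pow_two]
  rw [this, SuzU.sq_eq]
  have hx2 : (x * x).1 = 0 := by
    show x.1 + x.1 = 0
    linear_combination x.1 * h2
  apply SuzU.ext
  · rfl
  · show sg m (x * x).1 * (x * x).1 = 0
    rw [hx2, mul_zero]

theorem SuzU.exponent : Monoid.exponent (SuzU hF) = 4 := by
  have hdvd : Monoid.exponent (SuzU hF) ∣ 4 :=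
    Monoid.exponent_dvd_of_forall_pow_eq_one (SuzU.pow_four hF)
  have hne : ¬ Monoid.exponent (SuzU hF) ∣ 2 := by
    intro h
    have h1 : (SuzU.mk hF 1 0) ^ 2 = 1 := by
      obtain ⟨c, hc⟩ := h
      rw [hc, pow_mul, Monoid.pow_exponent_eq_one, one_pow]
    rw [pow_two, SuzU.sq_eq] at h1
    have := congrArg Prod.snd h1
    simp [SuzU.mk, sg_one] at this
    exact one_ne_zero this
  have h4 : Monoid.exponent (SuzU hF) ∈ Nat.divisors 4 := Nat.mem_divisors.2 ⟨hdvd, by norm_num⟩
  have hd : Nat.divisors 4 = {1, 2, 4} := by decide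
  rw [hd] at h4
  simp only [Finset.mem_insert, Finset.mem_singleton] at h4
  rcases h4 with h | h | h
  · exact absurd (by rw [h]; exact one_dvd 2) hne
  · exact absurd (by rw [h]) hne
  · exact h

include hF in
theorem exists_sg_ne_self (hm : 1 ≤ m) : ∃ z : F, sg m z ≠ z := by
  by_contra hcon
  push Not at hcon
  obtain ⟨z, hz⟩ := exists_sg_ne_sq hm hF
  apply hz
  have h1 : z ^ 2 = sg m z := by rw [← sg_sg hF, hcon (sg m z)]
  rw [h1]
  linear_combination sg m z * two_eq_zero' hF

theorem SuzU.mem_center_iff (hm : 1 ≤ m) (x : SuzU hF) :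
    x ∈ Subgroup.center (SuzU hF) ↔ x.1 = 0 := by
  rw [Subgroup.mem_center_iff]
  constructor
  · intro h
    have key : ∀ g : SuzU hF, sg m g.1 * x.1 = sg m x.1 * g.1 := by
      intro g
      have := congrArg Prod.snd (h g)
      change g.2 + x.2 + sg m g.1 * x.1 = x.2 + g.2 + sg m x.1 * g.1 at this
      linear_combination this
    obtain ⟨z, hz⟩ := exists_sg_ne_self hF hm
    have h1 := key (SuzU.mk hF 1 0)
    have hz' := key (SuzU.mk hF z 0)
    simp only [SuzU.mk_fst, sg_one, one_mul, mul_one] at h1 hz'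
    rw [← h1] at hz'
    have : x.1 * (sg m z - z) = 0 := by linear_combination hz'
    rcases mul_eq_zero.1 this with h0 | h0
    · exact h0
    · exact absurd (sub_eq_zero.1 h0) hz
  · intro hx g
    apply SuzU.ext
    · show g.1 + x.1 = x.1 + g.1
      ring
    · show g.2 + x.2 + sg m g.1 * x.1 = x.2 + g.2 + sg m x.1 * g.1
      rw [hx, sg_zero]; ring

theorem SuzU.commutator_eq (x y : SuzU hF) :
    ⁅x, y⁆ = SuzU.mk hF 0 (sg m x.1 * y.1 + sg m y.1 * x.1) := by
  have h2 := two_eq_zero' hF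
  rw [commutatorElement_def]
  apply SuzU.ext
  · show x.1 + y.1 + x.1 + y.1 = 0
    linear_combination (x.1 + y.1) * h2
  · show x.2 + y.2 + sg m x.1 * y.1 + (x.2 + sg m x.1 * x.1) + sg m (x.1 + y.1) * x.1
        + (y.2 + sg m y.1 * y.1) + sg m (x.1 + y.1 + x.1) * y.1
      = sg m x.1 * y.1 + sg m y.1 * x.1
    rw [sg_add hF, sg_add hF, sg_add hF]
    linear_combination (x.2 + y.2 + sg m x.1 * x.1 + sg m y.1 * y.1 + sg m x.1 * y.1) * h2

theorem SuzU.center_eq_commutator (hm : 1 ≤ m) :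
    Subgroup.center (SuzU hF) = commutator (SuzU hF) := by
  apply le_antisymm
  · intro x hx
    rw [SuzU.mem_center_iff hF hm] at hx
    rw [commutator_eq_closure]
    by_cases hd : x.2 = 0
    · have : x = 1 := SuzU.ext hF hx hd
      rw [this]
      exact one_mem _
    · apply Subgroup.subset_closure
      obtain ⟨u, hu⟩ := exists_sg_ne_self hF hm
      have h2 := two_eq_zero' hF
      have hv : sg m u + u ≠ 0 := by
        intro h
        apply hu
        linear_combination h - u * h2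
      obtain ⟨e, he⟩ : ∃ e : F, e = x.2 / (sg m u + u) := ⟨_, rfl⟩
      have hene : e ≠ 0 := by rw [he]; exact div_ne_zero hd hv
      have hse : sg m e ≠ 0 := fun h => hene (sg_eq_zero.1 h)
      obtain ⟨c, hc⟩ : ∃ c : F, c = sg m e / e := ⟨_, rfl⟩
      have hcc : c * sg m c = e := by
        rw [hc, sg_div, sg_sg hF]
        field_simp
      refine ⟨SuzU.mk hF (u * c) 0, SuzU.mk hF c 0, ?_⟩
      rw [SuzU.commutator_eq]
      apply SuzU.ext
      · exact hx.symm
      · show sg m (u * c) * c + sg m c * (u * c) = x.2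
        rw [sg_mul]
        have : x.2 = e * (sg m u + u) := by rw [he]; field_simp
        rw [this, ← hcc]
        ring
  · rw [commutator_eq_closure, Subgroup.closure_le]
    rintro _ ⟨x, y, rfl⟩
    rw [SetLike.mem_coe, SuzU.mem_center_iff hF hm, SuzU.commutator_eq]
    rfl

theorem SuzU.card_center (hm : 1 ≤ m) :
    Nat.card (Subgroup.center (SuzU hF)) = 2 ^ (2 * m + 1) := by
  have e : F ≃ ↥(Subgroup.center (SuzU hF)) :=
    { toFun := fun b => ⟨SuzU.mk hF 0 b, (SuzU.mem_center_iff hF hm _).2 rfl⟩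
      invFun := fun x => x.1.2
      left_inv := fun b => rfl
      right_inv := fun x => by
        apply Subtype.ext
        apply SuzU.ext
        · exact ((SuzU.mem_center_iff hF hm _).1 x.2).symm
        · rfl }
  rw [← Nat.card_congr e, Nat.card_eq_fintype_card, hF]

end Model

section Transfer

/-- the structural properties asserted of a Sylow 2-subgroup of the Suzuki group -/
def SuzSylowProps (m : ℕ) (Q : Type*) [Group Q] : Prop :=
  Nat.card Q = (2 ^ (2 * m + 1)) ^ 2 ∧ Monoid.exponent Q = 4 ∧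
    Subgroup.center Q = commutator Q ∧ Nat.card (Subgroup.center Q) = 2 ^ (2 * m + 1)

theorem center_map_equiv {Q Q' : Type*} [Group Q] [Group Q'] (e : Q ≃* Q') :
    (Subgroup.center Q).map e.toMonoidHom = Subgroup.center Q' := by
  ext x
  simp only [Subgroup.mem_map, Subgroup.mem_center_iff]
  constructor
  · rintro ⟨y, hy, rfl⟩ g
    obtain ⟨g', rfl⟩ := e.surjective g
    show e g' * e y = e y * e g'
    rw [← map_mul, ← map_mul, hy g']
  · intro hx
    refine ⟨e.symm x, fun g => ?_, e.apply_symm_apply x⟩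
    apply e.injective
    rw [map_mul, map_mul, e.apply_symm_apply]
    exact hx (e g)

theorem commutator_map_equiv {Q Q' : Type*} [Group Q] [Group Q'] (e : Q ≃* Q') :
    (commutator Q).map e.toMonoidHom = commutator Q' := by
  rw [commutator_def, Subgroup.map_commutator, commutator_def]
  have : (⊤ : Subgroup Q).map e.toMonoidHom = ⊤ := by
    rw [← MonoidHom.range_eq_map]
    exact MonoidHom.range_eq_top.2 e.surjective
  rw [this]

theorem SuzSylowProps.of_equiv {m : ℕ} {Q Q' : Type*} [Group Q] [Group Q'] (e : Q ≃* Q')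
    (h : SuzSylowProps m Q) : SuzSylowProps m Q' := by
  obtain ⟨h1, h2, h3, h4⟩ := h
  refine ⟨?_, ?_, ?_, ?_⟩
  · rw [← Nat.card_congr e.toEquiv, h1]
  · rw [← Monoid.exponent_eq_of_mulEquiv e, h2]
  · rw [← center_map_equiv e, ← commutator_map_equiv e, h3]
  · rw [← center_map_equiv e, ← h4]
    exact (Nat.card_congr ((Subgroup.center Q).equivMapOfInjective e.toMonoidHom e.injective).toEquiv).symm

end Transfer

section Sylow

variable {F : Type*} [Field F] [Fintype F] {m : ℕ}

theorem tauM_mul (hF : Fintype.card F = 2 ^ (2 * m + 1)) (a b a' b' : F) :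
    tauM m a b * tauM m a' b' = tauM m (a + a') (b + b' + sg m a * a') := by
  have h2 := two_eq_zero' hF
  have hff := ff_translate hF a b a' b'
  have hff' : ff m (a + a') (b + b' + sg m a * a') = ff m (a' + a) (b' + b + sg m a * a') := by
    congr 1 <;> ring
  ext i j
  fin_cases i <;> fin_cases j <;>
    simp [tauM, Matrix.mul_apply, Fin.sum_univ_four, sg_add hF]
  all_goals try ring1
  · linear_combination (-(sg m a * a')) * h2
  · rw [hff', hff]

theorem tauS_mul (hF : Fintype.card F = 2 ^ (2 * m + 1)) (a b a' b' : F) :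
    tauS m a b * tauS m a' b' = tauS m (a + a') (b + b' + sg m a * a') := by
  apply Subtype.ext
  exact tauM_mul hF a b a' b'

theorem tauS_zero (m : ℕ) : tauS m (0 : F) 0 = 1 := by
  apply Subtype.ext
  show tauM m 0 0 = 1
  ext i j
  fin_cases i <;> fin_cases j <;> simp [tauM, sg_zero, ff_zero_zero]

theorem tauS_injective {a b a' b' : F} (h : tauS m a b = tauS m a' b') : a = a' ∧ b = b' := by
  have hm : tauM m a b = tauM m a' b' := congrArg Subtype.val h
  have h1 := congrFun (congrFun hm 2) 3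
  have h2 := congrFun (congrFun hm 1) 3
  simp [tauM] at h1 h2
  exact ⟨h1, h2⟩

/-- the unipotent subgroup as a homomorphism from the model -/
noncomputable def tauHom (hF : Fintype.card F = 2 ^ (2 * m + 1)) : SuzU hF →* ↥(Cfsg.Sz F m) where
  toFun x := ⟨tauS m x.1 x.2, tauS_mem hF x.1 x.2⟩
  map_one' := by
    apply Subtype.ext
    exact tauS_zero m
  map_mul' x y := by
    apply Subtype.ext
    exact (tauS_mul hF x.1 x.2 y.1 y.2).symm

theorem tauHom_injective (hF : Fintype.card F = 2 ^ (2 * m + 1)) :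
    Function.Injective (tauHom (m := m) hF) := by
  intro x y h
  have h1 : tauS m x.1 x.2 = tauS m y.1 y.2 := congrArg Subtype.val h
  obtain ⟨ha, hb⟩ := tauS_injective h1
  exact SuzU.ext hF ha hb

theorem SuzU.props (hm : 1 ≤ m) (hF : Fintype.card F = 2 ^ (2 * m + 1)) :
    SuzSylowProps m (SuzU hF) :=
  ⟨SuzU.card hF, SuzU.exponent hF, SuzU.center_eq_commutator hF hm, SuzU.card_center hF hm⟩

theorem factorization_card_sz (hm : 1 ≤ m) (hF : Fintype.card F = 2 ^ (2 * m + 1)) :
    (Nat.card (Cfsg.Sz F m)).factorization 2 = 2 * (2 * m + 1) := by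
  rw [card_sz hm hF]
  have : Fact (Nat.Prime 2) := ⟨Nat.prime_two⟩
  have hq : (2 ^ (2 * m + 1)) ^ 2 = 2 ^ (2 * (2 * m + 1)) := by rw [← pow_mul]; ring_nf
  have hq1 : 1 ≤ 2 ^ (2 * m + 1) := Nat.one_le_two_pow
  have hq2 : 2 ∣ 2 ^ (2 * m + 1) := dvd_pow_self 2 (by omega)
  rw [Nat.factorization_def _ Nat.prime_two, mul_assoc, hq]
  have hodd1 : ¬ 2 ∣ (2 ^ (2 * (2 * m + 1)) + 1) := by
    have : 2 ∣ 2 ^ (2 * (2 * m + 1)) := dvd_pow_self 2 (by omega)
    omega
  have hodd2 : ¬ 2 ∣ (2 ^ (2 * m + 1) - 1) := by omega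
  have hne1 : 2 ^ (2 * (2 * m + 1)) + 1 ≠ 0 := by omega
  have hne2 : 2 ^ (2 * m + 1) - 1 ≠ 0 := by
    have : 2 ^ 1 < 2 ^ (2 * m + 1) := Nat.pow_lt_pow_right (by norm_num) (by omega)
    omega
  rw [padicValNat.mul (pow_ne_zero _ (by norm_num)) (mul_ne_zero hne1 hne2),
    padicValNat.prime_pow, padicValNat.mul hne1 hne2,
    padicValNat.eq_zero_of_not_dvd hodd1, padicValNat.eq_zero_of_not_dvd hodd2]
  omega

/-- every Sylow 2-subgroup of `Sz` has the asserted structure -/
theorem sylow_props (hm : 1 ≤ m) (hF : Fintype.card F = 2 ^ (2 * m + 1))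
    (P : Sylow 2 (Cfsg.Sz F m)) : SuzSylowProps m P := by
  have : Fact (Nat.Prime 2) := ⟨Nat.prime_two⟩
  have hcard : Nat.card (tauHom (m := m) hF).range = 2 ^ (Nat.card (Cfsg.Sz F m)).factorization 2 := by
    rw [factorization_card_sz hm hF,
      ← Nat.card_congr (MonoidHom.ofInjective (tauHom_injective hF)).toEquiv, SuzU.card hF,
      ← pow_mul]
    ring_nf
  let Q : Sylow 2 (Cfsg.Sz F m) := Sylow.ofCard (tauHom (m := m) hF).range hcard
  have e1 : SuzU hF ≃* ↥Q := MonoidHom.ofInjective (tauHom_injective hF)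
  have e2 : ↥Q ≃* ↥P := Sylow.equiv Q P
  exact (SuzU.props hm hF).of_equiv (e1.trans e2)

end Sylow

end Cfsg.Agent.Lib.Helper09
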