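import Mathlib

set_option autoImplicit false

namespace Cfsg.Agent.Lib.Helper09

/-- The non-identity elements of `G` conjugate into the subgroup `H`. -/
def conjSet {G : Type*} [Group G] (H : Subgroup G) : Set G :=
  {g : G | g ≠ 1 ∧ ∃ x : G, x * g * x⁻¹ ∈ H}

theorem mem_conjSet {G : Type*} [Group G] (H : Subgroup G) (g : G) :
    g ∈ conjSet H ↔ g ≠ 1 ∧ ∃ x : G, x * g * x⁻¹ ∈ H := Iff.rfl

/-- Counting the non-identity elements conjugate into a TI-subgroup
(same argument as in the statement file S1527 of another seat, restated for a set). -/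
theorem card_conjSet {G : Type*} [Group G] [Finite G] (H : Subgroup G)
    (key : ∀ y : G, ∀ h ∈ H, h ≠ 1 → y * h * y⁻¹ ∈ H → y ∈ Subgroup.normalizer (H : Set G)) :
    Nat.card (conjSet H) = (Subgroup.normalizer (H : Set G)).index * (Nat.card H - 1) := by
  classical
  have hcardH : Nat.card {h : H // h ≠ 1} = Nat.card H - 1 := by
    have := Fintype.ofFinite H
    rw [Nat.card_eq_fintype_card, Nat.card_eq_fintype_card, Fintype.card_subtype_compl,
      Fintype.card_subtype_eq]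
  rw [Subgroup.index, ← hcardH, ← Nat.card_prod]
  symm
  let Φ : (G ⧸ Subgroup.normalizer (H : Set G)) × {h : H // h ≠ 1} → conjSet H := fun p =>
    ⟨p.1.out * (p.2.1 : G) * p.1.out⁻¹, by
      constructor
      · intro h0
        apply p.2.2
        have : (p.2.1 : G) = 1 := by
          have h1 : p.1.out⁻¹ * (p.1.out * (p.2.1 : G) * p.1.out⁻¹) * p.1.out = (p.2.1 : G) := by
            group
          rw [← h1, h0]; group
        exact Subtype.ext this
      · refine ⟨p.1.out⁻¹, ?_⟩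
        have h1 : p.1.out⁻¹ * (p.1.out * (p.2.1 : G) * p.1.out⁻¹) * p.1.out⁻¹⁻¹ = (p.2.1 : G) := by
          group
        rw [h1]; exact p.2.1.2⟩
  refine Nat.card_congr (Equiv.ofBijective Φ ⟨?_, ?_⟩)
  · rintro ⟨q, ⟨h, hh1⟩⟩ ⟨q', ⟨h', hh1'⟩⟩ hpq
    have e : q.out * (h : G) * q.out⁻¹ = q'.out * (h' : G) * q'.out⁻¹ := congrArg Subtype.val hpq
    have hy : (q'.out⁻¹ * q.out) * (h : G) * (q'.out⁻¹ * q.out)⁻¹ ∈ H := by
      have : (q'.out⁻¹ * q.out) * (h : G) * (q'.out⁻¹ * q.out)⁻¹ = (h' : G) := by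
        calc (q'.out⁻¹ * q.out) * (h : G) * (q'.out⁻¹ * q.out)⁻¹
            = q'.out⁻¹ * (q.out * (h : G) * q.out⁻¹) * q'.out := by group
          _ = q'.out⁻¹ * (q'.out * (h' : G) * q'.out⁻¹) * q'.out := by rw [e]
          _ = (h' : G) := by group
      rw [this]; exact h'.2
    have hyN := key _ (h : G) h.2 (fun h0 => hh1 (Subtype.ext h0)) hy
    have hq : q' = q := by
      rw [← q'.out_eq', ← q.out_eq']
      exact QuotientGroup.eq.mpr hyN
    subst hq
    have hh : (h : G) = h' := mul_left_cancel (mul_right_cancel e)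
    have : h = h' := Subtype.ext hh
    subst this
    rfl
  · rintro ⟨g, hg1, x, hx⟩
    obtain ⟨n, hn⟩ : ∃ n : G, n ∈ Subgroup.normalizer (H : Set G) ∧
        (QuotientGroup.mk x⁻¹ : G ⧸ Subgroup.normalizer (H : Set G)).out = x⁻¹ * n := by
      have h1 : (QuotientGroup.mk ((QuotientGroup.mk x⁻¹ : G ⧸ Subgroup.normalizer (H : Set G)).out) :
          G ⧸ Subgroup.normalizer (H : Set G)) = QuotientGroup.mk x⁻¹ := Quotient.out_eq' _
      have h2 := QuotientGroup.eq.mp h1.symm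
      exact ⟨_, h2, by group⟩
    obtain ⟨hnN, hout⟩ := hn
    have hmem : n⁻¹ * (x * g * x⁻¹) * n ∈ H := by
      have := (Subgroup.mem_set_normalizer_iff.mp (inv_mem hnN) (x * g * x⁻¹)).mp hx
      rwa [inv_inv] at this
    have hne : (⟨n⁻¹ * (x * g * x⁻¹) * n, hmem⟩ : H) ≠ 1 := by
      intro h0
      apply hg1
      have h1 : n⁻¹ * (x * g * x⁻¹) * n = 1 := congrArg Subtype.val h0
      have h2 : g = x⁻¹ * n * (n⁻¹ * (x * g * x⁻¹) * n) * n⁻¹ * x := by group
      rw [h2, h1]; group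
    refine ⟨(QuotientGroup.mk x⁻¹, ⟨⟨n⁻¹ * (x * g * x⁻¹) * n, hmem⟩, hne⟩), ?_⟩
    apply Subtype.ext
    show (QuotientGroup.mk x⁻¹ : G ⧸ Subgroup.normalizer (H : Set G)).out *
      (n⁻¹ * (x * g * x⁻¹) * n) *
      (QuotientGroup.mk x⁻¹ : G ⧸ Subgroup.normalizer (H : Set G)).out⁻¹ = g
    rw [hout]; group

end Cfsg.Agent.Lib.Helper09
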