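import Cfsg.Agent.Lib.Helper09.SuzukiAut
import Cfsg.Agent.Lib.Helper09.TICount
import Cfsg.Agent.Lib.Helper09.IrredGalois

set_option autoImplicit false

namespace Cfsg.Agent.Lib.Helper09

open Matrix
open scoped Pointwise

section FixedPoints

variable {F : Type*} [Field F] [Fintype F] {m : ℕ}

/-- an element of the point stabiliser outside the unipotent subgroup fixes an affine point -/
theorem borel_fix_aff (hF : Fintype.card F = 2 ^ (2 * m + 1)) (a b : F) {k : Fˣ} (hk : k ≠ 1) :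
    ∃ c d : F, (tauG hF a b * hG hF k) • oAff m c d = oAff m c d := by
  have h2 := two_eq_zero' hF
  have hk' : (k : F) ≠ 1 := fun h => hk (Units.ext h)
  have hne1 : 1 + (k : F) ≠ 0 := by
    intro h
    apply hk'
    linear_combination h - h2
  have hne2 : 1 + sg m (k : F) * k ≠ 0 := by
    intro h
    apply hk'
    apply eq_one_of_sg_mul_self hF
    linear_combination h - h2
  set c : F := a / (1 + (k : F)) with hc
  set d : F := (b + sg m a * ((k : F) * c)) / (1 + sg m (k : F) * k) with hd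
  have hc' : c * (1 + (k : F)) = a := div_mul_cancel₀ _ hne1
  have hd' : d * (1 + sg m (k : F) * k) = b + sg m a * ((k : F) * c) := div_mul_cancel₀ _ hne2
  refine ⟨c, d, ?_⟩
  rw [mul_smul, hG_smul_oAff, tauG_smul_oAff]
  congr 1
  · linear_combination (-1) * hc' + (c * (k : F)) * h2
  · linear_combination (-1) * hd' + (sg m (k : F) * k * d) * h2

/-- every point of the ovoid is the image of the point at infinity -/
theorem exists_smul_oInf (hF : Fintype.card F = 2 ^ (2 * m + 1)) (ω : ↥(Cfsg.suzukiOvoid F m)) :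
    ∃ y : ↥(Cfsg.Sz F m), y • oInf F m = ω := by
  rcases ovoid_cases ω with rfl | ⟨a, b, rfl⟩
  · exact ⟨1, one_smul _ _⟩
  · exact ⟨tauG hF a b * wG hF, by rw [mul_smul, wG_smul_oInf, tauG_smul_oAff_zero]⟩

/-- an element with a fixed point is conjugate into the unipotent subgroup or into the torus -/
theorem conj_of_fix (hm : 1 ≤ m) (hF : Fintype.card F = 2 ^ (2 * m + 1)) {g : ↥(Cfsg.Sz F m)}
    {ω : ↥(Cfsg.suzukiOvoid F m)} (h : g • ω = ω) :
    ∃ x : ↥(Cfsg.Sz F m), x * g * x⁻¹ ∈ Uz hF ∨ x * g * x⁻¹ ∈ Hz hF := by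
  obtain ⟨y, rfl⟩ := exists_smul_oInf hF ω
  have h1 : (y⁻¹ * g * y) • oInf F m = oInf F m := by
    rw [mul_smul, mul_smul, h, inv_smul_smul]
  obtain ⟨a, b, k, hk⟩ := (mem_stab_inf_iff hm hF _).1 (MulAction.mem_stabilizer_iff.2 h1)
  by_cases hk1 : k = 1
  · refine ⟨y⁻¹, Or.inl ?_⟩
    rw [inv_inv, hk, hk1, hG_one, mul_one]
    exact tauG_mem_Uz hF a b
  · obtain ⟨c, d, hcd⟩ := borel_fix_aff hF a b hk1
    rw [← hk] at hcd
    have e1 : ((tauG hF c d)⁻¹ * (y⁻¹ * g * y) * tauG hF c d) • oInf F m = oInf F m := by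
      rw [mul_smul, mul_smul, tauG_smul_oInf, h1, inv_smul_eq_iff, tauG_smul_oInf]
    have e2 : ((tauG hF c d)⁻¹ * (y⁻¹ * g * y) * tauG hF c d) • oAff m (0 : F) 0 = oAff m 0 0 := by
      rw [mul_smul, mul_smul, tauG_smul_oAff_zero, hcd, inv_smul_eq_iff, tauG_smul_oAff_zero]
    obtain ⟨k₂, hk₂⟩ := eq_hG_of_fix hm hF e1 e2
    refine ⟨(tauG hF c d)⁻¹ * y⁻¹, Or.inr ?_⟩
    rw [(mem_Hz hF _)]
    refine ⟨k₂, ?_⟩
    rw [← hk₂]
    group

theorem fix_of_conj_Uz (hF : Fintype.card F = 2 ^ (2 * m + 1)) {g x : ↥(Cfsg.Sz F m)}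
    (h : x * g * x⁻¹ ∈ Uz hF) : g • (x⁻¹ • oInf F m) = x⁻¹ • oInf F m := by
  obtain ⟨a, b, hab⟩ := (mem_Uz hF _).1 h
  have : g = x⁻¹ * tauG hF a b * x := by rw [← hab]; group
  rw [this, mul_smul, mul_smul, smul_inv_smul, tauG_smul_oInf]

theorem fix_of_conj_Hz (hF : Fintype.card F = 2 ^ (2 * m + 1)) {g x : ↥(Cfsg.Sz F m)}
    (h : x * g * x⁻¹ ∈ Hz hF) : g • (x⁻¹ • oInf F m) = x⁻¹ • oInf F m := by
  obtain ⟨k, hk⟩ := (mem_Hz hF _).1 h
  have : g = x⁻¹ * hG hF k * x := by rw [← hk]; group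
  rw [this, mul_smul, mul_smul, smul_inv_smul, hG_smul_oInf]

/-- the derangements of the Suzuki group -/
def Dset (F : Type*) [Field F] [Fintype F] (m : ℕ) : Set ↥(Cfsg.Sz F m) :=
  {g | ∀ ω : ↥(Cfsg.suzukiOvoid F m), g • ω ≠ ω}

theorem mem_Dset (g : ↥(Cfsg.Sz F m)) :
    g ∈ Dset F m ↔ ∀ ω : ↥(Cfsg.suzukiOvoid F m), g • ω ≠ ω := Iff.rfl

theorem one_not_mem_Dset : (1 : ↥(Cfsg.Sz F m)) ∉ Dset F m := by
  intro h
  exact h (oInf F m) (one_smul _ _)

/-- the key property making the unipotent subgroup a TI subgroup -/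
theorem Uz_key (hm : 1 ≤ m) (hF : Fintype.card F = 2 ^ (2 * m + 1)) (y : ↥(Cfsg.Sz F m))
    (u : ↥(Cfsg.Sz F m)) (hu : u ∈ Uz hF) (hu1 : u ≠ 1) (h : y * u * y⁻¹ ∈ Uz hF) :
    y ∈ Subgroup.normalizer ((Uz hF : Subgroup ↥(Cfsg.Sz F m)) : Set ↥(Cfsg.Sz F m)) := by
  rw [normalizer_Uz hm hF, MulAction.mem_stabilizer_iff]
  obtain ⟨a, b, rfl⟩ := (mem_Uz hF _).1 hu
  obtain ⟨a', b', hab⟩ := (mem_Uz hF _).1 h
  have hne : tauG hF a' b' ≠ 1 := by
    rw [← hab]
    intro h1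
    apply hu1
    have : tauG hF a b = y⁻¹ * (y * tauG hF a b * y⁻¹) * y := by group
    rw [this, h1]; group
  apply tauG_fix hF hne
  rw [← hab, mul_smul, mul_smul, inv_smul_smul, tauG_smul_oInf]

end FixedPoints

section TorusNormalizer

variable {F : Type*} [Field F] [Fintype F] {m : ℕ}

/-- an element permuting the two fixed points of the torus -/
theorem torus_normalizer_cases (hm : 1 ≤ m) (hF : Fintype.card F = 2 ^ (2 * m + 1))
    {y : ↥(Cfsg.Sz F m)} {k k' : Fˣ} (hk : k ≠ 1) (h : y * hG hF k * y⁻¹ = hG hF k') :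
    (∃ l : Fˣ, y = hG hF l) ∨ (∃ l : Fˣ, y = wG hF * hG hF l) := by
  have hk' : k' ≠ 1 := by
    rintro rfl
    apply hk
    apply hG_eq_one hF
    have : hG hF k = y⁻¹ * (y * hG hF k * y⁻¹) * y := by group
    rw [this, h, hG_one]; group
  have hcomm : y * hG hF k = hG hF k' * y := by
    rw [← h]; group
  have hp1 : hG hF k' • (y • oInf F m) = y • oInf F m := by
    rw [← mul_smul, ← hcomm, mul_smul, hG_smul_oInf]
  have hp2 : hG hF k' • (y • oAff m (0 : F) 0) = y • oAff m 0 0 := by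
    rw [← mul_smul, ← hcomm, mul_smul, hG_smul_oAff, mul_zero, mul_zero]
  have hne : y • oInf F m ≠ y • oAff m (0 : F) 0 := by
    intro h0
    exact oInf_ne_oAff 0 0 (MulAction.injective y h0)
  rcases hG_fix hF hk' hp1 with h1 | h1
  · rcases hG_fix hF hk' hp2 with h2 | h2
    · exact absurd (h1.trans h2.symm) hne
    · exact Or.inl (eq_hG_of_fix hm hF h1 h2)
  · rcases hG_fix hF hk' hp2 with h2 | h2
    · right
      have e1 : (wG hF * y) • oInf F m = oInf F m := by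
        rw [mul_smul, h1, wG_smul_oAff_zero]
      have e2 : (wG hF * y) • oAff m (0 : F) 0 = oAff m 0 0 := by
        rw [mul_smul, h2, wG_smul_oInf]
      obtain ⟨l, hl⟩ := eq_hG_of_fix hm hF e1 e2
      exact ⟨l, by rw [← hl, ← mul_assoc, wG_mul_wG, one_mul]⟩
    · exact absurd (h1.trans h2.symm) hne

theorem wG_mul_hG_mem_normalizer (hF : Fintype.card F = 2 ^ (2 * m + 1)) (l : Fˣ) :
    wG hF * hG hF l ∈ Subgroup.normalizer ((Hz hF : Subgroup ↥(Cfsg.Sz F m)) : Set ↥(Cfsg.Sz F m)) := by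
  have hw : wG hF ∈ Subgroup.normalizer ((Hz hF : Subgroup ↥(Cfsg.Sz F m)) : Set ↥(Cfsg.Sz F m)) := by
    rw [Subgroup.mem_normalizer_iff]
    intro g
    constructor
    · intro hg
      obtain ⟨k, rfl⟩ := (mem_Hz hF g).1 hg
      rw [wG_mul_hG, mul_assoc, mul_inv_cancel, mul_one]
      exact (mem_Hz hF _).2 ⟨_, rfl⟩
    · intro hg
      obtain ⟨k, hk⟩ := (mem_Hz hF _).1 hg
      have : g = (wG hF)⁻¹ * hG hF k * wG hF := by rw [← hk]; group
      rw [this, wG_inv, wG_mul_hG, mul_assoc, wG_mul_wG, mul_one]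
      exact (mem_Hz hF _).2 ⟨_, rfl⟩
  exact mul_mem hw (Subgroup.le_normalizer ((mem_Hz hF _).2 ⟨l, rfl⟩))

theorem mem_normalizer_Hz (hm : 1 ≤ m) (hF : Fintype.card F = 2 ^ (2 * m + 1))
    (y : ↥(Cfsg.Sz F m)) :
    y ∈ Subgroup.normalizer ((Hz hF : Subgroup ↥(Cfsg.Sz F m)) : Set ↥(Cfsg.Sz F m)) ↔
      (∃ l : Fˣ, y = hG hF l) ∨ (∃ l : Fˣ, y = wG hF * hG hF l) := by
  constructor
  · intro hy
    obtain ⟨k, hk⟩ := exists_unit_ne_one hm hF
    rw [Subgroup.mem_normalizer_iff] at hy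
    have h1 := (hy (hG hF k)).1 ((mem_Hz hF _).2 ⟨k, rfl⟩)
    obtain ⟨k', hk'⟩ := (mem_Hz hF _).1 h1
    exact torus_normalizer_cases hm hF hk hk'
  · rintro (⟨l, rfl⟩ | ⟨l, rfl⟩)
    · exact Subgroup.le_normalizer ((mem_Hz hF _).2 ⟨l, rfl⟩)
    · exact wG_mul_hG_mem_normalizer hF l

/-- the key property making the torus a TI subgroup -/
theorem Hz_key (hm : 1 ≤ m) (hF : Fintype.card F = 2 ^ (2 * m + 1)) (y : ↥(Cfsg.Sz F m))
    (u : ↥(Cfsg.Sz F m)) (hu : u ∈ Hz hF) (hu1 : u ≠ 1) (h : y * u * y⁻¹ ∈ Hz hF) :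
    y ∈ Subgroup.normalizer ((Hz hF : Subgroup ↥(Cfsg.Sz F m)) : Set ↥(Cfsg.Sz F m)) := by
  obtain ⟨k, rfl⟩ := (mem_Hz hF _).1 hu
  obtain ⟨k', hk'⟩ := (mem_Hz hF _).1 h
  have hk : k ≠ 1 := by
    rintro rfl
    exact hu1 (hG_one hF)
  exact (mem_normalizer_Hz hm hF y).2 (torus_normalizer_cases hm hF hk hk')

theorem card_Hz (hF : Fintype.card F = 2 ^ (2 * m + 1)) :
    Nat.card (Hz (m := m) hF) = 2 ^ (2 * m + 1) - 1 := by
  have hinj : Function.Injective (hGHom (m := m) hF) := fun k l h => hG_injective hF h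
  rw [Hz, ← Nat.card_congr (MonoidHom.ofInjective hinj).toEquiv, card_units hF]

theorem card_normalizer_Hz (hm : 1 ≤ m) (hF : Fintype.card F = 2 ^ (2 * m + 1)) :
    Nat.card (Subgroup.normalizer ((Hz hF : Subgroup ↥(Cfsg.Sz F m)) : Set ↥(Cfsg.Sz F m)))
      = 2 * (2 ^ (2 * m + 1) - 1) := by
  set N := Subgroup.normalizer ((Hz hF : Subgroup ↥(Cfsg.Sz F m)) : Set ↥(Cfsg.Sz F m)) with hN
  have hset : (N : Set ↥(Cfsg.Sz F m)) =
      Set.range (hG (m := m) hF) ∪ Set.range (fun l : Fˣ => wG hF * hG hF l) := by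
    ext y
    rw [SetLike.mem_coe, hN, mem_normalizer_Hz hm hF]
    constructor
    · rintro (⟨l, rfl⟩ | ⟨l, rfl⟩)
      · exact Or.inl ⟨l, rfl⟩
      · exact Or.inr ⟨l, rfl⟩
    · rintro (⟨l, rfl⟩ | ⟨l, rfl⟩)
      · exact Or.inl ⟨l, rfl⟩
      · exact Or.inr ⟨l, rfl⟩
  have hdisj : Disjoint (Set.range (hG (m := m) hF)) (Set.range (fun l : Fˣ => wG hF * hG hF l)) := by
    rw [Set.disjoint_left]
    rintro _ ⟨l, rfl⟩ ⟨l', hl'⟩
    have h0 : wG hF = hG hF l * (hG hF l')⁻¹ := by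
      have : wG hF * hG hF l' = hG hF l := hl'
      rw [← this]; group
    have h3 : wG hF • oInf F m = oInf F m := by
      rw [h0, mul_smul, hG_inv, hG_smul_oInf, hG_smul_oInf]
    rw [wG_smul_oInf] at h3
    exact oInf_ne_oAff 0 0 h3.symm
  have hinj1 : Function.Injective (hG (m := m) hF) := fun k l h => hG_injective hF h
  have hinj2 : Function.Injective (fun l : Fˣ => wG (m := m) hF * hG hF l) :=
    fun k l h => hG_injective hF (mul_left_cancel h)
  have hc1 : (Set.range (hG (m := m) hF)).ncard = 2 ^ (2 * m + 1) - 1 := by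
    rw [← Set.image_univ, Set.ncard_image_of_injective _ hinj1, Set.ncard_univ, card_units hF]
  have hc2 : (Set.range (fun l : Fˣ => wG (m := m) hF * hG hF l)).ncard = 2 ^ (2 * m + 1) - 1 := by
    rw [← Set.image_univ, Set.ncard_image_of_injective _ hinj2, Set.ncard_univ, card_units hF]
  have : Nat.card N = (N : Set ↥(Cfsg.Sz F m)).ncard := (Nat.card_coe_set_eq _)
  rw [this, hset, Set.ncard_union_eq hdisj (Set.toFinite _) (Set.toFinite _), hc1, hc2]
  ring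

end TorusNormalizer

section CountD

variable {F : Type*} [Field F] [Fintype F] {m : ℕ}

theorem card_stab_oInf (hm : 1 ≤ m) (hF : Fintype.card F = 2 ^ (2 * m + 1)) :
    Nat.card ↥(MulAction.stabilizer ↥(Cfsg.Sz F m) (oInf F m))
      = (2 ^ (2 * m + 1)) ^ 2 * (2 ^ (2 * m + 1) - 1) := by
  have : MulAction.stabilizer ↥(Cfsg.Sz F m) (oInf F m)
      = MulAction.stabilizer ↥(Cfsg.Sz F m) (pInf F) := by
    ext g
    rw [MulAction.mem_stabilizer_iff, MulAction.mem_stabilizer_iff, Subtype.ext_iff]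
    rfl
  rw [this, card_stab_inf hm hF]

theorem disjoint_conjSet_Uz_Hz (hF : Fintype.card F = 2 ^ (2 * m + 1)) :
    Disjoint (conjSet (Uz (m := m) hF)) (conjSet (Hz hF)) := by
  rw [Set.disjoint_left]
  rintro g ⟨hg1, x, hx⟩ ⟨-, y, hy⟩
  apply hg1
  obtain ⟨a, b, hab⟩ := (mem_Uz hF _).1 hx
  obtain ⟨k, hk⟩ := (mem_Hz hF _).1 hy
  have h4 : g ^ 4 = 1 := by
    have h1 : (x * g * x⁻¹) ^ 4 = 1 := by rw [hab, tauG_pow_four]
    rw [conj_pow] at h1
    have : g ^ 4 = x⁻¹ * (x * g ^ 4 * x⁻¹) * x := by group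
    rw [this, h1]; group
  have h5 : (y * g * y⁻¹) ^ 4 = 1 := by rw [conj_pow, h4]; group
  rw [hk, hG_pow] at h5
  have h6 := hG_eq_one hF h5
  have h7 : k = 1 := by
    apply Units.ext
    apply fourth_root_one hF
    have := congrArg Units.val h6
    simpa using this
  rw [h7, hG_one] at hk
  have : g = y⁻¹ * (y * g * y⁻¹) * y := by group
  rw [this, hk]; group

theorem univ_eq_union (hm : 1 ≤ m) (hF : Fintype.card F = 2 ^ (2 * m + 1)) :
    (Set.univ : Set ↥(Cfsg.Sz F m)) =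
      (({1} ∪ conjSet (Uz hF)) ∪ conjSet (Hz hF)) ∪ Dset F m := by
  symm
  rw [Set.eq_univ_iff_forall]
  intro g
  by_cases hg1 : g = 1
  · exact Or.inl (Or.inl (Or.inl hg1))
  by_cases hD : g ∈ Dset F m
  · exact Or.inr hD
  · rw [mem_Dset] at hD
    push Not at hD
    obtain ⟨ω, hω⟩ := hD
    obtain ⟨x, hx | hx⟩ := conj_of_fix hm hF hω
    · exact Or.inl (Or.inl (Or.inr ⟨hg1, x, hx⟩))
    · exact Or.inl (Or.inr ⟨hg1, x, hx⟩)

theorem count_arith (q iU iH cD cG : ℕ) (hq8 : 8 ≤ q) (hiU : iU * (q ^ 2 * (q - 1)) = cG)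
    (hiH : iH * (2 * (q - 1)) = cG)
    (hpart : cG = 1 + iU * (q ^ 2 - 1) + iH * (q - 1 - 1) + cD)
    (hG : cG = q ^ 2 * (q ^ 2 + 1) * (q - 1)) : 2 * cD = q ^ 3 * (q - 1) ^ 2 := by
  obtain ⟨s, rfl⟩ : ∃ s, q = s + 2 := ⟨q - 2, by omega⟩
  have e1 : s + 2 - 1 = s + 1 := by omega
  have e2 : s + 1 - 1 = s := by omega
  have e3 : (s + 2) ^ 2 - 1 = (s + 1) * (s + 3) := by
    have : (s + 2) ^ 2 = (s + 1) * (s + 3) + 1 := by ring
    omega
  rw [e1] at hiU hiH hG hpart ⊢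
  rw [e2] at hpart
  rw [e3] at hpart
  have hiU' : iU = (s + 2) ^ 2 + 1 := by
    have hpos : 0 < (s + 2) ^ 2 * (s + 1) := by positivity
    apply Nat.eq_of_mul_eq_mul_right hpos
    rw [hiU, hG]; ring
  have key : (s + 1) * (2 * cD) = (s + 1) * ((s + 2) ^ 3 * (s + 1) ^ 2) := by
    zify at hiH hG hpart hiU' ⊢
    rw [hiU'] at hpart
    linear_combination (-2 * (s + 1 : ℤ)) * hpart + (2 * (s + 1 : ℤ) - s) * hG - (s : ℤ) * hiH
  exact Nat.eq_of_mul_eq_mul_left (by omega) key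

theorem card_Dset (hm : 1 ≤ m) (hF : Fintype.card F = 2 ^ (2 * m + 1)) :
    2 * (Dset F m).ncard = (2 ^ (2 * m + 1)) ^ 3 * (2 ^ (2 * m + 1) - 1) ^ 2 := by
  set q := 2 ^ (2 * m + 1) with hq
  have hq8 : 8 ≤ q := by
    have : 2 ^ 3 ≤ 2 ^ (2 * m + 1) := Nat.pow_le_pow_right (by norm_num) (by omega)
    simpa using this
  -- the four pieces are disjoint
  have hd1 : Disjoint ({1} : Set ↥(Cfsg.Sz F m)) (conjSet (Uz hF)) := by
    rw [Set.disjoint_left]
    rintro g hg ⟨hg1, -⟩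
    exact hg1 hg
  have hd2 : Disjoint (({1} : Set ↥(Cfsg.Sz F m)) ∪ conjSet (Uz hF)) (conjSet (Hz hF)) := by
    rw [Set.disjoint_union_left]
    refine ⟨?_, disjoint_conjSet_Uz_Hz hF⟩
    rw [Set.disjoint_left]
    rintro g hg ⟨hg1, -⟩
    exact hg1 hg
  have hd3 : Disjoint ((({1} : Set ↥(Cfsg.Sz F m)) ∪ conjSet (Uz hF)) ∪ conjSet (Hz hF))
      (Dset F m) := by
    rw [Set.disjoint_left]
    rintro g ((hg | ⟨-, x, hx⟩) | ⟨-, x, hx⟩) hD
    · rw [Set.mem_singleton_iff] at hg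
      rw [hg] at hD
      exact one_not_mem_Dset hD
    · exact hD _ (fix_of_conj_Uz hF hx)
    · exact hD _ (fix_of_conj_Hz hF hx)
  have hpart : Nat.card ↥(Cfsg.Sz F m) =
      1 + (conjSet (Uz (m := m) hF)).ncard + (conjSet (Hz (m := m) hF)).ncard + (Dset F m).ncard := by
    rw [← Set.ncard_univ, univ_eq_union hm hF, Set.ncard_union_eq hd3 (Set.toFinite _) (Set.toFinite _),
      Set.ncard_union_eq hd2 (Set.toFinite _) (Set.toFinite _),
      Set.ncard_union_eq hd1 (Set.toFinite _) (Set.toFinite _), Set.ncard_singleton]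
  -- the two counts
  have hU : (conjSet (Uz (m := m) hF)).ncard
      = (Subgroup.normalizer ((Uz hF : Subgroup ↥(Cfsg.Sz F m)) : Set ↥(Cfsg.Sz F m))).index * (q ^ 2 - 1) := by
    rw [← Nat.card_coe_set_eq, card_conjSet _ (Uz_key hm hF), card_Uz hF]
  have hH : (conjSet (Hz (m := m) hF)).ncard
      = (Subgroup.normalizer ((Hz hF : Subgroup ↥(Cfsg.Sz F m)) : Set ↥(Cfsg.Sz F m))).index * (q - 1 - 1) := by
    rw [← Nat.card_coe_set_eq, card_conjSet _ (Hz_key hm hF), card_Hz hF]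
  have hiU := Subgroup.index_mul_card
    (Subgroup.normalizer ((Uz hF : Subgroup ↥(Cfsg.Sz F m)) : Set ↥(Cfsg.Sz F m)))
  rw [normalizer_Uz hm hF, card_stab_oInf hm hF, ← hq] at hiU
  have hiH := Subgroup.index_mul_card
    (Subgroup.normalizer ((Hz hF : Subgroup ↥(Cfsg.Sz F m)) : Set ↥(Cfsg.Sz F m)))
  rw [card_normalizer_Hz hm hF, ← hq] at hiH
  rw [normalizer_Uz hm hF] at hU
  set iU := (MulAction.stabilizer ↥(Cfsg.Sz F m) (oInf F m)).index with hiUdef
  set iH := (Subgroup.normalizer ((Hz hF : Subgroup ↥(Cfsg.Sz F m)) : Set ↥(Cfsg.Sz F m))).index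
    with hiHdef
  set cD := (Dset F m).ncard with hcD
  set cG := Nat.card ↥(Cfsg.Sz F m) with hcG
  have hG : cG = q ^ 2 * (q ^ 2 + 1) * (q - 1) := card_sz hm hF
  rw [hU, hH] at hpart
  exact count_arith q iU iH cD cG hq8 hiU hiH hpart hG

end CountD

section Derangements

variable {F : Type*} [Field F] [Fintype F] {m : ℕ}

theorem sz_finite : Finite ↥(Cfsg.Sz F m) := inferInstance

/-- a derangement has odd order -/
theorem derangement_odd (hm : 1 ≤ m) (hF : Fintype.card F = 2 ^ (2 * m + 1))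
    {g : ↥(Cfsg.Sz F m)} (hg : g ∈ Dset F m) : ¬ 2 ∣ orderOf g := by
  intro h2
  have : Fact (Nat.Prime 2) := ⟨Nat.prime_two⟩
  set t := g ^ (orderOf g / 2) with ht
  have hto : orderOf t = 2 := orderOf_pow_orderOf_div (orderOf_pos g).ne' h2
  have htp : IsPGroup 2 (Subgroup.zpowers t) := by
    apply IsPGroup.of_card (n := 1)
    rw [Nat.card_zpowers, hto, pow_one]
  obtain ⟨P, hP⟩ := htp.exists_le_sylow
  obtain ⟨x, rfl⟩ := sylow_eq_smul hm hF P
  have htx : t ∈ ((x • Usyl hm hF : Sylow 2 ↥(Cfsg.Sz F m)) : Subgroup ↥(Cfsg.Sz F m)) :=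
    hP (Subgroup.mem_zpowers t)
  rw [Sylow.coe_subgroup_smul, Subgroup.mem_pointwise_smul_iff_inv_smul_mem, coe_Usyl] at htx
  have h1 : (MulAut.conj x)⁻¹ • t = x⁻¹ * t * x := by simp [MulAut.smul_def]
  rw [h1] at htx
  obtain ⟨a, b, hab⟩ := (mem_Uz hF _).1 htx
  have hne : tauG hF a b ≠ 1 := by
    rw [← hab]
    intro h0
    have : t = 1 := by
      have : t = x * (x⁻¹ * t * x) * x⁻¹ := by group
      rw [this, h0]; group
    rw [this, orderOf_one] at hto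
    omega
  -- `g` commutes with `t`, hence fixes the fixed point of `t`
  have hcomm : g * t = t * g := by
    rw [ht, ← pow_succ', ← pow_succ]
  have hfix : tauG hF a b • ((x⁻¹ * g * x) • oInf F m) = (x⁻¹ * g * x) • oInf F m := by
    have : x⁻¹ * t * x * (x⁻¹ * g * x) = x⁻¹ * g * x * (x⁻¹ * t * x) := by
      calc x⁻¹ * t * x * (x⁻¹ * g * x) = x⁻¹ * (t * g) * x := by group
        _ = x⁻¹ * (g * t) * x := by rw [hcomm]
        _ = x⁻¹ * g * x * (x⁻¹ * t * x) := by group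
    rw [← hab, ← mul_smul, this, mul_smul, hab, tauG_smul_oInf]
  have h3 := tauG_fix hF hne hfix
  rw [mul_smul, mul_smul, inv_smul_eq_iff] at h3
  exact hg _ h3

/-- an element of odd order permuting two points fixes them -/
theorem fix_of_odd_swap {G Ω : Type*} [Group G] [MulAction G Ω] {g : G} {α β : Ω}
    (hodd : ¬ 2 ∣ orderOf g) (hα : g • α = β) (hβ : g • β = α) : α = β := by
  have key : ∀ k : ℕ, g ^ (2 * k) • α = α := by
    intro k
    induction k with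
    | zero => simp
    | succ k ih =>
      have : 2 * (k + 1) = 2 * k + 1 + 1 := by ring
      rw [this, pow_succ', pow_succ', mul_smul, mul_smul, ih, hα, hβ]
  obtain ⟨k, hk⟩ : ∃ k, orderOf g = 2 * k + 1 := by
    have : orderOf g % 2 = 1 := by omega
    exact ⟨orderOf g / 2, by omega⟩
  have h1 : g ^ (2 * k + 1) • α = α := by rw [← hk, pow_orderOf_eq_one, one_smul]
  rw [pow_succ', mul_smul, key k, hα] at h1
  exact h1.symm

/-- the prime divisors of the order of a derangement divide `q^2+1` -/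
theorem derangement_prime (hm : 1 ≤ m) (hF : Fintype.card F = 2 ^ (2 * m + 1))
    {g : ↥(Cfsg.Sz F m)} (hg : g ∈ Dset F m) {p : ℕ} (hp : p.Prime) (hpg : p ∣ orderOf g) :
    p ≠ 2 ∧ p ∣ (2 ^ (2 * m + 1)) ^ 2 + 1 := by
  have hodd := derangement_odd hm hF hg
  have hp2 : p ≠ 2 := by
    rintro rfl
    exact hodd hpg
  refine ⟨hp2, ?_⟩
  have hpG : p ∣ Nat.card ↥(Cfsg.Sz F m) := dvd_trans hpg (orderOf_dvd_natCard g)
  rcases prime_dvd_card_sz hm hF hp hpG with h | ⟨-, h⟩ | ⟨-, h⟩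
  · exact absurd h hp2
  · exfalso
    set t := g ^ (orderOf g / p) with ht
    have hto : orderOf t = p := orderOf_pow_orderOf_div (orderOf_pos g).ne' hpg
    obtain ⟨x, k, hk, htx⟩ := exists_conj_hG hm hF hp hp2 h hto
    have hcomm : g * t = t * g := by
      rw [ht, ← pow_succ', ← pow_succ]
    -- `x⁻¹ g x` commutes with `h k`
    have hc : (x⁻¹ * g * x) * hG hF k = hG hF k * (x⁻¹ * g * x) := by
      have : hG hF k = x⁻¹ * t * x := by rw [htx]; group
      rw [this]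
      calc x⁻¹ * g * x * (x⁻¹ * t * x) = x⁻¹ * (g * t) * x := by group
        _ = x⁻¹ * (t * g) * x := by rw [hcomm]
        _ = x⁻¹ * t * x * (x⁻¹ * g * x) := by group
    obtain ⟨l, hl⟩ := commute_hG hm hF hk hc
    have : g • (x • oInf F m) = x • oInf F m := by
      have : g = x * hG hF l * x⁻¹ := by rw [← hl]; group
      rw [this, mul_smul, mul_smul, inv_smul_smul, hG_smul_oInf]
    exact hg _ this
  · exact h

/-- an element of odd prime order dividing `q^2+1` is a derangement -/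
theorem prime_order_derangement (hm : 1 ≤ m) (hF : Fintype.card F = 2 ^ (2 * m + 1))
    {z : ↥(Cfsg.Sz F m)} {p : ℕ} (hp : p.Prime) (hp2 : p ≠ 2)
    (hdvd : p ∣ (2 ^ (2 * m + 1)) ^ 2 + 1) (hz : orderOf z = p) : z ∈ Dset F m := by
  intro ω hω
  have hz1 : z ≠ 1 := by
    rintro rfl
    rw [orderOf_one] at hz
    exact hp.one_lt.ne hz
  obtain ⟨x, hx | hx⟩ := conj_of_fix hm hF hω
  · obtain ⟨a, b, hab⟩ := (mem_Uz hF _).1 hx
    have h1 : (x * z * x⁻¹) ^ 4 = 1 := by rw [hab, tauG_pow_four]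
    rw [conj_pow] at h1
    have h4 : z ^ 4 = 1 := by
      have : z ^ 4 = x⁻¹ * (x * z ^ 4 * x⁻¹) * x := by group
      rw [this, h1]; group
    have := orderOf_dvd_of_pow_eq_one h4
    rw [hz] at this
    have h5 : p ∣ 2 ^ 2 := by simpa using this
    exact hp2 ((Nat.prime_dvd_prime_iff_eq hp Nat.prime_two).1 (hp.dvd_of_dvd_pow h5))
  · obtain ⟨k, hk⟩ := (mem_Hz hF _).1 hx
    have h1 : (x * z * x⁻¹) ^ (2 ^ (2 * m + 1) - 1) = 1 := by
      rw [hk, hG_pow]
      have : k ^ (2 ^ (2 * m + 1) - 1) = 1 := by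
        rw [← card_units hF]
        exact pow_card_eq_one'
      rw [this, hG_one]
    rw [conj_pow] at h1
    have h4 : z ^ (2 ^ (2 * m + 1) - 1) = 1 := by
      have : z ^ (2 ^ (2 * m + 1) - 1) = x⁻¹ * (x * z ^ (2 ^ (2 * m + 1) - 1) * x⁻¹) * x := by group
      rw [this, h1]; group
    have h5 := orderOf_dvd_of_pow_eq_one h4
    rw [hz] at h5
    -- `p` divides `q - 1` and `q^2 + 1`, hence `2`
    set q := 2 ^ (2 * m + 1) with hq
    have hq1 : 1 ≤ q := Nat.one_le_two_pow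
    have h6 : p ∣ 2 := by
      have e : q ^ 2 + 1 = (q - 1) * (q + 1) + 2 := by
        obtain ⟨s, hs⟩ : ∃ s, q = s + 1 := ⟨q - 1, by omega⟩
        rw [hs]
        simp only [Nat.add_sub_cancel]
        ring
      rw [e] at hdvd
      exact (Nat.dvd_add_right (dvd_mul_of_dvd_left h5 _)).1 hdvd
    exact hp2 ((Nat.prime_dvd_prime_iff_eq hp Nat.prime_two).1 h6)

end Derangements

section Tori

variable {F : Type*} [Field F] [Fintype F] {m : ℕ}

/-- the hypotheses on an element of odd prime order dividing `q^2+1` -/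
structure PrimeElt (hF : Fintype.card F = 2 ^ (2 * m + 1)) (z : ↥(Cfsg.Sz F m)) (p : ℕ) : Prop where
  prime : p.Prime
  ne_two : p ≠ 2
  dvd : p ∣ (2 ^ (2 * m + 1)) ^ 2 + 1
  order : orderOf z = p

theorem PrimeElt.irr {hF : Fintype.card F = 2 ^ (2 * m + 1)} {z : ↥(Cfsg.Sz F m)} {p : ℕ}
    (h : PrimeElt hF z p) : IrrHyp (z : Matrix.SpecialLinearGroup (Fin 4) F) p :=
  irrHyp_of_order hF h.prime h.ne_two h.dvd h.order

theorem PrimeElt.ne_one {hF : Fintype.card F = 2 ^ (2 * m + 1)} {z : ↥(Cfsg.Sz F m)} {p : ℕ}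
    (h : PrimeElt hF z p) : z ≠ 1 := by
  rintro rfl
  have := h.order
  rw [orderOf_one] at this
  exact h.prime.one_lt.ne this

/-- a derangement has a power of prime order -/
theorem exists_primeElt (hm : 1 ≤ m) (hF : Fintype.card F = 2 ^ (2 * m + 1))
    {g : ↥(Cfsg.Sz F m)} (hg : g ∈ Dset F m) :
    ∃ (p : ℕ) (j : ℕ), PrimeElt hF (g ^ j) p := by
  have hg1 : g ≠ 1 := fun h => one_not_mem_Dset (h ▸ hg)
  have hn1 : orderOf g ≠ 1 := by rwa [Ne, orderOf_eq_one_iff]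
  obtain ⟨p, hp, hpg⟩ := Nat.exists_prime_and_dvd hn1
  obtain ⟨hp2, hdvd⟩ := derangement_prime hm hF hg hp hpg
  exact ⟨p, orderOf g / p, hp, hp2, hdvd, orderOf_pow_orderOf_div (orderOf_pos g).ne' hpg⟩

theorem mem_centralizer_singleton {G : Type*} [Group G] (z c : G) :
    c ∈ Subgroup.centralizer ({z} : Set G) ↔ c * z = z * c := by
  rw [Subgroup.mem_centralizer_iff]
  constructor
  · intro h
    exact (h z rfl).symm
  · intro h y hy
    rw [Set.mem_singleton_iff] at hy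
    rw [hy, h]

/-- the centraliser of an element of prime order dividing `q^2+1` is commutative -/
theorem PrimeElt.comm {hF : Fintype.card F = 2 ^ (2 * m + 1)} {z : ↥(Cfsg.Sz F m)} {p : ℕ}
    (h : PrimeElt hF z p) {c c' : ↥(Cfsg.Sz F m)}
    (hc : c ∈ Subgroup.centralizer ({z} : Set ↥(Cfsg.Sz F m)))
    (hc' : c' ∈ Subgroup.centralizer ({z} : Set ↥(Cfsg.Sz F m))) : c * c' = c' * c :=
  commute_of_irr h.irr ((mem_centralizer_singleton z c).1 hc) ((mem_centralizer_singleton z c').1 hc')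

/-- nonidentity elements of the centraliser are derangements -/
theorem PrimeElt.derangement (hm : 1 ≤ m) {hF : Fintype.card F = 2 ^ (2 * m + 1)}
    {z : ↥(Cfsg.Sz F m)} {p : ℕ} (h : PrimeElt hF z p) {c : ↥(Cfsg.Sz F m)}
    (hc : c ∈ Subgroup.centralizer ({z} : Set ↥(Cfsg.Sz F m))) (hc1 : c ≠ 1) : c ∈ Dset F m := by
  have hzD := prime_order_derangement hm hF h.prime h.ne_two h.dvd h.order
  have hcz := (mem_centralizer_singleton z c).1 hc
  intro ω hω
  obtain ⟨x, hx | hx⟩ := conj_of_fix hm hF hω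
  · obtain ⟨a, b, hab⟩ := (mem_Uz hF _).1 hx
    have hne : tauG hF a b ≠ 1 := by
      rw [← hab]
      intro h0
      apply hc1
      have : c = x⁻¹ * (x * c * x⁻¹) * x := by group
      rw [this, h0]; group
    have hfix : tauG hF a b • ((x * z * x⁻¹) • oInf F m) = (x * z * x⁻¹) • oInf F m := by
      have : x * c * x⁻¹ * (x * z * x⁻¹) = x * z * x⁻¹ * (x * c * x⁻¹) := by
        calc x * c * x⁻¹ * (x * z * x⁻¹) = x * (c * z) * x⁻¹ := by group
          _ = x * (z * c) * x⁻¹ := by rw [hcz]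
          _ = x * z * x⁻¹ * (x * c * x⁻¹) := by group
      rw [← hab, ← mul_smul, this, mul_smul, hab, tauG_smul_oInf]
    have h3 := tauG_fix hF hne hfix
    rw [mul_smul, mul_smul, smul_eq_iff_eq_inv_smul] at h3
    exact hzD _ h3
  · obtain ⟨k, hk⟩ := (mem_Hz hF _).1 hx
    have hk1 : k ≠ 1 := by
      rintro rfl
      apply hc1
      have : c = x⁻¹ * (x * c * x⁻¹) * x := by group
      rw [this, hk, hG_one]; group
    have hcomm : (x * z * x⁻¹) * hG hF k = hG hF k * (x * z * x⁻¹) := by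
      rw [← hk]
      calc x * z * x⁻¹ * (x * c * x⁻¹) = x * (z * c) * x⁻¹ := by group
        _ = x * (c * z) * x⁻¹ := by rw [hcz]
        _ = x * c * x⁻¹ * (x * z * x⁻¹) := by group
    obtain ⟨l, hl⟩ := commute_hG hm hF hk1 hcomm
    have : z • (x⁻¹ • oInf F m) = x⁻¹ • oInf F m := by
      have : z = x⁻¹ * hG hF l * x := by rw [← hl]; group
      rw [this, mul_smul, mul_smul, smul_inv_smul, hG_smul_oInf]
    exact hzD _ this

/-- two elements of prime order in the same centraliser have the same centraliser -/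
theorem PrimeElt.centralizer_eq {hF : Fintype.card F = 2 ^ (2 * m + 1)}
    {z z' : ↥(Cfsg.Sz F m)} {p p' : ℕ} (h : PrimeElt hF z p) (h' : PrimeElt hF z' p')
    (hzz : z * z' = z' * z) :
    Subgroup.centralizer ({z'} : Set ↥(Cfsg.Sz F m)) = Subgroup.centralizer ({z} : Set ↥(Cfsg.Sz F m)) := by
  have hz_in : z ∈ Subgroup.centralizer ({z'} : Set ↥(Cfsg.Sz F m)) :=
    (mem_centralizer_singleton z' z).2 hzz
  have hz'_in : z' ∈ Subgroup.centralizer ({z} : Set ↥(Cfsg.Sz F m)) :=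
    (mem_centralizer_singleton z z').2 hzz.symm
  ext y
  constructor
  · intro hy
    rw [mem_centralizer_singleton]
    exact h'.comm hy hz_in
  · intro hy
    rw [mem_centralizer_singleton]
    exact h.comm hy hz'_in

/-- the centraliser of a nonidentity element of the centraliser of `z` is the centraliser of `z` -/
theorem PrimeElt.centralizer_eq' (hm : 1 ≤ m) {hF : Fintype.card F = 2 ^ (2 * m + 1)}
    {z : ↥(Cfsg.Sz F m)} {p : ℕ} (h : PrimeElt hF z p) {c : ↥(Cfsg.Sz F m)}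
    (hc : c ∈ Subgroup.centralizer ({z} : Set ↥(Cfsg.Sz F m))) (hc1 : c ≠ 1) :
    Subgroup.centralizer ({c} : Set ↥(Cfsg.Sz F m)) = Subgroup.centralizer ({z} : Set ↥(Cfsg.Sz F m)) := by
  have hcD := h.derangement hm hc hc1
  obtain ⟨p', j, h'⟩ := exists_primeElt hm hF hcD
  have hcz := (mem_centralizer_singleton z c).1 hc
  have hzz : z * c ^ j = c ^ j * z := by
    have : Commute c z := hcz
    exact (this.pow_left j).eq.symm
  have e := h.centralizer_eq h' hzz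
  ext y
  constructor
  · intro hy
    rw [← e, mem_centralizer_singleton]
    have : Commute y c := (mem_centralizer_singleton c y).1 hy
    exact (this.pow_right j).eq
  · intro hy
    rw [mem_centralizer_singleton]
    exact h.comm hy hc

end Tori

section Tori2

variable {F : Type*} [Field F] [Fintype F] {m : ℕ}

/-- a torus: the centraliser of a derangement -/
def IsTorus (F : Type*) [Field F] [Fintype F] (m : ℕ) (T : Subgroup ↥(Cfsg.Sz F m)) : Prop :=
  ∃ g ∈ Dset F m, T = Subgroup.centralizer ({g} : Set ↥(Cfsg.Sz F m))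

theorem IsTorus.exists_primeElt (hm : 1 ≤ m) (hF : Fintype.card F = 2 ^ (2 * m + 1))
    {T : Subgroup ↥(Cfsg.Sz F m)} (hT : IsTorus F m T) :
    ∃ (z : ↥(Cfsg.Sz F m)) (p : ℕ), PrimeElt hF z p ∧
      T = Subgroup.centralizer ({z} : Set ↥(Cfsg.Sz F m)) := by
  obtain ⟨g, hg, rfl⟩ := hT
  obtain ⟨p, j, h⟩ := Cfsg.Agent.Lib.Helper09.exists_primeElt hm hF hg
  have hg1 : g ≠ 1 := fun h => one_not_mem_Dset (h ▸ hg)
  have hgc : g ∈ Subgroup.centralizer ({g ^ j} : Set ↥(Cfsg.Sz F m)) := by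
    rw [mem_centralizer_singleton, ← pow_succ, ← pow_succ']
  exact ⟨g ^ j, p, h, h.centralizer_eq' hm hgc hg1⟩

theorem PrimeElt.isTorus (hm : 1 ≤ m) {hF : Fintype.card F = 2 ^ (2 * m + 1)}
    {z : ↥(Cfsg.Sz F m)} {p : ℕ} (h : PrimeElt hF z p) :
    IsTorus F m (Subgroup.centralizer ({z} : Set ↥(Cfsg.Sz F m))) :=
  ⟨z, prime_order_derangement hm hF h.prime h.ne_two h.dvd h.order, rfl⟩

theorem IsTorus.comm (hm : 1 ≤ m) (hF : Fintype.card F = 2 ^ (2 * m + 1))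
    {T : Subgroup ↥(Cfsg.Sz F m)} (hT : IsTorus F m T) {c c' : ↥(Cfsg.Sz F m)} (hc : c ∈ T)
    (hc' : c' ∈ T) : c * c' = c' * c := by
  obtain ⟨z, p, h, rfl⟩ := hT.exists_primeElt hm hF
  exact h.comm hc hc'

theorem IsTorus.derangement (hm : 1 ≤ m) (hF : Fintype.card F = 2 ^ (2 * m + 1))
    {T : Subgroup ↥(Cfsg.Sz F m)} (hT : IsTorus F m T) {c : ↥(Cfsg.Sz F m)} (hc : c ∈ T)
    (hc1 : c ≠ 1) : c ∈ Dset F m := by
  obtain ⟨z, p, h, rfl⟩ := hT.exists_primeElt hm hF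
  exact h.derangement hm hc hc1

theorem IsTorus.centralizer_eq (hm : 1 ≤ m) (hF : Fintype.card F = 2 ^ (2 * m + 1))
    {T : Subgroup ↥(Cfsg.Sz F m)} (hT : IsTorus F m T) {c : ↥(Cfsg.Sz F m)} (hc : c ∈ T)
    (hc1 : c ≠ 1) : Subgroup.centralizer ({c} : Set ↥(Cfsg.Sz F m)) = T := by
  obtain ⟨z, p, h, rfl⟩ := hT.exists_primeElt hm hF
  exact h.centralizer_eq' hm hc hc1

theorem IsTorus.isCyclic (hm : 1 ≤ m) (hF : Fintype.card F = 2 ^ (2 * m + 1))
    {T : Subgroup ↥(Cfsg.Sz F m)} (hT : IsTorus F m T) : IsCyclic ↥T := by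
  obtain ⟨z, p, h, rfl⟩ := hT.exists_primeElt hm hF
  apply h.irr.isCyclic_of_commute
    ((Cfsg.Sz F m).subtype.comp (Subgroup.centralizer ({z} : Set ↥(Cfsg.Sz F m))).subtype)
  · intro a b hab
    exact Subtype.ext (Subtype.ext hab)
  · intro g
    have := (mem_centralizer_singleton z g.1).1 g.2
    have h1 := congrArg (fun t : ↥(Cfsg.Sz F m) => t.1.1) this
    exact h1.symm

theorem IsTorus.ne_bot (hm : 1 ≤ m) (hF : Fintype.card F = 2 ^ (2 * m + 1))
    {T : Subgroup ↥(Cfsg.Sz F m)} (hT : IsTorus F m T) : ∃ c ∈ T, c ≠ 1 := by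
  obtain ⟨z, p, h, rfl⟩ := hT.exists_primeElt hm hF
  exact ⟨z, (mem_centralizer_singleton z z).2 rfl, h.ne_one⟩

/-- conjugates of tori are tori -/
theorem IsTorus.conj {T : Subgroup ↥(Cfsg.Sz F m)} (hT : IsTorus F m T) (x : ↥(Cfsg.Sz F m)) :
    IsTorus F m (T.map (MulAut.conj x).toMonoidHom) := by
  obtain ⟨g, hg, rfl⟩ := hT
  refine ⟨x * g * x⁻¹, ?_, ?_⟩
  · intro ω hω
    apply hg (x⁻¹ • ω)
    have : g = x⁻¹ * (x * g * x⁻¹) * x := by group
    rw [this, mul_smul, mul_smul, smul_inv_smul, hω]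
  · ext y
    rw [Subgroup.mem_map_equiv, mem_centralizer_singleton, mem_centralizer_singleton]
    simp only [MulAut.conj_symm_apply]
    constructor
    · intro h
      calc y * (x * g * x⁻¹) = x * ((x⁻¹ * y * x) * g) * x⁻¹ := by group
        _ = x * (g * (x⁻¹ * y * x)) * x⁻¹ := by rw [h]
        _ = x * g * x⁻¹ * y := by group
    · intro h
      calc x⁻¹ * y * x * g = x⁻¹ * (y * (x * g * x⁻¹)) * x := by group
        _ = x⁻¹ * ((x * g * x⁻¹) * y) * x := by rw [h]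
        _ = g * (x⁻¹ * y * x) := by group

/-- the key property making a torus a TI subgroup -/
theorem IsTorus.key (hm : 1 ≤ m) (hF : Fintype.card F = 2 ^ (2 * m + 1))
    {T : Subgroup ↥(Cfsg.Sz F m)} (hT : IsTorus F m T) (y : ↥(Cfsg.Sz F m))
    (c : ↥(Cfsg.Sz F m)) (hc : c ∈ T) (hc1 : c ≠ 1) (h : y * c * y⁻¹ ∈ T) :
    y ∈ Subgroup.normalizer ((T : Subgroup ↥(Cfsg.Sz F m)) : Set ↥(Cfsg.Sz F m)) := by
  have hc1' : y * c * y⁻¹ ≠ 1 := by
    intro h0
    apply hc1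
    have : c = y⁻¹ * (y * c * y⁻¹) * y := by group
    rw [this, h0]; group
  have e1 := hT.centralizer_eq hm hF hc hc1
  have e2 := hT.centralizer_eq hm hF h hc1'
  rw [Subgroup.mem_normalizer_iff]
  intro t
  have e3 : (t ∈ T ↔ y * t * y⁻¹ ∈ T) ↔
      (t ∈ Subgroup.centralizer ({c} : Set ↥(Cfsg.Sz F m)) ↔
        y * t * y⁻¹ ∈ Subgroup.centralizer ({y * c * y⁻¹} : Set ↥(Cfsg.Sz F m))) := by
    rw [e1, e2]
  rw [e3, mem_centralizer_singleton, mem_centralizer_singleton]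
  constructor
  · intro h
    calc y * t * y⁻¹ * (y * c * y⁻¹) = y * (t * c) * y⁻¹ := by group
      _ = y * (c * t) * y⁻¹ := by rw [h]
      _ = y * c * y⁻¹ * (y * t * y⁻¹) := by group
  · intro h
    calc t * c = y⁻¹ * (y * t * y⁻¹ * (y * c * y⁻¹)) * y := by group
      _ = y⁻¹ * (y * c * y⁻¹ * (y * t * y⁻¹)) * y := by rw [h]
      _ = c * t := by group

/-- a derangement lies in exactly one torus, its centraliser -/
theorem IsTorus.eq_centralizer (hm : 1 ≤ m) (hF : Fintype.card F = 2 ^ (2 * m + 1))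
    {T : Subgroup ↥(Cfsg.Sz F m)} (hT : IsTorus F m T) {g : ↥(Cfsg.Sz F m)} (hg : g ∈ T)
    (hg1 : g ≠ 1) : T = Subgroup.centralizer ({g} : Set ↥(Cfsg.Sz F m)) :=
  (hT.centralizer_eq hm hF hg hg1).symm

end Tori2

section ToriCard

variable {F : Type*} [Field F] [Fintype F] {m : ℕ}

theorem coprime_aux {q p : ℕ} (hq1 : 1 ≤ q) (hp : p.Prime) (hp2 : p ≠ 2) (h1 : p ∣ q - 1)
    (h2 : p ∣ q ^ 2 + 1) : False := by
  have e : q ^ 2 + 1 = (q - 1) * (q + 1) + 2 := by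
    obtain ⟨s, hs⟩ : ∃ s, q = s + 1 := ⟨q - 1, by omega⟩
    rw [hs]
    simp only [Nat.add_sub_cancel]
    ring
  rw [e] at h2
  have h6 : p ∣ 2 := (Nat.dvd_add_right (dvd_mul_of_dvd_left h1 _)).1 h2
  exact hp2 ((Nat.prime_dvd_prime_iff_eq hp Nat.prime_two).1 h6)

/-- the prime divisors of the order of a torus -/
theorem IsTorus.prime_dvd (hm : 1 ≤ m) (hF : Fintype.card F = 2 ^ (2 * m + 1))
    {T : Subgroup ↥(Cfsg.Sz F m)} (hT : IsTorus F m T) {p : ℕ} (hp : p.Prime)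
    (hpT : p ∣ Nat.card T) : p ≠ 2 ∧ p ∣ (2 ^ (2 * m + 1)) ^ 2 + 1 := by
  have : Fact p.Prime := ⟨hp⟩
  obtain ⟨c, hc⟩ := exists_prime_orderOf_dvd_card' p hpT
  have hc1 : (c : ↥(Cfsg.Sz F m)) ≠ 1 := by
    intro h0
    have : c = 1 := Subtype.ext h0
    rw [this, orderOf_one] at hc
    exact hp.one_lt.ne hc
  have hcD := hT.derangement hm hF c.2 hc1
  apply derangement_prime hm hF hcD hp
  rw [Subgroup.orderOf_coe, hc]

theorem IsTorus.card_dvd (hm : 1 ≤ m) (hF : Fintype.card F = 2 ^ (2 * m + 1))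
    {T : Subgroup ↥(Cfsg.Sz F m)} (hT : IsTorus F m T) :
    Nat.card T ∣ (2 ^ (2 * m + 1)) ^ 2 + 1 := by
  set q := 2 ^ (2 * m + 1) with hq
  have hq1 : 1 ≤ q := Nat.one_le_two_pow
  have h1 : Nat.card T ∣ (q ^ 2 * (q - 1)) * (q ^ 2 + 1) := by
    have := Subgroup.card_subgroup_dvd_card T
    rw [card_sz hm hF] at this
    convert this using 1
    ring
  have hcop : Nat.Coprime (Nat.card T) (q ^ 2 * (q - 1)) := by
    apply Nat.Coprime.symm
    apply Nat.coprime_of_dvd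
    intro p hp hp1 hp2
    obtain ⟨hne2, hdvd⟩ := hT.prime_dvd hm hF hp hp2
    rcases (Nat.Prime.dvd_mul hp).1 hp1 with h | h
    · have h3 := hp.dvd_of_dvd_pow h
      rw [hq] at h3
      have h4 := hp.dvd_of_dvd_pow h3
      exact hne2 ((Nat.prime_dvd_prime_iff_eq hp Nat.prime_two).1 h4)
    · exact coprime_aux hq1 hp hne2 h hdvd
  exact hcop.dvd_of_dvd_mul_left h1

theorem three_not_dvd (m : ℕ) : ¬ 3 ∣ (2 ^ (2 * m + 1)) ^ 2 + 1 := by
  have h : (2 ^ (2 * m + 1)) ^ 2 % 3 = 1 := by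
    rw [← pow_mul]
    have : (2 * m + 1) * 2 = 2 * (2 * m + 1) := by ring
    rw [this, pow_mul]
    norm_num [Nat.pow_mod]
  omega

theorem IsTorus.five_le (hm : 1 ≤ m) (hF : Fintype.card F = 2 ^ (2 * m + 1))
    {T : Subgroup ↥(Cfsg.Sz F m)} (hT : IsTorus F m T) : 5 ≤ Nat.card T := by
  have hdvd := hT.card_dvd hm hF
  have h1 : Nat.card T ≠ 1 := by
    intro h1
    obtain ⟨c, hc, hc1⟩ := hT.ne_bot hm hF
    have := Subgroup.card_le_one_iff_eq_bot (H := T) |>.1 (by rw [h1])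
    rw [this, Subgroup.mem_bot] at hc
    exact hc1 hc
  have h0 : Nat.card T ≠ 0 := Nat.card_pos.ne'
  have h2 : ¬ 2 ∣ Nat.card T := fun h => (hT.prime_dvd hm hF Nat.prime_two h).1 rfl
  have h3 : ¬ 3 ∣ Nat.card T := fun h => three_not_dvd m (dvd_trans h hdvd)
  by_contra hlt
  push Not at hlt
  interval_cases (Nat.card T) <;> simp_all

/-- a torus contains a Sylow subgroup for each prime dividing its order -/
theorem IsTorus.hall (hm : 1 ≤ m) (hF : Fintype.card F = 2 ^ (2 * m + 1))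
    {T : Subgroup ↥(Cfsg.Sz F m)} (hT : IsTorus F m T) {p : ℕ} (hp : p.Prime)
    (hpT : p ∣ Nat.card T) :
    p ^ (Nat.card ↥(Cfsg.Sz F m)).factorization p ∣ Nat.card T := by
  have : Fact p.Prime := ⟨hp⟩
  obtain ⟨hp2, -⟩ := hT.prime_dvd hm hF hp hpT
  obtain ⟨c, hc⟩ := exists_prime_orderOf_dvd_card' p hpT
  have hc1 : (c : ↥(Cfsg.Sz F m)) ≠ 1 := by
    intro h0
    have : c = 1 := Subtype.ext h0
    rw [this, orderOf_one] at hc
    exact hp.one_lt.ne hc
  have hcp : IsPGroup p (Subgroup.zpowers (c : ↥(Cfsg.Sz F m))) := by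
    apply IsPGroup.of_card (n := 1)
    rw [Nat.card_zpowers, Subgroup.orderOf_coe, hc, pow_one]
  obtain ⟨P, hP⟩ := hcp.exists_le_sylow
  have hcyc := sz_sylow_cyclic hm hF hp2 P
  have hcP : (c : ↥(Cfsg.Sz F m)) ∈ (P : Subgroup ↥(Cfsg.Sz F m)) := hP (Subgroup.mem_zpowers _)
  have hle : (P : Subgroup ↥(Cfsg.Sz F m)) ≤ T := by
    intro y hy
    rw [← hT.centralizer_eq hm hF c.2 hc1, mem_centralizer_singleton]
    have hcomm : ∀ a b : ↥P, a * b = b * a := by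
      intro a b
      obtain ⟨g, hg⟩ := hcyc.exists_generator
      obtain ⟨i, rfl⟩ := Subgroup.mem_zpowers_iff.1 (hg a)
      obtain ⟨j, rfl⟩ := Subgroup.mem_zpowers_iff.1 (hg b)
      rw [← _root_.zpow_add, ← _root_.zpow_add, add_comm]
    have := hcomm ⟨y, hy⟩ ⟨c, hcP⟩
    exact congrArg Subtype.val this
  rw [← P.card_eq_multiplicity]
  exact Subgroup.card_dvd_of_le hle

/-- two tori whose orders have a common prime divisor are conjugate -/
theorem IsTorus.conj_of_common_prime (hm : 1 ≤ m) (hF : Fintype.card F = 2 ^ (2 * m + 1))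
    {T T' : Subgroup ↥(Cfsg.Sz F m)} (hT : IsTorus F m T) (hT' : IsTorus F m T') {p : ℕ}
    (hp : p.Prime) (hpT : p ∣ Nat.card T) (hpT' : p ∣ Nat.card T') :
    ∃ x : ↥(Cfsg.Sz F m), T' = T.map (MulAut.conj x).toMonoidHom := by
  have : Fact p.Prime := ⟨hp⟩
  obtain ⟨hp2, -⟩ := hT.prime_dvd hm hF hp hpT
  obtain ⟨c, hc⟩ := exists_prime_orderOf_dvd_card' p hpT
  obtain ⟨c', hc'⟩ := exists_prime_orderOf_dvd_card' p hpT'
  have hc1 : (c : ↥(Cfsg.Sz F m)) ≠ 1 := by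
    intro h0
    have : c = 1 := Subtype.ext h0
    rw [this, orderOf_one] at hc
    exact hp.one_lt.ne hc
  have hc1' : (c' : ↥(Cfsg.Sz F m)) ≠ 1 := by
    intro h0
    have : c' = 1 := Subtype.ext h0
    rw [this, orderOf_one] at hc'
    exact hp.one_lt.ne hc'
  have hcp : IsPGroup p (Subgroup.zpowers (c : ↥(Cfsg.Sz F m))) := by
    apply IsPGroup.of_card (n := 1)
    rw [Nat.card_zpowers, Subgroup.orderOf_coe, hc, pow_one]
  have hcp' : IsPGroup p (Subgroup.zpowers (c' : ↥(Cfsg.Sz F m))) := by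
    apply IsPGroup.of_card (n := 1)
    rw [Nat.card_zpowers, Subgroup.orderOf_coe, hc', pow_one]
  obtain ⟨P, hP⟩ := hcp.exists_le_sylow
  obtain ⟨P', hP'⟩ := hcp'.exists_le_sylow
  obtain ⟨x, hx⟩ := MulAction.exists_smul_eq ↥(Cfsg.Sz F m) P P'
  have hcyc := sz_sylow_cyclic hm hF hp2 P'
  have hcP' : (c' : ↥(Cfsg.Sz F m)) ∈ (P' : Subgroup ↥(Cfsg.Sz F m)) := hP' (Subgroup.mem_zpowers _)
  have hcP : x * (c : ↥(Cfsg.Sz F m)) * x⁻¹ ∈ (P' : Subgroup ↥(Cfsg.Sz F m)) := by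
    rw [← hx, Sylow.coe_subgroup_smul, Subgroup.mem_pointwise_smul_iff_inv_smul_mem]
    have : (MulAut.conj x)⁻¹ • (x * (c : ↥(Cfsg.Sz F m)) * x⁻¹) = c := by
      simp [MulAut.smul_def, mul_assoc]
    rw [this]
    exact hP (Subgroup.mem_zpowers _)
  have hcomm : ∀ a b : ↥P', a * b = b * a := by
    intro a b
    obtain ⟨g, hg⟩ := hcyc.exists_generator
    obtain ⟨i, rfl⟩ := Subgroup.mem_zpowers_iff.1 (hg a)
    obtain ⟨j, rfl⟩ := Subgroup.mem_zpowers_iff.1 (hg b)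
    rw [← _root_.zpow_add, ← _root_.zpow_add, add_comm]
  have h1 : x * (c : ↥(Cfsg.Sz F m)) * x⁻¹ * c' = c' * (x * (c : ↥(Cfsg.Sz F m)) * x⁻¹) :=
    congrArg Subtype.val (hcomm ⟨_, hcP⟩ ⟨_, hcP'⟩)
  -- `x c x⁻¹` lies in `T'`
  have h2 : x * (c : ↥(Cfsg.Sz F m)) * x⁻¹ ∈ T' := by
    rw [← hT'.centralizer_eq hm hF c'.2 hc1', mem_centralizer_singleton]
    exact h1
  have hTx := hT.conj x
  have h3 : x * (c : ↥(Cfsg.Sz F m)) * x⁻¹ ∈ T.map (MulAut.conj x).toMonoidHom :=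
    ⟨c, c.2, rfl⟩
  have hne : x * (c : ↥(Cfsg.Sz F m)) * x⁻¹ ≠ 1 := by
    intro h0
    apply hc1
    have : (c : ↥(Cfsg.Sz F m)) = x⁻¹ * (x * c * x⁻¹) * x := by group
    rw [this, h0]; group
  refine ⟨x, ?_⟩
  rw [hT'.eq_centralizer hm hF h2 hne, hTx.eq_centralizer hm hF h3 hne]

end ToriCard

section ToriNormalizer

variable {F : Type*} [Field F] [Fintype F] {m : ℕ}

/-- conjugation of `z` by an element of the normaliser of its centraliser is a Frobenius power -/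
theorem PrimeElt.conj_eq_pow {hF : Fintype.card F = 2 ^ (2 * m + 1)} {z : ↥(Cfsg.Sz F m)} {p : ℕ}
    (h : PrimeElt hF z p) {x : ↥(Cfsg.Sz F m)}
    (hx : x ∈ Subgroup.normalizer
      ((Subgroup.centralizer ({z} : Set ↥(Cfsg.Sz F m)) : Subgroup ↥(Cfsg.Sz F m)) : Set ↥(Cfsg.Sz F m))) :
    ∃ i : ℕ, i < 4 ∧ x * z * x⁻¹ = z ^ ((2 ^ (2 * m + 1)) ^ i) := by
  have hzT : z ∈ Subgroup.centralizer ({z} : Set ↥(Cfsg.Sz F m)) :=
    (mem_centralizer_singleton z z).2 rfl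
  have h1 := (Subgroup.mem_normalizer_iff.1 hx z).1 hzT
  rw [mem_centralizer_singleton] at h1
  have h2 : (z : Matrix.SpecialLinearGroup (Fin 4) F) * ((x : Matrix.SpecialLinearGroup (Fin 4) F) * z * (x : Matrix.SpecialLinearGroup (Fin 4) F)⁻¹)
      = ((x : Matrix.SpecialLinearGroup (Fin 4) F) * z * (x : Matrix.SpecialLinearGroup (Fin 4) F)⁻¹) * z :=
    (congrArg Subtype.val h1).symm
  obtain ⟨i, hi, hpow⟩ := h.irr.conj_eq_pow (x : Matrix.SpecialLinearGroup (Fin 4) F) h2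
  refine ⟨i, hi, ?_⟩
  apply Subtype.ext
  rw [← hF]
  exact hpow

theorem conj_pow_iter {G : Type*} [Group G] {x z : G} {k : ℕ} (h : x * z * x⁻¹ = z ^ k) (n : ℕ) :
    x ^ n * z * (x ^ n)⁻¹ = z ^ (k ^ n) := by
  induction n with
  | zero => simp
  | succ n ih =>
    calc x ^ (n + 1) * z * (x ^ (n + 1))⁻¹ = x * (x ^ n * z * (x ^ n)⁻¹) * x⁻¹ := by
          rw [pow_succ']; group
      _ = x * z ^ (k ^ n) * x⁻¹ := by rw [ih]
      _ = (x * z * x⁻¹) ^ (k ^ n) := by rw [conj_pow]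
      _ = z ^ (k ^ (n + 1)) := by rw [h, ← pow_mul, pow_succ']

/-- the fourth power of an element of the normaliser of a torus lies in the torus -/
theorem IsTorus.pow_four_mem (hm : 1 ≤ m) (hF : Fintype.card F = 2 ^ (2 * m + 1))
    {T : Subgroup ↥(Cfsg.Sz F m)} (hT : IsTorus F m T) {x : ↥(Cfsg.Sz F m)}
    (hx : x ∈ Subgroup.normalizer ((T : Subgroup ↥(Cfsg.Sz F m)) : Set ↥(Cfsg.Sz F m))) :
    x ^ 4 ∈ T := by
  obtain ⟨z, p, h, rfl⟩ := hT.exists_primeElt hm hF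
  obtain ⟨i, hi, hpow⟩ := h.conj_eq_pow hx
  have h4 := conj_pow_iter hpow 4
  set q := 2 ^ (2 * m + 1) with hq
  have hmod : (q ^ i) ^ 4 ≡ 1 [MOD p] := by
    have : Fact p.Prime := ⟨h.prime⟩
    have hx : ((q : ZMod p)) ^ 2 + 1 = 0 := by
      have := (ZMod.natCast_eq_zero_iff (q ^ 2 + 1) p).2 h.dvd
      push_cast at this
      exact this
    rw [← ZMod.natCast_eq_natCast_iff]
    push_cast
    have h2 : (q : ZMod p) ^ 2 = -1 := by linear_combination hx
    calc ((q : ZMod p) ^ i) ^ 4 = ((q : ZMod p) ^ 2) ^ (2 * i) := by ring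
      _ = 1 := by rw [h2, pow_mul]; simp
  have hz : z ^ ((q ^ i) ^ 4) = z := by
    have := (pow_eq_pow_iff_modEq (x := z) (n := (q ^ i) ^ 4) (m := 1)).2 (by rw [h.order]; exact hmod)
    rwa [pow_one] at this
  rw [hz] at h4
  rw [mem_centralizer_singleton]
  calc x ^ 4 * z = (x ^ 4 * z * (x ^ 4)⁻¹) * x ^ 4 := by group
    _ = z * x ^ 4 := by rw [h4]

/-- the normaliser of a torus has order `n` times the order of the torus with `n ∈ {1, 2, 4}` -/
theorem IsTorus.card_normalizer (hm : 1 ≤ m) (hF : Fintype.card F = 2 ^ (2 * m + 1))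
    {T : Subgroup ↥(Cfsg.Sz F m)} (hT : IsTorus F m T) :
    ∃ n : ℕ, (n = 1 ∨ n = 2 ∨ n = 4) ∧
      Nat.card (Subgroup.normalizer ((T : Subgroup ↥(Cfsg.Sz F m)) : Set ↥(Cfsg.Sz F m)))
        = n * Nat.card T := by
  classical
  set N := Subgroup.normalizer ((T : Subgroup ↥(Cfsg.Sz F m)) : Set ↥(Cfsg.Sz F m)) with hN
  have hle : T ≤ N := Subgroup.le_normalizer
  have hnormal : (T.subgroupOf N).Normal := Subgroup.normal_in_normalizer
  have hcard : (T.subgroupOf N).index * Nat.card T = Nat.card N := by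
    rw [← Nat.card_congr (Subgroup.subgroupOfEquivOfLe hle).toEquiv]
    exact Subgroup.index_mul_card _
  obtain ⟨z, p, h, hTz⟩ := hT.exists_primeElt hm hF
  -- the index is at most four
  have hidx : (T.subgroupOf N).index ≤ 4 := by
    have key : ∀ x : N, ∃ i : Fin 4, (x : ↥(Cfsg.Sz F m)) * z * (x : ↥(Cfsg.Sz F m))⁻¹
        = z ^ ((2 ^ (2 * m + 1)) ^ (i : ℕ)) := by
      intro x
      have hx : (x : ↥(Cfsg.Sz F m)) ∈ Subgroup.normalizer
          ((Subgroup.centralizer ({z} : Set ↥(Cfsg.Sz F m)) : Subgroup ↥(Cfsg.Sz F m)) :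
            Set ↥(Cfsg.Sz F m)) := by
        rw [← hTz]; exact x.2
      obtain ⟨i, hi, hpow⟩ := h.conj_eq_pow hx
      exact ⟨⟨i, hi⟩, hpow⟩
    choose ι hι using key
    -- the quotient injects into `Fin 4`
    have hinj : ∀ a b : N, ι a = ι b → (QuotientGroup.mk a : N ⧸ T.subgroupOf N) = QuotientGroup.mk b := by
      intro a b hab
      rw [QuotientGroup.eq, Subgroup.mem_subgroupOf, hTz, mem_centralizer_singleton]
      have e : (a : ↥(Cfsg.Sz F m)) * z * (a : ↥(Cfsg.Sz F m))⁻¹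
          = (b : ↥(Cfsg.Sz F m)) * z * (b : ↥(Cfsg.Sz F m))⁻¹ := by
        rw [hι a, hι b, hab]
      show ((a⁻¹ * b : N) : ↥(Cfsg.Sz F m)) * z = z * ((a⁻¹ * b : N) : ↥(Cfsg.Sz F m))
      rw [Subgroup.coe_mul, Subgroup.coe_inv]
      calc (a : ↥(Cfsg.Sz F m))⁻¹ * b * z
          = (a : ↥(Cfsg.Sz F m))⁻¹ * ((b : ↥(Cfsg.Sz F m)) * z * (b : ↥(Cfsg.Sz F m))⁻¹) * b := by group
        _ = (a : ↥(Cfsg.Sz F m))⁻¹ * ((a : ↥(Cfsg.Sz F m)) * z * (a : ↥(Cfsg.Sz F m))⁻¹) * b := by rw [e]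
        _ = z * ((a : ↥(Cfsg.Sz F m))⁻¹ * b) := by group
    let f : N ⧸ T.subgroupOf N → Fin 4 := fun c => ι (Quotient.out c)
    have hf : Function.Injective f := by
      intro c d hcd
      have := hinj _ _ hcd
      rwa [QuotientGroup.out_eq', QuotientGroup.out_eq'] at this
    have := Nat.card_le_card_of_injective f hf
    simpa [Subgroup.index] using this
  -- elements of the quotient have fourth power one
  have hexp : ∀ c : N ⧸ T.subgroupOf N, c ^ 4 = 1 := by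
    intro c
    obtain ⟨x, rfl⟩ := QuotientGroup.mk_surjective c
    rw [← QuotientGroup.mk_pow, QuotientGroup.eq_one_iff, Subgroup.mem_subgroupOf]
    rw [Subgroup.coe_pow]
    exact hT.pow_four_mem hm hF x.2
  have hpos : 0 < (T.subgroupOf N).index := Nat.pos_of_ne_zero Subgroup.index_ne_zero_of_finite
  have hne3 : (T.subgroupOf N).index ≠ 3 := by
    intro h3
    have hc3 : ∀ c : N ⧸ T.subgroupOf N, c ^ 3 = 1 := by
      intro c
      have := pow_card_eq_one' (G := N ⧸ T.subgroupOf N) (x := c)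
      rwa [← Subgroup.index, h3] at this
    have htriv : ∀ c : N ⧸ T.subgroupOf N, c = 1 := by
      intro c
      have h4 := hexp c
      rw [pow_succ, hc3 c, one_mul] at h4
      exact h4
    have : (T.subgroupOf N).index = 1 := by
      rw [Subgroup.index, Nat.card_eq_one_iff_unique]
      exact ⟨⟨fun a b => by rw [htriv a, htriv b]⟩, ⟨1⟩⟩
    omega
  refine ⟨(T.subgroupOf N).index, ?_, hcard.symm⟩
  -- the index divides a power of two since the quotient has exponent dividing four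
  have h2grp : IsPGroup 2 (N ⧸ T.subgroupOf N) := by
    intro c
    exact ⟨2, by rw [show (2 : ℕ) ^ 2 = 4 by norm_num]; exact hexp c⟩
  obtain ⟨k, hk⟩ := h2grp.exists_card_eq
  rw [← Subgroup.index] at hk
  have hk2 : k ≤ 2 := by
    by_contra hlt
    push Not at hlt
    have : 2 ^ 3 ≤ 2 ^ k := Nat.pow_le_pow_right (by norm_num) hlt
    omega
  interval_cases k <;> simp_all

end ToriNormalizer

end Cfsg.Agent.Lib.Helper09
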