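import Cfsg.Agent.Lib.Helper09.SuzukiTori

set_option autoImplicit false

namespace Cfsg.Agent.Lib.Helper09

open Matrix
open scoped Pointwise

section ConjSets

variable {F : Type*} [Field F] [Fintype F] {m : ℕ}

theorem Dset_conj {g : ↥(Cfsg.Sz F m)} (x : ↥(Cfsg.Sz F m)) (h : x * g * x⁻¹ ∈ Dset F m) :
    g ∈ Dset F m := by
  intro ω hω
  apply h (x • ω)
  rw [mul_smul, mul_smul, inv_smul_smul, hω]

theorem Dset_conj' {g : ↥(Cfsg.Sz F m)} (x : ↥(Cfsg.Sz F m)) (h : g ∈ Dset F m) :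
    x * g * x⁻¹ ∈ Dset F m := by
  apply Dset_conj x⁻¹
  have : x⁻¹ * (x * g * x⁻¹) * x⁻¹⁻¹ = g := by group
  rw [this]; exact h

theorem conj_ne_one' {G : Type*} [Group G] {g x : G} (h : g ≠ 1) : x * g * x⁻¹ ≠ 1 := by
  intro h0
  apply h
  have : g = x⁻¹ * (x * g * x⁻¹) * x := by group
  rw [this, h0]; group

theorem IsTorus.conjSet_subset (hm : 1 ≤ m) (hF : Fintype.card F = 2 ^ (2 * m + 1))
    {T : Subgroup ↥(Cfsg.Sz F m)} (hT : IsTorus F m T) : conjSet T ⊆ Dset F m := by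
  rintro g ⟨hg1, x, hx⟩
  exact Dset_conj x (hT.derangement hm hF hx (conj_ne_one' hg1))

theorem mem_map_conj {G : Type*} [Group G] (T : Subgroup G) (x g : G) :
    g ∈ T.map (MulAut.conj x).toMonoidHom ↔ x⁻¹ * g * x ∈ T := by
  rw [Subgroup.mem_map_equiv]
  simp [MulAut.conj_symm_apply]

/-- a derangement lies in the set of conjugates of its centraliser -/
theorem mem_conjSet_centralizer {g : ↥(Cfsg.Sz F m)} (hg : g ∈ Dset F m) :
    g ∈ conjSet (Subgroup.centralizer ({g} : Set ↥(Cfsg.Sz F m))) := by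
  refine ⟨fun h => one_not_mem_Dset (h ▸ hg), 1, ?_⟩
  rw [one_mul, inv_one, mul_one, mem_centralizer_singleton]

/-- tori whose conjugate sets meet are conjugate -/
theorem IsTorus.conj_of_conjSet_inter (hm : 1 ≤ m) (hF : Fintype.card F = 2 ^ (2 * m + 1))
    {T T' : Subgroup ↥(Cfsg.Sz F m)} (hT : IsTorus F m T) (hT' : IsTorus F m T')
    {g : ↥(Cfsg.Sz F m)} (hg : g ∈ conjSet T) (hg' : g ∈ conjSet T') :
    ∃ x : ↥(Cfsg.Sz F m), T' = T.map (MulAut.conj x).toMonoidHom := by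
  obtain ⟨hg1, x, hx⟩ := hg
  obtain ⟨-, y, hy⟩ := hg'
  have h1 : g ∈ T.map (MulAut.conj x⁻¹).toMonoidHom := by
    rw [mem_map_conj, inv_inv]; exact hx
  have h2 : g ∈ T'.map (MulAut.conj y⁻¹).toMonoidHom := by
    rw [mem_map_conj, inv_inv]; exact hy
  have e1 := (hT.conj x⁻¹).eq_centralizer hm hF h1 hg1
  have e2 := (hT'.conj y⁻¹).eq_centralizer hm hF h2 hg1
  have e3 : T'.map (MulAut.conj y⁻¹).toMonoidHom = T.map (MulAut.conj x⁻¹).toMonoidHom := by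
    rw [e1, e2]
  refine ⟨y * x⁻¹, ?_⟩
  ext t
  rw [mem_map_conj]
  have h3 : t ∈ T' ↔ y⁻¹ * t * y ∈ T'.map (MulAut.conj y⁻¹).toMonoidHom := by
    rw [mem_map_conj, inv_inv]
    have : y * (y⁻¹ * t * y) * y⁻¹ = t := by group
    rw [this]
  rw [h3, e3, mem_map_conj, inv_inv]
  have : x * (y⁻¹ * t * y) * x⁻¹ = (y * x⁻¹)⁻¹ * t * (y * x⁻¹) := by group
  rw [this]

theorem conjSet_map_conj {G : Type*} [Group G] (T : Subgroup G) (x : G) :
    conjSet (T.map (MulAut.conj x).toMonoidHom) = conjSet T := by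
  ext g
  constructor
  · rintro ⟨hg1, y, hy⟩
    refine ⟨hg1, x⁻¹ * y, ?_⟩
    rw [mem_map_conj] at hy
    have : x⁻¹ * y * g * (x⁻¹ * y)⁻¹ = x⁻¹ * (y * g * y⁻¹) * x := by group
    rw [this]; exact hy
  · rintro ⟨hg1, y, hy⟩
    refine ⟨hg1, x * y, ?_⟩
    rw [mem_map_conj]
    have : x⁻¹ * (x * y * g * (x * y)⁻¹) * x = y * g * y⁻¹ := by group
    rw [this]; exact hy

theorem card_map_conj {G : Type*} [Group G] (T : Subgroup G) (x : G) :
    Nat.card (T.map (MulAut.conj x).toMonoidHom) = Nat.card T :=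
  Subgroup.card_map_of_injective (MulAut.conj x).injective

/-- the size of the set of conjugates of a torus -/
theorem IsTorus.card_conjSet (hm : 1 ≤ m) (hF : Fintype.card F = 2 ^ (2 * m + 1))
    {T : Subgroup ↥(Cfsg.Sz F m)} (hT : IsTorus F m T) :
    (conjSet T).ncard = (Subgroup.normalizer ((T : Subgroup ↥(Cfsg.Sz F m)) : Set ↥(Cfsg.Sz F m))).index
      * (Nat.card T - 1) := by
  rw [← Nat.card_coe_set_eq, Cfsg.Agent.Lib.Helper09.card_conjSet T (hT.key hm hF)]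

/-- the set of conjugates of a torus is large -/
theorem IsTorus.five_mul_card_conjSet (hm : 1 ≤ m) (hF : Fintype.card F = 2 ^ (2 * m + 1))
    {T : Subgroup ↥(Cfsg.Sz F m)} (hT : IsTorus F m T) {n : ℕ}
    (hn : Nat.card (Subgroup.normalizer ((T : Subgroup ↥(Cfsg.Sz F m)) : Set ↥(Cfsg.Sz F m)))
      = n * Nat.card T) :
    4 * Nat.card ↥(Cfsg.Sz F m) ≤ 5 * n * (conjSet T).ncard := by
  rw [hT.card_conjSet hm hF]
  have h5 := hT.five_le hm hF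
  have hidx := Subgroup.index_mul_card
    (Subgroup.normalizer ((T : Subgroup ↥(Cfsg.Sz F m)) : Set ↥(Cfsg.Sz F m)))
  rw [hn] at hidx
  have key : ∀ (a i n : ℕ), 5 ≤ a → 4 * (i * (n * a)) ≤ 5 * n * (i * (a - 1)) := by
    intro a i n ha
    obtain ⟨b, rfl⟩ : ∃ b, a = b + 5 := ⟨a - 5, by omega⟩
    have : b + 5 - 1 = b + 4 := by omega
    rw [this]
    nlinarith [Nat.zero_le (i * n * b), Nat.zero_le (i * n)]
  rw [← hidx]
  exact key _ _ _ h5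

end ConjSets

section Classes

variable {F : Type*} [Field F] [Fintype F] {m : ℕ}

theorem odd_q_sq_add_one (m : ℕ) : ¬ 2 ∣ (2 ^ (2 * m + 1)) ^ 2 + 1 := by
  have : 2 ∣ (2 ^ (2 * m + 1)) ^ 2 := by
    rw [← pow_mul]
    exact dvd_pow_self 2 (by omega)
  omega

theorem q_sq_add_one_dvd_card (hm : 1 ≤ m) (hF : Fintype.card F = 2 ^ (2 * m + 1)) :
    (2 ^ (2 * m + 1)) ^ 2 + 1 ∣ Nat.card ↥(Cfsg.Sz F m) := by
  rw [card_sz hm hF]
  exact ⟨(2 ^ (2 * m + 1)) ^ 2 * (2 ^ (2 * m + 1) - 1), by ring⟩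

theorem exists_primeElt_of_dvd (hm : 1 ≤ m) (hF : Fintype.card F = 2 ^ (2 * m + 1)) {p : ℕ}
    (hp : p.Prime) (hdvd : p ∣ (2 ^ (2 * m + 1)) ^ 2 + 1) :
    ∃ z : ↥(Cfsg.Sz F m), PrimeElt hF z p := by
  have : Fact p.Prime := ⟨hp⟩
  have hp2 : p ≠ 2 := by
    rintro rfl
    exact odd_q_sq_add_one m hdvd
  obtain ⟨z, hz⟩ := exists_prime_orderOf_dvd_card' p (dvd_trans hdvd (q_sq_add_one_dvd_card hm hF))
  exact ⟨z, hp, hp2, hdvd, hz⟩

theorem exists_torus (hm : 1 ≤ m) (hF : Fintype.card F = 2 ^ (2 * m + 1)) :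
    ∃ T : Subgroup ↥(Cfsg.Sz F m), IsTorus F m T := by
  have hne : (2 ^ (2 * m + 1)) ^ 2 + 1 ≠ 1 := by
    have : 0 < (2 ^ (2 * m + 1)) ^ 2 := by positivity
    omega
  obtain ⟨p, hp, hdvd⟩ := Nat.exists_prime_and_dvd hne
  obtain ⟨z, hz⟩ := exists_primeElt_of_dvd hm hF hp hdvd
  exact ⟨_, hz.isTorus hm⟩

/-- if prime powers of `q^2+1` all divide `A` then `q^2+1` divides `A` -/
theorem dvd_of_prime_powers (hm : 1 ≤ m) (hF : Fintype.card F = 2 ^ (2 * m + 1)) (A : ℕ)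
    (hA : ∀ p : ℕ, p.Prime → p ∣ (2 ^ (2 * m + 1)) ^ 2 + 1 →
      p ^ (Nat.card ↥(Cfsg.Sz F m)).factorization p ∣ A) :
    (2 ^ (2 * m + 1)) ^ 2 + 1 ∣ A := by
  by_cases hA0 : A = 0
  · rw [hA0]; exact dvd_zero _
  have hq0 : (2 ^ (2 * m + 1)) ^ 2 + 1 ≠ 0 := by omega
  rw [← Nat.factorization_le_iff_dvd hq0 hA0]
  intro p
  by_cases hp : p.Prime
  · by_cases hdvd : p ∣ (2 ^ (2 * m + 1)) ^ 2 + 1
    · have h1 := (hp.pow_dvd_iff_le_factorization hA0).1 (hA p hp hdvd)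
      have hG0 : Nat.card ↥(Cfsg.Sz F m) ≠ 0 := Nat.card_pos.ne'
      have h2 := (Nat.factorization_le_iff_dvd hq0 hG0).2 (q_sq_add_one_dvd_card hm hF) p
      exact le_trans h2 h1
    · rw [Nat.factorization_eq_zero_of_not_dvd hdvd]
      exact Nat.zero_le _
  · rw [Nat.factorization_eq_zero_of_not_prime _ hp]
    exact Nat.zero_le _

/-- an element of prime order conjugate into a torus: the full prime power divides the order -/
theorem IsTorus.pow_dvd_of_mem_conjSet (hm : 1 ≤ m) (hF : Fintype.card F = 2 ^ (2 * m + 1))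
    {T : Subgroup ↥(Cfsg.Sz F m)} (hT : IsTorus F m T) {z : ↥(Cfsg.Sz F m)} {p : ℕ}
    (hz : PrimeElt hF z p) (hzT : z ∈ conjSet T) :
    p ^ (Nat.card ↥(Cfsg.Sz F m)).factorization p ∣ Nat.card T := by
  obtain ⟨-, x, hx⟩ := hzT
  apply hT.hall hm hF hz.prime
  have h1 : orderOf (x * z * x⁻¹) = p := by
    have : x * z * x⁻¹ = MulAut.conj x z := rfl
    rw [this, MulEquiv.orderOf_eq, hz.order]
  have h2 := Subgroup.orderOf_dvd_natCard T hx
  rwa [h1] at h2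

theorem mem_Dset_of_primeElt (hm : 1 ≤ m) {hF : Fintype.card F = 2 ^ (2 * m + 1)}
    {z : ↥(Cfsg.Sz F m)} {p : ℕ} (hz : PrimeElt hF z p) : z ∈ Dset F m :=
  prime_order_derangement hm hF hz.prime hz.ne_two hz.dvd hz.order

end Classes

section Main

variable {F : Type*} [Field F] [Fintype F] {m : ℕ}

theorem one_class_arith (q idx n : ℕ) (hq : 8 ≤ q) (h1 : idx * n = q ^ 2 * (q - 1))
    (h2 : 2 * (idx * q ^ 2) = q ^ 3 * (q - 1) ^ 2) (hn : n = 1 ∨ n = 2 ∨ n = 4) : False := by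
  obtain ⟨s, rfl⟩ : ∃ s, q = s + 1 := ⟨q - 1, by omega⟩
  simp only [Nat.add_sub_cancel] at h1 h2
  have hpos : 0 < (s + 1) ^ 2 := by positivity
  have h3 : 2 * idx = (s + 1) * s ^ 2 := by
    apply Nat.eq_of_mul_eq_mul_right hpos
    have : 2 * idx * (s + 1) ^ 2 = 2 * (idx * (s + 1) ^ 2) := by ring
    rw [this, h2]; ring
  have h4 : n * ((s + 1) * s ^ 2) = 2 * ((s + 1) ^ 2 * s) := by
    rw [← h3, ← h1]; ring
  have hs : 0 < (s + 1) * s := by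
    have : 0 < s := by omega
    positivity
  have h5 : n * s = 2 * (s + 1) := by
    apply Nat.eq_of_mul_eq_mul_right hs
    rw [show n * s * ((s + 1) * s) = n * ((s + 1) * s ^ 2) by ring, h4]; ring
  rcases hn with rfl | rfl | rfl <;> omega

theorem two_class_arith (q a₁ a₂ i₁ i₂ d : ℕ) (hq : 8 ≤ q) (ha : a₁ * a₂ = q ^ 2 + 1)
    (h1 : i₁ * (4 * a₁) = q ^ 2 * (q ^ 2 + 1) * (q - 1))
    (h2 : i₂ * (4 * a₂) = q ^ 2 * (q ^ 2 + 1) * (q - 1))
    (hd : d = i₁ * (a₁ - 1) + i₂ * (a₂ - 1)) (hD : 2 * d = q ^ 3 * (q - 1) ^ 2)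
    (ha1 : 1 ≤ a₁) (ha2 : 1 ≤ a₂) : a₁ + a₂ = 2 * q + 2 := by
  obtain ⟨s, rfl⟩ : ∃ s, q = s + 1 := ⟨q - 1, by omega⟩
  obtain ⟨b₁, rfl⟩ : ∃ b, a₁ = b + 1 := ⟨a₁ - 1, by omega⟩
  obtain ⟨b₂, rfl⟩ : ∃ b, a₂ = b + 1 := ⟨a₂ - 1, by omega⟩
  simp only [Nat.add_sub_cancel] at h1 h2 hd hD
  have e1 : 4 * i₁ = (s + 1) ^ 2 * s * (b₂ + 1) := by
    have hpos : 0 < b₁ + 1 := by omega
    apply Nat.eq_of_mul_eq_mul_right hpos
    rw [show 4 * i₁ * (b₁ + 1) = i₁ * (4 * (b₁ + 1)) by ring, h1, ← ha]; ring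
  have e2 : 4 * i₂ = (s + 1) ^ 2 * s * (b₁ + 1) := by
    have hpos : 0 < b₂ + 1 := by omega
    apply Nat.eq_of_mul_eq_mul_right hpos
    rw [show 4 * i₂ * (b₂ + 1) = i₂ * (4 * (b₂ + 1)) by ring, h2, ← ha]; ring
  have hs : 0 < s := by omega
  have hpos : (0 : ℤ) < 2 * ((s : ℤ) + 1) ^ 2 * s := by positivity
  have key : (2 * ((s : ℤ) + 1) ^ 2 * s) * ((b₁ : ℤ) + 1 + (b₂ + 1))
      = (2 * ((s : ℤ) + 1) ^ 2 * s) * (2 * (s + 1) + 2) := by
    zify at e1 e2 hd hD ha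
    have hd8 : (8 : ℤ) * d = 2 * ((4 * i₁) * b₁ + (4 * i₂) * b₂) := by rw [hd]; ring
    rw [e1, e2] at hd8
    linear_combination hd8 - 4 * hD + (4 * ((s : ℤ) + 1) ^ 2 * s) * ha
  have := mul_left_cancel₀ hpos.ne' key
  exact_mod_cast this

theorem orders_arith (q s a₁ a₂ : ℕ) (hs : s ^ 2 = 2 * q) (hsum : a₁ + a₂ = 2 * q + 2)
    (hprod : a₁ * a₂ = q ^ 2 + 1) :
    (a₁ = q + s + 1 ∧ a₂ = q - s + 1) ∨ (a₁ = q - s + 1 ∧ a₂ = q + s + 1) := by
  have hsq : s ≤ q := by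
    by_contra hlt
    push Not at hlt
    have : q * q < s * s := Nat.mul_lt_mul'' hlt hlt
    have hq2 : q < 2 := by nlinarith
    interval_cases q <;> simp_all <;> nlinarith
  have key : ((a₁ : ℤ) - a₂ - 2 * s) * ((a₁ : ℤ) - a₂ + 2 * s) = 0 := by
    zify at hs hsum hprod
    have e : ((a₁ : ℤ) - a₂) ^ 2 = ((a₁ : ℤ) + a₂) ^ 2 - 4 * (a₁ * a₂) := by ring
    have : ((a₁ : ℤ) - a₂) ^ 2 = 4 * s ^ 2 := by rw [e, hsum, hprod, hs]; ring
    linear_combination this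
  rcases mul_eq_zero.1 key with h | h
  · left
    zify [hsq]
    zify at hsum
    constructor <;> linarith
  · right
    zify [hsq]
    zify at hsum
    constructor <;> linarith

end Main

section Main2

variable {F : Type*} [Field F] [Fintype F] {m : ℕ}

theorem card_lt_aux (hm : 1 ≤ m) (hF : Fintype.card F = 2 ^ (2 * m + 1)) :
    2 * (Dset F m).ncard < Nat.card ↥(Cfsg.Sz F m) := by
  rw [card_Dset hm hF, card_sz hm hF]
  set q := 2 ^ (2 * m + 1) with hq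
  have hq8 : 8 ≤ q := by
    have : 2 ^ 3 ≤ 2 ^ (2 * m + 1) := Nat.pow_le_pow_right (by norm_num) (by omega)
    simpa using this
  obtain ⟨s, hs⟩ : ∃ s, q = s + 1 := ⟨q - 1, by omega⟩
  rw [hs]
  simp only [Nat.add_sub_cancel]
  have : 0 < s := by omega
  nlinarith [Nat.zero_le (s ^ 3), Nat.zero_le (s ^ 4), Nat.zero_le (s^2), Nat.zero_le (s^5)]

omit [Fintype F] in
theorem not_conj_of_not_mem {T T' : Subgroup ↥(Cfsg.Sz F m)} {g : ↥(Cfsg.Sz F m)}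
    (hg : g ∈ conjSet T') (hg' : g ∉ conjSet T) :
    ¬ ∃ x : ↥(Cfsg.Sz F m), T' = T.map (MulAut.conj x).toMonoidHom := by
  rintro ⟨x, rfl⟩
  rw [conjSet_map_conj] at hg
  exact hg' hg

theorem IsTorus.disjoint_of_not_conj (hm : 1 ≤ m) (hF : Fintype.card F = 2 ^ (2 * m + 1))
    {T T' : Subgroup ↥(Cfsg.Sz F m)} (hT : IsTorus F m T) (hT' : IsTorus F m T')
    (h : ¬ ∃ x : ↥(Cfsg.Sz F m), T' = T.map (MulAut.conj x).toMonoidHom) :
    Disjoint (conjSet T) (conjSet T') := by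
  rw [Set.disjoint_left]
  intro g hg hg'
  exact h (hT.conj_of_conjSet_inter hm hF hT' hg hg')

theorem IsTorus.coprime_of_not_conj (hm : 1 ≤ m) (hF : Fintype.card F = 2 ^ (2 * m + 1))
    {T T' : Subgroup ↥(Cfsg.Sz F m)} (hT : IsTorus F m T) (hT' : IsTorus F m T')
    (h : ¬ ∃ x : ↥(Cfsg.Sz F m), T' = T.map (MulAut.conj x).toMonoidHom) :
    Nat.Coprime (Nat.card T) (Nat.card T') := by
  apply Nat.coprime_of_dvd
  intro p hp h1 h2
  exact h (hT.conj_of_common_prime hm hF hT' hp h1 h2)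

theorem IsTorus.card_le_of_normalizer (hm : 1 ≤ m) (hF : Fintype.card F = 2 ^ (2 * m + 1))
    {T : Subgroup ↥(Cfsg.Sz F m)} (hT : IsTorus F m T) :
    Nat.card ↥(Cfsg.Sz F m) ≤ 5 * (conjSet T).ncard := by
  obtain ⟨n, hn, hN⟩ := hT.card_normalizer hm hF
  have := hT.five_mul_card_conjSet hm hF hN
  rcases hn with rfl | rfl | rfl <;> omega

/-- the tori fall into two conjugacy classes -/
theorem tori_classes (hm : 1 ≤ m) (hF : Fintype.card F = 2 ^ (2 * m + 1)) :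
    ∃ T₁ T₂ : Subgroup ↥(Cfsg.Sz F m), IsTorus F m T₁ ∧ IsTorus F m T₂ ∧
      Dset F m ⊆ conjSet T₁ ∪ conjSet T₂ ∧ Disjoint (conjSet T₁) (conjSet T₂) ∧
      Nat.card (Subgroup.normalizer ((T₁ : Subgroup ↥(Cfsg.Sz F m)) : Set ↥(Cfsg.Sz F m)))
        = 4 * Nat.card T₁ ∧
      Nat.card (Subgroup.normalizer ((T₂ : Subgroup ↥(Cfsg.Sz F m)) : Set ↥(Cfsg.Sz F m)))
        = 4 * Nat.card T₂ ∧
      Nat.card T₁ * Nat.card T₂ = (2 ^ (2 * m + 1)) ^ 2 + 1 := by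
  have hlt := card_lt_aux hm hF
  have hq8 : 8 ≤ 2 ^ (2 * m + 1) := by
    have : 2 ^ 3 ≤ 2 ^ (2 * m + 1) := Nat.pow_le_pow_right (by norm_num) (by omega)
    simpa using this
  obtain ⟨T₁, hT₁⟩ := exists_torus hm hF
  -- a single class does not suffice
  have hstep2 : ¬ Dset F m ⊆ conjSet T₁ := by
    intro hsub
    have hDeq : Dset F m = conjSet T₁ := Set.Subset.antisymm hsub (hT₁.conjSet_subset hm hF)
    have ha₁ : Nat.card T₁ = (2 ^ (2 * m + 1)) ^ 2 + 1 := by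
      apply Nat.dvd_antisymm (hT₁.card_dvd hm hF)
      apply dvd_of_prime_powers hm hF
      intro p hp hdvd
      obtain ⟨z, hz⟩ := exists_primeElt_of_dvd hm hF hp hdvd
      exact hT₁.pow_dvd_of_mem_conjSet hm hF hz (hsub (mem_Dset_of_primeElt hm hz))
    obtain ⟨n₁, hn₁, hN₁⟩ := hT₁.card_normalizer hm hF
    have hcount := hT₁.card_conjSet hm hF
    have hidx := Subgroup.index_mul_card
      (Subgroup.normalizer ((T₁ : Subgroup ↥(Cfsg.Sz F m)) : Set ↥(Cfsg.Sz F m)))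
    rw [hN₁, ha₁, card_sz hm hF] at hidx
    rw [ha₁, Nat.add_sub_cancel, ← hDeq] at hcount
    have hD := card_Dset hm hF
    rw [hcount] at hD
    have h1 : (Subgroup.normalizer ((T₁ : Subgroup ↥(Cfsg.Sz F m)) : Set ↥(Cfsg.Sz F m))).index * n₁
        = (2 ^ (2 * m + 1)) ^ 2 * (2 ^ (2 * m + 1) - 1) := by
      have hpos : 0 < (2 ^ (2 * m + 1)) ^ 2 + 1 := by omega
      apply Nat.eq_of_mul_eq_mul_right hpos
      rw [mul_assoc, hidx]; ring
    exact one_class_arith _ _ _ hq8 h1 hD hn₁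
  rw [Set.not_subset] at hstep2
  obtain ⟨g, hgD, hg₁⟩ := hstep2
  set T₂ := Subgroup.centralizer ({g} : Set ↥(Cfsg.Sz F m)) with hT₂def
  have hT₂ : IsTorus F m T₂ := ⟨g, hgD, rfl⟩
  have hg₂ : g ∈ conjSet T₂ := mem_conjSet_centralizer hgD
  have hnc := not_conj_of_not_mem hg₂ hg₁
  have hdisj := hT₁.disjoint_of_not_conj hm hF hT₂ hnc
  have hcop := hT₁.coprime_of_not_conj hm hF hT₂ hnc
  have hle₁ := hT₁.card_le_of_normalizer hm hF
  have hle₂ := hT₂.card_le_of_normalizer hm hF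
  have hsub₁ := hT₁.conjSet_subset hm hF
  have hsub₂ := hT₂.conjSet_subset hm hF
  -- two classes suffice
  have hstep4 : Dset F m ⊆ conjSet T₁ ∪ conjSet T₂ := by
    by_contra hns
    rw [Set.not_subset] at hns
    obtain ⟨g', hgD', hg'⟩ := hns
    rw [Set.mem_union, not_or] at hg'
    set T₃ := Subgroup.centralizer ({g'} : Set ↥(Cfsg.Sz F m)) with hT₃def
    have hT₃ : IsTorus F m T₃ := ⟨g', hgD', rfl⟩
    have hg₃ : g' ∈ conjSet T₃ := mem_conjSet_centralizer hgD'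
    have hd13 := hT₁.disjoint_of_not_conj hm hF hT₃ (not_conj_of_not_mem hg₃ hg'.1)
    have hd23 := hT₂.disjoint_of_not_conj hm hF hT₃ (not_conj_of_not_mem hg₃ hg'.2)
    have hle₃ := hT₃.card_le_of_normalizer hm hF
    have hsub₃ := hT₃.conjSet_subset hm hF
    have hun : (conjSet T₁ ∪ conjSet T₂ ∪ conjSet T₃).ncard
        = (conjSet T₁).ncard + (conjSet T₂).ncard + (conjSet T₃).ncard := by
      rw [Set.ncard_union_eq (Set.disjoint_union_left.2 ⟨hd13, hd23⟩) (Set.toFinite _) (Set.toFinite _),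
        Set.ncard_union_eq hdisj (Set.toFinite _) (Set.toFinite _)]
    have hle : (conjSet T₁ ∪ conjSet T₂ ∪ conjSet T₃).ncard ≤ (Dset F m).ncard :=
      Set.ncard_le_ncard (Set.union_subset (Set.union_subset hsub₁ hsub₂) hsub₃) (Set.toFinite _)
    omega
  have hunion : (Dset F m).ncard = (conjSet T₁).ncard + (conjSet T₂).ncard := by
    have : Dset F m = conjSet T₁ ∪ conjSet T₂ :=
      Set.Subset.antisymm hstep4 (Set.union_subset hsub₁ hsub₂)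
    rw [this, Set.ncard_union_eq hdisj (Set.toFinite _) (Set.toFinite _)]
  -- the normalisers have index four
  obtain ⟨n₁, hn₁, hN₁⟩ := hT₁.card_normalizer hm hF
  obtain ⟨n₂, hn₂, hN₂⟩ := hT₂.card_normalizer hm hF
  have h5₁ := hT₁.five_mul_card_conjSet hm hF hN₁
  have h5₂ := hT₂.five_mul_card_conjSet hm hF hN₂
  have hn₁4 : n₁ = 4 := by
    rcases hn₁ with rfl | rfl | rfl
    · omega
    · omega
    · rfl
  have hn₂4 : n₂ = 4 := by
    rcases hn₂ with rfl | rfl | rfl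
    · omega
    · omega
    · rfl
  subst hn₁4 hn₂4
  refine ⟨T₁, T₂, hT₁, hT₂, hstep4, hdisj, hN₁, hN₂, ?_⟩
  apply Nat.dvd_antisymm
  · exact Nat.Coprime.mul_dvd_of_dvd_of_dvd hcop (hT₁.card_dvd hm hF) (hT₂.card_dvd hm hF)
  · apply dvd_of_prime_powers hm hF
    intro p hp hdvd
    obtain ⟨z, hz⟩ := exists_primeElt_of_dvd hm hF hp hdvd
    rcases hstep4 (mem_Dset_of_primeElt hm hz) with h | h
    · exact dvd_mul_of_dvd_left (hT₁.pow_dvd_of_mem_conjSet hm hF hz h) _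
    · exact dvd_mul_of_dvd_right (hT₂.pow_dvd_of_mem_conjSet hm hF hz h) _

/-- the two classes of tori, with their orders -/
theorem tori_orders (hm : 1 ≤ m) (hF : Fintype.card F = 2 ^ (2 * m + 1)) :
    ∃ T₁ T₂ : Subgroup ↥(Cfsg.Sz F m), IsTorus F m T₁ ∧ IsTorus F m T₂ ∧
      Dset F m ⊆ conjSet T₁ ∪ conjSet T₂ ∧
      Nat.card (Subgroup.normalizer ((T₁ : Subgroup ↥(Cfsg.Sz F m)) : Set ↥(Cfsg.Sz F m)))
        = 4 * Nat.card T₁ ∧
      Nat.card (Subgroup.normalizer ((T₂ : Subgroup ↥(Cfsg.Sz F m)) : Set ↥(Cfsg.Sz F m)))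
        = 4 * Nat.card T₂ ∧
      Nat.card T₁ = 2 ^ (2 * m + 1) + 2 ^ (m + 1) + 1 ∧
      Nat.card T₂ = 2 ^ (2 * m + 1) - 2 ^ (m + 1) + 1 := by
  obtain ⟨T₁, T₂, hT₁, hT₂, hcov, hdisj, hN₁, hN₂, hprod⟩ := tori_classes hm hF
  have hq8 : 8 ≤ 2 ^ (2 * m + 1) := by
    have : 2 ^ 3 ≤ 2 ^ (2 * m + 1) := Nat.pow_le_pow_right (by norm_num) (by omega)
    simpa using this
  have hunion : (Dset F m).ncard = (conjSet T₁).ncard + (conjSet T₂).ncard := by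
    have : Dset F m = conjSet T₁ ∪ conjSet T₂ :=
      Set.Subset.antisymm hcov (Set.union_subset (hT₁.conjSet_subset hm hF) (hT₂.conjSet_subset hm hF))
    rw [this, Set.ncard_union_eq hdisj (Set.toFinite _) (Set.toFinite _)]
  rw [hT₁.card_conjSet hm hF, hT₂.card_conjSet hm hF] at hunion
  have hidx₁ := Subgroup.index_mul_card
    (Subgroup.normalizer ((T₁ : Subgroup ↥(Cfsg.Sz F m)) : Set ↥(Cfsg.Sz F m)))
  have hidx₂ := Subgroup.index_mul_card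
    (Subgroup.normalizer ((T₂ : Subgroup ↥(Cfsg.Sz F m)) : Set ↥(Cfsg.Sz F m)))
  rw [hN₁, card_sz hm hF] at hidx₁
  rw [hN₂, card_sz hm hF] at hidx₂
  have h5₁ := hT₁.five_le hm hF
  have h5₂ := hT₂.five_le hm hF
  have hsum := two_class_arith _ _ _ _ _ _ hq8 hprod hidx₁ hidx₂ hunion (card_Dset hm hF)
    (by omega) (by omega)
  have hs : (2 ^ (m + 1)) ^ 2 = 2 * 2 ^ (2 * m + 1) := by
    rw [← pow_mul, ← pow_succ']
    congr 1
    ring
  rcases orders_arith _ _ _ _ hs hsum hprod with ⟨h1, h2⟩ | ⟨h1, h2⟩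
  · exact ⟨T₁, T₂, hT₁, hT₂, hcov, hN₁, hN₂, h1, h2⟩
  · refine ⟨T₂, T₁, hT₂, hT₁, ?_, hN₂, hN₁, h2, h1⟩
    rw [Set.union_comm]
    exact hcov

end Main2

end Cfsg.Agent.Lib.Helper09
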