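import Cfsg.Agent.Lib.Helper09.SuzukiGroup

set_option autoImplicit false

namespace Cfsg.Agent.Lib.Helper09

open Matrix
open scoped Pointwise

section Algebra

variable {F : Type*} [Field F] [Fintype F] {m : ℕ}

/-- in a field with more than two elements, `t ↦ t ^ σ` is not the squaring map -/
theorem exists_sg_ne_sq (hm : 1 ≤ m) (hF : Fintype.card F = 2 ^ (2 * m + 1)) :
    ∃ z : F, z ^ 2 + sg m z ≠ 0 := by
  classical
  by_contra hcon
  push Not at hcon
  have h2 := two_eq_zero' hF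
  have hall : ∀ z : F, z = 0 ∨ z = 1 := by
    intro z
    have h1 : sg m z = z ^ 2 := by linear_combination hcon z - z ^ 2 * h2
    have h3 : sg m (sg m z) = sg m z ^ 2 := by rw [h1, sg_pow, h1]
    rw [sg_sg hF, h1] at h3
    -- z^2 = z^4
    have h4 : z ^ 2 * (z + 1) ^ 2 = 0 := by
      linear_combination (-1 : F) * h3 + (z ^ 3 + z ^ 2) * h2
    rcases mul_eq_zero.1 h4 with h | h
    · left; exact pow_eq_zero_iff (by norm_num) |>.1 h
    · right
      have : z + 1 = 0 := pow_eq_zero_iff (by norm_num) |>.1 h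
      linear_combination this - h2
  have hcard : Fintype.card F ≤ 2 := by
    have : (Finset.univ : Finset F) ⊆ {0, 1} := by
      intro z _
      rcases hall z with rfl | rfl <;> simp
    calc Fintype.card F = (Finset.univ : Finset F).card := rfl
      _ ≤ ({0, 1} : Finset F).card := Finset.card_le_card this
      _ ≤ 2 := Finset.card_le_two
  rw [hF] at hcard
  have : 2 ^ 3 ≤ 2 ^ (2 * m + 1) := Nat.pow_le_pow_right (by norm_num) (by omega)
  omega

theorem three_coeff (hF : Fintype.card F = 2 ^ (2 * m + 1)) {z : F} (hz : z ^ 2 + sg m z ≠ 0)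
    {A B C : F} (h : ∀ x : F, A * x ^ 2 + B * sg m x * x ^ 2 + C * sg m x = 0) :
    A = 0 ∧ B = 0 ∧ C = 0 := by
  have h2 := two_eq_zero' hF
  have e1 := h 1
  have ez := h z
  have e1z := h (1 + z)
  rw [sg_add hF, sg_one] at e1z
  rw [sg_one] at e1
  have hB : B * (z ^ 2 + sg m z) = 0 := by
    linear_combination e1z - e1 - ez + ((-1) * A * z + (-1) * B * sg m z * z + (-1) * B * z) * h2
  have hB0 : B = 0 := (mul_eq_zero.1 hB).resolve_right hz
  rw [hB0] at e1 ez
  have hA : A * (z ^ 2 + sg m z) = 0 := by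
    linear_combination ez - sg m z * e1 + (A * sg m z) * h2
  have hA0 : A = 0 := (mul_eq_zero.1 hA).resolve_right hz
  rw [hA0] at e1
  refine ⟨hA0, hB0, ?_⟩
  linear_combination e1

theorem torus_algebra (hm : 1 ≤ m) (hF : Fintype.card F = 2 ^ (2 * m + 1)) {c p r s t : F}
    (hc : c ≠ 0)
    (h : ∀ x y : F, c * ff m x y = ff m (p * x + r * y) (s * x + t * y)) :
    r = 0 ∧ s = 0 ∧ t = sg m p * p ∧ c = sg m p * p ^ 2 ∧ p ≠ 0 := by
  obtain ⟨z, hz⟩ := exists_sg_ne_sq hm hF
  have h2 := two_eq_zero' hF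
  -- y = 0
  have hx : ∀ x : F, (p * s) * x ^ 2 + (sg m p * p ^ 2 - c) * sg m x * x ^ 2 + sg m s * sg m x = 0 := by
    intro x
    have := h x 0
    simp only [ff_eq, mul_zero, add_zero, sg_zero, sg_mul] at this
    linear_combination (-1 : F) * this
  obtain ⟨hps, hpc, hS⟩ := three_coeff hF hz hx
  -- x = 0
  have hy : ∀ y : F, (r * t) * y ^ 2 + (sg m r * r ^ 2) * sg m y * y ^ 2 + (sg m t - c) * sg m y = 0 := by
    intro y
    have := h 0 y
    simp only [ff_eq, mul_zero, zero_add, sg_zero, sg_mul, zero_mul] at this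
    linear_combination (-1 : F) * this
  obtain ⟨_, hrr, htc⟩ := three_coeff hF hz hy
  have hs : s = 0 := sg_eq_zero.1 hS
  have hr : r = 0 := by
    rcases mul_eq_zero.1 hrr with h0 | h0
    · exact sg_eq_zero.1 h0
    · exact pow_eq_zero_iff (by norm_num) |>.1 h0
  have hcp : c = sg m p * p ^ 2 := by linear_combination (-1 : F) * hpc
  have hp : p ≠ 0 := by
    rintro rfl
    apply hc
    rw [hcp]; simp
  have h11 := h 1 1
  rw [hr, hs] at h11
  simp only [ff_eq, mul_one, add_zero, zero_add, sg_one, one_pow] at h11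
  -- h11 : c * (1 + 1 + 1) = p * t + sg p * p^2 + sg t
  have htc' : sg m t = c := by linear_combination htc
  have hpt : c = p * t := by
    rw [htc', ← hcp] at h11
    linear_combination h11
  refine ⟨hr, hs, ?_, hcp, hp⟩
  have : p * t = p * (sg m p * p) := by rw [← hpt, hcp]; ring
  exact mul_left_cancel₀ hp this

end Algebra

section Fix

variable {F : Type*} [Field F] [Fintype F] {m : ℕ}

theorem mulVec_e1_apply (M : Matrix (Fin 4) (Fin 4) F) (i : Fin 4) : (M.mulVec e1) i = M i 0 := by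
  simp [Matrix.mulVec, dotProduct, e1, Fin.sum_univ_four]

theorem mulVec_e4_apply (m : ℕ) (M : Matrix (Fin 4) (Fin 4) F) (i : Fin 4) :
    (M.mulVec (pt m 0 0)) i = M i 3 := by
  simp [Matrix.mulVec, dotProduct, pt, ff_zero_zero, Fin.sum_univ_four]

theorem mulVec_pt_apply (m : ℕ) (M : Matrix (Fin 4) (Fin 4) F) (x y : F) (i : Fin 4) :
    (M.mulVec (pt m x y)) i = M i 0 * ff m x y + M i 1 * y + M i 2 * x + M i 3 := by
  simp [Matrix.mulVec, dotProduct, pt, Fin.sum_univ_four]

theorem fourth_root_one (hF : Fintype.card F = 2 ^ (2 * m + 1)) {x : F} (h : x ^ 4 = 1) : x = 1 := by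
  have h2 := two_eq_zero' hF
  have : (x + 1) ^ 4 = 0 := by
    linear_combination h + (2 * x ^ 3 + 3 * x ^ 2 + 2 * x + 1) * h2
  have h0 : x + 1 = 0 := pow_eq_zero_iff (by norm_num) |>.1 this
  linear_combination h0 - h2

/-- the stabiliser of the two base points in `Sz` consists of torus elements -/
theorem torus_of_fix (hm : 1 ≤ m) (hF : Fintype.card F = 2 ^ (2 * m + 1))
    {g : Matrix.SpecialLinearGroup (Fin 4) F} (hg : g ∈ Cfsg.Sz F m)
    (hinf : g • pInf F = pInf F) (hzero : g • pAff m 0 0 = pAff m (0 : F) 0) :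
    ∃ k : Fˣ, g = hS m k := by
  -- scalars
  obtain ⟨α, hα, h1⟩ : ∃ α : F, α ≠ 0 ∧ g.1.mulVec e1 = α • e1 := by
    have hne := sl_mulVec_ne_zero g (e1_ne_zero (F := F))
    unfold pInf at hinf
    rw [sl_smul_mk _ _ hne, Projectivization.mk_eq_mk_iff'] at hinf
    obtain ⟨a, ha⟩ := hinf
    refine ⟨a, ?_, ha.symm⟩
    rintro rfl
    rw [zero_smul] at ha
    exact hne ha.symm
  obtain ⟨δ, hδ, h4⟩ : ∃ δ : F, δ ≠ 0 ∧ g.1.mulVec (pt m 0 0) = δ • pt m 0 0 := by
    have hne := sl_mulVec_ne_zero g (pt_ne_zero (F := F) m 0 0)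
    unfold pAff at hzero
    rw [sl_smul_mk _ _ hne, Projectivization.mk_eq_mk_iff'] at hzero
    obtain ⟨a, ha⟩ := hzero
    refine ⟨a, ?_, ha.symm⟩
    rintro rfl
    rw [zero_smul] at ha
    exact hne ha.symm
  -- entries
  have c0 : ∀ i, g.1 i 0 = (α • (e1 : Fin 4 → F)) i := fun i => by
    rw [← h1, mulVec_e1_apply]
  have c3 : ∀ i, g.1 i 3 = (δ • pt m (0 : F) 0) i := fun i => by
    rw [← h4, mulVec_e4_apply]
  have r3 : ∀ j : Fin 4, j ≠ 3 → g.1 3 j = 0 := by
    intro j hj
    have := row3_zero hg hα h1 (Pi.single j 1) (by simp [Pi.single_apply, Ne.symm hj])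
    rwa [Matrix.mulVec_single_one] at this
  have r0 : ∀ j : Fin 4, j ≠ 0 → g.1 0 j = 0 := by
    intro j hj
    have := row0_zero hF hg hδ h4 (Pi.single j 1) (by simp [Pi.single_apply, Ne.symm hj])
    rwa [Matrix.mulVec_single_one] at this
  have e00 : g.1 0 0 = α := by simpa [e1] using c0 0
  have e10 : g.1 1 0 = 0 := by simpa [e1] using c0 1
  have e20 : g.1 2 0 = 0 := by simpa [e1] using c0 2
  have e30 : g.1 3 0 = 0 := by simpa [e1] using c0 3
  have e03 : g.1 0 3 = 0 := by simpa [pt, ff_zero_zero] using c3 0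
  have e13 : g.1 1 3 = 0 := by simpa [pt] using c3 1
  have e23 : g.1 2 3 = 0 := by simpa [pt] using c3 2
  have e33 : g.1 3 3 = δ := by simpa [pt] using c3 3
  have e31 : g.1 3 1 = 0 := r3 1 (by decide)
  have e32 : g.1 3 2 = 0 := r3 2 (by decide)
  have e01 : g.1 0 1 = 0 := r0 1 (by decide)
  have e02 : g.1 0 2 = 0 := r0 2 (by decide)
  -- the functional equation
  have hfun : ∀ x y : F, (α / δ) * ff m x y
      = ff m ((g.1 2 2 / δ) * x + (g.1 2 1 / δ) * y) ((g.1 1 2 / δ) * x + (g.1 1 1 / δ) * y) := by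
    intro x y
    obtain ⟨q', hq', c', hc', hM⟩ := sz_maps_ovec hg (q := pt m x y) (Or.inr ⟨x, y, rfl⟩)
    have k0 := congrFun hM 0
    have k1 := congrFun hM 1
    have k2 := congrFun hM 2
    have k3 := congrFun hM 3
    rw [mulVec_pt_apply] at k0 k1 k2 k3
    rw [e00, e01, e02, e03] at k0
    rw [e10, e13] at k1
    rw [e20, e23] at k2
    rw [e30, e31, e32, e33] at k3
    rcases hq' with rfl | ⟨x', y', rfl⟩
    · simp [e1] at k3
      exact absurd k3 hδ
    · simp [pt] at k0 k1 k2 k3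
      subst k3
      have hx' : x' = g.1 2 2 / δ * x + g.1 2 1 / δ * y := by
        field_simp
        linear_combination (-1 : F) * k2
      have hy' : y' = g.1 1 2 / δ * x + g.1 1 1 / δ * y := by
        field_simp
        linear_combination (-1 : F) * k1
      rw [← hx', ← hy']
      field_simp
      linear_combination k0
  obtain ⟨hr, hs, ht, hc, hp⟩ := torus_algebra hm hF (div_ne_zero hα hδ) hfun
  set p := g.1 2 2 / δ with hp_def
  have e21 : g.1 2 1 = 0 := by
    have := (div_eq_zero_iff.1 hr).resolve_right hδ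
    exact this
  have e12 : g.1 1 2 = 0 := (div_eq_zero_iff.1 hs).resolve_right hδ
  have e22 : g.1 2 2 = p * δ := by rw [hp_def]; field_simp
  have e11 : g.1 1 1 = sg m p * p * δ := by rw [← ht]; field_simp
  have e00' : α = sg m p * p ^ 2 * δ := by rw [← hc]; field_simp
  -- the matrix is diagonal
  have hdiag : g.1 = Matrix.diagonal ![α, sg m p * p * δ, p * δ, δ] := by
    ext i j
    fin_cases i <;> fin_cases j <;>
      simp [e00, e01, e02, e03, e10, e11, e12, e13, e20, e21, e22, e23, e30, e31, e32, e33]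
  -- determinant
  have hdet : α * (sg m p * p * δ) * (p * δ) * δ = 1 := by
    have := g.2
    rw [hdiag, Matrix.det_diagonal, Fin.prod_univ_four] at this
    simpa using this
  have hσ : sg m p = p ^ (2 ^ m) * p ^ (2 ^ m) := by
    rw [sg, ← pow_add]; congr 1; rw [pow_succ]; ring
  have hδ1 : δ * p ^ (2 ^ m + 1) = 1 := by
    apply fourth_root_one hF
    rw [e00', hσ] at hdet
    rw [← hdet]
    ring
  refine ⟨Units.mk0 p hp, ?_⟩
  apply Subtype.ext
  show g.1 = hM m (Units.mk0 p hp)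
  rw [hdiag, hM]
  have hδ2 : δ = (p⁻¹) ^ (2 ^ m + 1) := by
    rw [inv_pow]
    exact eq_inv_of_mul_eq_one_left hδ1
  congr 1
  simp only [Units.val_mk0]
  rw [e00', hσ, hδ2]
  have hpp : p * p⁻¹ = 1 := mul_inv_cancel₀ hp
  funext i
  fin_cases i
  · simp
    field_simp
    ring
  · simp
    field_simp
    ring
  · simp
    field_simp
    ring
  · simp

end Fix

end Cfsg.Agent.Lib.Helper09
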