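import Cfsg.Agent.Lib.Helper09.SuzukiFixity
import Cfsg.Agent.S2241

set_option autoImplicit false

namespace Cfsg.Agent.Lib.Helper09

open Matrix MulAction

section TwoElts

variable {F : Type*} [Field F] [Fintype F] {m : ℕ}

theorem card_centralizer_conj {G : Type*} [Group G] (x g : G) :
    Nat.card (Subgroup.centralizer ({x * g * x⁻¹} : Set G)) =
      Nat.card (Subgroup.centralizer ({g} : Set G)) := by
  have : Subgroup.centralizer ({x * g * x⁻¹} : Set G) =
      (Subgroup.centralizer ({g} : Set G)).map (MulAut.conj x).toMonoidHom := by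
    ext c
    rw [mem_map_conj, mem_centralizer_singleton, mem_centralizer_singleton]
    constructor
    · intro h
      calc x⁻¹ * c * x * g = x⁻¹ * (c * (x * g * x⁻¹)) * x := by group
        _ = x⁻¹ * (x * g * x⁻¹ * c) * x := by rw [h]
        _ = g * (x⁻¹ * c * x) := by group
    · intro h
      calc c * (x * g * x⁻¹) = x * (x⁻¹ * c * x * g) * x⁻¹ := by group
        _ = x * (g * (x⁻¹ * c * x)) * x⁻¹ := by rw [h]
        _ = x * g * x⁻¹ * c := by group
  rw [this, card_map_conj]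

/-- an involution is conjugate to a central element of the unipotent subgroup -/
theorem exists_conj_central (hm : 1 ≤ m) (hF : Fintype.card F = 2 ^ (2 * m + 1))
    {z : ↥(Cfsg.Sz F m)} (hz : orderOf z = 2) :
    ∃ (x : ↥(Cfsg.Sz F m)) (b : F), b ≠ 0 ∧ x * z * x⁻¹ = tauG hF 0 b := by
  have hz1 : z ≠ 1 := by
    rintro rfl
    rw [orderOf_one] at hz
    omega
  have hz2 : z ^ 2 = 1 := by rw [← hz]; exact pow_orderOf_eq_one z
  obtain ⟨x, hx⟩ := two_elt_conj hm hF hz1 (pow_four_of_sq hz2)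
  obtain ⟨a, b, hab⟩ := (mem_Uz hF _).1 hx
  have hsq : tauG hF a b ^ 2 = 1 := by
    rw [← hab, conj_pow, hz2, mul_one, mul_inv_cancel]
  rw [Cfsg.Agent.S2241.tauG_sq, ← tauG_zero hF] at hsq
  have ha0 : a = 0 := by
    have h1 := (tauG_injective hF hsq).2
    rcases mul_eq_zero.1 h1 with h | h
    · exact sg_eq_zero.1 h
    · exact h
  rw [ha0] at hab
  refine ⟨x, b, ?_, hab⟩
  rintro rfl
  rw [tauG_zero] at hab
  exact conj_ne_one' hz1 hab

/-- the central involutions of the unipotent subgroup are conjugate under the torus -/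
theorem central_conj (hF : Fintype.card F = 2 ^ (2 * m + 1)) {b b' : F} (hb : b ≠ 0)
    (hb' : b' ≠ 0) : ∃ k : Fˣ, hG hF k * tauG hF 0 b * (hG hF k)⁻¹ = tauG hF 0 b' := by
  obtain ⟨a, ha⟩ := sgmul_surjective hF (b' / b)
  have ha0 : a ≠ 0 := by
    rintro rfl
    rw [sg_zero, zero_mul] at ha
    exact (div_ne_zero hb' hb) ha.symm
  refine ⟨Units.mk0 a ha0, ?_⟩
  rw [hG_conj_central', Units.val_mk0, ha, div_mul_cancel₀ b' hb]

/-- all involutions of the Suzuki group are conjugate -/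
theorem involutions_conj (hm : 1 ≤ m) (hF : Fintype.card F = 2 ^ (2 * m + 1))
    {z z' : ↥(Cfsg.Sz F m)} (hz : orderOf z = 2) (hz' : orderOf z' = 2) :
    ∃ x : ↥(Cfsg.Sz F m), x * z * x⁻¹ = z' := by
  obtain ⟨x, b, hb, hx⟩ := exists_conj_central hm hF hz
  obtain ⟨x', b', hb', hx'⟩ := exists_conj_central hm hF hz'
  obtain ⟨k, hk⟩ := central_conj hF hb hb'
  refine ⟨x'⁻¹ * hG hF k * x, ?_⟩
  have : x'⁻¹ * hG hF k * x * z * (x'⁻¹ * hG hF k * x)⁻¹ =
      x'⁻¹ * (hG hF k * (x * z * x⁻¹) * (hG hF k)⁻¹) * x' := by group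
  rw [this, hx, hk, ← hx']
  group

/-- the centraliser of an involution has order `q^2` -/
theorem card_centralizer_involution (hm : 1 ≤ m) (hF : Fintype.card F = 2 ^ (2 * m + 1))
    {z : ↥(Cfsg.Sz F m)} (hz : orderOf z = 2) :
    Nat.card (Subgroup.centralizer ({z} : Set ↥(Cfsg.Sz F m))) = (2 ^ (2 * m + 1)) ^ 2 := by
  obtain ⟨x, b, hb, hx⟩ := exists_conj_central hm hF hz
  rw [← card_centralizer_conj x z, hx, centralizer_central hm hF hb, card_Uz]

theorem sg_eq_self (hF : Fintype.card F = 2 ^ (2 * m + 1)) {t : F} (h : sg m t = t) :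
    t = 0 ∨ t = 1 := by
  have h3 : sg m (sg m t) = t := by rw [h, h]
  rw [sg_sg hF] at h3
  have h4 : t * (t - 1) = 0 := by linear_combination h3
  rcases mul_eq_zero.1 h4 with h0 | h0
  · exact Or.inl h0
  · exact Or.inr (by linear_combination h0)

/-- the centraliser of an element of order four of the unipotent subgroup -/
theorem mem_centralizer_tauG (hm : 1 ≤ m) (hF : Fintype.card F = 2 ^ (2 * m + 1)) {a b : F}
    (ha : a ≠ 0) (c : ↥(Cfsg.Sz F m)) :
    c ∈ Subgroup.centralizer ({tauG hF a b} : Set ↥(Cfsg.Sz F m)) ↔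
      ∃ d : F, c = tauG hF 0 d ∨ c = tauG hF a d := by
  have h2 := two_eq_zero' hF
  rw [mem_centralizer_singleton]
  constructor
  · intro h
    -- `c` commutes with the square
    have hsq : c * tauG hF 0 (sg m a * a) = tauG hF 0 (sg m a * a) * c := by
      rw [← Cfsg.Agent.S2241.tauG_sq hF a b, sq, ← mul_assoc, h, mul_assoc, h, mul_assoc]
    have hne : sg m a * a ≠ 0 := mul_ne_zero (fun h0 => ha (sg_eq_zero.1 h0)) ha
    obtain ⟨c', d', rfl⟩ := (mem_Uz hF c).1 (commute_central hm hF hne hsq)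
    have h1 : tauG hF c' d' * tauG hF a b * (tauG hF c' d')⁻¹ = tauG hF a b := by
      rw [h, mul_assoc, mul_inv_cancel, mul_one]
    rw [tauG_conj_tauG] at h1
    have h3 := (tauG_injective hF h1).2
    have h4 : sg m c' * a = sg m a * c' := by linear_combination h3 - sg m a * c' * h2
    by_cases hc0 : c' = 0
    · exact ⟨d', Or.inl (by rw [hc0])⟩
    · have hsa : sg m a ≠ 0 := fun h0 => ha (sg_eq_zero.1 h0)
      have h5 : sg m (c' / a) = c' / a := by
        rw [sg_div]
        field_simp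
        linear_combination h4
      rcases sg_eq_self hF h5 with h6 | h6
      · exfalso
        rcases div_eq_zero_iff.1 h6 with h7 | h7
        · exact hc0 h7
        · exact ha h7
      · have : c' = a := (div_eq_one_iff_eq ha).1 h6
        exact ⟨d', Or.inr (by rw [this])⟩
  · rintro ⟨d, rfl | rfl⟩
    · rw [tauG_mul, tauG_mul]
      congr 1
      · ring
      · rw [sg_zero]; ring
    · rw [tauG_mul, tauG_mul]
      congr 1
      ring

theorem card_centralizer_tauG (hm : 1 ≤ m) (hF : Fintype.card F = 2 ^ (2 * m + 1)) {a b : F}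
    (ha : a ≠ 0) :
    Nat.card (Subgroup.centralizer ({tauG hF a b} : Set ↥(Cfsg.Sz F m))) =
      2 * 2 ^ (2 * m + 1) := by
  have hmem : ∀ p : Bool × F, tauG hF (if p.1 then a else 0) p.2 ∈
      Subgroup.centralizer ({tauG hF a b} : Set ↥(Cfsg.Sz F m)) := by
    intro p
    rw [mem_centralizer_tauG hm hF ha]
    rcases p with ⟨_ | _, d⟩
    · exact ⟨d, Or.inl (by simp)⟩
    · exact ⟨d, Or.inr (by simp)⟩
  have hbij : Function.Bijective (fun p : Bool × F =>
      (⟨tauG hF (if p.1 then a else 0) p.2, hmem p⟩ :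
        Subgroup.centralizer ({tauG hF a b} : Set ↥(Cfsg.Sz F m)))) := by
    constructor
    · intro p p' h
      have h1 := tauG_injective hF (congrArg Subtype.val h)
      rcases p with ⟨_ | _, d⟩ <;> rcases p' with ⟨_ | _, d'⟩ <;> simp at h1
      · rw [h1]
      · exact absurd h1.1.symm ha
      · exact absurd h1.1 ha
      · rw [h1]
    · intro c
      obtain ⟨d, hd | hd⟩ := (mem_centralizer_tauG hm hF ha c.1).1 c.2
      · exact ⟨(false, d), Subtype.ext (by simp [hd])⟩
      · exact ⟨(true, d), Subtype.ext (by simp [hd])⟩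
  rw [← Nat.card_eq_of_bijective _ hbij, Nat.card_prod, Nat.card_eq_fintype_card,
    Nat.card_eq_fintype_card, Fintype.card_bool, hF]

/-- an element of order four is conjugate to `tau(1, b)` -/
theorem exists_conj_order_four (hm : 1 ≤ m) (hF : Fintype.card F = 2 ^ (2 * m + 1))
    {g : ↥(Cfsg.Sz F m)} (hg : orderOf g = 4) :
    ∃ (x : ↥(Cfsg.Sz F m)) (b : F), x * g * x⁻¹ = tauG hF 1 b := by
  have hg1 : g ≠ 1 := by
    rintro rfl
    rw [orderOf_one] at hg
    omega
  have hg4 : g ^ 4 = 1 := by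
    have := pow_orderOf_eq_one g
    rwa [hg] at this
  obtain ⟨x, hx⟩ := two_elt_conj hm hF hg1 hg4
  obtain ⟨a, b, hab⟩ := (mem_Uz hF _).1 hx
  have hne : tauG hF a b ≠ 1 := by rw [← hab]; exact conj_ne_one' hg1
  have ha : a ≠ 0 := by
    intro ha0
    have := (Cfsg.Agent.S2241.orderOf_tauG hF hne).2 ha0
    rw [← hab, orderOf_conj', hg] at this
    omega
  refine ⟨hG hF (Units.mk0 a⁻¹ (inv_ne_zero ha)) * x,
    sg m ((Units.mk0 a⁻¹ (inv_ne_zero ha) : Fˣ) : F) * (Units.mk0 a⁻¹ (inv_ne_zero ha) : Fˣ) * b, ?_⟩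
  have : hG hF (Units.mk0 a⁻¹ (inv_ne_zero ha)) * x * g *
      (hG hF (Units.mk0 a⁻¹ (inv_ne_zero ha)) * x)⁻¹ =
      hG hF (Units.mk0 a⁻¹ (inv_ne_zero ha)) * (x * g * x⁻¹) *
        (hG hF (Units.mk0 a⁻¹ (inv_ne_zero ha)))⁻¹ := by group
  rw [this, hab, hG_conj_tauG, Units.val_mk0, inv_mul_cancel₀ ha]

theorem card_centralizer_order_four (hm : 1 ≤ m) (hF : Fintype.card F = 2 ^ (2 * m + 1))
    {g : ↥(Cfsg.Sz F m)} (hg : orderOf g = 4) :
    Nat.card (Subgroup.centralizer ({g} : Set ↥(Cfsg.Sz F m))) = 2 * 2 ^ (2 * m + 1) := by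
  obtain ⟨x, b, hx⟩ := exists_conj_order_four hm hF hg
  rw [← card_centralizer_conj x g, hx, card_centralizer_tauG hm hF one_ne_zero]

end TwoElts

section OrderFour

variable {F : Type*} [Field F] [Fintype F] {m : ℕ}

/-- the additive map `c ↦ c^σ + c` -/
def asHom (hF : Fintype.card F = 2 ^ (2 * m + 1)) : F →+ F where
  toFun c := sg m c + c
  map_zero' := by rw [sg_zero, add_zero]
  map_add' x y := by rw [sg_add hF]; ring

theorem asHom_apply (hF : Fintype.card F = 2 ^ (2 * m + 1)) (c : F) :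
    asHom hF c = sg m c + c := rfl

theorem card_ker_asHom (hF : Fintype.card F = 2 ^ (2 * m + 1)) :
    Nat.card (asHom (m := m) hF).ker = 2 := by
  have h2 := two_eq_zero' hF
  rw [Nat.card_eq_two_iff]
  refine ⟨⟨0, by rw [AddMonoidHom.mem_ker, map_zero]⟩,
    ⟨1, by rw [AddMonoidHom.mem_ker, asHom_apply, sg_one]; linear_combination h2⟩, ?_, ?_⟩
  · intro h
    have := congrArg Subtype.val h
    exact zero_ne_one this
  · rw [Set.eq_univ_iff_forall]
    intro c
    have hc := c.2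
    rw [AddMonoidHom.mem_ker, asHom_apply] at hc
    have hc' : sg m (c : F) = c := by linear_combination hc - (c : F) * h2
    rcases sg_eq_self hF hc' with h0 | h1
    · exact Or.inl (Subtype.ext h0)
    · exact Or.inr (Subtype.ext h1)

theorem index_range_asHom (hF : Fintype.card F = 2 ^ (2 * m + 1)) :
    (asHom (m := m) hF).range.index = 2 := by
  have h1 := AddSubgroup.card_eq_card_quotient_mul_card_addSubgroup (asHom (m := m) hF).ker
  rw [Nat.card_congr (QuotientAddGroup.quotientKerEquivRange (asHom (m := m) hF)).toEquiv,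
    card_ker_asHom] at h1
  have h2 := AddSubgroup.card_mul_index (asHom (m := m) hF).range
  rw [h1] at h2
  have hpos : 0 < Nat.card (asHom (m := m) hF).range := Nat.card_pos
  have : Nat.card (asHom (m := m) hF).range * (asHom (m := m) hF).range.index =
      Nat.card (asHom (m := m) hF).range * 2 := h2
  exact Nat.eq_of_mul_eq_mul_left hpos this

/-- every field element or its translate by one is of the form `c^σ + c` -/
theorem exists_asHom (hF : Fintype.card F = 2 ^ (2 * m + 1)) (e : F) :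
    (∃ c : F, sg m c + c = e) ∨ ∃ c : F, sg m c + c = e + 1 := by
  have h2 := two_eq_zero' hF
  obtain ⟨a₀, ha₀⟩ := AddSubgroup.index_eq_two_iff.1 (index_range_asHom (m := m) hF)
  have h1 : (1 : F) ∉ (asHom (m := m) hF).range := by
    rintro ⟨c, hc⟩
    exact Cfsg.Agent.S2241.no_sg_add_eq_one hF c hc
  have h1a : (1 : F) + a₀ ∈ (asHom (m := m) hF).range := by
    rcases ha₀ 1 with ⟨h, -⟩ | ⟨h, -⟩
    · exact h
    · exact absurd h h1
  by_cases he : e ∈ (asHom (m := m) hF).range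
  · obtain ⟨c, hc⟩ := he
    exact Or.inl ⟨c, hc⟩
  · right
    have hea : e + a₀ ∈ (asHom (m := m) hF).range := by
      rcases ha₀ e with ⟨h, -⟩ | ⟨h, -⟩
      · exact h
      · exact absurd h he
    have := (asHom (m := m) hF).range.add_mem hea h1a
    have e1 : e + a₀ + (1 + a₀) = e + 1 := by linear_combination a₀ * h2
    rw [e1] at this
    obtain ⟨c, hc⟩ := this
    exact ⟨c, hc⟩

/-- two elements of order four are conjugate, or one is conjugate to the inverse of the other -/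
theorem order_four_conj (hm : 1 ≤ m) (hF : Fintype.card F = 2 ^ (2 * m + 1))
    {g g' : ↥(Cfsg.Sz F m)} (hg : orderOf g = 4) (hg' : orderOf g' = 4) :
    (∃ x : ↥(Cfsg.Sz F m), x * g * x⁻¹ = g') ∨ ∃ x : ↥(Cfsg.Sz F m), x * g * x⁻¹ = g'⁻¹ := by
  have h2 := two_eq_zero' hF
  obtain ⟨x, b, hx⟩ := exists_conj_order_four hm hF hg
  obtain ⟨x', b', hx'⟩ := exists_conj_order_four hm hF hg'
  have key : ∀ c : F, tauG hF c 0 * tauG hF 1 b * (tauG hF c 0)⁻¹ =
      tauG hF 1 (b + (sg m c + c)) := by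
    intro c
    rw [tauG_conj_tauG, sg_one]
    congr 1
    ring
  rcases exists_asHom hF (b + b') with ⟨c, hc⟩ | ⟨c, hc⟩
  · left
    refine ⟨x'⁻¹ * tauG hF c 0 * x, ?_⟩
    have : x'⁻¹ * tauG hF c 0 * x * g * (x'⁻¹ * tauG hF c 0 * x)⁻¹ =
        x'⁻¹ * (tauG hF c 0 * (x * g * x⁻¹) * (tauG hF c 0)⁻¹) * x' := by group
    rw [this, hx, key, hc]
    have e : b + (b + b') = b' := by linear_combination b * h2
    rw [e, ← hx']
    group
  · right
    refine ⟨x'⁻¹ * tauG hF c 0 * x, ?_⟩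
    have : x'⁻¹ * tauG hF c 0 * x * g * (x'⁻¹ * tauG hF c 0 * x)⁻¹ =
        x'⁻¹ * (tauG hF c 0 * (x * g * x⁻¹) * (tauG hF c 0)⁻¹) * x' := by group
    rw [this, hx, key, hc]
    have e : tauG hF 1 (b + (b + b' + 1)) = (tauG hF 1 b')⁻¹ := by
      rw [tauG_inv, sg_one]
      congr 1
      linear_combination b * h2
    rw [e, ← hx']
    group

end OrderFour

end Cfsg.Agent.Lib.Helper09
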