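import Cfsg.Agent.Lib.Helper46.UTiDefs
import Cfsg.Agent.Lib.Helper49.UPairIndex
import Cfsg.Agent.Lib.Helper49.PrimeOrderSp
import Cfsg.Agent.S2568
import Cfsg.Agent.Lib.Helper51.UTiB5
import Cfsg.Agent.Lib.Helper63.UTiB3

/-!
# K-UTi-N2b (keystone 595333, S5953 pack of helper46): the multiplicity-free model, `i ≡ 2 (mod 4)`, `i > 2`

Blocks: the powers `g ^ j` of ONE element `g` of order `r` of `GU_b(q)` (Cauchy, `r ∣ q ^ b + 1`); every
irreducible factor `P` of the `r`-th cyclotomic polynomial kills some `g ^ j` (a root of `P` in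
`AdjoinRoot P₁` is a power of the root of `P₁`).  Model: `t = min s (n / b)` pairwise different blocks and
the identity on `n - t b` coordinates; an invariant totally isotropic subspace lies in the fixed part.
-/

set_option autoImplicit false
set_option linter.unusedSectionVars false
set_option linter.unusedVariables false

namespace Cfsg.Agent.Lib.Helper09.UTi

open Module Polynomial Cfsg.Agent.Lib.Helper98.Elus Cfsg.Agent.Lib.Helper46.UTi
open Cfsg.Agent.Lib.Helper49 (FactorData kdim)
open Cfsg.Agent.Lib.Helper19 (pow_q_pow_q add_pow_q sum_pow_q q_pos one_lt_q)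

universe u


/-! ## arithmetic -/

theorem n2b_arith (r : ℕ) [Fact r.Prime] (q : ℕ) (i b : ℕ)
    (hi : i = orderOf (q : ZMod r)) (hb : b = if Even i then i / 2 else i) (hi4 : i % 4 = 2)
    (hi2 : 2 < i) :
    i = 2 * b ∧ Odd b ∧ 3 ≤ b ∧ r ∣ q ^ b + 1 ∧ ¬ r ∣ q + 1 ∧
      b = orderOf ((q ^ 2 : ℕ) : ZMod r) := by
  have hr : r.Prime := Fact.out
  have hev : Even i := by
    rw [Nat.even_iff]; omega
  rw [if_pos hev] at hb
  have hib : i = 2 * b := by
    obtain ⟨k, hk⟩ := hev
    omega
  have hbodd : Odd b := by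
    rw [Nat.odd_iff]; omega
  have hb3 : 3 ≤ b := by
    obtain ⟨k, hk⟩ := hbodd
    omega
  have hpow : (q : ZMod r) ^ i = 1 := by rw [hi]; exact pow_orderOf_eq_one _
  have hne : (q : ZMod r) ^ b ≠ 1 := by
    intro h
    have := orderOf_dvd_of_pow_eq_one h
    rw [← hi] at this
    have := Nat.le_of_dvd (by omega) this
    omega
  have hsq : ((q : ZMod r) ^ b) ^ 2 = 1 := by rw [← pow_mul, mul_comm, ← hib, hpow]
  have hneg : (q : ZMod r) ^ b = -1 := by
    have h1 : ((q : ZMod r) ^ b - 1) * ((q : ZMod r) ^ b + 1) = 0 := by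
      have : ((q : ZMod r) ^ b - 1) * ((q : ZMod r) ^ b + 1) = ((q : ZMod r) ^ b) ^ 2 - 1 := by ring
      rw [this, hsq, sub_self]
    rcases mul_eq_zero.mp h1 with h | h
    · exact absurd (sub_eq_zero.mp h) hne
    · exact eq_neg_of_add_eq_zero_left h
  refine ⟨hib, hbodd, hb3, ?_, ?_, ?_⟩
  · rw [← ZMod.natCast_eq_zero_iff]
    push_cast
    rw [hneg]; ring
  · intro hdvd
    rw [← ZMod.natCast_eq_zero_iff] at hdvd
    push_cast at hdvd
    have hq1 : (q : ZMod r) = -1 := eq_neg_of_add_eq_zero_left hdvd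
    have : (q : ZMod r) ^ 2 = 1 := by rw [hq1]; ring
    have := orderOf_dvd_of_pow_eq_one this
    rw [← hi] at this
    have := Nat.le_of_dvd (by omega) this
    omega
  · push_cast
    rw [orderOf_pow' _ (by norm_num : (2 : ℕ) ≠ 0), ← hi, hib]
    have : Nat.gcd (2 * b) 2 = 2 := by
      rw [Nat.gcd_comm]; exact Nat.gcd_eq_left (dvd_mul_right 2 b)
    rw [this]
    omega


/-! ## blocks -/

section blocks

variable {F : Type u} [Field F] [Fintype F] {q : ℕ}

/-- matrices preserving the standard hermitian form -/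
def Pres (q b : ℕ) (A : Matrix (Fin b) (Fin b) F) : Prop :=
  ∀ u v, Cfsg.hermForm b F q (A.mulVec u) (A.mulVec v) = Cfsg.hermForm b F q u v

theorem Pres.pow {b : ℕ} {A : Matrix (Fin b) (Fin b) F} (hA : Pres q b A) (k : ℕ) :
    Pres q b (A ^ k) := by
  induction k with
  | zero => intro u v; simp
  | succ k ih =>
    intro u v
    rw [pow_succ, ← Matrix.mulVec_mulVec, ← Matrix.mulVec_mulVec, ih, hA]

theorem exists_blocks (hq : Fintype.card F = q ^ 2) (r : ℕ) [Fact r.Prime] (b : ℕ) (hb3 : 3 ≤ b)
    (hbodd : Odd b) (hrdvd : r ∣ q ^ b + 1) (PP : Finset F[X]) (D : FactorData F r b PP) :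
    ∀ P ∈ PP, ∃ A : Matrix (Fin b) (Fin b) F, Pres q b A ∧ A ^ r = 1 ∧
      aeval (Matrix.toLin' A) P = 0 := by
  classical
  have hr : r.Prime := Fact.out
  -- Cauchy
  have hcard : r ∣ Nat.card ↥(Cfsg.GU b F q) := by
    rw [Cfsg.Agent.Lib.Helper49.card_GU_eq hq b]
    unfold Cfsg.Agent.Lib.Helper51.UPar.GUf
    apply Dvd.dvd.mul_left
    have hmem : b - 1 ∈ Finset.range b := Finset.mem_range.mpr (by omega)
    apply dvd_trans _ (Finset.dvd_prod_of_mem _ hmem)
    have hev : Even (b - 1) := by
      obtain ⟨k, hk⟩ := hbodd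
      exact ⟨k, by omega⟩
    rw [if_pos hev, show b - 1 + 1 = b by omega]
    exact hrdvd
  obtain ⟨g, hg⟩ := exists_prime_orderOf_dvd_card' r hcard
  set M : Matrix (Fin b) (Fin b) F := ((g : Matrix.GeneralLinearGroup (Fin b) F) :
    Matrix (Fin b) (Fin b) F) with hM
  have hMr : M ^ r = 1 := by
    have h1 : g ^ r = 1 := by rw [← hg]; exact pow_orderOf_eq_one g
    have h2 := congrArg (fun x : ↥(Cfsg.GU b F q) =>
      ((x : Matrix.GeneralLinearGroup (Fin b) F) : Matrix (Fin b) (Fin b) F)) h1
    simpa using h2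
  have hM1 : M ≠ 1 := by
    intro h
    have : g = 1 := by
      apply Subtype.ext
      apply Units.ext
      exact h
    rw [this, orderOf_one] at hg
    exact hr.one_lt.ne hg
  have hMp : Pres q b M := g.2
  set y : (Fin b → F) →ₗ[F] (Fin b → F) := Matrix.toLin' M with hy
  have hφ : aeval y (X ^ r - 1 : F[X]) = 0 :=
    Cfsg.Agent.Lib.Helper49.aeval_toLin'_of_pow_eq_one M r hMr
  have hy1 : y ≠ 1 := by
    intro h
    apply hM1
    apply Matrix.toLin'.injective
    rw [Matrix.toLin'_one]
    exact h
  have hex : ∃ P₁ ∈ PP, kdim y P₁ ≠ 0 := by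
    by_contra hcon
    push_neg at hcon
    exact hy1 ((D.eq_one_iff y hφ).mpr hcon)
  obtain ⟨P₁, hP₁, hk⟩ := hex
  have hkd : b ∣ kdim y P₁ := D.dvd_kdim y hP₁
  have hkle : kdim y P₁ ≤ b := by
    have := Submodule.finrank_le (LinearMap.ker (aeval y P₁))
    rw [Module.finrank_fin_fun] at this
    exact this
  have hkb : kdim y P₁ = b := by
    obtain ⟨c, hc⟩ := hkd
    rcases Nat.eq_zero_or_pos c with h0 | h0
    · rw [h0, mul_zero] at hc; exact absurd hc hk
    · have : b * 1 ≤ b * c := Nat.mul_le_mul_left b h0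
      omega
  have hP₁y : aeval y P₁ = 0 := by
    rw [← LinearMap.ker_eq_top]
    apply Submodule.eq_top_of_finrank_eq
    rw [Module.finrank_fin_fun]
    exact hkb
  -- the field
  haveI : Fact (Irreducible P₁) := ⟨D.irr P₁ hP₁⟩
  set ρ : AdjoinRoot P₁ := AdjoinRoot.root P₁ with hρ
  have hP₁dvd : P₁ ∣ (X ^ r - 1 : F[X]) := by
    rw [← D.prod]
    exact Dvd.dvd.mul_left (Finset.dvd_prod_of_mem _ hP₁) _
  have hρr : ρ ^ r = 1 := by
    have h1 : AdjoinRoot.mk P₁ (X ^ r - 1 : F[X]) = 0 := AdjoinRoot.mk_eq_zero.mpr hP₁dvd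
    rw [map_sub, map_pow, AdjoinRoot.mk_X, map_one, sub_eq_zero] at h1
    exact h1
  have hρ1 : ρ ≠ 1 := by
    intro h
    have h1 : AdjoinRoot.mk P₁ (X - 1 : F[X]) = 0 := by
      rw [map_sub, AdjoinRoot.mk_X, map_one, ← hρ, h, sub_self]
    have h2 : P₁ ∣ (X - 1 : F[X]) := AdjoinRoot.mk_eq_zero.mp h1
    have h3 := D.cop1 P₁ hP₁
    have h4 : IsUnit P₁ := (h3.symm.dvd_of_dvd_mul_right (by simpa using h2) : P₁ ∣ 1) |> isUnit_of_dvd_one
    exact (D.irr P₁ hP₁).not_isUnit h4
  have hord : orderOf ρ = r := orderOf_eq_prime hρr hρ1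
  have hprim : IsPrimitiveRoot ρ r := by
    rw [← hord]; exact IsPrimitiveRoot.orderOf ρ
  haveI : NeZero r := ⟨hr.ne_zero⟩
  have hsplit : (X ^ r - C (1 : AdjoinRoot P₁) : (AdjoinRoot P₁)[X]).Splits :=
    X_pow_sub_one_splits hprim
  have hne0 : (X ^ r - C (1 : AdjoinRoot P₁) : (AdjoinRoot P₁)[X]) ≠ 0 :=
    X_pow_sub_C_ne_zero hr.pos _
  intro P hP
  have hPdvd : P ∣ (X ^ r - 1 : F[X]) := by
    rw [← D.prod]
    exact Dvd.dvd.mul_left (Finset.dvd_prod_of_mem _ hP) _
  have hPdvd' : P.map (algebraMap F (AdjoinRoot P₁)) ∣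
      (X ^ r - C (1 : AdjoinRoot P₁) : (AdjoinRoot P₁)[X]) := by
    have := Polynomial.map_dvd (algebraMap F (AdjoinRoot P₁)) hPdvd
    simpa using this
  have hPs : (P.map (algebraMap F (AdjoinRoot P₁))).Splits := hsplit.of_dvd hne0 hPdvd'
  have hdeg : (P.map (algebraMap F (AdjoinRoot P₁))).degree ≠ 0 := by
    rw [Polynomial.degree_map]
    rw [Polynomial.degree_eq_natDegree (D.irr P hP).ne_zero, D.deg P hP]
    intro h
    have : (b : WithBot ℕ) = 0 := h
    have : b = 0 := by exact_mod_cast this
    omega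
  obtain ⟨a, ha⟩ := hPs.exists_eval_eq_zero hdeg
  have har : a ^ r = 1 := by
    obtain ⟨c, hc⟩ := hPdvd'
    have := congrArg (Polynomial.eval a) hc
    rw [Polynomial.eval_mul, ha, zero_mul] at this
    simpa [sub_eq_zero] using this
  obtain ⟨j, hj, hja⟩ := hprim.eq_pow_of_pow_eq_one har
  have h1 : aeval (ρ ^ j) P = 0 := by
    rw [hja, ← Polynomial.eval_map_algebraMap]
    exact ha
  have h2 : aeval ρ (P.comp (X ^ j)) = 0 := by
    rw [Polynomial.aeval_comp, map_pow, aeval_X]
    exact h1
  have h3 : P₁ ∣ P.comp (X ^ j) := by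
    rw [hρ, AdjoinRoot.aeval_eq] at h2
    exact AdjoinRoot.mk_eq_zero.mp h2
  refine ⟨M ^ j, hMp.pow j, ?_, ?_⟩
  · rw [← pow_mul, mul_comm, pow_mul, hMr, one_pow]
  · rw [Matrix.toLin'_pow]
    have h4 : aeval (y ^ j) P = aeval y (P.comp (X ^ j)) := by
      rw [Polynomial.aeval_comp, map_pow, aeval_X]
    rw [← hy, h4]
    obtain ⟨c, hc⟩ := h3
    rw [hc, map_mul, hP₁y, zero_mul]

end blocks



section model

variable {F : Type u} [Field F] [Fintype F] {q : ℕ}

/-- the model space: `t` blocks of dimension `b` and a fixed part of dimension `E` -/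
abbrev MV (F : Type u) [Field F] (b t E : ℕ) : Type u := (Fin t → Fin b → F) × (Fin E → F)

/-- the model form -/
def Hm (q b t E : ℕ) (x y : MV F b t E) : F :=
  ∑ k, Cfsg.hermForm b F q (x.1 k) (y.1 k) + Cfsg.hermForm E F q x.2 y.2

/-- the model isometry -/
noncomputable def ym {b t : ℕ} (E : ℕ) (A : Fin t → Matrix (Fin b) (Fin b) F) :
    MV F b t E →ₗ[F] MV F b t E :=
  LinearMap.prodMap (LinearMap.pi fun k => (Matrix.toLin' (A k)).comp (LinearMap.proj k))
    LinearMap.id

theorem ym_apply {b t : ℕ} (E : ℕ) (A : Fin t → Matrix (Fin b) (Fin b) F) (x : MV F b t E) :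
    ym E A x = (fun k => Matrix.toLin' (A k) (x.1 k), x.2) := rfl

theorem isHerm_Hm (hF : Fintype.card F = q ^ 2) (b t E : ℕ) :
    IsHerm q (Hm (F := F) q b t E) where
  add_left := by
    intro x x' y
    unfold Hm
    simp only [Prod.fst_add, Prod.snd_add, Pi.add_apply]
    rw [(isHerm_hermForm hF E).add_left]
    simp only [(isHerm_hermForm hF b).add_left, Finset.sum_add_distrib]
    ring
  smul_left := by
    intro c x y
    unfold Hm
    simp only [Prod.smul_fst, Prod.smul_snd, Pi.smul_apply]
    rw [(isHerm_hermForm hF E).smul_left]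
    simp only [(isHerm_hermForm hF b).smul_left]
    rw [mul_add, Finset.mul_sum]
  conj := by
    intro x y
    unfold Hm
    rw [add_pow_q hF, sum_pow_q hF, ← (isHerm_hermForm hF E).conj]
    congr 1
    apply Finset.sum_congr rfl
    intro k _
    exact (isHerm_hermForm hF b).conj _ _

theorem nonDeg_Hm (hF : Fintype.card F = q ^ 2) (b t E : ℕ) :
    NonDeg (Hm (F := F) q b t E) ⊤ := by
  classical
  intro x _ hx
  have hb := isHerm_hermForm hF b
  have hE := isHerm_hermForm hF E
  apply Prod.ext
  · funext k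
    apply nonDeg_hermForm hF b (x.1 k) Submodule.mem_top
    intro w _
    have h := hx (Pi.single k w, 0) Submodule.mem_top
    unfold Hm at h
    simp only at h
    rw [hE.zero_right hF, add_zero, Finset.sum_eq_single k] at h
    · simpa using h
    · intro j _ hjk
      rw [Pi.single_eq_of_ne hjk, hb.zero_right hF]
    · intro hk
      exact absurd (Finset.mem_univ k) hk
  · apply nonDeg_hermForm hF E x.2 Submodule.mem_top
    intro w _
    have h := hx (0, w) Submodule.mem_top
    unfold Hm at h
    simp only [Pi.zero_apply] at h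
    rw [Finset.sum_eq_zero (fun k _ => hb.zero_right hF (x.1 k)), zero_add] at h
    exact h

theorem iso_ym {b t : ℕ} (E : ℕ) (A : Fin t → Matrix (Fin b) (Fin b) F)
    (hA : ∀ k, Pres q b (A k)) : Iso (Hm (F := F) q b t E) (ym E A) := by
  intro x y
  unfold Hm
  simp only [ym_apply, Matrix.toLin'_apply]
  congr 1
  apply Finset.sum_congr rfl
  intro k _
  exact hA k _ _

theorem aeval_ym {b t : ℕ} (E : ℕ) (A : Fin t → Matrix (Fin b) (Fin b) F) (Q : F[X]) :
    ∀ x : MV F b t E, aeval (ym E A) Q x =
      (fun k => aeval (Matrix.toLin' (A k)) Q (x.1 k), Q.eval 1 • x.2) := by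
  induction Q using Polynomial.induction_on with
  | C a =>
    intro x
    simp only [aeval_C, eval_C]
    apply Prod.ext
    · funext k
      simp [Algebra.algebraMap_eq_smul_one]
    · simp [Algebra.algebraMap_eq_smul_one]
  | add p s hp hs =>
    intro x
    rw [map_add, LinearMap.add_apply, hp, hs]
    apply Prod.ext
    · funext k
      simp [map_add]
    · simp [add_smul]
  | monomial n a ih =>
    intro x
    have h1 : (C a * X ^ (n + 1) : F[X]) = (C a * X ^ n) * X := by ring
    rw [h1, map_mul, aeval_X, Module.End.mul_apply, ih]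
    apply Prod.ext
    · funext k
      simp only [ym_apply]
      rw [map_mul (aeval (Matrix.toLin' (A k))) (C a * X ^ n) X, aeval_X, Module.End.mul_apply]
    · simp only [ym_apply, eval_mul, eval_X, mul_one]

theorem finrank_MV (b t E : ℕ) : finrank F (MV F b t E) = t * b + E := by
  unfold MV
  rw [Module.finrank_prod, Module.finrank_pi_fintype, Module.finrank_fin_fun]
  simp

end model



section key

variable {F : Type u} [Field F] [Fintype F] {q : ℕ}

theorem inj_of_coprime {V : Type*} [AddCommGroup V] [Module F V] (φ : V →ₗ[F] V) (P Q : F[X])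
    (hc : IsCoprime P Q) (hQ : aeval φ Q = 0) : ∀ v, aeval φ P v = 0 → v = 0 := by
  intro v hv
  obtain ⟨a, c, hac⟩ := hc
  have h := congrArg (fun g => aeval φ g v) hac
  simp only [map_add, map_mul, map_one, LinearMap.add_apply, Module.End.mul_apply,
    Module.End.one_apply] at h
  rw [hv, hQ, LinearMap.zero_apply, map_zero, map_zero, add_zero] at h
  exact h.symm

/-- the key property of the model: invariant totally isotropic subspaces lie in the fixed part -/
theorem model_key (hF : Fintype.card F = q ^ 2) {r b t : ℕ} (E : ℕ) {PP : Finset F[X]}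
    (D : FactorData F r b PP) (hb1 : 1 ≤ b)
    (A : Fin t → Matrix (Fin b) (Fin b) F) (hAr : ∀ k, A k ^ r = 1)
    (e : Fin t → F[X]) (he : Function.Injective e) (hePP : ∀ k, e k ∈ PP)
    (hAe : ∀ k, aeval (Matrix.toLin' (A k)) (e k) = 0)
    (W : Submodule F (MV F b t E)) (hWinv : Inv (ym E A) W)
    (hWti : Ort (Hm (F := F) q b t E) W W) : ∀ x ∈ W, x.1 = 0 := by
  classical
  set y := ym E A with hy
  have hφ : aeval y (X ^ r - 1 : F[X]) = 0 := by
    apply LinearMap.ext
    intro x
    rw [aeval_ym]
    apply Prod.ext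
    · funext k
      simp only [LinearMap.zero_apply, Prod.fst_zero, Pi.zero_apply]
      rw [Cfsg.Agent.Lib.Helper49.aeval_toLin'_of_pow_eq_one (A k) r (hAr k)]
      rfl
    · simp
  set yW := y.restrict hWinv with hyW
  have hφW : aeval yW (X ^ r - 1 : F[X]) = 0 := by
    apply LinearMap.ext
    intro w
    apply Subtype.ext
    have h := Cfsg.Agent.Lib.Helper49.aeval_restrict_apply y W hWinv (X ^ r - 1) w
    rw [hφ] at h
    exact h
  have hP1 : ∀ P ∈ PP, P.eval 1 ≠ 0 := by
    intro P hP h0
    obtain ⟨a, c, hac⟩ := D.cop1 P hP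
    have := congrArg (Polynomial.eval 1) hac
    simp [h0] at this
  have hkey : ∀ P ∈ PP, kdim yW P = 0 := by
    intro P hP
    by_contra hne
    have hdvd : b ∣ kdim yW P := D.dvd_kdim yW hP
    -- structure of the kernel
    have hstr : ∀ w : W, aeval yW P w = 0 →
        (∀ l, e l ≠ P → (w : MV F b t E).1 l = 0) ∧ (w : MV F b t E).2 = 0 := by
      intro w hw
      have h1 : aeval y P (w : MV F b t E) = 0 := by
        rw [← Cfsg.Agent.Lib.Helper49.aeval_restrict_apply y W hWinv P w, hw]
        rfl
      rw [aeval_ym] at h1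
      have h2 := congrArg Prod.fst h1
      have h3 := congrArg Prod.snd h1
      simp only [Prod.fst_zero, Prod.snd_zero] at h2 h3
      constructor
      · intro l hl
        apply inj_of_coprime (Matrix.toLin' (A l)) P (e l)
          ((D.cop (e l) (hePP l) P hP hl).symm) (hAe l)
        exact congrFun h2 l
      · rcases smul_eq_zero.mp h3 with h | h
        · exact absurd h (hP1 P hP)
        · exact h
    by_cases hPe : ∃ k₀, e k₀ = P
    · obtain ⟨k₀, hk₀⟩ := hPe
      -- projection to the block
      set π : ↥(LinearMap.ker (aeval yW P)) →ₗ[F] (Fin b → F) :=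
        ((LinearMap.proj k₀).comp (LinearMap.fst F _ _)).comp
          (W.subtype.comp (LinearMap.ker (aeval yW P)).subtype) with hπ
      have hπinj : Function.Injective π := by
        rw [injective_iff_map_eq_zero]
        intro w hw
        have hw' : aeval yW P (w : W) = 0 := LinearMap.mem_ker.mp w.2
        obtain ⟨h1, h2⟩ := hstr (w : W) hw'
        apply Subtype.ext
        apply Subtype.ext
        apply Prod.ext
        · funext l
          by_cases hl : l = k₀
          · subst hl
            exact hw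
          · apply h1 l
            intro h
            apply hl
            apply he
            rw [h, hk₀]
        · exact h2
      have hle : kdim yW P ≤ b := by
        have := LinearMap.finrank_le_finrank_of_injective hπinj
        rw [Module.finrank_fin_fun] at this
        exact this
      have hkb : kdim yW P = b := by
        obtain ⟨c, hc⟩ := hdvd
        rcases Nat.eq_zero_or_pos c with h0 | h0
        · rw [h0, mul_zero] at hc; exact absurd hc hne
        · have : b * 1 ≤ b * c := Nat.mul_le_mul_left b h0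
          omega
      have hπsurj : Function.Surjective π := by
        have hfr : finrank F ↥(LinearMap.ker (aeval yW P)) = finrank F (Fin b → F) := by
          rw [Module.finrank_fin_fun]
          exact hkb
        rw [← LinearMap.range_eq_top]
        apply Submodule.eq_top_of_finrank_eq
        rw [LinearMap.finrank_range_of_inj hπinj]
        exact hfr
      obtain ⟨w, hw⟩ := hπsurj (Pi.single ⟨0, by omega⟩ 1)
      have hw' : aeval yW P (w : W) = 0 := LinearMap.mem_ker.mp w.2
      obtain ⟨h1, h2⟩ := hstr (w : W) hw'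
      have hwk : ((w : W) : MV F b t E).1 k₀ = Pi.single ⟨0, by omega⟩ 1 := hw
      have hti := hWti ((w : W) : MV F b t E) (w : W).2 ((w : W) : MV F b t E) (w : W).2
      unfold Hm at hti
      rw [h2, Finset.sum_eq_single k₀] at hti
      · rw [hwk] at hti
        have hE0 : Cfsg.hermForm E F q (0 : Fin E → F) 0 = 0 :=
          (isHerm_hermForm hF E).zero_left 0
        rw [hE0, add_zero] at hti
        unfold Cfsg.hermForm at hti
        rw [Finset.sum_eq_single (⟨0, by omega⟩ : Fin b)] at hti
        · simp at hti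
        · intro j _ hj
          rw [Pi.single_eq_of_ne hj, zero_mul]
        · intro h; exact absurd (Finset.mem_univ _) h
      · intro l _ hl
        rw [h1 l]
        · exact (isHerm_hermForm hF b).zero_left _
        · intro h
          apply hl
          apply he
          rw [h, hk₀]
      · intro h; exact absurd (Finset.mem_univ _) h
    · push_neg at hPe
      apply hne
      unfold kdim
      have : LinearMap.ker (aeval yW P) = ⊥ := by
        rw [LinearMap.ker_eq_bot']
        intro w hw
        obtain ⟨h1, h2⟩ := hstr w hw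
        apply Subtype.ext
        apply Prod.ext
        · funext l
          exact h1 l (hPe l)
        · exact h2
      rw [this, finrank_bot]
  have hone : yW = 1 := (D.eq_one_iff yW hφW).mpr hkey
  intro x hx
  have h1 : y x = x := by
    calc y x = ((yW ⟨x, hx⟩ : W) : MV F b t E) := rfl
      _ = x := by rw [hone]; rfl
  rw [hy, ym_apply] at h1
  have h2 := congrArg Prod.fst h1
  simp only at h2
  funext k
  apply inj_of_coprime (Matrix.toLin' (A k)) (X - 1) (e k) (D.cop1 (e k) (hePP k)) (hAe k)
  rw [map_sub, aeval_X, map_one, LinearMap.sub_apply, Module.End.one_apply, sub_eq_zero]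
  exact congrFun h2 k

/-- the fixed part -/
theorem model_fixed (hF : Fintype.card F = q ^ 2) (b t E : ℕ) :
    NonDeg (Hm (F := F) q b t E) (LinearMap.ker (LinearMap.fst F (Fin t → Fin b → F) (Fin E → F))) ∧
    finrank F ↥(LinearMap.ker (LinearMap.fst F (Fin t → Fin b → F) (Fin E → F))) = E := by
  constructor
  · intro x hx hxv
    rw [LinearMap.mem_ker, LinearMap.fst_apply] at hx
    apply Prod.ext
    · exact hx
    · apply nonDeg_hermForm hF E x.2 Submodule.mem_top
      intro w _
      have h := hxv ((0 : Fin t → Fin b → F), w) (by rw [LinearMap.mem_ker, LinearMap.fst_apply])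
      unfold Hm at h
      simp only [Pi.zero_apply] at h
      rw [Finset.sum_eq_zero (fun k _ => (isHerm_hermForm hF b).zero_right hF (x.1 k)),
        zero_add] at h
      exact h
  · rw [LinearMap.ker_fst, LinearMap.finrank_range_of_inj LinearMap.inr_injective,
      Module.finrank_fin_fun]

end key



variable {F : Type u} [Field F] [Fintype F] {p : ℕ} [Fact p.Prime] [CharP F p] {q : ℕ}

/-- **K-UTi-N2b (595333)** multiplicity-free model, `i ≡ 2 (mod 4)`, `i > 2` -/
theorem bound_multfree_odd (hq : Fintype.card F = q ^ 2) (n m : ℕ) (hn : 3 ≤ n) (hm : 1 ≤ m)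
    (hmn : 2 * m ≤ n) (r : ℕ) [Fact r.Prime] (hrp : r ≠ p) (hr2 : r ≠ 2) (i b : ℕ)
    (hi : i = orderOf (q : ZMod r)) (hb : b = if Even i then i / 2 else i) (hi4 : i % 4 = 2)
    (hi2 : 2 < i) (hbm : b ≤ m) (hL : AllFix F n m q r) :
    (r - 1) / b + 2 * (m / b) ≤ n / b := by
  classical
  have hr : r.Prime := Fact.out
  obtain ⟨hib, hbodd, hb3, hrdvd, hrq1, hbord⟩ := n2b_arith r q i b hi hb hi4 hi2
  obtain ⟨f, -, hK⟩ := FiniteField.card F p
  have hpq : p ^ (f : ℕ) = q ^ 2 := hK.symm.trans hq
  have hbord' : b = orderOf ((p ^ (f : ℕ) : ℕ) : ZMod r) := by rw [hpq]; exact hbord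
  have D := Cfsg.Agent.S2568.factorData hK r b hrp hbord'
  set PP := (UniqueFactorizationMonoid.normalizedFactors
    (Polynomial.cyclotomic r F)).toFinset with hPP
  have hmon : ∀ P ∈ PP, P.Monic := by
    intro P hP
    have hP1 := Multiset.mem_toFinset.mp hP
    rw [← UniqueFactorizationMonoid.normalize_normalized_factor P hP1]
    exact Polynomial.monic_normalize
      (UniqueFactorizationMonoid.irreducible_of_normalized_factor P hP1).ne_zero
  have hcardPP : b * PP.card = r - 1 := by
    have h1 := congrArg Polynomial.natDegree D.prod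
    have e1 : (Polynomial.X - 1 : Polynomial F).natDegree = 1 := by
      rw [← Polynomial.C_1]; exact Polynomial.natDegree_X_sub_C 1
    have e2 : (Polynomial.X ^ r - 1 : Polynomial F).natDegree = r := by
      rw [← Polynomial.C_1]; exact Polynomial.natDegree_X_pow_sub_C
    have e3 : (Polynomial.X - 1 : Polynomial F).Monic := by
      rw [← Polynomial.C_1]; exact Polynomial.monic_X_sub_C 1
    rw [e3.natDegree_mul (Polynomial.monic_prod_of_monic _ _ hmon), e1, e2,
      Polynomial.natDegree_prod_of_monic _ _ hmon,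
      Finset.sum_congr rfl (fun P hP => D.deg P hP), Finset.sum_const, smul_eq_mul] at h1
    rw [mul_comm]
    omega
  have hs : (r - 1) / b = PP.card := by
    rw [← hcardPP, Nat.mul_div_cancel_left _ (by omega)]
  have hspos : 1 ≤ PP.card := by
    rcases Nat.eq_zero_or_pos PP.card with h0 | h0
    · rw [h0, mul_zero] at hcardPP
      have := hr.two_le
      omega
    · exact h0
  have hbl := exists_blocks hq r b hb3 hbodd hrdvd PP D
  by_contra hcon
  push_neg at hcon
  rw [hs] at hcon
  set N := n / b with hN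
  have hN1 : 1 ≤ N := Nat.div_pos (by omega) (by omega)
  have hNb : N * b ≤ n := Nat.div_mul_le_self n b
  set t := min PP.card N with ht
  have ht1 : 1 ≤ t := le_min hspos hN1
  have htb : t * b ≤ n := le_trans (Nat.mul_le_mul_right b (min_le_right _ _)) hNb
  set E := n - t * b with hE
  -- the polynomials
  let e : Fin t → F[X] := fun k => ((PP.equivFin).symm (Fin.castLE (min_le_left _ _) k)).1
  have he : Function.Injective e := by
    intro k k' h
    have h1 : (PP.equivFin).symm (Fin.castLE (min_le_left _ _) k) =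
        (PP.equivFin).symm (Fin.castLE (min_le_left _ _) k') := Subtype.ext h
    have h2 := (PP.equivFin).symm.injective h1
    exact Fin.castLE_injective _ h2
  have hePP : ∀ k, e k ∈ PP := fun k => ((PP.equivFin).symm (Fin.castLE (min_le_left _ _) k)).2
  choose A hApres hAr hAe using fun k => hbl (e k) (hePP k)
  -- the model
  have hH := isHerm_Hm (F := F) hq b t E
  have hV := nonDeg_Hm (F := F) hq b t E
  have hiso := iso_ym (q := q) E A hApres
  have hfin : finrank F (MV F b t E) = n := by
    rw [finrank_MV]; omega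
  have hyr : ym E A ^ r = 1 := by
    have h1 : aeval (ym E A) (X ^ r - 1 : F[X]) = 0 := by
      apply LinearMap.ext
      intro x
      rw [aeval_ym]
      apply Prod.ext
      · funext k
        simp only [LinearMap.zero_apply, Prod.fst_zero, Pi.zero_apply]
        rw [Cfsg.Agent.Lib.Helper49.aeval_toLin'_of_pow_eq_one (A k) r (hAr k)]
        rfl
      · simp
    rw [map_sub, map_pow, aeval_X, map_one, sub_eq_zero] at h1
    exact h1
  have hdet : LinearMap.det (ym E A) = 1 := by
    have h1 := Cfsg.Agent.Lib.Helper51.UTi.det_pow_eq_one hq hH hV (ym E A) hiso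
    have h2 : LinearMap.det (ym E A) ^ r = 1 := by
      rw [← map_pow, hyr, map_one]
    have h3 := pow_gcd_eq_one.mpr ⟨h1, h2⟩
    have h4 : Nat.gcd (q + 1) r = 1 := by
      rw [Nat.gcd_comm]
      exact (Nat.Prime.coprime_iff_not_dvd hr).mpr hrq1
    rw [h4, pow_one] at h3
    exact h3
  have hns : ∀ c : F, ym E A ≠ c • 1 := by
    intro c hc
    set k₀ : Fin t := ⟨0, by omega⟩ with hk₀
    set w : Fin b → F := Pi.single ⟨0, by omega⟩ 1 with hw
    have h1 : aeval (ym E A) (e k₀) = (e k₀).eval c • 1 := by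
      rw [hc]
      have : (c • (1 : Module.End F (MV F b t E))) = algebraMap F _ c := by
        rw [Algebra.algebraMap_eq_smul_one]
      rw [this, Polynomial.aeval_algebraMap_apply_eq_algebraMap_eval,
        Algebra.algebraMap_eq_smul_one]
    have h2 := congrArg (fun g => (g ((Pi.single k₀ w : Fin t → Fin b → F), (0 : Fin E → F))).1 k₀) h1
    simp only [aeval_ym, LinearMap.smul_apply, Module.End.one_apply, Prod.smul_fst,
      Pi.smul_apply, Pi.single_eq_same] at h2
    rw [hAe k₀, LinearMap.zero_apply] at h2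
    have h3 : (e k₀).eval c = 0 := by
      have h4 := congrFun h2 ⟨0, by omega⟩
      simp only [Pi.zero_apply, Pi.smul_apply, hw, Pi.single_eq_same, smul_eq_mul, mul_one] at h4
      exact h4.symm
    have h5 := Polynomial.degree_eq_one_of_irreducible_of_root (D.irr (e k₀) (hePP k₀)) h3
    have h6 : (e k₀).natDegree = 1 := Polynomial.natDegree_eq_of_degree_eq_some h5
    rw [D.deg (e k₀) (hePP k₀)] at h6
    omega
  obtain ⟨W, hWinv, hWti, hWm⟩ := Cfsg.Agent.Lib.Helper51.UTi.transport_model hq hH hV n m r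
    hfin (ym E A) hiso hdet 1 (by rw [hyr, one_smul]) hns hL
  have hWZ : W ≤ LinearMap.ker (LinearMap.fst F (Fin t → Fin b → F) (Fin E → F)) := by
    intro x hx
    rw [LinearMap.mem_ker, LinearMap.fst_apply]
    exact model_key hq E D (by omega) A hAr e he hePP hAe W hWinv hWti x hx
  obtain ⟨hZnd, hZfin⟩ := model_fixed (F := F) hq b t E
  have h2m := Cfsg.Agent.Lib.Helper63.UTi.two_mul_finrank_le hq hH _ W hZnd hWZ hWti
  rw [hWm, hZfin] at h2m
  -- arithmetic
  rcases le_total PP.card N with hle | hle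
  · have htE : t = PP.card := min_eq_left hle
    rw [htE] at hE
    have h1 : (m / b) * b ≤ m := Nat.div_mul_le_self m b
    have h2 : (PP.card + 2 * (m / b)) * b ≤ n := by
      have : (PP.card + 2 * (m / b)) * b = PP.card * b + 2 * ((m / b) * b) := by ring
      rw [this]
      omega
    have h3 : PP.card + 2 * (m / b) ≤ n / b := (Nat.le_div_iff_mul_le (by omega)).mpr h2
    omega
  · have htE : t = N := min_eq_right hle
    rw [htE] at hE
    have h1 : n % b < b := Nat.mod_lt n (by omega)
    have h2 : b * (n / b) + n % b = n := Nat.div_add_mod n b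
    have h3 : N * b = b * (n / b) := by rw [hN, mul_comm]
    omega


end Cfsg.Agent.Lib.Helper09.UTi
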