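import Mathlib
import Cfsg.Agent.Lib.Helper28.ZassPSL
import Cfsg.Agent.Lib.Helper28.S3GroupC
import Cfsg.Agent.S0739
import Cfsg.Agent.S0742

/-!
# Simple Zassenhaus groups: the two-point stabilizer is cyclic and inverted by an involution

Glue: `S0739` + `S0740` for two-point stabilizers of odd order; the swapper lemma and Schur
coordinates of `Helper28` for even order `(n - 1) / 2`; the sharply 3-transitive case is excluded
by a nontrivial linear character (supplied as a hypothesis here).
-/

set_option autoImplicit false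
set_option linter.style.haveILetI false

namespace Cfsg.Agent.Lib.Helper09.ZassSimple

open MulAction Cfsg.Agent.Lib.Helper28

variable {G Ω : Type*} [Group G] [MulAction G Ω]

/-- a group satisfying `ZPre` is not commutative -/
theorem not_comm (h : ZPre G Ω) : ¬ ∀ x y : G, x * y = y * x := by
  intro hc
  obtain ⟨g, hg1, a, b, -, hga, -⟩ := h.two
  apply hg1
  apply h.faithful
  intro x
  obtain ⟨t, ht⟩ := h.trans1 a x
  rw [← ht, ← mul_smul, hc g t, mul_smul, hga]

/-- in a simple group satisfying `ZPre`, a kernel of a homomorphism to a commutative group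
which is not everything leads to a contradiction -/
theorem false_of_hom [IsSimpleGroup G] (h : ZPre G Ω) {A : Type*} [CommGroup A] (φ : G →* A)
    {x : G} (hx : φ x ≠ 1) : False := by
  rcases (inferInstance : φ.ker.Normal).eq_bot_or_eq_top with hk | hk
  · apply not_comm h
    intro x y
    have hinj : Function.Injective φ := (MonoidHom.ker_eq_bot_iff φ).mp hk
    apply hinj
    rw [map_mul, map_mul, mul_comm]
  · apply hx
    have : x ∈ φ.ker := by rw [hk]; exact Subgroup.mem_top x
    exact MonoidHom.mem_ker.mp this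

/-- a simple group satisfying `ZPre` has no normal `q`-complement, `q ∣ |G|` -/
theorem simple_hnil [Finite G] [IsSimpleGroup G] (h : ZPre G Ω) (q : ℕ) (hq : q.Prime)
    (hqd : q ∣ Nat.card G) :
    ¬ ∃ N : Subgroup G, N.Normal ∧ N.index = q ^ (Nat.card G).factorization q := by
  rintro ⟨N, hN, hidx⟩
  haveI : Fact q.Prime := ⟨hq⟩
  have hpos : 0 < (Nat.card G).factorization q :=
    hq.factorization_pos_of_dvd Nat.card_pos.ne' hqd
  rcases hN.eq_bot_or_eq_top with hb | ht
  · rw [hb, Subgroup.index_bot] at hidx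
    have hG : IsPGroup q G := IsPGroup.of_card hidx
    haveI : Nontrivial G := IsSimpleGroup.toNontrivial
    have hc : Nontrivial (Subgroup.center G) := hG.center_nontrivial
    have hct : Subgroup.center G = ⊤ := by
      rcases (inferInstance : (Subgroup.center G).Normal).eq_bot_or_eq_top with h1 | h1
      · exfalso
        rw [h1] at hc
        exact not_nontrivial _ hc
      · exact h1
    apply not_comm h
    intro x y
    have : y ∈ Subgroup.center G := by rw [hct]; exact Subgroup.mem_top y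
    exact (Subgroup.mem_center_iff.mp this x)
  · rw [ht, Subgroup.index_top] at hidx
    have : 1 < q ^ (Nat.card G).factorization q := Nat.one_lt_pow hpos.ne' hq.one_lt
    omega

/-- the case of a two-point stabilizer of odd order -/
theorem odd_case [Finite G] [Finite Ω] (hZ : Cfsg.IsZassenhausGroup G Ω) [IsSimpleGroup G]
    {a b : Ω} (hab : a ≠ b) (hodd : Odd (Nat.card ↥(stabilizer G a ⊓ stabilizer G b))) :
    IsCyclic ↥(stabilizer G a ⊓ stabilizer G b) ∧
      ∃ v : G, orderOf v = 2 ∧ v • a = b ∧ v • b = a ∧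
        ∀ h ∈ stabilizer G a ⊓ stabilizer G b, v * h * v⁻¹ = h⁻¹ := by
  classical
  letI := Fintype.ofFinite Ω
  have hpre := zpre_of_isZassenhausGroup hZ
  obtain ⟨hcyc, -, hinv⟩ := Cfsg.Agent.S0739.result hZ hab hodd
    (fun q hq hqd => simple_hnil hpre q hq (hqd.trans (Subgroup.card_subgroup_dvd_card _)))
  obtain ⟨⟨v, hv, hva, hvb⟩, -, -⟩ := Cfsg.Agent.S0740.result hZ hab
  exact ⟨hcyc, v, hv, hva, hvb, hinv v hva hvb⟩

/-- the case of a two-point stabilizer of even order `d` with `2 d ≤ n - 1` -/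
theorem even_small_case [Finite G] [Fintype Ω] (hZ : Cfsg.IsZassenhausGroup G Ω)
    {a b : Ω} (hab : a ≠ b) (heven : Even (Nat.card ↥(stabilizer G a ⊓ stabilizer G b)))
    (hd : 2 * Nat.card ↥(stabilizer G a ⊓ stabilizer G b) ≤ Fintype.card Ω - 2) :
    IsCyclic ↥(stabilizer G a ⊓ stabilizer G b) ∧
      ∃ v : G, orderOf v = 2 ∧ v • a = b ∧ v • b = a ∧
        ∀ h ∈ stabilizer G a ⊓ stabilizer G b, v * h * v⁻¹ = h⁻¹ := by
  classical
  have hpre := zpre_of_isZassenhausGroup hZ
  have h741 := Cfsg.Agent.S0741.result hZ hab heven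
  set H : Subgroup G := stabilizer G a ⊓ stabilizer G b with hH
  set d := Nat.card ↥H with hdd
  set N := Fintype.card Ω with hN
  have hN2d : N - 2 = 2 * d := le_antisymm h741 hd
  have hdpos : 0 < d := Nat.card_pos
  have hN2 : 2 ≤ N := by
    have : ({a, b} : Finset Ω).card ≤ Fintype.card Ω := Finset.card_le_univ _
    rw [Finset.card_pair hab] at this
    exact this
  have hNeq : N = 2 * d + 2 := by omega
  have hHa : ∀ g ∈ H, g • a = a := fun g hg => mem_stabilizer_iff.mp (Subgroup.mem_inf.mp hg).1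
  have hHb : ∀ g ∈ H, g • b = b := fun g hg => mem_stabilizer_iff.mp (Subgroup.mem_inf.mp hg).2
  -- the kernel
  obtain ⟨K, hKle, hKn, hreg, hfpf⟩ := hpre.exists_regular_kernel a
  have hKa : ∀ u ∈ K, u • a = a := fun u hu => mem_stabilizer_iff.mp (hKle hu)
  obtain ⟨hKcard, hGcard⟩ := hpre.card_of_regular_kernel hab K hKle hreg
  obtain ⟨hKcommI, p0, f0, hp0, hexp0, hNpf0⟩ :=
    Cfsg.Agent.S0738.result hZ hab h741 K hKle hKn hreg
  have hKcomm : ∀ x ∈ K, ∀ y ∈ K, x * y = y * x := by
    intro x hx y hy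
    have := hKcommI.is_comm.comm (⟨x, hx⟩ : K) ⟨y, hy⟩
    exact congrArg Subtype.val this
  have hKcard' : Nat.card K = 2 * d + 1 := by omega
  have hTreg : ∀ x : Ω, x ≠ a → ∃! t : K, (t : G) • b = x := fun x hx => hreg b x hab.symm hx
  have hnorm : ∀ g ∈ H, ∀ t ∈ K, g * t * g⁻¹ ∈ K := by
    intro g hg t ht
    have := hKn.conj_mem ⟨t, hKle ht⟩ (Subgroup.mem_subgroupOf.mpr ht)
      ⟨g, (Subgroup.mem_inf.mp hg).1⟩
    exact Subgroup.mem_subgroupOf.mp this
  -- the swapper
  obtain ⟨u, hua, hub⟩ := hpre.trans2 a b b a hab hab.symm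
  obtain ⟨huord, c, huc⟩ := swapper_invol hZ hab heven hd u hua hub
  obtain ⟨hu2, hu1⟩ := Cfsg.Agent.S0740.orderOf_two_iff u |>.mp huord
  have hui : u⁻¹ = u := inv_eq_of_mul_eq_one_right hu2
  have hinv : ∀ g ∈ H, u * g * u⁻¹ = g⁻¹ := by
    intro g hg
    have h1 : (u * g) • a = b := by rw [mul_smul, hHa g hg, hua]
    have h2 : (u * g) • b = a := by rw [mul_smul, hHb g hg, hub]
    obtain ⟨ho, -⟩ := swapper_invol hZ hab heven hd (u * g) h1 h2
    obtain ⟨hsq, -⟩ := Cfsg.Agent.S0740.orderOf_two_iff (u * g) |>.mp ho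
    rw [hui]
    calc u * g * u = (u * g * (u * g)) * g⁻¹ := by group
      _ = g⁻¹ := by rw [hsq, one_mul]
  have hHcomm : ∀ x ∈ H, ∀ y ∈ H, x * y = y * x := by
    intro x hx y hy
    have h1 := hinv (x * y) (H.mul_mem hx hy)
    have h2 : u * (x * y) * u⁻¹ = (u * x * u⁻¹) * (u * y * u⁻¹) := by group
    rw [h2, hinv x hx, hinv y hy, mul_inv_rev] at h1
    have h3 := congrArg (fun g => g⁻¹) h1
    simpa using h3.symm
  refine ⟨?_, u, huord, hua, hub, hinv⟩
  -- the base point `e`
  have hca : c ≠ a := by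
    rintro rfl
    rw [hua] at huc
    exact hab huc.symm
  have hcb : c ≠ b := by
    rintro rfl
    rw [hub] at huc
    exact hab huc
  obtain ⟨⟨e, heK⟩, hec, -⟩ := hTreg c hca
  have hec' : e • b = c := hec
  have he1 : e ≠ 1 := by
    rintro rfl
    rw [one_smul] at hec'
    exact hcb hec'.symm
  -- freeness of the action of `H` on `K`
  have hfree : ∀ g ∈ H, g ≠ 1 → ∀ x ∈ K, g * x = x * g → x = 1 := by
    intro g hg hg1 x hx hcomm
    by_contra hx1
    apply hg1
    have hxb : x • b ≠ b := hfpf x hx hx1 b hab.symm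
    have hxba : x • b ≠ a := by
      intro hh
      have : x⁻¹ • a = b := by rw [← hh, inv_smul_smul]
      rw [hKa _ (K.inv_mem hx)] at this
      exact hab this
    have hgx : g • (x • b) = x • b := by rw [← mul_smul, hcomm, mul_smul, hHb g hg]
    exact hpre.three g a b (x • b) hab (Ne.symm hxb) (Ne.symm hxba) (hHa g hg) (hHb g hg) hgx
  -- irreducibility
  have hirr : ∀ M : Subgroup G, M ≤ K → (∀ g ∈ H, ∀ m ∈ M, g * m * g⁻¹ ∈ M) →
      M = ⊥ ∨ M = K := by
    intro M hMK hMinv
    by_cases hMbot : M = ⊥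
    · exact Or.inl hMbot
    right
    have hdvd : Nat.card H ∣ Nat.card M - Nat.card (⊥ : Subgroup G) := by
      apply Helper26.card_dvd_card_sub_of_free H M ⊥ bot_le
      · intro g hg
        rw [Subgroup.mem_normalizer_iff]
        intro m
        constructor
        · intro hm
          exact hMinv g hg m hm
        · intro hm
          have := hMinv g⁻¹ (H.inv_mem hg) _ hm
          have h2 : g⁻¹ * (g * m * g⁻¹) * g⁻¹⁻¹ = m := by group
          rwa [h2] at this
      · intro g _
        rw [Subgroup.mem_normalizer_iff]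
        intro m
        rw [Subgroup.mem_bot, Subgroup.mem_bot]
        constructor
        · rintro rfl; group
        · intro hm
          have : m = g⁻¹ * (g * m * g⁻¹) * g := by group
          rw [this, hm]; group
      · intro g hg hg1 x hx hcomm
        rw [Subgroup.mem_bot]
        exact hfree g hg hg1 x (hMK hx) hcomm
    rw [Subgroup.card_bot] at hdvd
    have hM1 : 1 < Nat.card M := by
      rw [Subgroup.one_lt_card_iff_ne_bot]
      exact hMbot
    have hMdvd : Nat.card M ∣ Nat.card K := Subgroup.card_dvd_of_le hMK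
    have hdle : d ≤ Nat.card M - 1 := Nat.le_of_dvd (by omega) hdvd
    obtain ⟨q, hq⟩ := hMdvd
    have hq1 : q = 1 := by
      rw [hKcard'] at hq
      rcases q with _ | _ | q
      · omega
      · rfl
      · exfalso
        have : Nat.card M * (q + 1 + 1) ≥ Nat.card M * 2 := Nat.mul_le_mul_left _ (by omega)
        omega
    rw [hq1, mul_one] at hq
    exact Subgroup.eq_of_le_of_card_ge hMK (le_of_eq hq)
  have : Finite K := inferInstance
  obtain ⟨p, n, hp, φ, hn, hφbij, hadd, hφe, hmul⟩ :=
    exists_coord_schur K H hKcomm hHcomm hnorm e heK he1 hirr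
  -- the multiplier character
  let χ : H →* GaloisField p n :=
    { toFun := fun g => φ ⟨(g : G) * e * (g : G)⁻¹, hnorm g g.2 e heK⟩
      map_one' := by
        have : (⟨((1 : H) : G) * e * ((1 : H) : G)⁻¹, hnorm _ (1 : H).2 e heK⟩ : K) = ⟨e, heK⟩ := by
          apply Subtype.ext
          simp
        rw [this, hφe]
      map_mul' := by
        intro g g'
        rw [← hmul g g.2 ⟨(g' : G) * e * (g' : G)⁻¹, hnorm g' g'.2 e heK⟩]
        congr 1
        apply Subtype.ext
        show ((g * g' : H) : G) * e * ((g * g' : H) : G)⁻¹ = (g : G) * ((g' : G) * e * (g' : G)⁻¹) * (g : G)⁻¹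
        rw [Subgroup.coe_mul]
        group }
  have hχinj : Function.Injective χ := by
    rw [injective_iff_map_eq_one]
    intro g hg
    by_contra hg1
    have h1 : φ ⟨(g : G) * e * (g : G)⁻¹, hnorm g g.2 e heK⟩ = φ ⟨e, heK⟩ := by
      rw [hφe]; exact hg
    have h2 := congrArg Subtype.val (hφbij.1 h1)
    have h3 : (g : G) * e = e * (g : G) := by
      have : (g : G) * e * (g : G)⁻¹ = e := h2
      calc (g : G) * e = ((g : G) * e * (g : G)⁻¹) * (g : G) := by group
        _ = e * (g : G) := by rw [this]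
    apply he1
    apply hfree g g.2 _ e heK h3
    intro h
    apply hg1
    exact Subtype.ext h
  exact isCyclic_of_injective_ringHom χ hχinj

/-- if `2 d > n - 1`, the two-point stabilizer is transitive on the remaining points -/
theorem reg_of_large [Finite G] [Fintype Ω] (hpre : ZPre G Ω) {a b : Ω} (hab : a ≠ b)
    (hd : Fintype.card Ω - 2 < 2 * Nat.card ↥(stabilizer G a ⊓ stabilizer G b))
    (x y : Ω) (hxa : x ≠ a) (hxb : x ≠ b) (hya : y ≠ a) (hyb : y ≠ b) :
    ∃ g : G, g • a = a ∧ g • b = b ∧ g • x = y := by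
  classical
  set H : Subgroup G := stabilizer G a ⊓ stabilizer G b with hH
  have hHa : ∀ g ∈ H, g • a = a := fun g hg => mem_stabilizer_iff.mp (Subgroup.mem_inf.mp hg).1
  have hHb : ∀ g ∈ H, g • b = b := fun g hg => mem_stabilizer_iff.mp (Subgroup.mem_inf.mp hg).2
  by_contra hcon
  push Not at hcon
  letI : Fintype H := Fintype.ofFinite H
  let f : H ⊕ H → Ω := fun t => Sum.elim (fun g : H => (g : G) • x) (fun g : H => (g : G) • y) t
  have hfree : ∀ (z : Ω), z ≠ a → z ≠ b → ∀ g₁ g₂ : H, (g₁ : G) • z = (g₂ : G) • z → g₁ = g₂ := by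
    intro z hza hzb g₁ g₂ h12
    have h1 : ((g₂ : G)⁻¹ * (g₁ : G)) = 1 := by
      apply hpre.three _ a b z hab (Ne.symm hzb) (Ne.symm hza)
      · rw [mul_smul, hHa _ g₁.2, inv_smul_eq_iff, hHa _ g₂.2]
      · rw [mul_smul, hHb _ g₁.2, inv_smul_eq_iff, hHb _ g₂.2]
      · rw [mul_smul, h12, inv_smul_smul]
    apply Subtype.ext
    calc (g₁ : G) = (g₂ : G) * ((g₂ : G)⁻¹ * (g₁ : G)) := by group
      _ = (g₂ : G) := by rw [h1, mul_one]
  have hfinj : Function.Injective f := by
    rintro (g₁ | g₁) (g₂ | g₂) h12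
    · exact congrArg Sum.inl (hfree x hxa hxb g₁ g₂ h12)
    · exfalso
      have h12' : (g₁ : G) • x = (g₂ : G) • y := h12
      apply hcon ((g₂ : G)⁻¹ * (g₁ : G))
      · rw [mul_smul, hHa _ g₁.2, inv_smul_eq_iff, hHa _ g₂.2]
      · rw [mul_smul, hHb _ g₁.2, inv_smul_eq_iff, hHb _ g₂.2]
      · rw [mul_smul, h12', inv_smul_smul]
    · exfalso
      have h12' : (g₁ : G) • y = (g₂ : G) • x := h12
      apply hcon ((g₁ : G)⁻¹ * (g₂ : G))
      · rw [mul_smul, hHa _ g₂.2, inv_smul_eq_iff, hHa _ g₁.2]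
      · rw [mul_smul, hHb _ g₂.2, inv_smul_eq_iff, hHb _ g₁.2]
      · rw [mul_smul, ← h12', inv_smul_smul]
    · exact congrArg Sum.inr (hfree y hya hyb g₁ g₂ h12)
  have hfmem : ∀ t : H ⊕ H, f t ∈ (Finset.univ \ {a, b} : Finset Ω) := by
    intro t
    have key : ∀ (z : Ω), z ≠ a → z ≠ b → ∀ g : H, (g : G) • z ≠ a ∧ (g : G) • z ≠ b := by
      intro z hza hzb g
      constructor
      · intro h
        apply hza
        rw [← hHa _ g.2] at h
        exact smul_left_cancel _ h
      · intro h
        apply hzb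
        rw [← hHb _ g.2] at h
        exact smul_left_cancel _ h
    rcases t with g | g
    · have := key x hxa hxb g
      simp only [Finset.mem_sdiff, Finset.mem_univ, Finset.mem_insert, Finset.mem_singleton,
        true_and, not_or]
      exact this
    · have := key y hya hyb g
      simp only [Finset.mem_sdiff, Finset.mem_univ, Finset.mem_insert, Finset.mem_singleton,
        true_and, not_or]
      exact this
  have hle : (Finset.univ : Finset (H ⊕ H)).card ≤ (Finset.univ \ {a, b} : Finset Ω).card :=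
    Finset.card_le_card_of_injOn f (fun t _ => hfmem t) (fun t₁ _ t₂ _ h => hfinj h)
  rw [Finset.card_univ, Fintype.card_sum, Finset.card_sdiff_of_subset (Finset.subset_univ _),
    Finset.card_univ, Finset.card_pair hab, ← Nat.card_eq_fintype_card] at hle
  omega

/-- if `2 d > n - 1`, we are in the sharply 3-transitive setup -/
theorem exists_s3setup_of_large [Finite G] [Fintype Ω] (hpre : ZPre G Ω) {a b : Ω} (hab : a ≠ b)
    (hd : Fintype.card Ω - 2 < 2 * Nat.card ↥(stabilizer G a ⊓ stabilizer G b)) :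
    ∃ (c : Ω) (s : G), S3Setup G Ω a b c s := by
  obtain ⟨c, hca, hcb⟩ := hpre.exists_third hab
  obtain ⟨u, hua, hub⟩ := hpre.trans2 a b b a hab hab.symm
  have huca : u • c ≠ a := by
    intro h
    rw [← hub] at h
    exact hcb (smul_left_cancel _ h)
  have hucb : u • c ≠ b := by
    intro h
    rw [← hua] at h
    exact hca (smul_left_cancel _ h)
  obtain ⟨g, hga, hgb, hgc⟩ := reg_of_large hpre hab hd (u • c) c huca hucb hca hcb
  refine ⟨c, g * u, hpre, hab, hca, hcb, reg_of_large hpre hab hd, ?_, ?_, ?_⟩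
  · rw [mul_smul, hua, hgb]
  · rw [mul_smul, hub, hga]
  · rw [mul_smul, hgc]

/-- degree four: the sign character is nontrivial -/
theorem exists_sign_of_card_four [Fintype Ω] [DecidableEq Ω] (hpre : ZPre G Ω) {a b : Ω}
    (hab : a ≠ b) (h4 : Fintype.card Ω = 4) : ∃ φ : G →* ℤˣ, ∃ x : G, φ x ≠ 1 := by
  obtain ⟨z, hz1, hza, hzb⟩ := hpre.two_stab_ne hab
  obtain ⟨c, hca, hcb⟩ := hpre.exists_third hab
  have hzc : z • c ≠ c := by
    intro h
    exact hz1 (hpre.three z a b c hab (Ne.symm hcb) (Ne.symm hca) hza hzb h)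
  have hzca : z • c ≠ a := by
    intro h
    rw [← hza] at h
    exact hca (smul_left_cancel _ h)
  have hzcb : z • c ≠ b := by
    intro h
    rw [← hzb] at h
    exact hcb (smul_left_cancel _ h)
  have hall : ∀ x : Ω, x = a ∨ x = b ∨ x = c ∨ x = z • c := by
    intro x
    by_contra hx
    push Not at hx
    obtain ⟨hxa, hxb, hxc, hxz⟩ := hx
    have hcard : ({a, b, c, z • c, x} : Finset Ω).card = 5 := by
      rw [Finset.card_insert_of_notMem, Finset.card_insert_of_notMem,
        Finset.card_insert_of_notMem, Finset.card_pair (Ne.symm hxz)]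
      · simp only [Finset.mem_insert, Finset.mem_singleton, not_or]
        exact ⟨Ne.symm hzc, Ne.symm hxc⟩
      · simp only [Finset.mem_insert, Finset.mem_singleton, not_or]
        exact ⟨Ne.symm hcb, Ne.symm hzcb, Ne.symm hxb⟩
      · simp only [Finset.mem_insert, Finset.mem_singleton, not_or]
        exact ⟨hab, Ne.symm hca, Ne.symm hzca, Ne.symm hxa⟩
    have := Finset.card_le_univ ({a, b, c, z • c, x} : Finset Ω)
    omega
  have hzzc : z • z • c = c := by
    rcases hall (z • z • c) with h | h | h | h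
    · exfalso
      rw [← hza] at h
      exact hzca (smul_left_cancel _ h)
    · exfalso
      rw [← hzb] at h
      exact hzcb (smul_left_cancel _ h)
    · exact h
    · exfalso
      exact hzc (smul_left_cancel _ h)
  have hperm : MulAction.toPermHom G Ω z = Equiv.swap c (z • c) := by
    ext x
    rw [MulAction.toPermHom_apply, MulAction.toPerm_apply]
    rcases hall x with h | h | h | h
    · rw [h, hza, Equiv.swap_apply_of_ne_of_ne hca.symm (Ne.symm hzca)]
    · rw [h, hzb, Equiv.swap_apply_of_ne_of_ne hcb.symm (Ne.symm hzcb)]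
    · rw [h, Equiv.swap_apply_left]
    · rw [h, Equiv.swap_apply_right, hzzc]
  refine ⟨Equiv.Perm.sign.comp (MulAction.toPermHom G Ω), z, ?_⟩
  rw [MonoidHom.comp_apply, hperm, Equiv.Perm.sign_swap (Ne.symm hzc)]
  decide

/-- a simple Zassenhaus group is not sharply 3-transitive of even degree, provided sharply
3-transitive groups of even degree at least 6 have a nontrivial linear character -/
theorem large_false [Finite G] [Fintype Ω] (hZ : Cfsg.IsZassenhausGroup G Ω) [IsSimpleGroup G]
    {a b : Ω} (hab : a ≠ b)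
    (hL : ∀ (c : Ω) (s : G), S3Setup G Ω a b c s → Even (Nat.card Ω) → 6 ≤ Nat.card Ω →
      ∃ φ : G →* ℂˣ, ∃ x : G, φ x ≠ 1)
    (heven : Even (Nat.card ↥(stabilizer G a ⊓ stabilizer G b)))
    (hd : Fintype.card Ω - 2 < 2 * Nat.card ↥(stabilizer G a ⊓ stabilizer G b)) : False := by
  classical
  have hpre := zpre_of_isZassenhausGroup hZ
  obtain ⟨c, s, hS⟩ := exists_s3setup_of_large hpre hab hd
  have hcard := hS.card_H
  have hdpos : 0 < Nat.card ↥(stabilizer G a ⊓ stabilizer G b) := Nat.card_pos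
  have hev : Even (Fintype.card Ω) := by
    rcases heven with ⟨k, hk⟩
    exact ⟨k + 1, by omega⟩
  by_cases h6 : 6 ≤ Fintype.card Ω
  · obtain ⟨φ, x, hx⟩ := hL c s hS (by rw [Nat.card_eq_fintype_card]; exact hev)
      (by rw [Nat.card_eq_fintype_card]; exact h6)
    exact false_of_hom hpre φ hx
  · have h4 : Fintype.card Ω = 4 := by
      rcases heven with ⟨k, hk⟩
      rcases hev with ⟨m, hm⟩
      omega
    obtain ⟨φ, x, hx⟩ := exists_sign_of_card_four hpre hab h4
    exact false_of_hom hpre φ hx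

/-- Simple Zassenhaus groups: the two-point stabilizer is cyclic and inverted by an involution
swapping the two points, provided sharply 3-transitive groups of even degree at least 6 have a
nontrivial linear character. -/
theorem main [Finite G] [Finite Ω] (hZ : Cfsg.IsZassenhausGroup G Ω) [IsSimpleGroup G]
    {a b : Ω} (hab : a ≠ b)
    (hL : ∀ (c : Ω) (s : G), S3Setup G Ω a b c s → Even (Nat.card Ω) → 6 ≤ Nat.card Ω →
      ∃ φ : G →* ℂˣ, ∃ x : G, φ x ≠ 1) :
    IsCyclic ↥(stabilizer G a ⊓ stabilizer G b) ∧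
      ∃ v : G, orderOf v = 2 ∧ v • a = b ∧ v • b = a ∧
        ∀ h ∈ stabilizer G a ⊓ stabilizer G b, v * h * v⁻¹ = h⁻¹ := by
  classical
  letI := Fintype.ofFinite Ω
  rcases Nat.even_or_odd (Nat.card ↥(stabilizer G a ⊓ stabilizer G b)) with heven | hodd
  · by_cases hd : 2 * Nat.card ↥(stabilizer G a ⊓ stabilizer G b) ≤ Fintype.card Ω - 2
    · exact even_small_case hZ hab heven hd
    · exfalso
      push Not at hd
      exact large_false hZ hab hL heven hd
  · exact odd_case hZ hab hodd

/-- Simple Zassenhaus groups with two-point stabilizer of even order are `PSL₂(F)`, `|F| > 3`,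
provided sharply 3-transitive groups of even degree at least 6 have a nontrivial linear
character. -/
theorem main_psl [Finite G] [Finite Ω] (hZ : Cfsg.IsZassenhausGroup G Ω) [IsSimpleGroup G]
    {a b : Ω} (hab : a ≠ b)
    (hL : ∀ (c : Ω) (s : G), S3Setup G Ω a b c s → Even (Nat.card Ω) → 6 ≤ Nat.card Ω →
      ∃ φ : G →* ℂˣ, ∃ x : G, φ x ≠ 1)
    (heven : Even (Nat.card ↥(stabilizer G a ⊓ stabilizer G b))) :
    ∃ (F : Type) (_ : Field F) (_ : Fintype F), 3 < Fintype.card F ∧
      Nonempty (G ≃* Matrix.ProjectiveSpecialLinearGroup (Fin 2) F) := by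
  classical
  letI := Fintype.ofFinite Ω
  by_cases hd : 2 * Nat.card ↥(stabilizer G a ⊓ stabilizer G b) ≤ Fintype.card Ω - 2
  · obtain ⟨p, f, K, iK, iF, hp, hp2, hK, hΩ, hiso⟩ := Cfsg.Agent.S0742.result hZ hab heven hd
    refine ⟨K, iK, iF, ?_, hiso⟩
    have hdpos : 0 < Nat.card ↥(stabilizer G a ⊓ stabilizer G b) := Nat.card_pos
    rcases heven with ⟨k, hk⟩
    omega
  · exfalso
    push Not at hd
    exact large_false hZ hab hL heven hd

end Cfsg.Agent.Lib.Helper09.ZassSimple
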